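import Mathlib
import Groth.Prelude.Def_Flat
import Groth.Agent.Lib.Helper11.TopDim
import Groth.Agent.Lib.Helper51.EtaleQF
import Groth.Agent.Lib.Helper73.LocalDimHomeo

/-!
# Local dimension is invariant under open generalizing maps with discrete fibres

* `localDim_eq_of_open_generalizing`: purely topological.
* `localDim_fibre_eq`: restriction to fibres of a commutative square of continuous maps.
* `localDim_eq_of_etale`: an étale morphism preserves local dimension.
* `fibreDimAt_eq_of_etale_square`: the local fibre dimension is étale local on source and target.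
-/

set_option autoImplicit false
set_option linter.style.haveILetI false
universe u
open CategoryTheory CategoryTheory.Limits AlgebraicGeometry TopologicalSpace Topology

namespace Groth.Agent.Lib.Helper21.EtaleLocalDim

section top

variable {X Y : Type*} [TopologicalSpace X] [TopologicalSpace Y]
  [QuasiSober X] [T0Space X] [QuasiSober Y] [T0Space Y]

theorem localDim_eq_of_open_generalizing (f : X → Y) (hf : Continuous f) (hopen : IsOpenMap f)
    (hgen : GeneralizingMap f) (hfib : ∀ x x' : X, x ⤳ x' → f x = f x' → x = x') (x : X) :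
    FlatMor.localDim X x = FlatMor.localDim Y (f x) := by
  unfold FlatMor.localDim
  apply le_antisymm
  · refine le_iInf fun V => ?_
    let U : Opens X := ⟨f ⁻¹' (V.1 : Set Y), V.1.2.preimage hf⟩
    have hxU : x ∈ U := V.2
    refine iInf_le_of_le ⟨U, hxU⟩ ?_
    have h1 := Groth.Agent.Lib.Helper11.TopDim.dim_image_eq f hf hgen hfib (U : Set X) U.2
      (hopen _ U.2)
    show topologicalKrullDim ((U : Set X)) ≤ _
    rw [h1]
    have hsub : f '' (U : Set X) ⊆ (V.1 : Set Y) := by
      rintro _ ⟨z, hz, rfl⟩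
      exact hz
    exact (Topology.IsEmbedding.inclusion hsub).topologicalKrullDim_le
  · refine le_iInf fun U => ?_
    let V : Opens Y := ⟨f '' (U.1 : Set X), hopen _ U.1.2⟩
    have hxV : f x ∈ V := Set.mem_image_of_mem f U.2
    refine iInf_le_of_le ⟨V, hxV⟩ ?_
    have h1 := Groth.Agent.Lib.Helper11.TopDim.dim_image_eq f hf hgen hfib (U.1 : Set X) U.1.2
      (hopen _ U.1.2)
    exact h1.symm.le

end top

section fibres

variable {U U' V V' : Type*} [TopologicalSpace U] [TopologicalSpace U'] [TopologicalSpace V]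
  [TopologicalSpace V']

/-- Restriction of `a` to fibres. -/
def fibMap (h : U → V) (h' : U' → V') (a : U' → U) (b : V' → V)
    (comm : ∀ x, b (h' x) = h (a x)) (v' : V') (v : V) (hv : b v' = v) :
    ↥(h' ⁻¹' {v'}) → ↥(h ⁻¹' {v}) :=
  fun x => ⟨a x.1, by
    have hx : h' x.1 = v' := x.2
    show h (a x.1) = v
    rw [← comm, hx, hv]⟩

variable (h : U → V) (h' : U' → V') (a : U' → U) (b : V' → V)
  (comm : ∀ x, b (h' x) = h (a x)) (v' : V') (v : V) (hv : b v' = v)

omit [TopologicalSpace V] [TopologicalSpace V'] in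
theorem continuous_fibMap (ha : Continuous a) : Continuous (fibMap h h' a b comm v' v hv) :=
  (ha.comp continuous_subtype_val).subtype_mk _

omit [TopologicalSpace U] [TopologicalSpace V] [TopologicalSpace V'] in
theorem fibMap_hfib (hfib : ∀ x x' : U', x ⤳ x' → a x = a x' → x = x') :
    ∀ x x' : ↥(h' ⁻¹' {v'}), x ⤳ x' → fibMap h h' a b comm v' v hv x =
      fibMap h h' a b comm v' v hv x' → x = x' := by
  intro x x' hxx' he
  exact Subtype.ext (hfib _ _ ((subtype_specializes_iff _ _).mp hxx') (congrArg Subtype.val he))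

/-- no specializations within a discrete set -/
theorem eq_of_specializes_of_isDiscrete {s : Set V'} (hs : IsDiscrete s) {y y' : V'} (hy : y ∈ s)
    (hy' : y' ∈ s) (hyy' : y ⤳ y') : y = y' := by
  have : DiscreteTopology s := hs.to_subtype
  have h1 : (⟨y, hy⟩ : s) ⤳ ⟨y', hy'⟩ := (subtype_specializes_iff _ _).mpr hyy'
  have h2 := h1.eq
  exact congrArg Subtype.val h2

omit [TopologicalSpace V] in
theorem generalizingMap_fibMap (hgen : GeneralizingMap a) (hh' : Continuous h')
    (hb : IsDiscrete (b ⁻¹' {v})) :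
    GeneralizingMap (fibMap h h' a b comm v' v hv) := by
  intro x w hw
  have hle : (w : U) ⤳ a x.1 := (subtype_specializes_iff _ _).mp hw
  obtain ⟨w', hw', haw'⟩ := hgen hle
  have hx : h' x.1 = v' := x.2
  have h1 : h' w' ⤳ v' := hx ▸ hw'.map hh'
  have hwv : h w.1 = v := w.2
  have h2 : h' w' ∈ b ⁻¹' {v} := by
    show b (h' w') = v
    rw [comm, haw', hwv]
  have h3 : h' w' = v' := eq_of_specializes_of_isDiscrete hb h2 hv h1
  exact ⟨⟨w', h3⟩, (subtype_specializes_iff _ _).mpr hw', Subtype.ext haw'⟩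

omit [TopologicalSpace V] in
theorem isOpenMap_fibMap (hopen : IsOpenMap a) (hh' : Continuous h')
    (hb : IsDiscrete (b ⁻¹' {v})) :
    IsOpenMap (fibMap h h' a b comm v' v hv) := by
  intro W hW
  obtain ⟨W', hW', rfl⟩ := isOpen_induced_iff.mp hW
  -- isolate v' in the fibre of b
  have : DiscreteTopology ↥(b ⁻¹' {v}) := hb.to_subtype
  have hsing : IsOpen ({⟨v', hv⟩} : Set ↥(b ⁻¹' {v})) := isOpen_discrete _
  obtain ⟨N, hN, hNeq⟩ := isOpen_induced_iff.mp hsing
  have hNv : ∀ y : V', y ∈ N → b y = v → y = v' := by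
    intro y hy hby
    have : (⟨y, hby⟩ : ↥(b ⁻¹' {v})) ∈ Subtype.val ⁻¹' N := hy
    rw [hNeq] at this
    exact congrArg Subtype.val this
  have hv'N : v' ∈ N := by
    have : (⟨v', hv⟩ : ↥(b ⁻¹' {v})) ∈ Subtype.val ⁻¹' N := by rw [hNeq]; rfl
    exact this
  rw [isOpen_induced_iff]
  refine ⟨a '' (W' ∩ h' ⁻¹' N), hopen _ (hW'.inter (hN.preimage hh')), ?_⟩
  ext z
  constructor
  · rintro ⟨w', ⟨hw'W, hw'N⟩, hz⟩
    have hzv : h z.1 = v := z.2
    have h1 : b (h' w') = v := by rw [comm, hz, hzv]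
    have h2 : h' w' = v' := hNv _ hw'N h1
    exact ⟨⟨w', h2⟩, hw'W, Subtype.ext hz⟩
  · rintro ⟨w, hw, rfl⟩
    have hwv : h' w.1 = v' := w.2
    exact ⟨w.1, ⟨hw, by show h' w.1 ∈ N; rw [hwv]; exact hv'N⟩, rfl⟩

omit [TopologicalSpace V] in
theorem localDim_fibre_eq [QuasiSober ↥(h' ⁻¹' {v'})] [T0Space ↥(h' ⁻¹' {v'})]
    [QuasiSober ↥(h ⁻¹' {v})] [T0Space ↥(h ⁻¹' {v})]
    (ha : Continuous a) (hopen : IsOpenMap a) (hgen : GeneralizingMap a)
    (hfib : ∀ x x' : U', x ⤳ x' → a x = a x' → x = x') (hh' : Continuous h')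
    (hb : IsDiscrete (b ⁻¹' {v})) (x : ↥(h' ⁻¹' {v'})) :
    FlatMor.localDim ↥(h' ⁻¹' {v'}) x =
      FlatMor.localDim ↥(h ⁻¹' {v}) (fibMap h h' a b comm v' v hv x) :=
  localDim_eq_of_open_generalizing _ (continuous_fibMap h h' a b comm v' v hv ha)
    (isOpenMap_fibMap h h' a b comm v' v hv hopen hh' hb)
    (generalizingMap_fibMap h h' a b comm v' v hv hgen hh' hb)
    (fibMap_hfib h h' a b comm v' v hv hfib) x

end fibres

section scheme

variable {U U' V V' : Scheme.{u}}

theorem hfib_of_etale (a : U' ⟶ U) [Etale a] :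
    ∀ x x' : U', x ⤳ x' → a x = a x' → x = x' := by
  intro x x' hxx' he
  have hd := a.isDiscrete_preimage_singleton (a x')
  exact eq_of_specializes_of_isDiscrete hd he rfl hxx'

theorem fibreDimAt_eq_localDim_preimage (h : U ⟶ V) (u : U) (v : V) (hv : h u = v) :
    FlatMor.fibreDimAt h u = FlatMor.localDim ↥(h ⁻¹' {v}) ⟨u, hv⟩ := by
  subst hv
  unfold FlatMor.fibreDimAt
  rw [Groth.Agent.Lib.Helper73.SchemeDim.localDim_eq_of_isHomeomorph (h.fiberHomeo (h u))
    (h.fiberHomeo (h u)).isHomeomorph]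
  congr 1
  exact (h.fiberHomeo _).apply_symm_apply _

/-- An étale morphism preserves local dimension. -/
theorem localDim_eq_of_etale (a : U' ⟶ U) [Etale a] (x : U') :
    FlatMor.localDim U' x = FlatMor.localDim U (a x) :=
  localDim_eq_of_open_generalizing _ a.continuous a.isOpenMap (Flat.generalizingMap a)
    (hfib_of_etale a) x

theorem fibreDimAt_eq_of_etale_square (h : U ⟶ V) (h' : U' ⟶ V') (a : U' ⟶ U) (b : V' ⟶ V)
    [Etale a] [Etale b] (comm : h' ≫ b = a ≫ h) (u' : U') :
    FlatMor.fibreDimAt h (a u') = FlatMor.fibreDimAt h' u' := by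
  have comm' : ∀ x : U', b (h' x) = h (a x) := by
    intro x
    rw [← Scheme.Hom.comp_apply, ← Scheme.Hom.comp_apply, comm]
  rw [fibreDimAt_eq_localDim_preimage h (a u') (h (a u')) rfl,
    fibreDimAt_eq_localDim_preimage h' u' (h' u') rfl]
  have : QuasiSober ↥(h' ⁻¹' {h' u'}) := (h'.fiberHomeo (h' u')).symm.isOpenEmbedding.quasiSober
  have : QuasiSober ↥(h ⁻¹' {h (a u')}) :=
    (h.fiberHomeo (h (a u'))).symm.isOpenEmbedding.quasiSober
  have key := localDim_fibre_eq (h : U → V) (h' : U' → V') (a : U' → U) (b : V' → V) comm' (h' u')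
    (h (a u')) (comm' u') a.continuous a.isOpenMap (Flat.generalizingMap a) (hfib_of_etale a)
    h'.continuous (b.isDiscrete_preimage_singleton _) ⟨u', rfl⟩
  exact key.symm

end scheme

end Groth.Agent.Lib.Helper21.EtaleLocalDim
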