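import Mathlib

/-!
# Closed points of fibres and residue field extensions

For `f : X ⟶ S` and `x : X`:
* `isClosed_asFiber_of_isAlgebraic`: if `κ(x)/κ(f x)` is algebraic then `x` is closed in its fibre;
* `finite_residueFieldMap_of_isClosed_asFiber`: if `f` is locally of finite type and `x` is closed
  in its fibre then `κ(x)/κ(f x)` is finite.
-/

set_option autoImplicit false
open CategoryTheory AlgebraicGeometry Limits
universe u

namespace Groth.Agent.Lib.Helper21

variable {X S : Scheme.{u}} (f : X ⟶ S)

set_option backward.isDefEq.respectTransparency.types false in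
instance locallyOfFiniteType_fiberToSpecResidueField [LocallyOfFiniteType f] (s : S) :
    LocallyOfFiniteType (f.fiberToSpecResidueField s) :=
  MorphismProperty.pullback_snd _ _ inferInstance

/-- Zariski's lemma for fibres: a point closed in its fibre has finite residue field extension. -/
theorem finite_residueFieldMap_of_isClosed_asFiber [LocallyOfFiniteType f] (x : X)
    (hx : IsClosed ({f.asFiber x} : Set (f.fiber (f x)))) : (f.residueFieldMap x).hom.Finite := by
  have hci : IsClosedImmersion (f.asFiberHom x) :=
    .of_isPreimmersion _ (by rw [f.range_asFiberHom]; exact hx)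
  have h2 : LocallyOfFiniteType (f.asFiberHom x ≫ f.fiberToSpecResidueField (f x)) :=
    inferInstance
  rw [f.asFiberHom_fiberToSpecResidueField] at h2
  rw [HasRingHomProperty.Spec_iff (P := @LocallyOfFiniteType)] at h2
  let _ := (f.residueFieldMap x).hom.toAlgebra
  have : Algebra.FiniteType (S.residueField (f x)) (X.residueField x) := h2
  exact finite_of_finite_type_of_isJacobsonRing _ _

/-- If `κ(x)` is algebraic over `κ(f x)` then `x` is a closed point of its fibre. -/
theorem isClosed_asFiber_of_isAlgebraic (x : X)
    (halg : @Algebra.IsAlgebraic (S.residueField (f x)) (X.residueField x) _ _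
      (f.residueFieldMap x).hom.toAlgebra) :
    IsClosed ({f.asFiber x} : Set (f.fiber (f x))) := by
  rw [← closure_subset_iff_isClosed]
  intro z' hz'
  have hspec : f.asFiber x ⤳ z' := specializes_iff_mem_closure.2 hz'
  obtain ⟨_, ⟨W₀, hW₀, rfl⟩, hz'W, -⟩ :=
    (f.fiber (f x)).isBasis_affineOpens.exists_subset_of_mem_open (Set.mem_univ z') isOpen_univ
  let W : (f.fiber (f x)).Opens := W₀
  have hW : IsAffineOpen W := hW₀
  have hz'W : z' ∈ W := hz'W
  have hzW : f.asFiber x ∈ W := hspec.mem_open W.isOpen hz'W
  have hrange : Set.range (f.asFiberHom x) ⊆ Set.range W.ι := by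
    rw [f.range_asFiberHom, Scheme.Opens.range_ι]
    rintro _ rfl
    exact hzW
  let j : Spec (X.residueField x) ⟶ (W : Scheme.{u}) :=
    IsOpenImmersion.lift W.ι (f.asFiberHom x) hrange
  have hj : j ≫ W.ι = f.asFiberHom x := IsOpenImmersion.lift_fac _ _ _
  have hint : IsIntegralHom (Spec.map (f.residueFieldMap x)) := by
    rw [IsIntegralHom.SpecMap_iff]
    let _ := (f.residueFieldMap x).hom.toAlgebra
    have : Algebra.IsIntegral (S.residueField (f x)) (X.residueField x) :=
      Algebra.isAlgebraic_iff_isIntegral.mp halg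
    exact algebraMap_isIntegral_iff.mpr inferInstance
  have huc : UniversallyClosed (j ≫ (W.ι ≫ f.fiberToSpecResidueField (f x))) := by
    rw [← Category.assoc, hj, f.asFiberHom_fiberToSpecResidueField]
    infer_instance
  have hWaff : IsAffine (W : Scheme.{u}) := hW
  have hsep : IsSeparated (W.ι ≫ f.fiberToSpecResidueField (f x)) := inferInstance
  have hjuc : UniversallyClosed j :=
    UniversallyClosed.of_comp_of_isSeparated j (W.ι ≫ f.fiberToSpecResidueField (f x))
  have hclosed : IsClosed (Set.range j) := j.isClosedMap.isClosed_range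
  obtain ⟨pt⟩ : Nonempty (Spec (X.residueField x)) := inferInstance
  have hjpt : W.ι (j pt) = f.asFiber x := by
    rw [← Scheme.Hom.comp_apply, hj, f.asFiberHom_apply]
  have hspecW : j pt ⤳ (⟨z', hz'W⟩ : W) := by
    refine Topology.IsInducing.subtypeVal.specializes_iff.1 ?_
    change W.ι (j pt) ⤳ z'
    rw [hjpt]
    exact hspec
  obtain ⟨pt', hpt'⟩ := hspecW.mem_closed hclosed ⟨pt, rfl⟩
  have : W.ι (j pt') = z' := by rw [hpt']; rfl
  rw [← Scheme.Hom.comp_apply, hj, f.asFiberHom_apply] at this
  exact this.symm

/-- A point closed in its fibre over a closed point is closed. -/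
theorem isClosed_singleton_of_isClosed_asFiber (x : X)
    (hx : IsClosed ({f.asFiber x} : Set (f.fiber (f x)))) (hs : IsClosed ({f x} : Set S)) :
    IsClosed ({x} : Set X) := by
  have h1 : IsClosed ((f.fiberHomeo (f x)) '' {f.asFiber x}) :=
    (f.fiberHomeo (f x)).isClosedMap _ hx
  have h2 : IsClosed (f ⁻¹' {f x}) := hs.preimage f.continuous
  have h3 := h2.isClosedEmbedding_subtypeVal.isClosedMap _ h1
  convert h3 using 1
  ext y
  simp only [Set.image_singleton, Set.mem_singleton_iff]
  rw [Scheme.Hom.fiberHomeo_apply, f.fiberι_asFiber]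

end Groth.Agent.Lib.Helper21
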