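import Mathlib

/-!
# Maximal points (generic points of irreducible components) (helper21)
-/

universe u

open CategoryTheory CategoryTheory.Limits AlgebraicGeometry

namespace Groth.Agent.Lib.Helper21

section top

variable {X : Type*} [TopologicalSpace X]

/-- The closure of a maximal point of a quasi-sober space is an irreducible component. -/
theorem closure_singleton_mem_irreducibleComponents_of_maximal [QuasiSober X] {x : X}
    (h : ∀ z, z ⤳ x → x ⤳ z) : closure ({x} : Set X) ∈ irreducibleComponents X := by
  refine ⟨isIrreducible_singleton.closure, ?_⟩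
  intro Z hZ hle
  have hx' : IsGenericPoint hZ.genericPoint (closure Z) := hZ.isGenericPoint_genericPoint_closure
  have hxZ : x ∈ closure Z := subset_closure (hle (subset_closure rfl))
  have h3 : x ⤳ hZ.genericPoint := h _ (hx'.specializes hxZ)
  have h4 : closure Z ⊆ closure {x} := by
    rw [← hx'.def]
    exact (isClosed_closure.closure_subset_iff).2
      (Set.singleton_subset_iff.2 (specializes_iff_mem_closure.1 h3))
  exact subset_closure.trans h4

/-- A point whose closure is an irreducible component is maximal. -/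
theorem maximal_of_closure_singleton_mem_irreducibleComponents {x : X}
    (hx : closure ({x} : Set X) ∈ irreducibleComponents X) : ∀ z, z ⤳ x → x ⤳ z := by
  intro z hz
  have h1 : closure {x} ⊆ closure {z} :=
    (isClosed_closure.closure_subset_iff).2
      (Set.singleton_subset_iff.2 (specializes_iff_mem_closure.1 hz))
  have h2 : closure {z} ⊆ closure {x} := hx.2 isIrreducible_singleton.closure h1
  exact specializes_iff_mem_closure.2 (h2 (subset_closure rfl))

/-- Every point of a quasi-sober space is a specialization of a maximal point. -/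
theorem exists_maximal_specializes [QuasiSober X] (x : X) :
    ∃ ξ : X, (∀ z, z ⤳ ξ → ξ ⤳ z) ∧ ξ ⤳ x := by
  obtain ⟨Z, hZ, hxZ⟩ := exists_mem_irreducibleComponents_subset_of_isIrreducible
    ({x} : Set X) isIrreducible_singleton
  have hZcl := isClosed_of_mem_irreducibleComponents Z hZ
  have hξ : IsGenericPoint hZ.1.genericPoint Z := hZ.1.isGenericPoint_genericPoint hZcl
  refine ⟨hZ.1.genericPoint, ?_, hξ.specializes (hxZ rfl)⟩
  apply maximal_of_closure_singleton_mem_irreducibleComponents
  rw [hξ.def]
  exact hZ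

/-- A set containing all maximal points of a quasi-sober space is dense. -/
theorem dense_of_forall_maximal_mem [QuasiSober X] {S : Set X}
    (h : ∀ ξ : X, (∀ z, z ⤳ ξ → ξ ⤳ z) → ξ ∈ S) : Dense S := by
  intro x
  obtain ⟨ξ, hξ, hξx⟩ := exists_maximal_specializes x
  exact hξx.mem_closed isClosed_closure (subset_closure (h ξ hξ))

end top

/-- In a locally Noetherian scheme, a dense open contains every maximal point. -/
theorem mem_of_dense_of_maximal {Y : Scheme.{u}} [IsLocallyNoetherian Y] (U : Y.Opens)
    (hU : Dense (U : Set Y)) {η : Y} (hη : ∀ z : Y, z ⤳ η → η ⤳ z) : η ∈ U := by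
  obtain ⟨_, ⟨W, hW, rfl⟩, hηW, -⟩ :=
    Y.isBasis_affineOpens.exists_subset_of_mem_open (Set.mem_univ η) isOpen_univ
  have hW' : IsAffineOpen W := hW
  have hNW : IsNoetherianRing Γ(Y, W) := IsLocallyNoetherian.component_noetherian ⟨W, hW⟩
  have hNS : TopologicalSpace.NoetherianSpace ↥(Spec Γ(Y, W)) := inferInstance
  have hNSW : TopologicalSpace.NoetherianSpace ↥W :=
    (TopologicalSpace.noetherianSpace_iff_of_homeomorph hW'.isoSpec.hom.homeomorph).2 hNS
  have hZ₀ : closure ({η} : Set Y) ∈ irreducibleComponents Y :=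
    closure_singleton_mem_irreducibleComponents_of_maximal hη
  have hemb : Topology.IsOpenEmbedding (Subtype.val : ↥W → Y) := W.isOpen.isOpenEmbedding_subtypeVal
  have hZ₀W : (Subtype.val : ↥W → Y) ⁻¹' closure {η} ∈ irreducibleComponents ↥W :=
    preimage_mem_irreducibleComponents hZ₀ hemb
      ⟨η, subset_closure rfl, ⟨⟨η, hηW⟩, rfl⟩⟩
  obtain ⟨o, ho, hone, hoZ⟩ :=
    TopologicalSpace.NoetherianSpace.exists_isOpen_nonempty_subset_irreducibleComponent _ hZ₀W
  have ho' : IsOpen ((Subtype.val : ↥W → Y) '' o) := hemb.isOpenMap o ho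
  obtain ⟨w, hwo⟩ := hone
  obtain ⟨y, ⟨w', hw'o, rfl⟩, hyU⟩ :=
    hU.inter_open_nonempty _ ho' ⟨_, w, hwo, rfl⟩
  have h1 : (w' : Y) ∈ closure ({η} : Set Y) := hoZ hw'o
  exact (specializes_iff_mem_closure.2 h1).mem_open U.isOpen hyU

end Groth.Agent.Lib.Helper21
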