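import Mathlib
import Groth.Agent.Lib.Helper21.MaximalPoints
import Groth.Agent.Lib.Helper21.FibrePoints

/-!
# Isolated points of locally Noetherian schemes and of fibres
-/

set_option autoImplicit false
open CategoryTheory AlgebraicGeometry Limits
universe u

namespace Groth.Agent.Lib.Helper21

/-- In a locally Noetherian scheme, a closed point without proper generizations is open. -/
theorem isOpen_singleton_of_isClosed_of_maximal {Y : Scheme.{u}} [IsLocallyNoetherian Y] {z : Y}
    (hcl : IsClosed ({z} : Set Y)) (hη : ∀ z' : Y, z' ⤳ z → z ⤳ z') : IsOpen ({z} : Set Y) := by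
  obtain ⟨_, ⟨W, hW, rfl⟩, hzW, -⟩ :=
    Y.isBasis_affineOpens.exists_subset_of_mem_open (Set.mem_univ z) isOpen_univ
  have hW' : IsAffineOpen W := hW
  have hNW : IsNoetherianRing Γ(Y, W) := IsLocallyNoetherian.component_noetherian ⟨W, hW⟩
  have hNS : TopologicalSpace.NoetherianSpace ↥(Spec Γ(Y, W)) := inferInstance
  have hNSW : TopologicalSpace.NoetherianSpace ↥W :=
    (TopologicalSpace.noetherianSpace_iff_of_homeomorph hW'.isoSpec.hom.homeomorph).2 hNS
  have hZ₀ : closure ({z} : Set Y) ∈ irreducibleComponents Y :=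
    closure_singleton_mem_irreducibleComponents_of_maximal hη
  rw [hcl.closure_eq] at hZ₀
  have hemb : Topology.IsOpenEmbedding (Subtype.val : ↥W → Y) := W.isOpen.isOpenEmbedding_subtypeVal
  have hZ₀W : (Subtype.val : ↥W → Y) ⁻¹' {z} ∈ irreducibleComponents ↥W :=
    preimage_mem_irreducibleComponents hZ₀ hemb ⟨z, rfl, ⟨⟨z, hzW⟩, rfl⟩⟩
  obtain ⟨o, ho, hone, hoZ⟩ :=
    TopologicalSpace.NoetherianSpace.exists_isOpen_nonempty_subset_irreducibleComponent _ hZ₀W
  have ho' : IsOpen ((Subtype.val : ↥W → Y) '' o) := hemb.isOpenMap o ho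
  have heq : (Subtype.val : ↥W → Y) '' o = {z} := by
    apply Set.Subset.antisymm
    · rintro _ ⟨w, hw, rfl⟩
      exact hoZ hw
    · intro y hy
      obtain ⟨w, hw⟩ := hone
      have : (w : Y) = z := hoZ hw
      exact ⟨w, hw, this.trans hy.symm⟩
  rw [← heq]
  exact ho'

instance isLocallyNoetherian_fiber {X S : Scheme.{u}} (f : X ⟶ S) [LocallyOfFiniteType f] (s : S) :
    IsLocallyNoetherian (f.fiber s) :=
  LocallyOfFiniteType.isLocallyNoetherian (f.fiberToSpecResidueField s)

/-- `f` is quasi-finite at `x` iff `x` is closed in its fibre without proper generizations in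
the fibre. -/
theorem quasiFiniteAt_iff_isClosed_and_maximal {X S : Scheme.{u}} (f : X ⟶ S)
    [LocallyOfFiniteType f] (x : X) :
    f.QuasiFiniteAt x ↔
      (IsClosed ({f.asFiber x} : Set (f.fiber (f x))) ∧
        ∀ x' : f.fiber (f x), x' ⤳ f.asFiber x → x' = f.asFiber x) := by
  constructor
  · intro h
    have hclopen := h.isClopen_singleton_asFiber
    exact ⟨hclopen.1, fun x' hx' => hx'.mem_open hclopen.2 rfl⟩
  · rintro ⟨hcl, hgen⟩
    rw [Scheme.Hom.quasiFiniteAt_iff_isOpen_singleton_asFiber]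
    exact isOpen_singleton_of_isClosed_of_maximal hcl fun z' hz' => by rw [hgen z' hz']

end Groth.Agent.Lib.Helper21
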