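import Mathlib
import Groth.Agent.Lib.Helper21.IsolatedPoints

/-!
# Fibres of a base change

For a cartesian square `hsq : IsPullback g' f' f g`, the fibre of `f'` over `s'` is the base change
of the fibre of `f` over `g s'` (Mathlib: `isPullback_fiberToSpecResidueField_of_isPullback`).
We deduce that closed points / isolated points of fibres are compatible with base change.
-/

set_option autoImplicit false
open CategoryTheory AlgebraicGeometry Limits
universe u

namespace Groth.Agent.Lib.Helper21

section transport

variable {X S : Scheme.{u}} (f : X ⟶ S)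

theorem map_fiberι {s : S} (z : f.fiber s) : f (f.fiberι s z) = s := by
  have h1 : f.fiberι s z ∈ Set.range (f.fiberι s) := ⟨z, rfl⟩
  rw [f.range_fiberι] at h1
  exact h1

theorem isClosed_singleton_fiber_iff {s : S} (z : f.fiber s) {y : X} (hz : f.fiberι s z = y) :
    IsClosed ({z} : Set (f.fiber s)) ↔ IsClosed ({f.asFiber y} : Set (f.fiber (f y))) := by
  have hy : f y = s := by rw [← hz]; exact map_fiberι f z
  subst hy
  have : z = f.asFiber y :=
    (f.fiberι (f y)).isEmbedding.injective (hz.trans (f.fiberι_asFiber y).symm)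
  rw [this]

theorem isOpen_singleton_fiber_iff {s : S} (z : f.fiber s) {y : X} (hz : f.fiberι s z = y) :
    IsOpen ({z} : Set (f.fiber s)) ↔ IsOpen ({f.asFiber y} : Set (f.fiber (f y))) := by
  have hy : f y = s := by rw [← hz]; exact map_fiberι f z
  subst hy
  have : z = f.asFiber y :=
    (f.fiberι (f y)).isEmbedding.injective (hz.trans (f.fiberι_asFiber y).symm)
  rw [this]

end transport

variable {X S X' S' : Scheme.{u}} {f : X ⟶ S} {g : S' ⟶ S} {g' : X' ⟶ X} {f' : X' ⟶ S'}

/-- The morphism of fibres induced by a cartesian square. -/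
noncomputable def fiberMapOfIsPullback (hsq : IsPullback g' f' f g) (s' : S') :
    f'.fiber s' ⟶ f.fiber (g s') :=
  pullback.map _ _ _ _ g' (Spec.map (g.residueFieldMap s')) g hsq.w.symm (by simp)

theorem isPullback_fiberMapOfIsPullback (hsq : IsPullback g' f' f g) (s' : S') :
    IsPullback (fiberMapOfIsPullback hsq s') (f'.fiberToSpecResidueField s')
      (f.fiberToSpecResidueField (g s')) (Spec.map (g.residueFieldMap s')) :=
  isPullback_fiberToSpecResidueField_of_isPullback hsq s'

theorem fiberMapOfIsPullback_fiberι (hsq : IsPullback g' f' f g) (s' : S') :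
    fiberMapOfIsPullback hsq s' ≫ f.fiberι (g s') = f'.fiberι s' ≫ g' :=
  pullback.lift_fst _ _ _

theorem fiberι_fiberMapOfIsPullback_apply (hsq : IsPullback g' f' f g) (s' : S')
    (z' : f'.fiber s') :
    f.fiberι (g s') (fiberMapOfIsPullback hsq s' z') = g' (f'.fiberι s' z') := by
  rw [← Scheme.Hom.comp_apply, fiberMapOfIsPullback_fiberι, Scheme.Hom.comp_apply]

set_option backward.isDefEq.respectTransparency.types false in
theorem isOpenMap_fiberMapOfIsPullback (hsq : IsPullback g' f' f g) (s' : S') :
    IsOpenMap (fiberMapOfIsPullback hsq s') := by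
  have h1 : UniversallyOpen (Spec.map (g.residueFieldMap s')) := inferInstance
  have h2 : UniversallyOpen (fiberMapOfIsPullback hsq s') :=
    MorphismProperty.of_isPullback (isPullback_fiberMapOfIsPullback hsq s').flip h1
  exact (fiberMapOfIsPullback hsq s').isOpenMap

end Groth.Agent.Lib.Helper21

namespace Groth.Agent.Lib.Helper21

/-- A closed point of a scheme locally of finite type over a residue field is finite over it. -/
theorem isFinite_fromSpecResidueField_comp_of_isClosed {Z S : Scheme.{u}} {s : S}
    (p : Z ⟶ Spec (S.residueField s)) [LocallyOfFiniteType p] (z : Z)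
    (hz : IsClosed ({z} : Set Z)) : IsFinite (Z.fromSpecResidueField z ≫ p) := by
  have hci : IsClosedImmersion (Z.fromSpecResidueField z) :=
    isClosed_singleton_iff_isClosedImmersion.1 hz
  obtain ⟨ψ, hψ⟩ := Spec.map_surjective (Z.fromSpecResidueField z ≫ p)
  have hlft : LocallyOfFiniteType (Spec.map ψ) := hψ ▸ inferInstance
  rw [← hψ, IsFinite.SpecMap_iff]
  rw [HasRingHomProperty.Spec_iff (P := @LocallyOfFiniteType)] at hlft
  let _ := ψ.hom.toAlgebra
  have : Algebra.FiniteType (S.residueField s) (Z.residueField z) := hlft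
  exact finite_of_finite_type_of_isJacobsonRing _ _

variable {X S X' S' : Scheme.{u}} {f : X ⟶ S} {g : S' ⟶ S} {g' : X' ⟶ X} {f' : X' ⟶ S'}

set_option backward.isDefEq.respectTransparency.types false in
/-- The fibre of the map of fibres over a closed point is discrete. -/
theorem isDiscrete_preimage_fiberMapOfIsPullback [LocallyOfFiniteType f]
    (hsq : IsPullback g' f' f g) (s' : S') (z₁ : f.fiber (g s'))
    (hz₁cl : IsClosed ({z₁} : Set (f.fiber (g s')))) :
    _root_.IsDiscrete ((fiberMapOfIsPullback hsq s') ⁻¹' {z₁}) := by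
  let c := fiberMapOfIsPullback hsq s'
  have hc := isPullback_fiberMapOfIsPullback hsq s'
  let j := (f.fiber (g s')).fromSpecResidueField z₁
  have hj : IsClosedImmersion j := isClosed_singleton_iff_isClosedImmersion.1 hz₁cl
  have hjfin : IsFinite (j ≫ f.fiberToSpecResidueField (g s')) :=
    isFinite_fromSpecResidueField_comp_of_isClosed _ z₁ hz₁cl
  let k := pullback.snd j c
  have hk : IsClosedImmersion k := inferInstance
  have hrange : Set.range k = c ⁻¹' {z₁} := by
    rw [Scheme.Pullback.range_snd, Scheme.range_fromSpecResidueField]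
  have hpb : IsPullback (pullback.fst j c) (k ≫ f'.fiberToSpecResidueField s')
      (j ≫ f.fiberToSpecResidueField (g s')) (Spec.map (g.residueFieldMap s')) :=
    ((IsPullback.of_hasPullback j c).flip.paste_horiz hc.flip).flip
  have hprfin : IsFinite (k ≫ f'.fiberToSpecResidueField s') :=
    MorphismProperty.of_isPullback hpb hjfin
  have hdisc := Scheme.Hom.isDiscrete_preimage_singleton
    (k ≫ f'.fiberToSpecResidueField s') (IsLocalRing.closedPoint _)
  have hdisc' : DiscreteTopology ↥(pullback j c) := by
    rw [← isDiscrete_univ_iff]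
    refine hdisc.mono (fun w _ => ?_)
    exact Subsingleton.elim (α := PrimeSpectrum _) _ _
  change _root_.IsDiscrete (c ⁻¹' {z₁})
  rw [← hrange, isDiscrete_iff_discreteTopology]
  exact DiscreteTopology.of_continuous_injective
    (k.isEmbedding.toHomeomorph.symm.continuous) (k.isEmbedding.toHomeomorph.symm.injective)

/-- Closed points of fibres stay closed in the fibres of a base change. -/
theorem isClosed_asFiber_of_isPullback [LocallyOfFiniteType f] (hsq : IsPullback g' f' f g)
    (x' : X') (hx : IsClosed ({f.asFiber (g' x')} : Set (f.fiber (f (g' x'))))) :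
    IsClosed ({f'.asFiber x'} : Set (f'.fiber (f' x'))) := by
  let c := fiberMapOfIsPullback hsq (f' x')
  let z₁ := c (f'.asFiber x')
  have hz₁ : f.fiberι (g (f' x')) z₁ = g' x' := by
    rw [fiberι_fiberMapOfIsPullback_apply, f'.fiberι_asFiber]
  have hz₁cl : IsClosed ({z₁} : Set _) := (isClosed_singleton_fiber_iff f z₁ hz₁).2 hx
  have hT := isDiscrete_preimage_fiberMapOfIsPullback hsq (f' x') z₁ hz₁cl
  have hTcl : IsClosed (c ⁻¹' {z₁}) := hz₁cl.preimage c.continuous
  rw [isDiscrete_iff_discreteTopology] at hT
  have h1 : IsClosed ({⟨f'.asFiber x', rfl⟩} : Set (c ⁻¹' {z₁})) := isClosed_discrete _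
  have h2 := hTcl.isClosedEmbedding_subtypeVal.isClosedMap _ h1
  rwa [Set.image_singleton] at h2

/-- Isolated points of fibres stay isolated in the fibres of a base change. -/
theorem isOpen_asFiber_of_isPullback [LocallyOfFiniteType f] (hsq : IsPullback g' f' f g)
    (x' : X') (hx : IsClosed ({f.asFiber (g' x')} : Set (f.fiber (f (g' x')))))
    (hxo : IsOpen ({f.asFiber (g' x')} : Set (f.fiber (f (g' x'))))) :
    IsOpen ({f'.asFiber x'} : Set (f'.fiber (f' x'))) := by
  let c := fiberMapOfIsPullback hsq (f' x')
  let z₁ := c (f'.asFiber x')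
  have hz₁ : f.fiberι (g (f' x')) z₁ = g' x' := by
    rw [fiberι_fiberMapOfIsPullback_apply, f'.fiberι_asFiber]
  have hz₁cl : IsClosed ({z₁} : Set _) := (isClosed_singleton_fiber_iff f z₁ hz₁).2 hx
  have hz₁o : IsOpen ({z₁} : Set _) := (isOpen_singleton_fiber_iff f z₁ hz₁).2 hxo
  have hT := isDiscrete_preimage_fiberMapOfIsPullback hsq (f' x') z₁ hz₁cl
  have hTo : IsOpen (c ⁻¹' {z₁}) := hz₁o.preimage c.continuous
  rw [isDiscrete_iff_discreteTopology] at hT
  have h1 : IsOpen ({⟨f'.asFiber x', rfl⟩} : Set (c ⁻¹' {z₁})) := isOpen_discrete _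
  have h2 := hTo.isOpenEmbedding_subtypeVal.isOpenMap _ h1
  rwa [Set.image_singleton] at h2

/-- Isolated points of fibres of a base change map to isolated points. -/
theorem isOpen_asFiber_of_isOpen_asFiber_of_isPullback (hsq : IsPullback g' f' f g)
    (x' : X') (hx : IsOpen ({f'.asFiber x'} : Set (f'.fiber (f' x')))) :
    IsOpen ({f.asFiber (g' x')} : Set (f.fiber (f (g' x')))) := by
  let c := fiberMapOfIsPullback hsq (f' x')
  let z₁ := c (f'.asFiber x')
  have hz₁ : f.fiberι (g (f' x')) z₁ = g' x' := by
    rw [fiberι_fiberMapOfIsPullback_apply, f'.fiberι_asFiber]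
  rw [← isOpen_singleton_fiber_iff f z₁ hz₁]
  have := isOpenMap_fiberMapOfIsPullback hsq (f' x') _ hx
  rwa [Set.image_singleton] at this

end Groth.Agent.Lib.Helper21
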