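import Groth.Agent.Lib.Helper21.FieldDim
import Groth.Agent.Lib.Helper21.MaximalPoints
import Groth.Agent.Lib.Helper73.FibreMax
import Mathlib

/-!
# Closed points and local rings of schemes locally of finite type over a field (helper21)
-/

set_option linter.style.haveILetI false
universe u

open CategoryTheory CategoryTheory.Limits AlgebraicGeometry

namespace Groth.Agent.Lib.Helper21.FieldDim

open Groth.Agent.Lib.Helper73 Groth.Agent.Lib.Helper73.SchemeDim Groth.Agent.Lib.Helper73.RelHt

variable {k : Type u} [Field k] {X : Scheme.{u}} (f : X ⟶ Spec (CommRingCat.of k))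
  [LocallyOfFiniteType f]

theorem isClosed_singleton_of_td_eq_zero {x : X} (h : td f x = 0) : IsClosed ({x} : Set X) := by
  have : closure ({x} : Set X) = {x} := by
    apply Set.Subset.antisymm
    · intro y hy
      by_contra hne
      have hsp : x ⤳ y := specializes_iff_mem_closure.mpr hy
      have := td_lt_of_specializes f hsp (fun h => hne (by rw [Set.mem_singleton_iff]; exact h.symm))
      omega
    · exact subset_closure
  rw [← this]
  exact isClosed_closure

theorem td_eq_zero_of_isClosed_singleton {x : X} (h : IsClosed ({x} : Set X)) : td f x = 0 := by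
  obtain ⟨c, hlen, hlast, -⟩ := exists_ltSeries_td f x ⊤ trivial
  by_contra hne
  have hpos : 0 < c.length := by omega
  have h1 : c.head < c.last := c.strictMono (by
    rw [Fin.lt_def]; simpa using hpos)
  have h2 : c.last ⤳ c.head := h1.le
  rw [hlast] at h2
  have h3 : c.head ∈ ({x} : Set X) := h2.mem_closed h (Set.mem_singleton x)
  rw [Set.mem_singleton_iff] at h3
  rw [h3, hlast] at h1
  exact lt_irrefl _ h1

theorem td_eq_zero_iff {x : X} : td f x = 0 ↔ IsClosed ({x} : Set X) :=
  ⟨isClosed_singleton_of_td_eq_zero f, td_eq_zero_of_isClosed_singleton f⟩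

include f in
/-- every point specializes to a closed point. -/
theorem exists_isClosed_specializes (x : X) : ∃ y : X, x ⤳ y ∧ IsClosed ({y} : Set X) := by
  classical
  have hne : ∃ n, ∃ y : X, x ⤳ y ∧ td f y = n := ⟨_, x, specializes_rfl, rfl⟩
  obtain ⟨y, hy, hn⟩ := Nat.find_spec hne
  refine ⟨y, hy, ?_⟩
  have : closure ({y} : Set X) = {y} := by
    apply Set.Subset.antisymm
    · intro y' hy'
      by_contra hne'
      have hsp : y ⤳ y' := specializes_iff_mem_closure.mpr hy'
      have hlt := td_lt_of_specializes f hsp
        (fun h => hne' (by rw [Set.mem_singleton_iff]; exact h.symm))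
      have := Nat.find_min hne (m := td f y') (by rw [← hn]; exact hlt)
      exact this ⟨y', hy.trans hsp, rfl⟩
    · exact subset_closure
  rw [← this]
  exact isClosed_closure

/-- the dimension of the local ring at `x` plus `td x` bounds `td` of generizations, with equality
attained. -/
theorem coheight_add_td (x : X) :
    (∀ ξ : X, ξ ⤳ x → ((td f ξ : ℕ) : ℕ∞) ≤ Order.coheight x + td f x) ∧
      ∃ ξ : X, ξ ⤳ x ∧ ((td f ξ : ℕ) : ℕ∞) = Order.coheight x + td f x := by
  haveI : IsLocallyNoetherian X := LocallyOfFiniteType.isLocallyNoetherian f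
  constructor
  · intro ξ hξ
    rw [← relHt_add_td f hξ]
    exact add_le_add_left (relHt_le_coheight x ξ) _
  · have hfin : Order.coheight x < ⊤ := by
      have h1 := AlgebraicGeometry.ringKrullDim_stalk_eq_coheight x
      have h2 : ringKrullDim (X.presheaf.stalk x) < ⊤ := ringKrullDim_lt_top
      rw [h1] at h2
      exact WithBot.coe_lt_coe.mp (by rw [WithBot.coe_top]; exact h2)
    obtain ⟨ξ, hξ, hrel⟩ := exists_relHt_eq_coheight x hfin
    refine ⟨ξ, hξ, ?_⟩
    rw [← hrel]
    exact (relHt_add_td f (show ξ ⤳ x from hξ)).symm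

end Groth.Agent.Lib.Helper21.FieldDim
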