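import Groth.Agent.Lib.Helper21.FieldDimBC
import Groth.Agent.Lib.Helper21.FieldDimPts
import Groth.Agent.Lib.Helper73.LocalDimHomeo
import Mathlib

/-!
# Local dimension and base change of fields; cartesian-square forms (helper21)
-/

set_option linter.style.haveILetI false
universe u

open CategoryTheory CategoryTheory.Limits AlgebraicGeometry AlgebraicGeometry.Scheme.Pullback

namespace Groth.Agent.Lib.Helper21.FieldDim

open Groth.Agent.Lib.Helper73 Groth.Agent.Lib.Helper73.SchemeDim

section LocalDim

variable {k : Type u} [Field k] {Z : Scheme.{u}} (h : Z ⟶ Spec (CommRingCat.of k))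
  [LocallyOfFiniteType h]

/-- the local dimension at `z` is the supremum of the transcendence degrees of the generizations
of `z`. -/
theorem localDim_le_iff (z : Z) (d : WithBot ℕ∞) :
    FlatMor.localDim Z z ≤ d ↔ ∀ ξ : Z, ξ ⤳ z → ((td h ξ : ℕ) : WithBot ℕ∞) ≤ d := by
  haveI : IsLocallyNoetherian Z := LocallyOfFiniteType.isLocallyNoetherian h
  constructor
  · intro hd ξ hξ
    refine le_trans ?_ hd
    refine le_iInf (fun U => ?_)
    have hmem : ξ ∈ (U.1 : Set Z) := hξ.mem_open U.1.isOpen U.2
    exact (dim_le_iff_of_isLocallyClosed h (U.1 : Set Z) U.1.isOpen.isLocallyClosed _).mp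
      le_rfl ξ hmem
  · intro hd
    obtain ⟨U, hzU, hU⟩ := exists_open_forall_exists_specializes Z z
    refine (iInf_le _ (⟨U, hzU⟩ : {U : TopologicalSpace.Opens Z // z ∈ U})).trans ?_
    rw [dim_le_iff_of_isLocallyClosed h (U : Set Z) U.isOpen.isLocallyClosed]
    intro u hu
    obtain ⟨ξ, hξu, hξz⟩ := hU u hu
    have h1 := td_le_of_specializes h hξu
    refine le_trans ?_ (hd ξ hξz)
    exact_mod_cast h1

variable {K : Type u} [Field K] (g : Spec (CommRingCat.of K) ⟶ Spec (CommRingCat.of k))

/-- **local dimension is invariant under extension of the base field.** -/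
theorem localDim_bc (z' : ↑(pullback h g)) :
    FlatMor.localDim ↑(pullback h g) z' = FlatMor.localDim Z ((pullback.fst h g).base z') := by
  apply eq_of_forall_ge_iff
  intro d
  rw [localDim_le_iff (pullback.snd h g), localDim_le_iff h]
  constructor
  · intro H ξ hξ
    obtain ⟨η₀, hη₀, hπ⟩ := generalizingMap_fst h g hξ
    obtain ⟨η₁, hsp, h1, -, hmin⟩ :=
      PullbackTrdeg.exists_specializes_minimal (f := h) (g := g) η₀
    have h2 := tdR_snd_eq_of_minimal h g η₁ hmin
    have h3 := H η₁ (hsp.trans hη₀)
    change ((tdR (pullback.snd h g) η₁ : ℕ) : WithBot ℕ∞) ≤ d at h3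
    rw [h2, h1, hπ] at h3
    exact h3
  · intro H η hη
    have h1 := td_bc_le h g η
    have h2 := H _ (hη.map (pullback.fst h g).continuous)
    refine le_trans ?_ h2
    exact_mod_cast h1

end LocalDim

section Square

variable {P Z : Scheme.{u}} {k K : Type u} [Field k] [Field K] {h : Z ⟶ Spec (CommRingCat.of k)}
  [LocallyOfFiniteType h] {g : Spec (CommRingCat.of K) ⟶ Spec (CommRingCat.of k)} {c : P ⟶ Z}
  {h' : P ⟶ Spec (CommRingCat.of K)}

theorem dim_eq_of_isPullback (sq : IsPullback c h' h g) :
    topologicalKrullDim P = topologicalKrullDim Z := by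
  rw [← dim_bc h g]
  exact (Scheme.homeoOfIso sq.isoPullback).isHomeomorph.topologicalKrullDim_eq

theorem localDim_eq_of_isPullback (sq : IsPullback c h' h g) (p : P) :
    FlatMor.localDim P p = FlatMor.localDim Z (c.base p) := by
  have h1 := localDim_eq_of_isHomeomorph (Scheme.homeoOfIso sq.isoPullback)
    (Scheme.homeoOfIso sq.isoPullback).isHomeomorph p
  rw [h1, localDim_bc]
  congr 1
  change (sq.isoPullback.hom ≫ pullback.fst h g).base p = c.base p
  rw [sq.isoPullback_hom_fst]

theorem exists_dim_eq_of_mem_irreducibleComponents (sq : IsPullback c h' h g) (T : Set P)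
    (hT : T ∈ irreducibleComponents P) :
    ∃ T₀ ∈ irreducibleComponents Z, topologicalKrullDim ↥T = topologicalKrullDim ↥T₀ := by
  let φ := Scheme.homeoOfIso sq.isoPullback
  have h1 : φ '' T ∈ irreducibleComponents ↑(pullback h g) :=
    image_mem_irreducibleComponents_of_isPreirreducible_fiber φ φ.continuous φ.isOpenMap
      (fun x => (Set.subsingleton_singleton.preimage φ.injective).isPreirreducible) φ.surjective hT
  have h2 : topologicalKrullDim ↥T = topologicalKrullDim ↥(φ '' T) :=
    (φ.image T).isHomeomorph.topologicalKrullDim_eq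
  have h3 : topologicalKrullDim ↥(φ '' T) ∈
      (fun W : Set ↑(pullback h g) => topologicalKrullDim ↥W) '' irreducibleComponents ↑(pullback h g) :=
    ⟨_, h1, rfl⟩
  rw [image_dim_irreducibleComponents_bc h g] at h3
  obtain ⟨T₀, hT₀, hd⟩ := h3
  exact ⟨T₀, hT₀, h2.trans hd.symm⟩

end Square

end Groth.Agent.Lib.Helper21.FieldDim
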