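import Mathlib

/-!
# Affine space over a scheme is flat over it (helper21)
-/

universe u

open CategoryTheory CategoryTheory.Limits AlgebraicGeometry MvPolynomial

namespace Groth.Agent.Lib.Helper21.AffineSpaceFlat

set_option backward.isDefEq.respectTransparency.types false in
theorem flat_over (n : Type u) (S : Scheme.{u}) : Flat (𝔸(n; S) ↘ S) :=
  MorphismProperty.pullback_fst _ _ <| by
  have := isIso_of_isTerminal specULiftZIsTerminal.{u} terminalIsTerminal (terminal.from _)
  rw [← terminal.comp_from (Spec.map (CommRingCat.ofHom (C (R := ULift.{u} ℤ) (σ := n)))),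
    MorphismProperty.cancel_right_of_respectsIso (P := @Flat),
    HasRingHomProperty.Spec_iff (P := @Flat)]
  have h : (C (R := ULift.{u} ℤ) (σ := n)).toAlgebra = (inferInstance : Algebra (ULift.{u} ℤ) (MvPolynomial n (ULift.{u} ℤ))) :=
    Algebra.algebra_ext _ _ fun _ => rfl
  show @Module.Flat (ULift.{u} ℤ) (MvPolynomial n (ULift.{u} ℤ)) _ _
    (C (R := ULift.{u} ℤ) (σ := n)).toAlgebra.toModule
  rw [h]
  infer_instance

end Groth.Agent.Lib.Helper21.AffineSpaceFlat
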