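import Groth.Agent.Lib.Helper21.FieldDimBC
import Groth.Agent.Lib.Helper70.GeomPts
import Groth.Agent.Lib.Helper51.EtaleQF
import Mathlib

/-!
# Residue transcendence degrees are étale local (helper21)
-/

set_option linter.style.haveILetI false
universe u

open CategoryTheory CategoryTheory.Limits AlgebraicGeometry

namespace Groth.Agent.Lib.Helper21.FieldDim

variable {U U' V V' : Scheme.{u}}

theorem trdegAt_eq_zero_of_locallyQuasiFinite (π : U ⟶ V) [LocallyQuasiFinite π] (u : U) :
    trdegAt π u = 0 := by
  letI := (π.residueFieldMap u).hom.toAlgebra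
  haveI : Module.Finite (V.residueField (π u)) (U.residueField u) :=
    Groth.Agent.Lib.Helper70.GeomPts.finite_residueFieldMap π u
  haveI : Algebra.IsAlgebraic (V.residueField (π u)) (U.residueField u) :=
    Algebra.IsAlgebraic.of_finite _ _
  exact _root_.trdeg_eq_zero

theorem trdegAt_congr {h h' : U ⟶ V} (e : h = h') (z : U) : trdegAt h z = trdegAt h' z := by
  subst e
  rfl

/-- the residue transcendence degree is étale local on source and target. -/
theorem trdegAt_eq_of_etale_square (h : U ⟶ V) (h' : U' ⟶ V') (a : U' ⟶ U)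
    (b : V' ⟶ V) [Etale a] [Etale b] (comm : h' ≫ b = a ≫ h) (u' : U') :
    trdegAt h (a.base u') = trdegAt h' u' := by
  haveI := Groth.Agent.Lib.Helper51.locallyQuasiFinite_of_etale a
  haveI := Groth.Agent.Lib.Helper51.locallyQuasiFinite_of_etale b
  have h1 := trdegAt_comp a h u'
  have h2 := trdegAt_comp h' b u'
  rw [trdegAt_eq_zero_of_locallyQuasiFinite a u', add_zero] at h1
  rw [trdegAt_eq_zero_of_locallyQuasiFinite b, zero_add] at h2
  rw [← h1, ← h2]
  exact (trdegAt_congr comm u').symm

end Groth.Agent.Lib.Helper21.FieldDim
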