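import Groth.Agent.Lib.Helper21.TensorTrdeg
import Mathlib

/-!
# Residue transcendence degree under base change (helper21)

For a pullback `X ×[S] Y` and a point `t` which is maximal among the points with the same two
projections, `trdeg κ(t)/κ(snd t) = trdeg κ(fst t)/κ(f (fst t))`.
-/

set_option linter.style.haveILetI false
universe u

open CategoryTheory CategoryTheory.Limits AlgebraicGeometry AlgebraicGeometry.Scheme.Pullback

namespace Groth.Agent.Lib.Helper21.PullbackTrdeg

variable {X Y S : Scheme.{u}} {f : X ⟶ S} {g : Y ⟶ S}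

theorem ker_ofPointTensor (t : ↑(pullback f g)) :
    RingHom.ker (ofPointTensor t).hom = (SpecOfPoint t).asIdeal := by
  rw [RingHom.ker_eq_comap_bot]
  rfl

/-- a point maximal in its "double fibre" gives a minimal prime of the tensor product. -/
theorem asIdeal_specOfPoint_mem_minimalPrimes (t : ↑(pullback f g))
    (hmax : ∀ t' : ↑(pullback f g), t' ⤳ t → pullback.fst f g t' = pullback.fst f g t →
        pullback.snd f g t' = pullback.snd f g t → t' = t) :
    (SpecOfPoint t).asIdeal ∈ minimalPrimes (Triplet.ofPoint t).tensor := by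
  haveI : (SpecOfPoint t).asIdeal.IsPrime := (SpecOfPoint t).isPrime
  obtain ⟨𝔪, h𝔪, hle⟩ := Ideal.exists_minimalPrimes_le
    (I := (⊥ : Ideal (Triplet.ofPoint t).tensor)) (J := (SpecOfPoint t).asIdeal) bot_le
  let w' : Spec (Triplet.ofPoint t).tensor := ⟨𝔪, h𝔪.1.1⟩
  have hsp : w' ⤳ SpecOfPoint t := (PrimeSpectrum.le_iff_specializes w' (SpecOfPoint t)).mp hle
  have hsp' : (Triplet.ofPoint t).SpecTensorTo w' ⤳ t := by
    have := hsp.map (Triplet.ofPoint t).SpecTensorTo.continuous
    rwa [SpecTensorTo_SpecOfPoint] at this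
  have heq : (Triplet.ofPoint t).SpecTensorTo w' = t :=
    hmax _ hsp' (Triplet.fst_SpecTensorTo_apply _ _) (Triplet.snd_SpecTensorTo_apply _ _)
  have h2 : (carrierEquiv (f := f) (g := g)).symm ⟨Triplet.ofPoint t, w'⟩ =
      (carrierEquiv (f := f) (g := g)).symm ⟨Triplet.ofPoint t, SpecOfPoint t⟩ := by
    change (Triplet.ofPoint t).SpecTensorTo w' = (Triplet.ofPoint t).SpecTensorTo (SpecOfPoint t)
    rw [heq, SpecTensorTo_SpecOfPoint]
  have h3 := (carrierEquiv (f := f) (g := g)).symm.injective h2
  have h4 : w' = SpecOfPoint t := eq_of_heq (Sigma.mk.inj_iff.mp h3).2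
  rw [← h4]
  exact h𝔪

/-- elements of the residue field of an affine scheme are fractions. -/
theorem exists_fraction_residueField (R : CommRingCat.{u}) (w : Spec R)
    (can : R ⟶ (Spec R).residueField w)
    (hcan : Spec.map can = (Spec R).fromSpecResidueField w) (e : (Spec R).residueField w) :
    ∃ x y : R, can.hom y ≠ 0 ∧ e * can.hom y = can.hom x := by
  haveI : w.asIdeal.IsPrime := w.isPrime
  have h1 := Scheme.Spec.map_residueFieldIso_inv_eq_fromSpecResidueField R w
  rw [← Spec.map_comp, ← hcan] at h1
  have h2 : can = CommRingCat.ofHom (algebraMap R w.asIdeal.ResidueField) ≫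
      (Scheme.Spec.residueFieldIso R w).inv := (Spec.map_injective h1).symm
  have hcan' : ∀ r : R, can.hom r =
      (Scheme.Spec.residueFieldIso R w).inv.hom (algebraMap R w.asIdeal.ResidueField r) := by
    intro r
    rw [h2]
    rfl
  obtain ⟨⟨a, b⟩, hab⟩ := IsLocalization.surj (nonZeroDivisors (R ⧸ w.asIdeal))
    ((Scheme.Spec.residueFieldIso R w).hom.hom e)
  obtain ⟨a', rfl⟩ := Ideal.Quotient.mk_surjective a
  obtain ⟨b', hb'⟩ := Ideal.Quotient.mk_surjective (b : R ⧸ w.asIdeal)
  have hinj : Function.Injective (Scheme.Spec.residueFieldIso R w).inv.hom :=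
    (ConcreteCategory.bijective_of_isIso (Scheme.Spec.residueFieldIso R w).inv).1
  have hb0 : algebraMap R w.asIdeal.ResidueField b' ≠ 0 := by
    have : algebraMap (R ⧸ w.asIdeal) w.asIdeal.ResidueField (b : R ⧸ w.asIdeal) ≠ 0 := by
      intro h0
      have := (IsFractionRing.injective (R ⧸ w.asIdeal) w.asIdeal.ResidueField)
        (h0.trans (map_zero _).symm)
      exact nonZeroDivisors.coe_ne_zero b this
    rwa [← hb', ← Ideal.Quotient.algebraMap_eq, ← IsScalarTower.algebraMap_apply] at this
  refine ⟨a', b', ?_, ?_⟩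
  · rw [hcan']
    intro h0
    exact hb0 (hinj (h0.trans (map_zero _).symm))
  · rw [hcan', hcan']
    have he : e = (Scheme.Spec.residueFieldIso R w).inv.hom ((Scheme.Spec.residueFieldIso R w).hom.hom e) := by
      change e = ((Scheme.Spec.residueFieldIso R w).hom ≫ (Scheme.Spec.residueFieldIso R w).inv).hom e
      rw [Iso.hom_inv_id]
      rfl
    rw [he, ← map_mul]
    congr 1
    have hab' : (Scheme.Spec.residueFieldIso R w).hom.hom e *
        algebraMap (R ⧸ w.asIdeal) w.asIdeal.ResidueField (b : R ⧸ w.asIdeal) =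
        algebraMap (R ⧸ w.asIdeal) w.asIdeal.ResidueField (Ideal.Quotient.mk w.asIdeal a') := hab
    rw [← hb', ← Ideal.Quotient.algebraMap_eq, ← IsScalarTower.algebraMap_apply,
      ← IsScalarTower.algebraMap_apply] at hab'
    exact hab'

theorem exists_factor_aux (t : ↑(pullback f g)) {F : CommRingCat.{u}} :
    ∀ (t₀ : ↑(pullback f g)) (_ : t₀ = t) (h : Triplet.ofPoint t = Triplet.ofPoint t₀)
      (τ₀ : (pullback f g).residueField t₀ ⟶ F),
      ∃ τ : (pullback f g).residueField t ⟶ F,
        ofPointTensor t ≫ τ = (Triplet.tensorCongr h).hom ≫ ofPointTensor t₀ ≫ τ₀ := by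
  intro t₀ h0 h τ₀
  subst h0
  exact ⟨τ₀, by simp⟩

/-- the residue field of a point of a fibre product is generated by the image of the tensor
product of the residue fields of its projections. -/
theorem exists_fraction_ofPointTensor (t : ↑(pullback f g)) (e : (pullback f g).residueField t) :
    ∃ x y : (Triplet.ofPoint t).tensor,
      (ofPointTensor t).hom y ≠ 0 ∧ e * (ofPointTensor t).hom y = (ofPointTensor t).hom x := by
  have h1 := Triplet.Spec_ofPointTensor_SpecTensorTo (Triplet.ofPoint t) (SpecOfPoint t)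
  rw [← Spec.map_comp, ← Spec.map_comp] at h1
  obtain ⟨τ, hτ⟩ := exists_factor_aux t ((Triplet.ofPoint t).SpecTensorTo (SpecOfPoint t))
    (SpecTensorTo_SpecOfPoint t)
    ((Triplet.ofPoint t).ofPoint_SpecTensorTo (SpecOfPoint t)).symm
    (Scheme.Hom.residueFieldMap (Triplet.ofPoint t).SpecTensorTo (SpecOfPoint t))
  rw [Category.assoc, ← hτ] at h1
  obtain ⟨x, y, hy, hxy⟩ := exists_fraction_residueField _ _ _ h1 (τ.hom e)
  have hτinj : Function.Injective τ.hom := τ.hom.injective
  refine ⟨x, y, ?_, ?_⟩
  · intro h0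
    apply hy
    change τ.hom ((ofPointTensor t).hom y) = 0
    rw [h0, map_zero]
  · apply hτinj
    rw [map_mul]
    exact hxy

/-- **Residue transcendence degree under base change**, minimal prime form. -/
theorem trdeg_snd_eq_of_minimal (f : X ⟶ S) (g : Y ⟶ S) (t : ↑(pullback f g))
    (hmin' : (SpecOfPoint t).asIdeal ∈ minimalPrimes (Triplet.ofPoint t).tensor) :
    @Algebra.trdeg (Y.residueField (pullback.snd f g t)) ((pullback f g).residueField t) _ _
        ((pullback.snd f g).residueFieldMap t).hom.toAlgebra =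
      @Algebra.trdeg (S.residueField (f (pullback.fst f g t)))
        (X.residueField (pullback.fst f g t)) _ _
        (f.residueFieldMap (pullback.fst f g t)).hom.toAlgebra := by
  have hmin : RingHom.ker (ofPointTensor t).hom ∈ minimalPrimes (Triplet.ofPoint t).tensor := by
    rw [ker_ofPointTensor]
    exact hmin'
  have hgen := exists_fraction_ofPointTensor t
  have sq : IsPushout
      ((S.residueFieldCongr (Triplet.ofPoint t).hx).inv ≫ f.residueFieldMap (Triplet.ofPoint t).x)
      ((S.residueFieldCongr (Triplet.ofPoint t).hy).inv ≫ g.residueFieldMap (Triplet.ofPoint t).y)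
      (Triplet.ofPoint t).tensorInl (Triplet.ofPoint t).tensorInr := IsPushout.of_hasPushout _ _
  have key := Groth.Agent.Lib.Helper21.TensorTrdeg.trdeg_eq_of_isPushout
    (a := ((S.residueFieldCongr (Triplet.ofPoint t).hx).inv ≫
      f.residueFieldMap (Triplet.ofPoint t).x).hom)
    (b := ((S.residueFieldCongr (Triplet.ofPoint t).hy).inv ≫
      g.residueFieldMap (Triplet.ofPoint t).y).hom)
    (inl := (Triplet.ofPoint t).tensorInl.hom) (inr := (Triplet.ofPoint t).tensorInr.hom)
    sq (ofPointTensor t).hom hmin hgen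
  have h1 : (ofPointTensor t).hom.comp (Triplet.ofPoint t).tensorInr.hom =
      ((pullback.snd f g).residueFieldMap t).hom := by
    have : (Triplet.ofPoint t).tensorInr ≫ ofPointTensor t =
        (pullback.snd f g).residueFieldMap t := pushout.inr_desc _ _ _
    exact congrArg CommRingCat.Hom.hom this
  have h2 : ((S.residueFieldCongr (Triplet.ofPoint t).hx).inv ≫
      f.residueFieldMap (Triplet.ofPoint t).x).hom =
      (f.residueFieldMap (pullback.fst f g t)).hom := by
    have : (S.residueFieldCongr (Triplet.ofPoint t).hx).inv ≫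
        f.residueFieldMap (Triplet.ofPoint t).x = f.residueFieldMap (pullback.fst f g t) := by
      change (S.residueFieldCongr (rfl : f (pullback.fst f g t) = f (pullback.fst f g t))).inv ≫
        f.residueFieldMap (pullback.fst f g t) = _
      rw [Scheme.residueFieldCongr_refl]
      simp
    exact congrArg CommRingCat.Hom.hom this
  rw [h1, h2] at key
  exact key

/-- **Residue transcendence degree under base change**: for a point `t` of `X ×[S] Y` which is
maximal among the points with the same two projections,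
`trdeg κ(t)/κ(snd t) = trdeg κ(fst t)/κ(f (fst t))`. -/
theorem trdeg_snd_eq_of_maximal (f : X ⟶ S) (g : Y ⟶ S) (t : ↑(pullback f g))
    (hmax : ∀ t' : ↑(pullback f g), t' ⤳ t → pullback.fst f g t' = pullback.fst f g t →
        pullback.snd f g t' = pullback.snd f g t → t' = t) :
    @Algebra.trdeg (Y.residueField (pullback.snd f g t)) ((pullback f g).residueField t) _ _
        ((pullback.snd f g).residueFieldMap t).hom.toAlgebra =
      @Algebra.trdeg (S.residueField (f (pullback.fst f g t)))
        (X.residueField (pullback.fst f g t)) _ _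
        (f.residueFieldMap (pullback.fst f g t)).hom.toAlgebra :=
  trdeg_snd_eq_of_minimal f g t (asIdeal_specOfPoint_mem_minimalPrimes t hmax)

/-- every point of a fibre product has a generization with the same two projections which
corresponds to a minimal prime of the tensor product of residue fields. -/
theorem exists_specializes_minimal (t : ↑(pullback f g)) :
    ∃ t' : ↑(pullback f g), t' ⤳ t ∧ pullback.fst f g t' = pullback.fst f g t ∧
      pullback.snd f g t' = pullback.snd f g t ∧
      (SpecOfPoint t').asIdeal ∈ minimalPrimes (Triplet.ofPoint t').tensor := by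
  haveI : (SpecOfPoint t).asIdeal.IsPrime := (SpecOfPoint t).isPrime
  obtain ⟨𝔪, h𝔪, hle⟩ := Ideal.exists_minimalPrimes_le
    (I := (⊥ : Ideal (Triplet.ofPoint t).tensor)) (J := (SpecOfPoint t).asIdeal) bot_le
  let w' : Spec (Triplet.ofPoint t).tensor := ⟨𝔪, h𝔪.1.1⟩
  have hsp : w' ⤳ SpecOfPoint t := (PrimeSpectrum.le_iff_specializes w' (SpecOfPoint t)).mp hle
  have hsp' : (Triplet.ofPoint t).SpecTensorTo w' ⤳ t := by
    have := hsp.map (Triplet.ofPoint t).SpecTensorTo.continuous
    rwa [SpecTensorTo_SpecOfPoint] at this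
  refine ⟨(Triplet.ofPoint t).SpecTensorTo w', hsp', Triplet.fst_SpecTensorTo_apply _ _,
    Triplet.snd_SpecTensorTo_apply _ _, ?_⟩
  have h1 : carrierEquiv (f := f) (g := g) ((Triplet.ofPoint t).SpecTensorTo w') =
      ⟨Triplet.ofPoint t, w'⟩ :=
    (carrierEquiv (f := f) (g := g)).apply_symm_apply ⟨Triplet.ofPoint t, w'⟩
  obtain ⟨e, he⟩ := carrierEquiv_eq_iff.mp h1
  -- `e : ofPoint t' = ofPoint t`, `he : Spec.map (tensorCongr e).inv (SpecOfPoint t') = w'`
  have key : ∀ (T₁ T₂ : Triplet f g) (e : T₁ = T₂) (p : Spec T₁.tensor),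
      (Spec.map (Triplet.tensorCongr e).inv p).asIdeal ∈ minimalPrimes T₂.tensor →
      p.asIdeal ∈ minimalPrimes T₁.tensor := by
    intro T₁ T₂ e p hp
    subst e
    simpa using hp
  refine key _ _ e (SpecOfPoint _) ?_
  have he' : Spec.map (Triplet.tensorCongr e).inv
      (SpecOfPoint ((Triplet.ofPoint t).SpecTensorTo w')) = w' := he
  rw [he']
  exact h𝔪

end Groth.Agent.Lib.Helper21.PullbackTrdeg
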