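import Groth.Agent.Lib.Helper21.FieldDim
import Groth.Agent.Lib.Helper21.PullbackTrdeg
import Groth.Agent.Lib.Helper21.MaximalPoints
import Mathlib

/-!
# Dimension of base changes and products of schemes locally of finite type over a field (helper21)
-/

set_option linter.style.haveILetI false
universe u

open CategoryTheory CategoryTheory.Limits AlgebraicGeometry AlgebraicGeometry.Scheme.Pullback
open scoped Set.Notation

namespace Groth.Agent.Lib.Helper21.FieldDim

open Groth.Agent.Lib.Helper73 Groth.Agent.Lib.Helper73.SchemeDim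

section General

variable {P Y S : Scheme.{u}}

/-- the (finite) residue transcendence degree of a morphism locally of finite type. -/
noncomputable def tdR (p : P ⟶ Y) [LocallyOfFiniteType p] (z : P) : ℕ :=
  (exists_trdegAt_eq_nat p z).choose

theorem trdegAt_eq_tdR (p : P ⟶ Y) [LocallyOfFiniteType p] (z : P) : trdegAt p z = tdR p z :=
  (exists_trdegAt_eq_nat p z).choose_spec

theorem tdR_eq_of_trdegAt_eq (p : P ⟶ Y) [LocallyOfFiniteType p] {z : P} {n : ℕ}
    (h : trdegAt p z = n) : tdR p z = n := by
  have := trdegAt_eq_tdR p z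
  rw [h] at this
  exact_mod_cast this.symm

theorem tdR_lt_of_specializes (p : P ⟶ Y) [LocallyOfFiniteType p] {z z' : P} (h : z ⤳ z')
    (hne : z ≠ z') (hp : p.base z = p.base z') : tdR p z' < tdR p z :=
  trdeg_lt_trdeg_of_specializes_of_fibre' p h hne hp (tdR p z) (tdR p z')
    (trdegAt_eq_tdR p z) (trdegAt_eq_tdR p z')

theorem tdR_le_of_specializes (p : P ⟶ Y) [LocallyOfFiniteType p] {z z' : P} (h : z ⤳ z')
    (hp : p.base z = p.base z') : tdR p z' ≤ tdR p z := by
  by_cases hzz : z = z'
  · rw [hzz]
  · exact (tdR_lt_of_specializes p h hzz hp).le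

/-- tower formula for residue transcendence degrees. -/
theorem trdegAt_comp (p : P ⟶ Y) (g : Y ⟶ S) (z : P) :
    trdegAt (p ≫ g) z = trdegAt g (p.base z) + trdegAt p z := by
  letI a1 : Algebra (S.residueField (g.base (p.base z))) (Y.residueField (p.base z)) :=
    (g.residueFieldMap (p.base z)).hom.toAlgebra
  letI a2 : Algebra (Y.residueField (p.base z)) (P.residueField z) :=
    (p.residueFieldMap z).hom.toAlgebra
  letI a3 : Algebra (S.residueField (g.base (p.base z))) (P.residueField z) :=
    ((p ≫ g).residueFieldMap z).hom.toAlgebra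
  haveI : IsScalarTower (S.residueField (g.base (p.base z))) (Y.residueField (p.base z))
      (P.residueField z) := IsScalarTower.of_algebraMap_eq (fun c => by
    change ((p ≫ g).residueFieldMap z).hom c =
      (p.residueFieldMap z).hom ((g.residueFieldMap (p.base z)).hom c)
    rw [Scheme.residueFieldMap_comp]
    rfl)
  exact (_root_.trdeg_add_eq (S.residueField (g.base (p.base z))) (Y.residueField (p.base z))
    (A := P.residueField z)).symm

end General

section Pullback

variable {X Y S : Scheme.{u}} (f : X ⟶ S) (g : Y ⟶ S) [LocallyOfFiniteType f]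

theorem tdR_snd_eq_of_minimal (z : ↑(pullback f g))
    (hmin : (SpecOfPoint z).asIdeal ∈ minimalPrimes (Triplet.ofPoint z).tensor) :
    tdR (pullback.snd f g) z = tdR f (pullback.fst f g z) := by
  have h := PullbackTrdeg.trdeg_snd_eq_of_minimal f g z hmin
  have h1 := trdegAt_eq_tdR (pullback.snd f g) z
  have h2 := trdegAt_eq_tdR f (pullback.fst f g z)
  have : ((tdR (pullback.snd f g) z : ℕ) : Cardinal.{u}) = tdR f (pullback.fst f g z) := by
    rw [← h1, ← h2]
    exact h
  exact_mod_cast this

theorem tdR_snd_eq_of_maximal (z : ↑(pullback f g))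
    (hmax : ∀ t' : ↑(pullback f g), t' ⤳ z → pullback.fst f g t' = pullback.fst f g z →
        pullback.snd f g t' = pullback.snd f g z → t' = z) :
    tdR (pullback.snd f g) z = tdR f (pullback.fst f g z) :=
  tdR_snd_eq_of_minimal f g z (PullbackTrdeg.asIdeal_specOfPoint_mem_minimalPrimes z hmax)

theorem tdR_snd_le (z : ↑(pullback f g)) :
    tdR (pullback.snd f g) z ≤ tdR f (pullback.fst f g z) := by
  obtain ⟨z', hsp, h1, h2, hmin⟩ := PullbackTrdeg.exists_specializes_minimal (f := f) (g := g) z
  have h3 := tdR_snd_eq_of_minimal f g z' hmin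
  have h4 := tdR_le_of_specializes (pullback.snd f g) hsp h2
  rw [h3, h1] at h4
  exact h4

theorem exists_tdR_snd_eq (x : X) (y : Y) (h : f.base x = g.base y) :
    ∃ z : ↑(pullback f g), pullback.fst f g z = x ∧ pullback.snd f g z = y ∧
      tdR (pullback.snd f g) z = tdR f x := by
  obtain ⟨z₀, hz1, hz2⟩ := Scheme.Pullback.exists_preimage_pullback x y h
  obtain ⟨z', -, h1, h2, hmin⟩ := PullbackTrdeg.exists_specializes_minimal (f := f) (g := g) z₀
  refine ⟨z', h1.trans hz1, h2.trans hz2, ?_⟩
  rw [tdR_snd_eq_of_minimal f g z' hmin, h1, hz1]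

end Pullback

section Top

variable {A B : Type*} [TopologicalSpace A] [TopologicalSpace B]

theorem maximal_map_of_generalizingMap {p : A → B} (hp : GeneralizingMap p) (hc : Continuous p)
    {a : A} (ha : ∀ z, z ⤳ a → a ⤳ z) : ∀ w, w ⤳ p a → p a ⤳ w := by
  intro w hw
  obtain ⟨a', ha', rfl⟩ := hp hw
  exact (ha a' ha').map hc

/-- the dimension of a subset of a subspace is the dimension of its image. -/
theorem dim_subtype_image (T : Set A) (W : Set ↥T) :
    topologicalKrullDim ↥W = topologicalKrullDim ↥(Subtype.val '' W : Set A) := by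
  let j : ↥W → ↥(Subtype.val '' W : Set A) := fun w => ⟨w.1.1, ⟨w.1, w.2, rfl⟩⟩
  have hjc : Continuous j :=
    (continuous_subtype_val.comp continuous_subtype_val).subtype_mk _
  have hemb : Topology.IsEmbedding j := by
    refine Topology.IsEmbedding.of_comp hjc continuous_subtype_val ?_
    have : (Subtype.val : ↥(Subtype.val '' W : Set A) → A) ∘ j =
        (Subtype.val : ↥T → A) ∘ (Subtype.val : ↥W → ↥T) := rfl
    rw [this]
    exact Topology.IsEmbedding.subtypeVal.comp Topology.IsEmbedding.subtypeVal
  have hsurj : Function.Surjective j := by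
    rintro ⟨_, ⟨w, hw, rfl⟩⟩
    exact ⟨⟨w, hw⟩, rfl⟩
  exact IsHomeomorph.topologicalKrullDim_eq j
    (isHomeomorph_iff_isEmbedding_surjective.mpr ⟨hemb, hsurj⟩)

/-- an irreducible component of a closed subspace `T` gives a closed irreducible subset of the
ambient space, maximal among the irreducible subsets of `T`. -/
theorem image_irreducibleComponent_subtype (T : Set A) (hT : IsClosed T) (W : Set ↥T)
    (hW : W ∈ irreducibleComponents ↥T) :
    IsClosed (Subtype.val '' W : Set A) ∧ IsIrreducible (Subtype.val '' W : Set A) ∧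
      (Subtype.val '' W : Set A) ⊆ T ∧
      ∀ V : Set A, IsIrreducible V → V ⊆ T → (Subtype.val '' W : Set A) ⊆ V →
        V = Subtype.val '' W := by
  refine ⟨?_, ?_, ?_, ?_⟩
  · exact hT.isClosedEmbedding_subtypeVal.isClosedMap _
      (isClosed_of_mem_irreducibleComponents W hW)
  · exact hW.1.image _ continuous_subtype_val.continuousOn
  · rintro _ ⟨w, -, rfl⟩
    exact w.2
  · intro V hV hVT hWV
    have h1 : IsIrreducible ((Subtype.val : ↥T → A) ⁻¹' V) :=
      Groth.Agent.Lib.Helper29.isIrreducible_preimage_val_of_subset T V hV hVT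
    have h2 : W ⊆ (Subtype.val : ↥T → A) ⁻¹' V := fun w hw => hWV ⟨w, hw, rfl⟩
    have h3 : (Subtype.val : ↥T → A) ⁻¹' V ⊆ W := hW.2 h1 h2
    apply Set.Subset.antisymm
    · intro v hv
      exact ⟨⟨v, hVT hv⟩, h3 hv, rfl⟩
    · exact hWV

end Top

section Field

variable {k : Type u} [Field k] {X Y : Scheme.{u}} (f : X ⟶ Spec (CommRingCat.of k))
  (g : Y ⟶ Spec (CommRingCat.of k)) [LocallyOfFiniteType f]

omit [LocallyOfFiniteType f] in
theorem generalizingMap_fst : GeneralizingMap (pullback.fst f g).base :=
  Flat.generalizingMap _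

omit [LocallyOfFiniteType f] in
theorem maximal_fst {z : ↑(pullback f g)} (hz : ∀ t, t ⤳ z → z ⤳ t) :
    ∀ w, w ⤳ (pullback.fst f g).base z → (pullback.fst f g).base z ⤳ w :=
  maximal_map_of_generalizingMap (generalizingMap_fst f g) (pullback.fst f g).continuous hz

theorem tdR_snd_eq_of_maximal' {z : ↑(pullback f g)} (hz : ∀ t, t ⤳ z → z ⤳ t) :
    tdR (pullback.snd f g) z = td f ((pullback.fst f g).base z) :=
  tdR_snd_eq_of_maximal f g z (fun t' ht _ _ => (Specializes.antisymm ht (hz t' ht)).eq)

/-- the dimensions of the irreducible components are the transcendence degrees of the maximal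
points. -/
theorem image_dim_irreducibleComponents :
    (fun Z : Set X => topologicalKrullDim ↥Z) '' irreducibleComponents X =
      {d | ∃ ξ : X, (∀ z, z ⤳ ξ → ξ ⤳ z) ∧ d = ((td f ξ : ℕ) : WithBot ℕ∞)} := by
  ext d
  constructor
  · rintro ⟨Z, hZ, rfl⟩
    have hcl := isClosed_of_mem_irreducibleComponents Z hZ
    have hgen : IsGenericPoint hZ.1.genericPoint Z := hZ.1.isGenericPoint_genericPoint hcl
    refine ⟨hZ.1.genericPoint, ?_, dim_eq_td_of_isGenericPoint f hgen⟩
    apply maximal_of_closure_singleton_mem_irreducibleComponents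
    rw [hgen.def]
    exact hZ
  · rintro ⟨ξ, hξ, rfl⟩
    exact ⟨closure {ξ}, closure_singleton_mem_irreducibleComponents_of_maximal hξ,
      dim_closure_singleton f ξ⟩

end Field

section BaseChange

variable {k K : Type u} [Field k] [Field K] {X : Scheme.{u}} (f : X ⟶ Spec (CommRingCat.of k))
  (g : Spec (CommRingCat.of K) ⟶ Spec (CommRingCat.of k)) [LocallyOfFiniteType f]

theorem td_bc_le (x' : ↑(pullback f g)) :
    td (pullback.snd f g) x' ≤ td f ((pullback.fst f g).base x') :=
  tdR_snd_le f g x'

theorem exists_td_bc_eq (x : X) :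
    ∃ x' : ↑(pullback f g), (pullback.fst f g).base x' = x ∧ td (pullback.snd f g) x' = td f x := by
  obtain ⟨z, h1, -, h3⟩ := exists_tdR_snd_eq f g x (⊥ : PrimeSpectrum K)
    (Subsingleton.elim (α := PrimeSpectrum k) _ _)
  exact ⟨z, h1, h3⟩

/-- **dimension is invariant under extension of the base field.** -/
theorem dim_bc : topologicalKrullDim ↥(pullback f g) = topologicalKrullDim X := by
  apply le_antisymm
  · rw [dim_le_iff (pullback.snd f g)]
    intro x'
    have h1 := td_bc_le f g x'
    have h2 := td_le_dim f ((pullback.fst f g).base x')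
    refine le_trans ?_ h2
    exact_mod_cast h1
  · rw [dim_le_iff f]
    intro x
    obtain ⟨x', -, h⟩ := exists_td_bc_eq f g x
    rw [← h]
    exact td_le_dim (pullback.snd f g) x'

/-- the set of dimensions of irreducible components is invariant under extension of the base
field. -/
theorem image_dim_irreducibleComponents_bc :
    (fun Z : Set ↑(pullback f g) => topologicalKrullDim ↥Z) '' irreducibleComponents ↑(pullback f g) =
      (fun Z : Set X => topologicalKrullDim ↥Z) '' irreducibleComponents X := by
  rw [image_dim_irreducibleComponents f, image_dim_irreducibleComponents (pullback.snd f g)]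
  ext d
  constructor
  · rintro ⟨η, hη, rfl⟩
    refine ⟨(pullback.fst f g).base η, maximal_fst f g hη, ?_⟩
    have := tdR_snd_eq_of_maximal' f g hη
    change td (pullback.snd f g) η = _ at this
    rw [this]
  · rintro ⟨ξ, hξ, rfl⟩
    obtain ⟨η₀, hη₀, -⟩ := Scheme.Pullback.exists_preimage_pullback (f := f) (g := g) ξ
      (⊥ : PrimeSpectrum K) (Subsingleton.elim (α := PrimeSpectrum k) _ _)
    obtain ⟨η₁, hη₁, hsp⟩ := exists_maximal_specializes η₀
    have h1 : (pullback.fst f g).base η₁ ⤳ ξ := by
      rw [← hη₀]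
      exact hsp.map (pullback.fst f g).continuous
    have h2 : (pullback.fst f g).base η₁ = ξ := (Specializes.antisymm h1 (hξ _ h1)).eq
    refine ⟨η₁, hη₁, ?_⟩
    have := tdR_snd_eq_of_maximal' f g hη₁
    change td (pullback.snd f g) η₁ = _ at this
    rw [this, h2]

/-- every irreducible component of the inverse image of an irreducible closed subset `Z` has the
dimension of `Z`. -/
theorem dim_irreducibleComponent_preimage_aux (Z : Set X) (hZc : IsClosed Z)
    (hZi : IsIrreducible Z) (T : Set ↑(pullback f g)) (hT : T = ⇑(pullback.fst f g) ⁻¹' Z)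
    (W : Set ↥T) (hW : W ∈ irreducibleComponents ↥T) :
    topologicalKrullDim ↥W = topologicalKrullDim ↥Z := by
  have hTc : IsClosed T := by
    rw [hT]
    exact hZc.preimage (pullback.fst f g).continuous
  have hTmem : ∀ t : ↑(pullback f g), t ∈ T ↔ (pullback.fst f g).base t ∈ Z := by
    intro t
    rw [hT]
    rfl
  obtain ⟨hWc, hWi, hWT, hWmax⟩ := image_irreducibleComponent_subtype T hTc W hW
  rw [dim_subtype_image T W]
  set W' : Set ↑(pullback f g) := Subtype.val '' W with hW'
  have hη : IsGenericPoint hWi.genericPoint W' := hWi.isGenericPoint_genericPoint hWc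
  set η := hWi.genericPoint with hηdef
  have hξ : IsGenericPoint hZi.genericPoint Z := hZi.isGenericPoint_genericPoint hZc
  set ξ := hZi.genericPoint with hξdef
  rw [dim_eq_td_of_isGenericPoint (pullback.snd f g) hη, dim_eq_td_of_isGenericPoint f hξ]
  have hηW : η ∈ W' := hη.mem
  -- maximality of `η` among the points of `T`
  have hmaxT : ∀ t : ↑(pullback f g), t ∈ T → t ⤳ η → t = η := by
    intro t htT hsp
    have h1 : W' ⊆ closure {t} := by
      rw [← hη.def]
      exact closure_minimal (Set.singleton_subset_iff.mpr (specializes_iff_mem_closure.mp hsp))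
        isClosed_closure
    have h2 : closure ({t} : Set ↑(pullback f g)) ⊆ T :=
      closure_minimal (Set.singleton_subset_iff.mpr htT) hTc
    have h3 := hWmax (closure {t}) isIrreducible_singleton.closure h2 h1
    have h4 : t ∈ W' := by rw [← h3]; exact subset_closure rfl
    have h5 : η ⤳ t := hη.specializes h4
    exact (Specializes.antisymm hsp h5).eq
  -- `η` lies over `ξ`
  have hπη : (pullback.fst f g).base η ∈ Z := (hTmem _).mp (hWT hηW)
  have hsp : ξ ⤳ (pullback.fst f g).base η := hξ.specializes hπη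
  obtain ⟨η', hη', hπη'⟩ := generalizingMap_fst f g hsp
  have hη'T : η' ∈ T := by
    rw [hTmem, hπη']
    exact hξ.mem
  have heq : η' = η := hmaxT η' hη'T hη'
  rw [heq] at hπη'
  have key := tdR_snd_eq_of_maximal f g η (fun t' ht h1 _ => hmaxT t' (by
    rw [hTmem, h1]
    exact hπη) ht)
  change td (pullback.snd f g) η = _ at key
  rw [key, hπη']
  rfl

theorem dim_irreducibleComponent_preimage (Z : Set X) (hZc : IsClosed Z) (hZi : IsIrreducible Z)
    (W : Set ↥(⇑(pullback.fst f g) ⁻¹' Z))
    (hW : W ∈ irreducibleComponents ↥(⇑(pullback.fst f g) ⁻¹' Z)) :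
    topologicalKrullDim ↥W = topologicalKrullDim ↥Z :=
  dim_irreducibleComponent_preimage_aux f g Z hZc hZi _ rfl W hW

end BaseChange

section Arith

/-- a supremum-type lemma in `WithBot ℕ∞`. -/
theorem add_le_of_forall_nat {ι κ : Type*} (A : ι → ℕ) (B : κ → ℕ) (a b c : WithBot ℕ∞)
    (ha : ∀ d : WithBot ℕ∞, (∀ i, ((A i : ℕ) : WithBot ℕ∞) ≤ d) → a ≤ d)
    (hb : ∀ d : WithBot ℕ∞, (∀ j, ((B j : ℕ) : WithBot ℕ∞) ≤ d) → b ≤ d)
    (h : ∀ i j, ((A i + B j : ℕ) : WithBot ℕ∞) ≤ c) : a + b ≤ c := by
  have step1 : ∀ j, a + ((B j : ℕ) : WithBot ℕ∞) ≤ c := by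
    intro j
    obtain ⟨D', h1, h2⟩ := exists_sub_bound c (B j)
    have : a ≤ D' := ha D' (fun i => h1 _ (by have := h i j; push_cast at this; exact this))
    exact (add_le_add_left this _).trans h2
  induction a with
  | bot => simp
  | coe a' =>
    induction a' with
    | top =>
      by_cases hκ : Nonempty κ
      · obtain ⟨j₀⟩ := hκ
        have := step1 j₀
        have htop : ((⊤ : ℕ∞) : WithBot ℕ∞) + ((B j₀ : ℕ) : WithBot ℕ∞) = ((⊤ : ℕ∞) : WithBot ℕ∞) := by
          rw [← WithBot.coe_natCast, ← WithBot.coe_add, top_add]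
        rw [htop] at this
        exact le_trans le_top this
      · have hb' : b ≤ ⊥ := hb ⊥ (fun j => (hκ ⟨j⟩).elim)
        rw [le_bot_iff.mp hb']
        simp
    | coe n =>
      obtain ⟨D', h1, h2⟩ := exists_sub_bound c n
      have : b ≤ D' := hb D' (fun j => h1 _ (by
        have := step1 j
        rw [add_comm] at this
        exact this))
      rw [add_comm]
      exact (add_le_add_left this _).trans h2

end Arith

section Product

variable {k : Type u} [Field k] {X Y : Scheme.{u}} (f : X ⟶ Spec (CommRingCat.of k))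
  (g : Y ⟶ Spec (CommRingCat.of k)) [LocallyOfFiniteType f] [LocallyOfFiniteType g]

theorem tdR_congr {P S : Scheme.{u}} {h h' : P ⟶ S} (e : h = h') [LocallyOfFiniteType h]
    [LocallyOfFiniteType h'] (z : P) : tdR h z = tdR h' z := by
  subst e
  rfl

theorem td_prod_eq (z : ↑(pullback f g)) :
    td (pullback.fst f g ≫ f) z =
      td g ((pullback.snd f g).base z) + tdR (pullback.snd f g) z := by
  have h1 : td (pullback.fst f g ≫ f) z = tdR (pullback.snd f g ≫ g) z :=
    tdR_congr pullback.condition z
  rw [h1]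
  have h2 := trdegAt_comp (pullback.snd f g) g z
  rw [trdegAt_eq_tdR, trdegAt_eq_tdR, trdegAt_eq_tdR] at h2
  exact_mod_cast h2

theorem td_prod_le (z : ↑(pullback f g)) :
    td (pullback.fst f g ≫ f) z ≤
      td f ((pullback.fst f g).base z) + td g ((pullback.snd f g).base z) := by
  rw [td_prod_eq]
  have := tdR_snd_le f g z
  change tdR (pullback.snd f g) z ≤ td f _ at this
  omega

theorem td_prod_eq_of_maximal {z : ↑(pullback f g)} (hz : ∀ t, t ⤳ z → z ⤳ t) :
    td (pullback.fst f g ≫ f) z =
      td f ((pullback.fst f g).base z) + td g ((pullback.snd f g).base z) := by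
  rw [td_prod_eq, tdR_snd_eq_of_maximal' f g hz, add_comm]

theorem exists_td_prod_eq (x : X) (y : Y) :
    ∃ z : ↑(pullback f g), td (pullback.fst f g ≫ f) z = td f x + td g y := by
  obtain ⟨z, h1, h2, h3⟩ := exists_tdR_snd_eq f g x y
    (Subsingleton.elim (α := PrimeSpectrum k) _ _)
  refine ⟨z, ?_⟩
  rw [td_prod_eq, h3, h2, add_comm]
  rfl

/-- **the dimension of a product is the sum of the dimensions.** -/
theorem dim_prod :
    topologicalKrullDim ↑(pullback f g) = topologicalKrullDim X + topologicalKrullDim Y := by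
  apply le_antisymm
  · rw [dim_le_iff (pullback.fst f g ≫ f)]
    intro z
    have h1 := td_prod_le f g z
    have h2 := td_le_dim f ((pullback.fst f g).base z)
    have h3 := td_le_dim g ((pullback.snd f g).base z)
    have h4 : ((td (pullback.fst f g ≫ f) z : ℕ) : WithBot ℕ∞) ≤
        ((td f ((pullback.fst f g).base z) + td g ((pullback.snd f g).base z) : ℕ) : WithBot ℕ∞) := by
      exact_mod_cast h1
    refine h4.trans ?_
    push_cast
    exact add_le_add h2 h3
  · refine add_le_of_forall_nat (td f) (td g) _ _ _ (fun d => (dim_le_iff f d).mpr)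
      (fun d => (dim_le_iff g d).mpr) ?_
    intro x y
    obtain ⟨z, hz⟩ := exists_td_prod_eq f g x y
    rw [← hz]
    exact td_le_dim (pullback.fst f g ≫ f) z

omit [LocallyOfFiniteType f] [LocallyOfFiniteType g] in
theorem maximal_snd {z : ↑(pullback f g)} (hz : ∀ t, t ⤳ z → z ⤳ t) :
    ∀ w, w ⤳ (pullback.snd f g).base z → (pullback.snd f g).base z ⤳ w :=
  maximal_map_of_generalizingMap (Flat.generalizingMap (pullback.snd f g))
    (pullback.snd f g).continuous hz

theorem dim_eq_td_of_maximal [IrreducibleSpace X] {ξ : X} (hξ : ∀ z, z ⤳ ξ → ξ ⤳ z) :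
    topologicalKrullDim X = td f ξ := by
  refine dim_eq_td_of_forall_specializes f ξ (fun x => ?_)
  have h1 : genericPoint X ⤳ ξ := (genericPoint_spec X).specializes (by simp)
  have h2 : genericPoint X ⤳ x := (genericPoint_spec X).specializes (by simp)
  exact (hξ _ h1).trans h2

/-- every irreducible component of a product of irreducible schemes has dimension
`dim X + dim Y`. -/
theorem dim_irreducibleComponent_prod [IrreducibleSpace X] [IrreducibleSpace Y]
    (Z : Set ↑(pullback f g)) (hZ : Z ∈ irreducibleComponents ↑(pullback f g)) :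
    topologicalKrullDim ↥Z = topologicalKrullDim X + topologicalKrullDim Y := by
  have hcl := isClosed_of_mem_irreducibleComponents Z hZ
  have hgen : IsGenericPoint hZ.1.genericPoint Z := hZ.1.isGenericPoint_genericPoint hcl
  have hmax : ∀ t, t ⤳ hZ.1.genericPoint → hZ.1.genericPoint ⤳ t := by
    apply maximal_of_closure_singleton_mem_irreducibleComponents
    rw [hgen.def]
    exact hZ
  rw [dim_eq_td_of_isGenericPoint (pullback.fst f g ≫ f) hgen, td_prod_eq_of_maximal f g hmax,
    dim_eq_td_of_maximal f (maximal_fst f g hmax), dim_eq_td_of_maximal g (maximal_snd f g hmax)]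
  push_cast
  rfl

end Product

end Groth.Agent.Lib.Helper21.FieldDim
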