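import Groth.Agent.Lib.Helper21.FieldDimSq
import Groth.Agent.Lib.Helper21.FieldDimBC
import Groth.Agent.Lib.Helper21.FibrePoints
import Groth.Agent.Lib.Helper21.EtaleLocalDim
import Mathlib

/-!
# Dimension of fibres of a morphism locally of finite type via residue transcendence degrees

For `f : X ⟶ Y` locally of finite type:
* `td_fibStr`: for a point `z` of `f.fiber y`, `trdeg_{κ(y)} κ(z) = trdeg κ(x)/κ(y)`, `x = ι z`.
* `dim_fiber_le_iff`: `dim f⁻¹(y) ≤ d ↔ ∀ x over y, tdR f x ≤ d`.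
* `fibreDimAt_le_iff`: `dim_x f⁻¹(f x) ≤ d ↔ ∀ ξ ⤳ x over f x, tdR f ξ ≤ d`.
-/

set_option linter.style.haveILetI false
universe u

open CategoryTheory CategoryTheory.Limits AlgebraicGeometry

namespace Groth.Agent.Lib.Helper21.FieldDim

variable {X Y : Scheme.{u}} (f : X ⟶ Y)

/-- structure morphism of the fibre, as a morphism to the spectrum of a field. -/
noncomputable def fibStr (y : Y) : f.fiber y ⟶ Spec (CommRingCat.of (Y.residueField y)) :=
  f.fiberToSpecResidueField y

instance [LocallyOfFiniteType f] (y : Y) : LocallyOfFiniteType (fibStr f y) := by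
  unfold fibStr
  infer_instance

variable [LocallyOfFiniteType f]

theorem td_fibStr (y : Y) (z : f.fiber y) : td (fibStr f y) z = tdR f (f.fiberι y z) := by
  have h1 : td (fibStr f y) z = tdR (pullback.snd f (Y.fromSpecResidueField y)) z := by
    symm
    apply tdR_eq_of_trdegAt_eq
    exact trdegAt_eq_td (fibStr f y) z
  rw [h1]
  refine tdR_snd_eq_of_maximal f (Y.fromSpecResidueField y) z ?_
  intro t' _ h _
  exact (f.fiberι y).isEmbedding.injective h

theorem dim_fiber_le_iff (y : Y) (d : WithBot ℕ∞) :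
    topologicalKrullDim (f.fiber y) ≤ d ↔
      ∀ x : X, f x = y → ((tdR f x : ℕ) : WithBot ℕ∞) ≤ d := by
  rw [dim_le_iff (fibStr f y)]
  constructor
  · intro h x hx
    have hmem : x ∈ Set.range (f.fiberι y) := by
      rw [Scheme.Hom.range_fiberι]; exact hx
    obtain ⟨z, rfl⟩ := hmem
    rw [← td_fibStr]
    exact h z
  · intro h z
    rw [td_fibStr]
    refine h _ ?_
    have : f.fiberι y z ∈ Set.range (f.fiberι y) := ⟨z, rfl⟩
    rw [Scheme.Hom.range_fiberι] at this
    exact this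

theorem tdR_le_dim_fiber (x : X) :
    ((tdR f x : ℕ) : WithBot ℕ∞) ≤ topologicalKrullDim (f.fiber (f x)) :=
  (dim_fiber_le_iff f (f x) _).mp le_rfl x rfl

theorem fibreDimAt_le_iff (x : X) (d : WithBot ℕ∞) :
    FlatMor.fibreDimAt f x ≤ d ↔
      ∀ ξ : X, ξ ⤳ x → f ξ = f x → ((tdR f ξ : ℕ) : WithBot ℕ∞) ≤ d := by
  unfold FlatMor.fibreDimAt
  rw [localDim_le_iff (fibStr f (f x))]
  constructor
  · intro h ξ hξ hfξ
    have hmem : ξ ∈ Set.range (f.fiberι (f x)) := by
      rw [Scheme.Hom.range_fiberι]; exact hfξ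
    obtain ⟨z, rfl⟩ := hmem
    rw [← td_fibStr]
    refine h z ?_
    rw [← (f.fiberι (f x)).isEmbedding.toIsInducing.specializes_iff, Scheme.Hom.fiberι_asFiber]
    exact hξ
  · intro h z hz
    rw [td_fibStr]
    refine h _ ?_ ?_
    · have := hz.map (f.fiberι (f x)).continuous
      rwa [Scheme.Hom.fiberι_asFiber] at this
    · have : f.fiberι (f x) z ∈ Set.range (f.fiberι (f x)) := ⟨z, rfl⟩
      rw [Scheme.Hom.range_fiberι] at this
      exact this

theorem tdR_le_fibreDimAt (x : X) : ((tdR f x : ℕ) : WithBot ℕ∞) ≤ FlatMor.fibreDimAt f x :=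
  (fibreDimAt_le_iff f x _).mp le_rfl x specializes_rfl rfl

theorem fibreDimAt_le_dim_fiber (x : X) :
    FlatMor.fibreDimAt f x ≤ topologicalKrullDim (f.fiber (f x)) := by
  rw [fibreDimAt_le_iff]
  intro ξ _ hξ
  rw [← hξ]
  exact tdR_le_dim_fiber f ξ

omit [LocallyOfFiniteType f] in
/-- dimension of the set-theoretic fibre. -/
theorem dim_preimage_singleton (y : Y) :
    topologicalKrullDim ↥(f ⁻¹' {y}) = topologicalKrullDim (f.fiber y) :=
  ((f.fiberHomeo y).isHomeomorph.topologicalKrullDim_eq).symm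

end Groth.Agent.Lib.Helper21.FieldDim
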