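import Mathlib
import Groth.Agent.S1454
import Groth.Agent.S3394
import Groth.Agent.S3395
import Groth.Agent.S4936
import Groth.Agent.Lib.Helper82.EquidimBC
import Groth.Agent.Lib.Helper21.AffineSpaceFlat
import Groth.Agent.Lib.Helper21.FibreTd
import Groth.Agent.Lib.Helper21.EtaleTrdeg
import Groth.Agent.Lib.Helper21.MaximalPoints

/-!
# Chevalley's criterion for universal openness: local form (helper21)

EGA IV 14.4.4: an equidimensional morphism locally of finite type over a locally Noetherian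
geometrically unibranch base is universally open.  Here: around every point where `f` is
equidimensional there is an open neighbourhood on which `f` is universally open.
-/

set_option linter.style.haveILetI false
set_option autoImplicit false
universe u

open CategoryTheory CategoryTheory.Limits AlgebraicGeometry TopologicalSpace

namespace Groth.Agent.Lib.Helper21.Chevalley

open Groth.Agent.Lib.Helper21 Groth.Agent.Lib.Helper21.FieldDim

/-- maximal points map to maximal points under open immersions. -/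
theorem maximal_map_of_isOpenImmersion {W X : Scheme.{u}} (j : W ⟶ X) [IsOpenImmersion j] (ξ : W)
    (hξ : ∀ ξ' : W, ξ' ⤳ ξ → ξ' = ξ) : ∀ z : X, z ⤳ j ξ → z = j ξ := by
  intro z hz
  have hzr : z ∈ Set.range j := hz.mem_open j.isOpenEmbedding.isOpen_range ⟨ξ, rfl⟩
  obtain ⟨z', rfl⟩ := hzr
  rw [j.isOpenEmbedding.isInducing.specializes_iff] at hz
  rw [hξ z' hz]

theorem trdegAt_of_isOpenImmersion_left {W X Y : Scheme.{u}} (j : W ⟶ X) [IsOpenImmersion j]
    (f : X ⟶ Y) (z : W) : trdegAt (j ≫ f) z = trdegAt f (j z) := by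
  rw [trdegAt_comp, trdegAt_eq_zero_of_locallyQuasiFinite j z, add_zero]

theorem trdegAt_of_isOpenImmersion_right {W V Y : Scheme.{u}} (f' : W ⟶ V) (ι : V ⟶ Y)
    [IsOpenImmersion ι] (z : W) : trdegAt (f' ≫ ι) z = trdegAt f' z := by
  rw [trdegAt_comp, trdegAt_eq_zero_of_locallyQuasiFinite ι _, zero_add]

/-- the fibres of affine `e`-space have dimension `e`. -/
theorem dim_fiber_affineSpace (Y : Scheme.{u}) (e : ℕ) (y : Y) :
    topologicalKrullDim ↥((𝔸(ULift.{u} (Fin e); Y) ↘ Y).fiber y) = e := by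
  let π := 𝔸(ULift.{u} (Fin e); Y) ↘ Y
  let j := Y.fromSpecResidueField y
  let κ := Y.residueField y
  let β : 𝔸(ULift.{u} (Fin e); Spec κ) ≅ π.fiber y :=
    (AffineSpace.isPullback_map (n := ULift.{u} (Fin e)) j).isoPullback
  let γ : π.fiber y ≅ Spec (.of (MvPolynomial (ULift.{u} (Fin e)) κ)) :=
    β.symm ≪≫ AffineSpace.SpecIso (ULift.{u} (Fin e)) κ
  have hD : ringKrullDim (MvPolynomial (ULift.{u} (Fin e)) κ) = e := by
    rw [MvPolynomial.ringKrullDim_of_isNoetherianRing, ringKrullDim_eq_zero_of_field, zero_add]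
    simp
  rw [← hD, ← PrimeSpectrum.topologicalKrullDim_eq_ringKrullDim]
  exact IsHomeomorph.topologicalKrullDim_eq _ (Scheme.homeoOfIso γ).isHomeomorph

theorem tdR_affineSpace_le (Y : Scheme.{u}) (e : ℕ) (τ : 𝔸(ULift.{u} (Fin e); Y)) :
    tdR (𝔸(ULift.{u} (Fin e); Y) ↘ Y) τ ≤ e := by
  have h := tdR_le_dim_fiber (𝔸(ULift.{u} (Fin e); Y) ↘ Y) τ
  rw [dim_fiber_affineSpace] at h
  exact_mod_cast h

/-- if all points that are maximal in the fibre through `x` have residue transcendence degree `e`,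
the fibre has dimension `e`. -/
theorem dim_fiber_eq_of_forall_maximal {X Y : Scheme.{u}} (f : X ⟶ Y) [LocallyOfFiniteType f]
    (x : X) (e : ℕ)
    (hB : ∀ z : X, f z = f x → (∀ z' : X, z' ⤳ z → f z' = f z → z' = z) → trdegAt f z = e) :
    topologicalKrullDim ↥(f.fiber (f x)) = e := by
  have key : ∀ z : X, f z = f x → ∃ z'' : X, z'' ⤳ z ∧ f z'' = f x ∧
      (∀ z' : X, z' ⤳ z'' → f z' = f z'' → z' = z'') := by
    intro z hz
    have hmem : z ∈ Set.range (f.fiberι (f x)) := by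
      rw [Scheme.Hom.range_fiberι]; exact hz
    obtain ⟨w, rfl⟩ := hmem
    obtain ⟨w'', hw''max, hw''⟩ := exists_maximal_specializes w
    have hfw'' : f (f.fiberι (f x) w'') = f x := by
      have : f.fiberι (f x) w'' ∈ Set.range (f.fiberι (f x)) := ⟨w'', rfl⟩
      rw [Scheme.Hom.range_fiberι] at this
      exact this
    refine ⟨f.fiberι (f x) w'', hw''.map (f.fiberι (f x)).continuous, hfw'', ?_⟩
    intro z' hz' hfz'
    have hmem' : z' ∈ Set.range (f.fiberι (f x)) := by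
      rw [Scheme.Hom.range_fiberι]; exact hfz'.trans hfw''
    obtain ⟨w', rfl⟩ := hmem'
    have hsp : w' ⤳ w'' := (f.fiberι (f x)).isEmbedding.isInducing.specializes_iff.mp hz'
    have heq : w' = w'' := (hsp.antisymm (hw''max w' hsp)).eq
    rw [heq]
  apply le_antisymm
  · rw [dim_fiber_le_iff]
    intro z hz
    obtain ⟨z'', hsp, hfz'', hmax⟩ := key z hz
    have h1 : tdR f z ≤ tdR f z'' := tdR_le_of_specializes f hsp (hfz''.trans hz.symm)
    have h2 : tdR f z'' = e := tdR_eq_of_trdegAt_eq f (hB z'' hfz'' hmax)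
    rw [h2] at h1
    exact_mod_cast h1
  · obtain ⟨z'', hsp, hfz'', hmax⟩ := key x rfl
    have h2 : tdR f z'' = e := tdR_eq_of_trdegAt_eq f (hB z'' hfz'' hmax)
    have := tdR_le_dim_fiber f z''
    rw [hfz'', h2] at this
    exact this

/-- **Local form of Chevalley's criterion** (EGA IV 14.4.4). -/
theorem exists_universallyOpen_nhd {X Y : Scheme.{u}} [IsLocallyNoetherian Y]
    (hY : ∀ y : Y, CAlg2.IsGeomUnibranch (Y.presheaf.stalk y)) (f : X ⟶ Y) [LocallyOfFiniteType f]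
    (x : X) (hx : EGA43.IsEquidimAt f x) :
    ∃ (W : Scheme.{u}) (j : W ⟶ X), IsOpenImmersion j ∧ x ∈ Set.range j ∧
      UniversallyOpen (j ≫ f) := by
  obtain ⟨e, U₁, hxU₁, hA, hB⟩ :=
    (Groth.Agent.Lib.Helper82.EquidimBC.isEquidimAt_iff' f x).mp hx
  obtain ⟨_, ⟨(V : Y.Opens), hV, rfl⟩, hfxV, -⟩ :=
    Y.isBasis_affineOpens.exists_subset_of_mem_open (Set.mem_univ (f x)) isOpen_univ
  obtain ⟨_, ⟨(X₀ : X.Opens), hX₀, rfl⟩, hxX₀, hX₀le⟩ :=
    X.isBasis_affineOpens.exists_subset_of_mem_open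
      (show x ∈ ((U₁ ⊓ f ⁻¹ᵁ V : X.Opens) : Set X) from ⟨hxU₁, hfxV⟩) (U₁ ⊓ f ⁻¹ᵁ V).isOpen
  have hle : X₀ ≤ f ⁻¹ᵁ V := fun z hz => (hX₀le hz).2
  have hleU : X₀ ≤ U₁ := fun z hz => (hX₀le hz).1
  haveI : IsAffine ↑X₀ := hX₀
  haveI : IsAffine ↑V := hV
  let f₀ : (X₀ : Scheme) ⟶ V := f.resLE V X₀ hle
  have hf₀ : f₀ ≫ V.ι = X₀.ι ≫ f := Scheme.Hom.resLE_comp_ι f hle
  let x₀ : ↥(X₀ : Scheme) := ⟨x, hxX₀⟩
  have hpt : ∀ z : ↥(X₀ : Scheme), V.ι (f₀ z) = f (X₀.ι z) := fun z =>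
    congrArg (fun k : (X₀ : Scheme) ⟶ Y => k z) hf₀
  have htr : ∀ z : ↥(X₀ : Scheme), trdegAt f₀ z = trdegAt f (X₀.ι z) := by
    intro z
    rw [← trdegAt_of_isOpenImmersion_right f₀ V.ι z, trdegAt_congr hf₀,
      trdegAt_of_isOpenImmersion_left]
  have hdim : topologicalKrullDim ↥(f₀.fiber (f₀ x₀)) = e := by
    apply dim_fiber_eq_of_forall_maximal
    intro z _ hzmax
    rw [htr]
    refine hB (X₀.ι z) (hleU z.2) ?_
    intro z' hz' hfz'
    have hz'X₀ : z' ∈ X₀ := hz'.mem_open X₀.isOpen z.2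
    let z₁ : ↥(X₀ : Scheme) := ⟨z', hz'X₀⟩
    have h1 : z₁ ⤳ z := X₀.ι.isOpenEmbedding.isInducing.specializes_iff.mp hz'
    have h2 : f₀ z₁ = f₀ z := by
      apply V.ι.isOpenEmbedding.injective
      rw [hpt, hpt]
      exact hfz'
    exact congrArg Subtype.val (hzmax z₁ h1 h2)
  have hy₀ : f₀ x₀ ∈ Set.range f₀ := ⟨x₀, rfl⟩
  obtain ⟨g, hg, hfin⟩ := Groth.Agent.S3394.result f₀ (f₀ x₀) hy₀ e hdim
  obtain ⟨-, U', hU', hqf⟩ := Groth.Agent.S3395.result f₀ (f₀ x₀) hy₀ e hdim g hg hfin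
  let A := 𝔸(ULift.{u} (Fin e); (V : Scheme))
  let π : A ⟶ V := A ↘ V
  haveI : LocallyOfFiniteType (g ≫ π) := by rw [hg]; infer_instance
  haveI : LocallyOfFiniteType g := locallyOfFiniteType_of_comp g π
  let h : (U' : Scheme) ⟶ A := U'.ι ≫ g
  haveI : LocallyQuasiFinite h := hqf
  haveI : IsLocallyNoetherian (V : Scheme) := inferInstance
  haveI : IsLocallyNoetherian A := LocallyOfFiniteType.isLocallyNoetherian π
  have hAst : ∀ p : A, CAlg2.IsGeomUnibranch (A.presheaf.stalk p) := by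
    intro p
    apply Groth.Agent.S4936.result
    rw [← Groth.Agent.Lib.Helper69.GUPolySch.isGeomUnibranch_stalk_iff_of_isOpenImmersion V.ι]
    exact hY _
  let J : (U' : Scheme) ⟶ X := U'.ι ≫ X₀.ι
  have hJ : (h ≫ π) ≫ V.ι = J ≫ f := by
    simp only [h, J, Category.assoc]
    rw [← Category.assoc g, hg, hf₀]
  have hdom : ∀ Z ∈ irreducibleComponents ↥(U' : Scheme), ∀ ξ : ↥(U' : Scheme),
      IsGenericPoint ξ Z → ∃ W ∈ irreducibleComponents ↥A, IsGenericPoint (h ξ) W := by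
    intro Z hZ ξ hξ
    have hξmax : ∀ ξ' : ↥(U' : Scheme), ξ' ⤳ ξ → ξ' = ξ := by
      intro ξ' hsp
      have := maximal_of_closure_singleton_mem_irreducibleComponents (x := ξ)
        (by rw [hξ.def]; exact hZ) ξ' hsp
      exact (hsp.antisymm this).eq
    have hJmax := maximal_map_of_isOpenImmersion J ξ hξmax
    have hJU₁ : J ξ ∈ U₁ := hleU (U'.ι ξ).2
    obtain ⟨hA1, -⟩ := hA (J ξ) hJU₁ hJmax
    have hB1 := hB (J ξ) hJU₁ (fun z' hz' _ => hJmax z' hz')
    have hFtr : trdegAt (h ≫ π) ξ = e := by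
      rw [← trdegAt_of_isOpenImmersion_right (h ≫ π) V.ι ξ, trdegAt_congr hJ,
        trdegAt_of_isOpenImmersion_left]
      exact hB1
    have hπh : tdR π (h ξ) = e := by
      apply tdR_eq_of_trdegAt_eq
      rw [trdegAt_comp, trdegAt_eq_zero_of_locallyQuasiFinite h ξ, add_zero] at hFtr
      exact hFtr
    have hFmax : ∀ η : ↥(V : Scheme), η ⤳ (π (h ξ)) → η = π (h ξ) := by
      intro η hη
      apply V.ι.isOpenEmbedding.injective
      have h1 : V.ι η ⤳ V.ι (π (h ξ)) := hη.map V.ι.continuous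
      have h2 : V.ι (π (h ξ)) = f (J ξ) := congrArg (fun k : (U' : Scheme) ⟶ Y => k ξ) hJ
      rw [h2] at h1 ⊢
      exact hA1 _ h1
    have hhmax : ∀ τ : A, τ ⤳ h ξ → h ξ ⤳ τ := by
      intro τ hτ
      by_contra hne'
      have hne : τ ≠ h ξ := fun h' => hne' (h' ▸ specializes_rfl)
      have hπτ : π τ = π (h ξ) := hFmax _ (hτ.map π.continuous)
      have h1 := tdR_lt_of_specializes π hτ hne hπτ
      have h2 : tdR π τ ≤ e := tdR_affineSpace_le (V : Scheme) e τ
      rw [hπh] at h1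
      omega
    exact ⟨closure {h ξ}, closure_singleton_mem_irreducibleComponents_of_maximal hhmax,
      isGenericPoint_closure⟩
  have huo : UniversallyOpen h := Groth.Agent.S1454.result h hAst hdom
  haveI : Flat π := Groth.Agent.Lib.Helper21.AffineSpaceFlat.flat_over _ _
  haveI : UniversallyOpen π := inferInstance
  refine ⟨U', J, inferInstance, ⟨⟨x₀, hU' rfl⟩, rfl⟩, ?_⟩
  rw [← hJ]
  infer_instance

end Groth.Agent.Lib.Helper21.Chevalley
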