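import Mathlib
import Groth.Agent.Lib.Helper21.Chevalley
import Groth.Agent.Lib.Helper73.FibreDimGen

/-!
# Quasi-finite charts to affine space of the local fibre dimension (helper21)

Around a point `x` of a morphism locally of finite type with `dim_x (X_{f x}) = n` there is an open
neighbourhood with a locally quasi-finite `Y`-morphism to `𝔸ⁿ_Y`.
-/

set_option linter.style.haveILetI false
set_option autoImplicit false
universe u

open CategoryTheory CategoryTheory.Limits AlgebraicGeometry TopologicalSpace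

namespace Groth.Agent.Lib.Helper21.CMChart

open Groth.Agent.Lib.Helper21 Groth.Agent.Lib.Helper21.FieldDim
  Groth.Agent.Lib.Helper21.Chevalley

theorem exists_lqf_chart {X Y : Scheme.{u}} (f : X ⟶ Y) [LocallyOfFiniteType f] (x : X) (n : ℕ)
    (hn : FlatMor.fibreDimAt f x = n) :
    ∃ (U' : Scheme.{u}) (j : U' ⟶ X) (_ : IsOpenImmersion j) (x' : U')
      (g : U' ⟶ 𝔸(ULift.{u} (Fin n); Y)), j x' = x ∧
      g ≫ (𝔸(ULift.{u} (Fin n); Y) ↘ Y) = j ≫ f ∧ LocallyQuasiFinite g := by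
  have hO : IsOpen {x' : X | FlatMor.fibreDimAt f x' ≤ n} :=
    Groth.Agent.Lib.Helper73.SchemeDim.isOpen_setOf_fibreDimAt_le f n
  let O' : X.Opens := ⟨_, hO⟩
  have hxO' : x ∈ O' := show FlatMor.fibreDimAt f x ≤ n from hn.le
  obtain ⟨_, ⟨(V : Y.Opens), hV, rfl⟩, hfxV, -⟩ :=
    Y.isBasis_affineOpens.exists_subset_of_mem_open (Set.mem_univ (f x)) isOpen_univ
  obtain ⟨_, ⟨(X₀ : X.Opens), hX₀, rfl⟩, hxX₀, hX₀le⟩ :=
    X.isBasis_affineOpens.exists_subset_of_mem_open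
      (show x ∈ ((O' ⊓ f ⁻¹ᵁ V : X.Opens) : Set X) from ⟨hxO', hfxV⟩) (O' ⊓ f ⁻¹ᵁ V).isOpen
  have hle : X₀ ≤ f ⁻¹ᵁ V := fun z hz => (hX₀le hz).2
  have hleO : ∀ z ∈ X₀, FlatMor.fibreDimAt f z ≤ n := fun z hz => (hX₀le hz).1
  haveI : IsAffine ↑X₀ := hX₀
  haveI : IsAffine ↑V := hV
  let f₀ : (X₀ : Scheme) ⟶ V := f.resLE V X₀ hle
  have hf₀ : f₀ ≫ V.ι = X₀.ι ≫ f := Scheme.Hom.resLE_comp_ι f hle
  let x₀ : ↥(X₀ : Scheme) := ⟨x, hxX₀⟩
  have hpt : ∀ z : ↥(X₀ : Scheme), V.ι (f₀ z) = f (X₀.ι z) := fun z =>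
    congrArg (fun k : (X₀ : Scheme) ⟶ Y => k z) hf₀
  have htr : ∀ z : ↥(X₀ : Scheme), tdR f₀ z = tdR f (X₀.ι z) := by
    intro z
    apply tdR_eq_of_trdegAt_eq
    rw [← trdegAt_of_isOpenImmersion_right f₀ V.ι z, trdegAt_congr hf₀,
      trdegAt_of_isOpenImmersion_left, trdegAt_eq_tdR]
  have hdim : topologicalKrullDim ↥(f₀.fiber (f₀ x₀)) = n := by
    apply le_antisymm
    · rw [dim_fiber_le_iff]
      intro z _
      rw [htr]
      exact (tdR_le_fibreDimAt f (X₀.ι z)).trans (hleO _ z.2)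
    · obtain ⟨ζ, m, hζsp, hζf, hm, hFm⟩ :=
        Groth.Agent.Lib.Helper73.SchemeDim.exists_specializes_trdeg_eq_fibreDimAt f x
      have hmn : m = n := by
        rw [hn] at hFm
        exact_mod_cast hFm.symm
      subst hmn
      have hζX₀ : ζ ∈ X₀ := hζsp.mem_open X₀.isOpen hxX₀
      let ζ₀ : ↥(X₀ : Scheme) := ⟨ζ, hζX₀⟩
      have h2 : f₀ ζ₀ = f₀ x₀ := by
        apply V.ι.isOpenEmbedding.injective
        rw [hpt, hpt]
        exact hζf
      have h3 : tdR f₀ ζ₀ = m := by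
        rw [htr]
        exact tdR_eq_of_trdegAt_eq f hm
      have h4 := tdR_le_dim_fiber f₀ ζ₀
      rw [h2, h3] at h4
      exact h4
  have hy₀ : f₀ x₀ ∈ Set.range f₀ := ⟨x₀, rfl⟩
  obtain ⟨g, hg, hfin⟩ := Groth.Agent.S3394.result f₀ (f₀ x₀) hy₀ n hdim
  obtain ⟨-, U', hU', hqf⟩ := Groth.Agent.S3395.result f₀ (f₀ x₀) hy₀ n hdim g hg hfin
  have hx₀U' : x₀ ∈ U' := hU' rfl
  haveI : IsOpenImmersion (AffineSpace.map (ULift.{u} (Fin n)) V.ι) :=
    MorphismProperty.of_isPullback (P := @IsOpenImmersion)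
      (AffineSpace.isPullback_map (n := ULift.{u} (Fin n)) V.ι).flip inferInstance
  haveI : LocallyQuasiFinite (U'.ι ≫ g) := hqf
  refine ⟨U', U'.ι ≫ X₀.ι, inferInstance, ⟨x₀, hx₀U'⟩,
    (U'.ι ≫ g) ≫ AffineSpace.map (ULift.{u} (Fin n)) V.ι, rfl, ?_, inferInstance⟩
  rw [Category.assoc, Category.assoc, AffineSpace.map_over, ← Category.assoc g, hg, hf₀,
    Category.assoc]

end Groth.Agent.Lib.Helper21.CMChart
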