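import Groth.Agent.Lib.Helper21.GrpDim
import Mathlib

/-!
# Local dimension = dimension of the local ring + residue transcendence degree (helper21)
-/

set_option linter.style.haveILetI false
universe u

open CategoryTheory CategoryTheory.Limits AlgebraicGeometry

namespace Groth.Agent.Lib.Helper21.FieldDim

open Groth.Agent.Lib.Helper73 Groth.Agent.Lib.Helper73.SchemeDim

variable {k : Type u} [Field k] {X : Scheme.{u}} (f : X ⟶ Spec (CommRingCat.of k))
  [LocallyOfFiniteType f]

/-- `dim_x X = dim O_{X,x} + trdeg_k κ(x)`. -/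
theorem localDim_eq_stalk_add_td (x : X) :
    FlatMor.localDim X x = ringKrullDim (X.presheaf.stalk x) + (td f x : ℕ) := by
  obtain ⟨h1, ξ₀, hξ₀, h2⟩ := coheight_add_td f x
  rw [AlgebraicGeometry.ringKrullDim_stalk_eq_coheight x]
  have hc : ((Order.coheight x : ℕ∞) : WithBot ℕ∞) + ((td f x : ℕ) : WithBot ℕ∞) =
      (((Order.coheight x + (td f x : ℕ) : ℕ∞)) : WithBot ℕ∞) := by
    rw [WithBot.coe_add]
    rfl
  rw [hc]
  apply le_antisymm
  · rw [localDim_le_iff f]
    intro ξ hξ
    have := h1 ξ hξ
    rw [← WithBot.coe_natCast]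
    exact WithBot.coe_le_coe.mpr this
  · rw [← h2]
    have := (localDim_le_iff f x _).mp le_rfl ξ₀ hξ₀
    rw [← WithBot.coe_natCast] at this
    exact this

include f in
theorem localDim_eq_stalk_of_isClosed {x : X} (hx : IsClosed ({x} : Set X)) :
    FlatMor.localDim X x = ringKrullDim (X.presheaf.stalk x) := by
  rw [localDim_eq_stalk_add_td f x, td_eq_zero_of_isClosed_singleton f hx]
  simp

end Groth.Agent.Lib.Helper21.FieldDim
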