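import Groth.Agent.Lib.Helper21.FieldDimStalk
import Groth.Agent.Lib.Helper21.EtaleTrdeg
import Groth.Agent.Lib.Helper73.FlatRelDim3
import Groth.Agent.Lib.Helper73.FibreMaximal
import Mathlib

/-!
# Flat morphisms between schemes of finite type over a field: dimensions of fibres (helper21)
-/

set_option linter.style.haveILetI false
universe u

open CategoryTheory CategoryTheory.Limits AlgebraicGeometry

namespace Groth.Agent.Lib.Helper21.FieldDim

open Groth.Agent.Lib.Helper73 Groth.Agent.Lib.Helper73.SchemeDim

section Equidim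

variable {k : Type u} [Field k] {Y : Scheme.{u}} (qY : Y ⟶ Spec (CommRingCat.of k))
  [LocallyOfFiniteType qY]

include qY in
/-- in an equidimensional scheme the local dimension is constant. -/
theorem localDim_eq_of_equidim (d : WithBot ℕ∞)
    (hY : ∀ Z ∈ irreducibleComponents (Y : Type u), topologicalKrullDim ↥Z = d) (y : Y) :
    FlatMor.localDim Y y = d := by
  haveI : IsLocallyNoetherian Y := LocallyOfFiniteType.isLocallyNoetherian qY
  have hmax : ∀ η : Y, (∀ z, z ⤳ η → η ⤳ z) → ((td qY η : ℕ) : WithBot ℕ∞) = d := by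
    intro η hη
    have hc := closure_singleton_mem_irreducibleComponents_of_maximal hη
    rw [← hY _ hc, dim_closure_singleton qY]
  apply le_antisymm
  · rw [localDim_le_iff qY]
    intro η _
    obtain ⟨η', hη', hsp⟩ := exists_maximal_specializes η
    rw [← hmax η' hη']
    exact_mod_cast td_le_of_specializes qY hsp
  · obtain ⟨η', hη', hsp⟩ := exists_maximal_specializes y
    rw [← hmax η' hη']
    exact (localDim_le_iff qY y _).mp le_rfl η' hsp

end Equidim

section Flat

variable {k : Type u} [Field k] {X Y : Scheme.{u}} (qX : X ⟶ Spec (CommRingCat.of k))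
  (qY : Y ⟶ Spec (CommRingCat.of k)) [LocallyOfFiniteType qX] [LocallyOfFiniteType qY]
  (f : X ⟶ Y) (hf : f ≫ qY = qX)

omit [LocallyOfFiniteType qY] in
include qX qY hf in
theorem locallyOfFiniteType_of_comp_eq : LocallyOfFiniteType f := by
  haveI : LocallyOfFiniteType (f ≫ qY) := by rw [hf]; infer_instance
  exact locallyOfFiniteType_of_comp f qY

include hf in
theorem td_eq_add_tdR [LocallyOfFiniteType f] (x : X) :
    td qX x = td qY (f.base x) + tdR f x := by
  have h1 := trdegAt_comp f qY x
  rw [trdegAt_congr hf x, trdegAt_eq_td, trdegAt_eq_td, trdegAt_eq_tdR] at h1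
  exact_mod_cast h1

include hf in
/-- at a point maximal in its fibre of a flat morphism, `dim_ζ X = dim_{f ζ} Y + trdeg`. -/
theorem localDim_eq_add_tdR_of_maximal [LocallyOfFiniteType f] [Flat f] (ζ : X)
    (hζ : ∀ t : X, t ⤳ ζ → f.base t = f.base ζ → t = ζ) :
    FlatMor.localDim X ζ = FlatMor.localDim Y (f.base ζ) + ((tdR f ζ : ℕ) : WithBot ℕ∞) := by
  haveI : IsLocallyNoetherian X := LocallyOfFiniteType.isLocallyNoetherian qX
  haveI : IsLocallyNoetherian Y := LocallyOfFiniteType.isLocallyNoetherian qY
  rw [localDim_eq_stalk_add_td qX ζ, localDim_eq_stalk_add_td qY (f.base ζ),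
    td_eq_add_tdR qX qY f hf ζ]
  have h1 := ringKrullDim_stalk_le_of_maximal_in_fibre f ζ hζ
  have h2 := ringKrullDim_stalk_le_of_flat f ζ
  rw [le_antisymm h1 h2]
  push_cast
  rw [add_assoc]

include qX qY hf in
/-- flat `f`, `Y` equidimensional of dimension `d`: `X` is equidimensional of dimension `d + n`
iff all fibres are equidimensional of dimension `n`. -/
theorem flat_equidim_iff [Flat f] (d n : ℕ)
    (hY : ∀ Z ∈ irreducibleComponents (Y : Type u), topologicalKrullDim ↥Z = (d : WithBot ℕ∞)) :
    (∀ Z ∈ irreducibleComponents (X : Type u),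
        topologicalKrullDim ↥Z = ((d + n : ℕ) : WithBot ℕ∞)) ↔ Cyc.HasRelDim f n := by
  haveI := locallyOfFiniteType_of_comp_eq qX qY f hf
  haveI : IsLocallyNoetherian X := LocallyOfFiniteType.isLocallyNoetherian qX
  haveI : IsLocallyNoetherian Y := LocallyOfFiniteType.isLocallyNoetherian qY
  constructor
  · intro hX
    rw [FlatRelDim.hasRelDim_iff]
    intro ζ hζ
    have h1 := localDim_eq_add_tdR_of_maximal qX qY f hf ζ hζ
    rw [localDim_eq_of_equidim qX _ hX ζ, localDim_eq_of_equidim qY _ hY (f.base ζ)] at h1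
    have h3 : d + n = d + tdR f ζ := by exact_mod_cast h1
    have h4 : tdR f ζ = n := by omega
    have h2 := trdegAt_eq_tdR f ζ
    rw [h4] at h2
    exact h2
  · intro hd Z hZ
    have hcl := isClosed_of_mem_irreducibleComponents Z hZ
    have hgen : IsGenericPoint hZ.1.genericPoint Z := hZ.1.isGenericPoint_genericPoint hcl
    have hmax : ∀ t, t ⤳ hZ.1.genericPoint → hZ.1.genericPoint ⤳ t := by
      apply maximal_of_closure_singleton_mem_irreducibleComponents
      rw [hgen.def]
      exact hZ
    rw [dim_eq_td_of_isGenericPoint qX hgen, ← localDim_eq_td_of_maximal qX hmax,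
      FlatRelDim.localDim_eq_add_of_flat_hasRelDim f n hd, localDim_eq_of_equidim qY _ hY]
    push_cast
    rfl

end Flat

end Groth.Agent.Lib.Helper21.FieldDim
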