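import Groth.Agent.Lib.Helper21.ConstrDim
import Groth.Agent.Lib.Helper21.FlatFibreDimField
import Mathlib

/-!
# Well-intersecting closed subsets with respect to a morphism (helper21)
-/

set_option linter.style.haveILetI false
universe u

open CategoryTheory CategoryTheory.Limits AlgebraicGeometry TopologicalSpace Topology

namespace Groth.Agent.Lib.Helper21.WellIntersect

open Groth.Agent.Lib.Helper21.FieldDim

theorem le_of_nat_add_le_nat_add {n : ℕ} {b c : WithBot ℕ∞}
    (h : (n : WithBot ℕ∞) + b ≤ n + c) : b ≤ c := by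
  induction b with
  | bot => exact bot_le
  | coe b =>
    induction c with
    | bot =>
      rw [WithBot.add_bot] at h
      exact absurd h (by
        rw [← WithBot.coe_natCast, ← WithBot.coe_add, le_bot_iff]
        exact WithBot.coe_ne_bot)
    | coe c =>
      rw [← WithBot.coe_natCast, ← WithBot.coe_add, ← WithBot.coe_add, WithBot.coe_le_coe] at h
      have hn : (n : ℕ∞) ≠ ⊤ := ENat.natCast_ne_top n
      exact WithBot.coe_le_coe.mpr ((ENat.add_le_add_iff_left hn).mp h)

section Top

variable {X : Type*} [TopologicalSpace X]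

/-- a constructible subset of `closure {t}` whose closure contains `t` contains `t`. -/
theorem mem_of_mem_closure_of_isConstructible {E : Set X} (hE : IsConstructible E) {t : X}
    (hsub : E ⊆ closure {t}) (ht : t ∈ closure E) : t ∈ E := by
  obtain ⟨U, hU, htU, h | h⟩ := exists_open_inter_closure_subset_or hE t
  · exact h ⟨subset_closure rfl, htU⟩
  · exfalso
    obtain ⟨e, heU, heE⟩ := mem_closure_iff.mp ht U hU htU
    exact h ⟨hsub heE, heU⟩ heE

end Top

section Main

variable {k : Type u} [Field k] {X S : Scheme.{u}} (q : S ⟶ Spec (CommRingCat.of k))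
  (f : X ⟶ S) [LocallyOfFiniteType q] [LocallyOfFiniteType f] [IsSeparated f]

/-- the off-diagonal part of `Y ×_S Z`. -/
def offDiag (Y Z : Set X) : Set ↥(pullback f f) :=
  {p | pullback.fst f f p ∈ Y ∧ pullback.snd f f p ∈ Z ∧ p ∉ Set.range (pullback.diagonal f)}

omit [LocallyOfFiniteType f] in
theorem isLocallyClosed_offDiag {Y Z : Set X} (hY : IsClosed Y) (hZ : IsClosed Z) :
    IsLocallyClosed (offDiag f Y Z) := by
  have h1 : IsClosed ((pullback.fst f f) ⁻¹' Y ∩ (pullback.snd f f) ⁻¹' Z) :=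
    (hY.preimage (pullback.fst f f).continuous).inter (hZ.preimage (pullback.snd f f).continuous)
  have h2 : IsOpen (Set.range (pullback.diagonal f))ᶜ :=
    (pullback.diagonal f).isClosedEmbedding.isClosed_range.isOpen_compl
  have : offDiag f Y Z = ((pullback.fst f f) ⁻¹' Y ∩ (pullback.snd f f) ⁻¹' Z) ∩
      (Set.range (pullback.diagonal f))ᶜ := by
    ext p
    simp only [offDiag, Set.mem_ofPred_eq, Set.mem_inter_iff, Set.mem_preimage, Set.mem_compl_iff]
    tauto
  rw [this]
  exact h1.isLocallyClosed.inter h2.isLocallyClosed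

/-- an off-diagonal point over `(y, z)` has transcendence degree at least that of `y`. -/
theorem td_le_dim_offDiag {Y Z : Set X} (hY : IsClosed Y) (hZ : IsClosed Z) {y z : X}
    (hy : y ∈ Y) (hz : z ∈ Z) (hyz : f y = f z) (hne : y ≠ z) :
    ((td (f ≫ q) y : ℕ) : WithBot ℕ∞) ≤ topologicalKrullDim ↥(offDiag f Y Z) := by
  obtain ⟨w, hw1, hw2⟩ := Scheme.Pullback.exists_preimage_pullback y z hyz
  have hw : w ∈ offDiag f Y Z := by
    refine ⟨by rw [hw1]; exact hy, by rw [hw2]; exact hz, ?_⟩
    rintro ⟨x, rfl⟩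
    apply hne
    rw [← hw1, ← hw2, ← Scheme.Hom.comp_apply, ← Scheme.Hom.comp_apply, pullback.diagonal_fst,
      pullback.diagonal_snd]
  have h1 := (dim_le_iff_of_isLocallyClosed (pullback.fst f f ≫ f ≫ q) _
    (isLocallyClosed_offDiag f hY hZ) _).mp le_rfl w hw
  refine le_trans ?_ h1
  have h2 := td_eq_add_tdR (pullback.fst f f ≫ f ≫ q) (f ≫ q) (pullback.fst f f) rfl w
  rw [hw1] at h2
  have : td (f ≫ q) y ≤ td (pullback.fst f f ≫ f ≫ q) w := by omega
  exact_mod_cast this

/-- the first projection of an off-diagonal point has transcendence degree at most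
`dim (offDiag)`. -/
theorem td_fst_le_dim_offDiag {Y Z : Set X} (hY : IsClosed Y) (hZ : IsClosed Z)
    {w : ↥(pullback f f)} (hw : w ∈ offDiag f Y Z) :
    ((td (f ≫ q) (pullback.fst f f w) : ℕ) : WithBot ℕ∞) ≤
      topologicalKrullDim ↥(offDiag f Y Z) := by
  have h1 := (dim_le_iff_of_isLocallyClosed (pullback.fst f f ≫ f ≫ q) _
    (isLocallyClosed_offDiag f hY hZ) _).mp le_rfl w hw
  refine le_trans ?_ h1
  have h2 := td_eq_add_tdR (pullback.fst f f ≫ f ≫ q) (f ≫ q) (pullback.fst f f) rfl w
  have : td (f ≫ q) (pullback.fst f f w) ≤ td (pullback.fst f f ≫ f ≫ q) w := by omega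
  exact_mod_cast this

omit [LocallyOfFiniteType f] [IsSeparated f] in
/-- a point of `X ×_S X` over `(y, z)` with `y ≠ z` is off-diagonal. -/
theorem exists_mem_offDiag {Y Z : Set X} {y z : X}
    (hy : y ∈ Y) (hz : z ∈ Z) (hyz : f y = f z) (hne : y ≠ z) :
    ∃ w ∈ offDiag f Y Z, pullback.fst f f w = y ∧ pullback.snd f f w = z := by
  obtain ⟨w, hw1, hw2⟩ := Scheme.Pullback.exists_preimage_pullback y z hyz
  refine ⟨w, ⟨by rw [hw1]; exact hy, by rw [hw2]; exact hz, ?_⟩, hw1, hw2⟩
  rintro ⟨x, rfl⟩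
  apply hne
  rw [← hw1, ← hw2, ← Scheme.Hom.comp_apply, ← Scheme.Hom.comp_apply, pullback.diagonal_fst,
    pullback.diagonal_snd]

end Main

end Groth.Agent.Lib.Helper21.WellIntersect
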