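import Groth.Agent.S2082
import Groth.Agent.Lib.Helper33.FibreBC6
import Groth.Agent.S1386
import Groth.Agent.S9766
import Groth.Agent.S9767
import Groth.Agent.Lib.Helper82.AffSpaceDim
import Groth.Agent.Lib.Helper73.FibreDimGen2
import Groth.Agent.Lib.Helper35.FiberStalk
import Groth.Agent.Lib.Helper33.CMLocusFT
import Groth.Agent.Lib.Helper87.RegHilb
import Groth.Agent.Lib.Helper21.FieldDimStalk
import Groth.Agent.Lib.Helper21.FlatFibreDimField
import Groth.Agent.Lib.Helper21.FibreTd
import Groth.Agent.Lib.Helper21.AffineSpaceFlat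
import Groth.Agent.Lib.Helper21.WellIntersect
import Mathlib

/-!
# Cohen–Macaulay morphisms and quasi-finite morphisms to affine space (helper21)

* stalks of locally Artinian schemes are Cohen–Macaulay; a locally quasi-finite morphism flat at a
  point is Cohen–Macaulay there;
* the structure morphism of affine space is Cohen–Macaulay at every point;
* miracle flatness for a quasi-finite morphism of schemes locally of finite type over a field.
-/

set_option linter.style.haveILetI false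
universe u

open CategoryTheory CategoryTheory.Limits AlgebraicGeometry IsLocalRing

namespace Groth.Agent.Lib.Helper21.CMQuasiFinite

open Groth.Agent.Lib.Helper21.FieldDim

theorem isCM_stalk_of_isLocallyArtinian (Z : Scheme.{u}) [IsLocallyArtinian Z] (z : Z) :
    LocCoh.IsCohenMacaulayLocalRing (Z.presheaf.stalk z) := by
  apply Groth.Agent.Lib.Helper33.CMLocusFT.cm_of_ringKrullDim_eq_zero
  rw [AlgebraicGeometry.ringKrullDim_stalk_eq_coheight]
  have : Order.coheight z = 0 := by
    rw [Order.coheight_eq_zero]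
    intro y hy
    have h1 : y ⤳ z := hy
    rw [h1.eq]
  rw [this]
  rfl

theorem ringKrullDim_stalk_of_isLocallyArtinian (Z : Scheme.{u}) [IsLocallyArtinian Z] (z : Z) :
    ringKrullDim (Z.presheaf.stalk z) = 0 := by
  rw [AlgebraicGeometry.ringKrullDim_stalk_eq_coheight]
  have : Order.coheight z = 0 := by
    rw [Order.coheight_eq_zero]
    intro y hy
    have h1 : y ⤳ z := hy
    rw [h1.eq]
  rw [this]
  rfl

/-- a locally quasi-finite morphism which is flat at a point is Cohen–Macaulay there. -/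
theorem isCMAt_of_locallyQuasiFinite {U A : Scheme.{u}} (g : U ⟶ A) [LocallyQuasiFinite g] (x : U)
    (hfl : (g.stalkMap x).hom.Flat) : MoreMor.IsCMAt g x :=
  ⟨hfl, isCM_stalk_of_isLocallyArtinian _ _⟩

theorem isRegularLocalRing_stalk_Spec (R : CommRingCat.{u}) [IsRegularRing R] (p : Spec R) :
    IsRegularLocalRing ((Spec R).presheaf.stalk p) := by
  haveI : p.asIdeal.IsPrime := p.isPrime
  letI : Algebra R ((Spec R).presheaf.stalk p) := StructureSheaf.stalkAlgebra R p
  haveI : IsLocalization.AtPrime ((Spec R).presheaf.stalk p) p.asIdeal :=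
    StructureSheaf.IsLocalization.to_stalk R p
  exact IsRegularLocalRing.of_ringEquiv (IsLocalization.algEquiv p.asIdeal.primeCompl
    (Localization.AtPrime p.asIdeal) ((Spec R).presheaf.stalk p)).toRingEquiv

theorem isRegularLocalRing_stalk_fiber_affineSpace (Y : Scheme.{u}) (n : ℕ) (y : Y)
    (w : ((𝔸(ULift.{u} (Fin n); Y) ↘ Y).fiber y : Scheme.{u})) :
    IsRegularLocalRing (((𝔸(ULift.{u} (Fin n); Y) ↘ Y).fiber y).presheaf.stalk w) := by
  let π := 𝔸(ULift.{u} (Fin n); Y) ↘ Y
  let j := Y.fromSpecResidueField y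
  let κ := Y.residueField y
  let β : 𝔸(ULift.{u} (Fin n); Spec κ) ≅ π.fiber y :=
    (AffineSpace.isPullback_map (n := ULift.{u} (Fin n)) j).isoPullback
  let γ : π.fiber y ≅ Spec (.of (MvPolynomial (ULift.{u} (Fin n)) κ)) :=
    β.symm ≪≫ AffineSpace.SpecIso (ULift.{u} (Fin n)) κ
  haveI : IsRegularRing (MvPolynomial (ULift.{u} (Fin n)) κ) := inferInstance
  haveI := isRegularLocalRing_stalk_Spec (.of (MvPolynomial (ULift.{u} (Fin n)) κ)) (γ.hom w)
  exact IsRegularLocalRing.of_ringEquiv (asIso (γ.hom.stalkMap w)).commRingCatIsoToRingEquiv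

/-- the structure morphism of affine space is Cohen–Macaulay at every point. -/
theorem isCMAt_affineSpace (Y : Scheme.{u}) (n : ℕ) (z : 𝔸(ULift.{u} (Fin n); Y)) :
    MoreMor.IsCMAt (𝔸(ULift.{u} (Fin n); Y) ↘ Y) z := by
  haveI := Groth.Agent.Lib.Helper21.AffineSpaceFlat.flat_over (ULift.{u} (Fin n)) Y
  refine ⟨Flat.stalkMap _ z, ?_⟩
  haveI := isRegularLocalRing_stalk_fiber_affineSpace Y n
    ((𝔸(ULift.{u} (Fin n); Y) ↘ Y) z) ((𝔸(ULift.{u} (Fin n); Y) ↘ Y).asFiber z)
  exact Groth.Agent.Lib.Helper87.RegHilb.isCM_of_regular _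

/-- the closed fibre of the stalk map of a locally quasi-finite morphism has dimension zero. -/
theorem ringKrullDim_fibre_quotient {F P : Scheme.{u}} (φ : F ⟶ P) [LocallyQuasiFinite φ] (x : F) :
    ringKrullDim (F.presheaf.stalk x ⧸
      (maximalIdeal (P.presheaf.stalk (φ x))).map (φ.stalkMap x).hom) = 0 := by
  have key : ∀ (s : P) (w : (φ.fiber s : Scheme.{u})) (x₁ : F), (φ.fiberι s) w = x₁ →
      ringKrullDim (F.presheaf.stalk x₁ ⧸
        (maximalIdeal (P.presheaf.stalk (φ x₁))).map (φ.stalkMap x₁).hom) = 0 := by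
    intro s w x₁ h
    subst h
    have hsurj := Groth.Agent.Lib.Helper35.FiberStalk.stalkMap_fiberι_surjective φ s w
    have hker := Groth.Agent.Lib.Helper35.FiberStalk.ker_stalkMap_fiberι φ s w
    rw [← hker, ringKrullDim_eq_of_ringEquiv (RingHom.quotientKerEquivOfSurjective hsurj)]
    exact ringKrullDim_stalk_of_isLocallyArtinian _ w
  exact key (φ x) (φ.asFiber x) x (Scheme.Hom.fiberι_asFiber φ x)

/-- **Miracle flatness** for a locally quasi-finite morphism between schemes locally of finite type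
over a field, with regular target and Cohen–Macaulay source of the same local dimension. -/
theorem flat_stalkMap_of_isCM {κ : Type u} [Field κ] {F P : Scheme.{u}}
    (qF : F ⟶ Spec (CommRingCat.of κ)) (qP : P ⟶ Spec (CommRingCat.of κ))
    [LocallyOfFiniteType qF] [LocallyOfFiniteType qP] (φ : F ⟶ P) (hφ : φ ≫ qP = qF)
    [LocallyQuasiFinite φ] (x : F)
    (hR : IsRegularLocalRing (P.presheaf.stalk (φ x)))
    (hS : LocCoh.IsCohenMacaulayLocalRing (F.presheaf.stalk x))
    (hdim : FlatMor.localDim F x = FlatMor.localDim P (φ x)) :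
    (φ.stalkMap x).hom.Flat := by
  letI : Algebra (P.presheaf.stalk (φ x)) (F.presheaf.stalk x) := (φ.stalkMap x).hom.toAlgebra
  haveI : IsLocalHom (algebraMap (P.presheaf.stalk (φ x)) (F.presheaf.stalk x)) := by
    show IsLocalHom (φ.stalkMap x).hom
    infer_instance
  haveI hlft : LocallyOfFiniteType φ := locallyOfFiniteType_of_comp_eq qF qP φ hφ
  have h1 := localDim_eq_stalk_add_td qF x
  have h2 := localDim_eq_stalk_add_td qP (φ x)
  have h3 := td_eq_add_tdR qF qP φ hφ x
  have h4 : tdR φ x = 0 := by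
    apply tdR_eq_of_trdegAt_eq
    rw [trdegAt_eq_zero_of_locallyQuasiFinite φ x]
    rfl
  have hd : ringKrullDim (F.presheaf.stalk x) = ringKrullDim (P.presheaf.stalk (φ x)) := by
    rw [h1, h2, h3, h4, add_zero] at hdim
    apply le_antisymm
    · refine Groth.Agent.Lib.Helper21.WellIntersect.le_of_nat_add_le_nat_add
        (n := td qP (φ x)) ?_
      rw [add_comm, hdim, add_comm]
    · refine Groth.Agent.Lib.Helper21.WellIntersect.le_of_nat_add_le_nat_add
        (n := td qP (φ x)) ?_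
      rw [add_comm, ← hdim, add_comm]
  have hq : ringKrullDim (F.presheaf.stalk x ⧸ (maximalIdeal (P.presheaf.stalk (φ x))).map
      (algebraMap (P.presheaf.stalk (φ x)) (F.presheaf.stalk x))) = 0 :=
    ringKrullDim_fibre_quotient φ x
  exact Groth.Agent.S2082.result (R := P.presheaf.stalk (φ x)) (S := F.presheaf.stalk x)
    (by rw [hd, hq, add_zero])

section Main

variable {U Y : Scheme.{u}} (n : ℕ) (g : U ⟶ 𝔸(ULift.{u} (Fin n); Y))

/-- a locally quasi-finite morphism to affine space which is flat at `x` makes the composite to the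
base Cohen–Macaulay at `x`. -/
theorem isCMAt_comp_of_flat [LocallyQuasiFinite g]
    [LocallyOfFiniteType (g ≫ (𝔸(ULift.{u} (Fin n); Y) ↘ Y))] (x : U)
    (hfl : (g.stalkMap x).hom.Flat) :
    MoreMor.IsCMAt (g ≫ (𝔸(ULift.{u} (Fin n); Y) ↘ Y)) x :=
  Groth.Agent.S9766.result g (𝔸(ULift.{u} (Fin n); Y) ↘ Y) x
    (Groth.Agent.Lib.Helper33.FibreBC.isLocallyNoetherian_fiber _ _)
    (isCMAt_of_locallyQuasiFinite g x hfl) (isCMAt_affineSpace Y n (g x))

/-- **Miracle flatness**: a locally quasi-finite `Y`-morphism `g : U ⟶ 𝔸ⁿ_Y` is flat at a point `x`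
where `U ⟶ Y` is Cohen–Macaulay with local fibre dimension `n`. -/
theorem flat_stalkMap_of_isCMAt [LocallyQuasiFinite g]
    [LocallyOfFinitePresentation (g ≫ (𝔸(ULift.{u} (Fin n); Y) ↘ Y))] (x : U)
    (hcm : MoreMor.IsCMAt (g ≫ (𝔸(ULift.{u} (Fin n); Y) ↘ Y)) x)
    (hn : FlatMor.fibreDimAt (g ≫ (𝔸(ULift.{u} (Fin n); Y) ↘ Y)) x = n) :
    (g.stalkMap x).hom.Flat := by
  have h1386 := (Groth.Agent.S1386.result g (𝔸(ULift.{u} (Fin n); Y) ↘ Y)).1 x
  refine (h1386.mp ⟨hcm.1, ?_⟩).2
  generalize hπ : (𝔸(ULift.{u} (Fin n); Y) ↘ Y) = π at *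
  haveI : LocallyOfFiniteType π := by rw [← hπ]; infer_instance
  let y : Y := π (g x)
  let φ := MoreMor.fiberMap g π y
  have hfm : φ ≫ π.fiberι y = (g ≫ π).fiberι y ≫ g := pullback.lift_fst _ _ _
  have hφ : φ ≫ fibStr π y = fibStr (g ≫ π) y := pullback.lift_snd _ _ _
  haveI : LocallyQuasiFinite (φ ≫ π.fiberι y) := by rw [hfm]; infer_instance
  haveI : LocallyQuasiFinite φ := LocallyQuasiFinite.of_comp φ (π.fiberι y)
  have hz : (π.fiberι y) (φ ((g ≫ π).asFiber x)) = g x := by
    have := congrArg (fun k : (g ≫ π).fiber y ⟶ _ => k ((g ≫ π).asFiber x)) hfm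
    refine this.trans ?_
    show g (((g ≫ π).fiberι ((g ≫ π) x)) ((g ≫ π).asFiber x)) = g x
    rw [Scheme.Hom.fiberι_asFiber]
  refine flat_stalkMap_of_isCM (fibStr (g ≫ π) y) (fibStr π y) φ hφ ((g ≫ π).asFiber x) ?_
    hcm.2 ?_
  · subst hπ
    exact isRegularLocalRing_stalk_fiber_affineSpace Y n _ _
  · have e1 : FlatMor.localDim ((g ≫ π).fiber y) ((g ≫ π).asFiber x) = n := hn
    have e2 := Groth.Agent.Lib.Helper73.SchemeDim.localDim_fiber_eq_fibreDimAt π (g x) y rfl
      (φ ((g ≫ π).asFiber x)) hz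
    rw [e1, e2]
    subst hπ
    rw [Groth.Agent.Lib.Helper82.AffSpaceDim.fibreDimAt_affineSpace (ULift.{u} (Fin n)) Y]
    simp

end Main

end Groth.Agent.Lib.Helper21.CMQuasiFinite
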