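import Mathlib
import Groth.Agent.Lib.Helper21.CMChart
import Groth.Agent.Lib.Helper21.CMQuasiFinite
import Groth.Agent.Lib.Helper73.FibreDimRetro

/-!
# Cohen–Macaulay morphisms and flat quasi-finite charts to affine space (helper21)

EGA IV 15.4.3 / Stacks 00R7-type statement: `f` locally of finite presentation is Cohen–Macaulay at
`x` (flat at `x`, fibre Cohen–Macaulay at `x`) iff some open neighbourhood of `x` admits a flat
locally quasi-finite `Y`-morphism to `𝔸ⁿ_Y`, `n = dim_x (X_{f x})`.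
-/

set_option linter.style.haveILetI false
set_option autoImplicit false
universe u

open CategoryTheory CategoryTheory.Limits AlgebraicGeometry TopologicalSpace

namespace Groth.Agent.Lib.Helper21.CMChartMain

open Groth.Agent.Lib.Helper21 Groth.Agent.Lib.Helper21.FieldDim
  Groth.Agent.Lib.Helper21.CMChart Groth.Agent.Lib.Helper21.CMQuasiFinite

theorem isCMAt_of_chart {X Y : Scheme.{u}} (f : X ⟶ Y) [LocallyOfFiniteType f] (x : X) (n : ℕ)
    (U : X.Opens) (hx : x ∈ U) (g : (U : Scheme.{u}) ⟶ 𝔸(ULift.{u} (Fin n); Y))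
    (hg : g ≫ (𝔸(ULift.{u} (Fin n); Y) ↘ Y) = U.ι ≫ f) [LocallyQuasiFinite g]
    (hfl : (g.stalkMap ⟨x, hx⟩).hom.Flat) : MoreMor.IsCMAt f x := by
  haveI : LocallyOfFiniteType (g ≫ (𝔸(ULift.{u} (Fin n); Y) ↘ Y)) := by rw [hg]; infer_instance
  have h1 := isCMAt_comp_of_flat n g ⟨x, hx⟩ hfl
  rw [hg] at h1
  exact (Groth.Agent.S9767.result U.ι f ⟨x, hx⟩
    (Groth.Agent.Lib.Helper33.FibreBC.isLocallyNoetherian_fiber _ _)
    (Groth.Agent.Lib.Helper33.FibreBC.isLocallyNoetherian_fiber _ _) h1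
    (Flat.stalkMap U.ι _)).2

theorem exists_chart_of_isCMAt {X Y : Scheme.{u}} (f : X ⟶ Y) [LocallyOfFinitePresentation f]
    (x : X) (hcm : MoreMor.IsCMAt f x) (n : ℕ) (hn : FlatMor.fibreDimAt f x = n) :
    ∃ (U : X.Opens) (_ : x ∈ U) (g : (U : Scheme.{u}) ⟶ 𝔸(ULift.{u} (Fin n); Y)),
      g ≫ (𝔸(ULift.{u} (Fin n); Y) ↘ Y) = U.ι ≫ f ∧ LocallyQuasiFinite g ∧ Flat g := by
  obtain ⟨U', j, hj, x', g, hjx, hg, hqf⟩ := exists_lqf_chart f x n hn
  have hcm' : MoreMor.IsCMAt (j ≫ f) x' :=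
    Groth.Agent.S9766.result j f x'
      (Groth.Agent.Lib.Helper33.FibreBC.isLocallyNoetherian_fiber _ _)
      (isCMAt_of_locallyQuasiFinite j x' (Flat.stalkMap j x')) (by rw [hjx]; exact hcm)
  have hn' : FlatMor.fibreDimAt (j ≫ f) x' = n := by
    rw [Groth.Agent.Lib.Helper73.FibreDimRetro.fibreDimAt_comp_openImmersion, hjx, hn]
  have hlfp : LocallyOfFinitePresentation (g ≫ (𝔸(ULift.{u} (Fin n); Y) ↘ Y)) := by
    rw [hg]; infer_instance
  have hcm'' : MoreMor.IsCMAt (g ≫ (𝔸(ULift.{u} (Fin n); Y) ↘ Y)) x' := by rw [hg]; exact hcm'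
  have hn'' : FlatMor.fibreDimAt (g ≫ (𝔸(ULift.{u} (Fin n); Y) ↘ Y)) x' = n := by
    rw [hg]; exact hn'
  have hfl := flat_stalkMap_of_isCMAt n g x' hcm'' hn''
  have hopen := (Groth.Agent.S1386.result g (𝔸(ULift.{u} (Fin n); Y) ↘ Y)).2
  let Ω : U'.Opens := ⟨_, hopen⟩
  haveI := Groth.Agent.Lib.Helper21.AffineSpaceFlat.flat_over (ULift.{u} (Fin n)) Y
  have hx'Ω : x' ∈ Ω := ⟨Flat.stalkMap _ _, hfl⟩
  haveI : Flat (Ω.ι ≫ g) := by
    rw [Flat.iff_flat_stalkMap]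
    intro q
    rw [Scheme.Hom.stalkMap_comp]
    exact RingHom.Flat.comp q.2.2 (Flat.stalkMap Ω.ι q)
  let j₂ : (Ω : Scheme.{u}) ⟶ X := Ω.ι ≫ j
  let e := j₂.isoOpensRange
  refine ⟨j₂.opensRange, ⟨⟨x', hx'Ω⟩, hjx⟩, e.inv ≫ Ω.ι ≫ g, ?_, inferInstance, inferInstance⟩
  rw [Category.assoc, Category.assoc, hg, ← Scheme.Hom.isoOpensRange_inv_comp j₂]
  simp only [j₂, e, Category.assoc]

end Groth.Agent.Lib.Helper21.CMChartMain
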