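import Mathlib
import Groth.Agent.Lib.Helper21.CMChartMain
import Groth.Agent.Lib.Helper73.Equidim2
import Groth.Agent.Lib.Helper82.EquidimBC
import Groth.Agent.Lib.Helper82.AffSpaceDim

/-!
# Cohen–Macaulay morphisms are equidimensional; fibre dimension is locally constant (helper21)
-/

set_option linter.style.haveILetI false
set_option autoImplicit false
universe u

open CategoryTheory CategoryTheory.Limits AlgebraicGeometry TopologicalSpace

namespace Groth.Agent.Lib.Helper21.CMEquidim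

open Groth.Agent.Lib.Helper21 Groth.Agent.Lib.Helper21.FieldDim
  Groth.Agent.Lib.Helper21.CMChartMain Groth.Agent.Lib.Helper21.Chevalley

/-- in a locally Noetherian scheme every point has an open neighbourhood all of whose maximal
points specialize to it. -/
theorem exists_open_forall_maximal_specializes {X : Scheme.{u}} [IsLocallyNoetherian X] (x : X) :
    ∃ O : X.Opens, x ∈ O ∧ ∀ ξ ∈ O, (∀ t : X, t ⤳ ξ → ξ ⤳ t) → ξ ⤳ x := by
  classical
  obtain ⟨_, ⟨W, hW, rfl⟩, hxW, -⟩ :=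
    X.isBasis_affineOpens.exists_subset_of_mem_open (Set.mem_univ x) isOpen_univ
  have hW' : IsAffineOpen W := hW
  have hNW : IsNoetherianRing Γ(X, W) := IsLocallyNoetherian.component_noetherian ⟨W, hW⟩
  have hNS : TopologicalSpace.NoetherianSpace ↥(Spec Γ(X, W)) := inferInstance
  have hNSW : TopologicalSpace.NoetherianSpace ↥W :=
    (TopologicalSpace.noetherianSpace_iff_of_homeomorph hW'.isoSpec.hom.homeomorph).2 hNS
  have hemb : Topology.IsOpenEmbedding (Subtype.val : ↥W → X) := W.isOpen.isOpenEmbedding_subtypeVal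
  haveI : QuasiSober ↥W := hemb.quasiSober
  let xW : ↥W := ⟨x, hxW⟩
  have hfin : (irreducibleComponents ↥W).Finite :=
    TopologicalSpace.NoetherianSpace.finite_irreducibleComponents
  let B : Set ↥W := ⋃ T ∈ {T ∈ irreducibleComponents ↥W | xW ∉ T}, T
  have hBcl : IsClosed B := by
    apply Set.Finite.isClosed_biUnion (hfin.subset (fun T hT => hT.1))
    intro T hT
    exact isClosed_of_mem_irreducibleComponents T hT.1
  have hO : IsOpen ((Subtype.val : ↥W → X) '' Bᶜ) := hemb.isOpenMap _ hBcl.isOpen_compl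
  have hxO : x ∈ (Subtype.val : ↥W → X) '' Bᶜ := by
    refine ⟨xW, ?_, rfl⟩
    intro hmem
    simp only [B, Set.mem_iUnion] at hmem
    obtain ⟨T, hT, hxT⟩ := hmem
    exact hT.2 hxT
  refine ⟨⟨_, hO⟩, hxO, ?_⟩
  rintro _ ⟨w, hw, rfl⟩ hmax
  obtain ⟨T, hT, hwT⟩ := exists_mem_irreducibleComponents_subset_of_isIrreducible
    ({w} : Set ↥W) isIrreducible_singleton
  have hxT : xW ∈ T := by
    by_contra hnot
    apply hw
    simp only [B, Set.mem_iUnion]
    exact ⟨T, ⟨hT, hnot⟩, hwT rfl⟩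
  have hTcl := isClosed_of_mem_irreducibleComponents T hT
  have hg : IsGenericPoint hT.1.genericPoint T := hT.1.isGenericPoint_genericPoint hTcl
  set g : ↥W := hT.1.genericPoint with hgdef
  have hgx : (g : X) ⤳ x := (subtype_specializes_iff g xW).mp (hg.specializes hxT)
  have hgw : (g : X) ⤳ (w : X) := (subtype_specializes_iff g w).mp (hg.specializes (hwT rfl))
  exact (hmax _ hgw).trans hgx

/-- a morphism Cohen–Macaulay at `x` has, near `x`, constant residue transcendence degree at the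
points maximal in their fibres, and maps maximal points to maximal points. -/
theorem exists_open_of_isCMAt {X Y : Scheme.{u}} (f : X ⟶ Y) [LocallyOfFinitePresentation f] (x : X)
    (hcm : MoreMor.IsCMAt f x) (n : ℕ) (hn : FlatMor.fibreDimAt f x = n) :
    ∃ U : X.Opens, x ∈ U ∧
      (∀ ξ ∈ U, (∀ t : X, t ⤳ ξ → ξ ⤳ t) → ∀ t : Y, t ⤳ f ξ → f ξ ⤳ t) ∧
      (∀ z ∈ U, (∀ z' : X, z' ⤳ z → f z' = f z → z' = z) → trdegAt f z = n) := by
  obtain ⟨U, hxU, g, hg, hqf, hfl⟩ := exists_chart_of_isCMAt f x hcm n hn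
  haveI := Groth.Agent.Lib.Helper21.AffineSpaceFlat.flat_over (ULift.{u} (Fin n)) Y
  haveI : LocallyOfFiniteType (g ≫ (𝔸(ULift.{u} (Fin n); Y) ↘ Y)) := by rw [hg]; infer_instance
  haveI : LocallyOfFiniteType g := locallyOfFiniteType_of_comp g (𝔸(ULift.{u} (Fin n); Y) ↘ Y)
  have hpt : ∀ z : ↥(U : Scheme.{u}), (𝔸(ULift.{u} (Fin n); Y) ↘ Y) (g z) = f (U.ι z) := fun z =>
    congrArg (fun k : (U : Scheme.{u}) ⟶ Y => k z) hg
  have hgenf : GeneralizingMap (U.ι ≫ f) := by
    rw [← hg]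
    exact Flat.generalizingMap _
  refine ⟨U, hxU, ?_, ?_⟩
  · intro ξ hξ hξmax
    let ξ₀ : ↥(U : Scheme.{u}) := ⟨ξ, hξ⟩
    have hξ₀max : ∀ t : ↥(U : Scheme.{u}), t ⤳ ξ₀ → ξ₀ ⤳ t := by
      intro t ht
      have h1 : U.ι t ⤳ ξ := ht.map U.ι.continuous
      exact U.ι.isOpenEmbedding.isInducing.specializes_iff.mp (hξmax _ h1)
    exact maximal_map_of_generalizingMap hgenf (U.ι ≫ f).continuous hξ₀max
  · intro z hz hzmax
    let z₀ : ↥(U : Scheme.{u}) := ⟨z, hz⟩
    have hgmax : ∀ τ : 𝔸(ULift.{u} (Fin n); Y), τ ⤳ g z₀ →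
        (𝔸(ULift.{u} (Fin n); Y) ↘ Y) τ = (𝔸(ULift.{u} (Fin n); Y) ↘ Y) (g z₀) → τ = g z₀ := by
      intro τ hτ hπτ
      obtain ⟨z', hz'sp, hz'g⟩ := (Flat.generalizingMap g) hτ
      have h1 : U.ι z' = z := by
        refine hzmax _ (hz'sp.map U.ι.continuous) ?_
        rw [← hpt, hz'g, hπτ, hpt]
        rfl
      have h2 : z' = z₀ := Subtype.ext h1
      rw [← hz'g, h2]
    have h1 : trdegAt (𝔸(ULift.{u} (Fin n); Y) ↘ Y) (g z₀) = n := by
      have e1 := trdegAt_eq_tdR (𝔸(ULift.{u} (Fin n); Y) ↘ Y) (g z₀)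
      have e2 := Groth.Agent.Lib.Helper73.SchemeDim.fibreDimAt_eq_trdeg_of_maximal_in_fibre
        (𝔸(ULift.{u} (Fin n); Y) ↘ Y) (g z₀) hgmax _ e1
      rw [Groth.Agent.Lib.Helper82.AffSpaceDim.fibreDimAt_affineSpace (ULift.{u} (Fin n)) Y] at e2
      have e3 : tdR (𝔸(ULift.{u} (Fin n); Y) ↘ Y) (g z₀) = n := by
        have : ((Nat.card (ULift.{u} (Fin n)) : ℕ) : WithBot ℕ∞) =
            ((tdR (𝔸(ULift.{u} (Fin n); Y) ↘ Y) (g z₀) : ℕ) : WithBot ℕ∞) := e2
        have h' : Nat.card (ULift.{u} (Fin n)) = tdR (𝔸(ULift.{u} (Fin n); Y) ↘ Y) (g z₀) := by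
          exact_mod_cast this
        rw [← h']
        simp
      rw [e1, e3]
    have h2 : trdegAt f z = trdegAt (U.ι ≫ f) z₀ :=
      (trdegAt_of_isOpenImmersion_left U.ι f z₀).symm
    rw [h2, ← trdegAt_congr hg z₀, trdegAt_comp, h1, trdegAt_eq_zero_of_locallyQuasiFinite g z₀,
      add_zero]

/-- **EGA IV 15.4.2-type statement**: over a locally Noetherian base, a morphism locally of finite
type which is flat at `x` with Cohen–Macaulay fibre at `x` is equidimensional at `x`. -/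
theorem isEquidimAt_of_isCMAt {X Y : Scheme.{u}} [IsLocallyNoetherian Y] (f : X ⟶ Y)
    [LocallyOfFiniteType f] (x : X) (hcm : MoreMor.IsCMAt f x) : EGA43.IsEquidimAt f x := by
  haveI : LocallyOfFinitePresentation f := inferInstance
  haveI : IsLocallyNoetherian X := LocallyOfFiniteType.isLocallyNoetherian f
  obtain ⟨ζ, n, -, -, -, hn⟩ :=
    Groth.Agent.Lib.Helper73.SchemeDim.exists_specializes_trdeg_eq_fibreDimAt f x
  obtain ⟨U, hxU, hA, hB⟩ := exists_open_of_isCMAt f x hcm n hn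
  obtain ⟨O, hxO, hO⟩ := exists_open_forall_maximal_specializes x
  rw [Groth.Agent.Lib.Helper82.EquidimBC.isEquidimAt_iff']
  refine ⟨n, U ⊓ O, ⟨hxU, hxO⟩, ?_, ?_⟩
  · intro ξ hξ hξmax
    have hξmax' : ∀ t : X, t ⤳ ξ → ξ ⤳ t := fun t ht => by rw [hξmax t ht]
    refine ⟨fun η' hη' => ?_, (hO ξ hξ.2 hξmax').map f.continuous⟩
    exact (hη'.antisymm (hA ξ hξ.1 hξmax' η' hη')).eq
  · intro z hz hzmax
    exact hB z hz.1 hzmax

/-- the local fibre dimension of a Cohen–Macaulay morphism is locally constant. -/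
theorem exists_open_fibreDimAt_eq {X Y : Scheme.{u}} (f : X ⟶ Y) [LocallyOfFinitePresentation f]
    (x : X) (hcm : MoreMor.IsCMAt f x) :
    ∃ U : X.Opens, x ∈ U ∧ ∀ z ∈ U, FlatMor.fibreDimAt f z = FlatMor.fibreDimAt f x := by
  obtain ⟨ζ, n, -, -, -, hn⟩ :=
    Groth.Agent.Lib.Helper73.SchemeDim.exists_specializes_trdeg_eq_fibreDimAt f x
  obtain ⟨U, hxU, -, hB⟩ := exists_open_of_isCMAt f x hcm n hn
  refine ⟨U, hxU, fun z hz => ?_⟩
  obtain ⟨ζ', m, hζ'sp, hζ'f, hζ'max, hm, hFm⟩ :=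
    Groth.Agent.Lib.Helper73.SchemeDim.exists_maximal_in_fibre_trdeg_eq_fibreDimAt f z
  have hζ'U : ζ' ∈ U := hζ'sp.mem_open U.isOpen hz
  have h1 : trdegAt f ζ' = n := hB ζ' hζ'U hζ'max
  have h2 : trdegAt f ζ' = m := hm
  have hmn : m = n := by
    have : ((m : ℕ) : Cardinal.{u}) = n := by rw [← h1, ← h2]
    exact_mod_cast this
  rw [hFm, hn, hmn]

/-- transport of the Cohen–Macaulay property of a stalk of a fibre to the form used in
`MoreMor.IsCMAt`. -/
theorem isCM_fibre_stalk_transport {X S : Scheme.{u}} (f : X ⟶ S) (s : S)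
    (z : (f.fiber s : Scheme.{u}))
    (h : LocCoh.IsCohenMacaulayLocalRing ((f.fiber s).presheaf.stalk z)) :
    LocCoh.IsCohenMacaulayLocalRing ((f.fiber (f ((f.fiberι s) z))).presheaf.stalk
      (f.asFiber ((f.fiberι s) z))) := by
  have key : ∀ (x : X) (s : S) (_ : f x = s) (z : (f.fiber s : Scheme.{u}))
      (_ : (f.fiberι s) z = x), LocCoh.IsCohenMacaulayLocalRing ((f.fiber s).presheaf.stalk z) →
      LocCoh.IsCohenMacaulayLocalRing ((f.fiber (f x)).presheaf.stalk (f.asFiber x)) := by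
    intro x s hs z hz h
    subst hs
    have : f.asFiber x = z := by
      apply (f.fiberι _).isEmbedding.injective
      rw [Scheme.Hom.fiberι_asFiber, hz]
    rw [this]
    exact h
  exact key _ s (Groth.Agent.Lib.Helper35.FiberStalk.fiberι_base_eq f s z) z rfl h

/-- for a flat morphism locally of finite type, the Cohen–Macaulay locus is dense in every fibre. -/
theorem dense_cmLocus_fibre {X S : Scheme.{u}} (f : X ⟶ S) [Flat f] [LocallyOfFiniteType f]
    (s : S) : Dense ((f.fiberι s) ⁻¹' {x : X | MoreMor.IsCMAt f x}) := by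
  haveI : IsLocallyNoetherian (f.fiber s) :=
    Groth.Agent.Lib.Helper33.FibreBC.isLocallyNoetherian_fiber f s
  rw [dense_iff_inter_open]
  rintro O hO ⟨z, hz⟩
  obtain ⟨ξ, hξmax, hξz⟩ := exists_maximal_specializes z
  refine ⟨ξ, hξz.mem_open hO hz, ?_⟩
  refine ⟨Flat.stalkMap f _, isCM_fibre_stalk_transport f s ξ ?_⟩
  apply Groth.Agent.Lib.Helper33.CMLocusFT.cm_of_ringKrullDim_eq_zero
  rw [AlgebraicGeometry.ringKrullDim_stalk_eq_coheight]
  have : Order.coheight ξ = 0 := by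
    rw [Order.coheight_eq_zero]
    intro y hy
    have h1 : y ⤳ ξ := hy
    exact hξmax y h1
  rw [this]
  rfl

end Groth.Agent.Lib.Helper21.CMEquidim
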