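import Mathlib

/-!
# The reduced induced closed subscheme on an irreducible closed subset is integral (helper21)
-/

set_option linter.style.haveILetI false
universe u

open CategoryTheory AlgebraicGeometry TopologicalSpace

namespace Groth.Agent.Lib.Helper21.RedSubscheme

variable {X : Scheme.{u}}

theorem isReduced_vanishingIdeal_subscheme (W : Closeds X) :
    IsReduced (Scheme.IdealSheafData.vanishingIdeal W).subscheme := by
  have : ∀ U, IsReduced ((Scheme.IdealSheafData.vanishingIdeal W).subschemeCover.openCover.X U) := by
    intro U'
    let U : X.affineOpens := U'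
    change IsReduced (Spec (.of <| Γ(X, U.1) ⧸ (Scheme.IdealSheafData.vanishingIdeal W).ideal U))
    have : _root_.IsReduced (Γ(X, U.1) ⧸ (Scheme.IdealSheafData.vanishingIdeal W).ideal U) := by
      rw [← Ideal.isRadical_iff_quotient_reduced, Scheme.IdealSheafData.vanishingIdeal_ideal]
      exact PrimeSpectrum.isRadical_vanishingIdeal _
    infer_instance
  exact IsReduced.of_openCover _ (Scheme.IdealSheafData.vanishingIdeal W).subschemeCover.openCover

theorem range_subschemeι_vanishingIdeal (W : Closeds X) :
    Set.range (Scheme.IdealSheafData.vanishingIdeal W).subschemeι = (W : Set X) := by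
  rw [Scheme.IdealSheafData.range_subschemeι, Scheme.IdealSheafData.coe_support_vanishingIdeal]

theorem isIntegral_vanishingIdeal_subscheme (W : Closeds X) (hW : IsIrreducible (W : Set X)) :
    IsIntegral (Scheme.IdealSheafData.vanishingIdeal W).subscheme := by
  let ι := (Scheme.IdealSheafData.vanishingIdeal W).subschemeι
  have hr : Set.range ι = (W : Set X) := range_subschemeι_vanishingIdeal W
  have : IsReduced (Scheme.IdealSheafData.vanishingIdeal W).subscheme :=
    isReduced_vanishingIdeal_subscheme W
  have : IrreducibleSpace (Scheme.IdealSheafData.vanishingIdeal W).subscheme := by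
    have h1 : IrreducibleSpace ↥(Set.range ι) := by
      rw [hr]
      exact Subtype.irreducibleSpace hW
    exact ι.isEmbedding.toHomeomorph.irreducibleSpace_iff.mpr h1
  exact isIntegral_of_irreducibleSpace_of_isReduced _

end Groth.Agent.Lib.Helper21.RedSubscheme
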