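import Groth.Agent.Lib.Helper21.FieldTower

/-!
# Affine charts of a base change `X_K` (helper21)

For `f : X ⟶ Spec k`, an affine chart `j : Spec A ⟶ X` (with `j ≫ f = Spec (k → A)`) and a field
extension `K/k` we construct the chart `Spec (A ⊗[k] K) ⟶ X_K`, show it is a base change of `j`
(so an open immersion with range the preimage of `range j`), and that it is compatible with the
tower maps `X_K ⟶ X_{k'}`.  Also: every element of `A ⊗[k] ks` comes from `A ⊗[k] k'` for a finite
subextension `k'` of an algebraic extension `ks/k`.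
-/

universe u

open CategoryTheory CategoryTheory.Limits AlgebraicGeometry
open scoped TensorProduct

namespace Groth.Agent.Lib.Helper21

section chart

variable {k : Type u} [Field k] {X : Scheme.{u}} (f : X ⟶ Spec (CommRingCat.of k))
  {A : Type u} [CommRing A] [Algebra k A] (j : Spec (CommRingCat.of A) ⟶ X)
  (hj : j ≫ f = Spec.map (CommRingCat.ofHom (algebraMap k A)))
  (K : Type u) [Field K] [Algebra k K]

/-- `Spec (A ⊗ K) ⟶ Spec A`. -/
noncomputable abbrev specInclLeft : Spec (CommRingCat.of (A ⊗[k] K)) ⟶ Spec (CommRingCat.of A) :=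
  Spec.map (CommRingCat.ofHom (Algebra.TensorProduct.includeLeftRingHom (R := k) (A := A) (B := K)))

/-- `Spec (A ⊗ K) ⟶ Spec K`. -/
noncomputable abbrev specInclRight : Spec (CommRingCat.of (A ⊗[k] K)) ⟶ Spec (CommRingCat.of K) :=
  Spec.map (CommRingCat.ofHom
    (Algebra.TensorProduct.includeRight (R := k) (A := A) (B := K)).toRingHom)

theorem isPullback_specIncl :
    IsPullback (specInclRight (k := k) (A := A) K) (specInclLeft (k := k) (A := A) K)
      (Spec.map (CommRingCat.ofHom (algebraMap k K)))
      (Spec.map (CommRingCat.ofHom (algebraMap k A))) :=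
  (isPullback_SpecMap_of_isPushout _ _ _ _ (CommRingCat.isPushout_tensorProduct k A K)).flip

include hj in
theorem chart_condition :
    (specInclLeft (k := k) (A := A) K ≫ j) ≫ f =
      specInclRight (k := k) (A := A) K ≫ Spec.map (CommRingCat.ofHom (algebraMap k K)) := by
  rw [Category.assoc, hj]
  exact (isPullback_specIncl (k := k) (A := A) K).w.symm

/-- The chart `Spec (A ⊗ K) ⟶ X_K` over an affine chart `Spec A ⟶ X`. -/
noncomputable def chart :
    Spec (CommRingCat.of (A ⊗[k] K)) ⟶ pullback f (Spec.map (CommRingCat.ofHom (algebraMap k K))) :=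
  pullback.lift (specInclLeft (k := k) (A := A) K ≫ j) (specInclRight (k := k) (A := A) K)
    (chart_condition f j hj K)

@[reassoc]
theorem chart_fst : chart f j hj K ≫ bcπ' f K = specInclLeft (k := k) (A := A) K ≫ j :=
  pullback.lift_fst _ _ _

@[reassoc]
theorem chart_snd : chart f j hj K ≫ pullback.snd f (Spec.map (CommRingCat.ofHom (algebraMap k K))) =
    specInclRight (k := k) (A := A) K :=
  pullback.lift_snd _ _ _

theorem isPullback_chart :
    IsPullback (chart f j hj K) (specInclLeft (k := k) (A := A) K) (bcπ' f K) j := by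
  refine IsPullback.of_right ?_ (chart_fst f j hj K)
    (IsPullback.of_hasPullback f (Spec.map (CommRingCat.ofHom (algebraMap k K)))).flip
  rw [chart_snd, hj]
  exact isPullback_specIncl K

theorem isOpenImmersion_chart [IsOpenImmersion j] : IsOpenImmersion (chart f j hj K) :=
  MorphismProperty.of_isPullback (P := @IsOpenImmersion) (isPullback_chart f j hj K).flip
    inferInstance

theorem range_chart : Set.range (chart f j hj K) = (bcπ' f K) ⁻¹' (Set.range j) := by
  have h := isPullback_chart f j hj K
  have e : chart f j hj K = h.isoPullback.hom ≫ pullback.fst (bcπ' f K) j := by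
    simp
  rw [e]
  have : Set.range (h.isoPullback.hom ≫ pullback.fst (bcπ' f K) j) =
      Set.range (pullback.fst (bcπ' f K) j) := by
    apply Set.Subset.antisymm
    · rintro _ ⟨x, rfl⟩
      exact ⟨h.isoPullback.hom x, by rw [← Scheme.Hom.comp_apply]⟩
    · rintro _ ⟨x, rfl⟩
      refine ⟨h.isoPullback.inv x, ?_⟩
      rw [← Scheme.Hom.comp_apply, Iso.inv_hom_id_assoc]
  rw [this, Scheme.Pullback.range_fst]

end chart

section tower

variable {k : Type u} [Field k] {X : Scheme.{u}} (f : X ⟶ Spec (CommRingCat.of k))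
  {A : Type u} [CommRing A] [Algebra k A] (j : Spec (CommRingCat.of A) ⟶ X)
  (hj : j ≫ f = Spec.map (CommRingCat.ofHom (algebraMap k A)))
  (k' K : Type u) [Field k'] [Field K] [Algebra k k'] [Algebra k' K] [Algebra k K]
  [IsScalarTower k k' K]

/-- `Spec (A ⊗ K) ⟶ Spec (A ⊗ k')`. -/
noncomputable abbrev specTensorTower :
    Spec (CommRingCat.of (A ⊗[k] K)) ⟶ Spec (CommRingCat.of (A ⊗[k] k')) :=
  Spec.map (CommRingCat.ofHom
    (Algebra.TensorProduct.map (AlgHom.id k A) (IsScalarTower.toAlgHom k k' K)).toRingHom)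

theorem specTensorTower_inclLeft :
    specTensorTower (k := k) (A := A) k' K ≫ specInclLeft (k := k) (A := A) k' =
      specInclLeft (k := k) (A := A) K := by
  rw [← Spec.map_comp]
  congr 1
  ext a
  simp

theorem specTensorTower_inclRight :
    specTensorTower (k := k) (A := A) k' K ≫ specInclRight (k := k) (A := A) k' =
      specInclRight (k := k) (A := A) K ≫ Spec.map (CommRingCat.ofHom (algebraMap k' K)) := by
  rw [← Spec.map_comp, ← Spec.map_comp]
  congr 1

theorem chart_tower
    (p : pullback f (Spec.map (CommRingCat.ofHom (algebraMap k K))) ⟶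
        pullback f (Spec.map (CommRingCat.ofHom (algebraMap k k'))))
    (hp1 : p ≫ bcπ' f k' = bcπ' f K)
    (hp2 : p ≫ pullback.snd f (Spec.map (CommRingCat.ofHom (algebraMap k k'))) =
      pullback.snd f (Spec.map (CommRingCat.ofHom (algebraMap k K))) ≫
        Spec.map (CommRingCat.ofHom (algebraMap k' K))) :
    chart f j hj K ≫ p = specTensorTower (k := k) (A := A) k' K ≫ chart f j hj k' := by
  apply pullback.hom_ext
  · rw [Category.assoc, hp1, chart_fst, Category.assoc, chart_fst, ← Category.assoc,
      specTensorTower_inclLeft]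
  · rw [Category.assoc, hp2, chart_snd_assoc, Category.assoc, chart_snd,
      specTensorTower_inclRight]

/-- A basic open of the chart `Spec (A ⊗ K)` defined by an element coming from `A ⊗ k'` is the
preimage of the corresponding basic open of the chart `Spec (A ⊗ k')`. -/
theorem image_chart_basicOpen_eq_preimage [IsOpenImmersion j]
    (p : pullback f (Spec.map (CommRingCat.ofHom (algebraMap k K))) ⟶
        pullback f (Spec.map (CommRingCat.ofHom (algebraMap k k'))))
    (hp1 : p ≫ bcπ' f k' = bcπ' f K)
    (hp2 : p ≫ pullback.snd f (Spec.map (CommRingCat.ofHom (algebraMap k k'))) =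
      pullback.snd f (Spec.map (CommRingCat.ofHom (algebraMap k K))) ≫
        Spec.map (CommRingCat.ofHom (algebraMap k' K)))
    (e' : A ⊗[k] k') :
    (chart f j hj K) '' (PrimeSpectrum.basicOpen
        (Algebra.TensorProduct.map (AlgHom.id k A) (IsScalarTower.toAlgHom k k' K) e') :
          Set (PrimeSpectrum (A ⊗[k] K))) =
      p ⁻¹' ((chart f j hj k') '' (PrimeSpectrum.basicOpen e' : Set (PrimeSpectrum (A ⊗[k] k')))) := by
  have htower := chart_tower f j hj k' K p hp1 hp2
  have hmem : ∀ s : Spec (CommRingCat.of (A ⊗[k] K)),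
      (specTensorTower (k := k) (A := A) k' K s ∈
        (PrimeSpectrum.basicOpen e' : Set (PrimeSpectrum (A ⊗[k] k')))) ↔
      s ∈ (PrimeSpectrum.basicOpen
        (Algebra.TensorProduct.map (AlgHom.id k A) (IsScalarTower.toAlgHom k k' K) e') :
          Set (PrimeSpectrum (A ⊗[k] K))) := fun s => Iff.rfl
  have hinj : Function.Injective (chart f j hj k') := by
    have := isOpenImmersion_chart f j hj k'
    exact (chart f j hj k').isOpenEmbedding.injective
  apply Set.Subset.antisymm
  · rintro _ ⟨s, hs, rfl⟩
    refine ⟨specTensorTower (k := k) (A := A) k' K s, (hmem s).2 hs, ?_⟩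
    rw [← Scheme.Hom.comp_apply, ← htower, Scheme.Hom.comp_apply]
  · rintro z ⟨t, ht, hz⟩
    have hzr : z ∈ Set.range (chart f j hj K) := by
      rw [range_chart]
      change bcπ' f K z ∈ Set.range j
      rw [← hp1, Scheme.Hom.comp_apply, ← hz, ← Scheme.Hom.comp_apply, chart_fst,
        Scheme.Hom.comp_apply]
      exact ⟨_, rfl⟩
    obtain ⟨s, rfl⟩ := hzr
    refine ⟨s, ?_, rfl⟩
    refine (hmem s).1 ?_
    have : chart f j hj k' (specTensorTower (k := k) (A := A) k' K s) = chart f j hj k' t := by
      rw [hz, ← Scheme.Hom.comp_apply, ← htower, Scheme.Hom.comp_apply]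
    rw [hinj this]
    exact ht

end tower

section finiteLevel

variable (k : Type u) [Field k] (A : Type u) [CommRing A] [Algebra k A]
  (ks : Type u) [Field ks] [Algebra k ks]

/-- The map `A ⊗ k' ⟶ A ⊗ ks` for an intermediate field `k'`. -/
noncomputable abbrev levelMap (k' : IntermediateField k ks) : A ⊗[k] k' →ₐ[k] A ⊗[k] ks :=
  Algebra.TensorProduct.map (AlgHom.id k A) (IsScalarTower.toAlgHom k k' ks)

theorem range_levelMap_mono {k' k'' : IntermediateField k ks} (h : k' ≤ k'') :
    Set.range (levelMap k A ks k') ⊆ Set.range (levelMap k A ks k'') := by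
  rintro _ ⟨t, rfl⟩
  refine ⟨Algebra.TensorProduct.map (AlgHom.id k A) (IntermediateField.inclusion h) t, ?_⟩
  induction t using TensorProduct.induction_on with
  | zero => simp
  | tmul a c => simp
  | add x y hx hy => simp only [map_add, hx, hy]

theorem exists_finite_level [Algebra.IsAlgebraic k ks] (t : A ⊗[k] ks) :
    ∃ k' : IntermediateField k ks, FiniteDimensional k k' ∧ t ∈ Set.range (levelMap k A ks k') := by
  induction t using TensorProduct.induction_on with
  | zero => exact ⟨⊥, inferInstance, 0, map_zero _⟩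
  | tmul a c =>
    have hc : IsIntegral k c := Algebra.IsIntegral.isIntegral c
    refine ⟨IntermediateField.adjoin k {c}, IntermediateField.adjoin.finiteDimensional hc,
      a ⊗ₜ ⟨c, IntermediateField.mem_adjoin_simple_self k c⟩, ?_⟩
    simp
  | add x y hx hy =>
    obtain ⟨k1, h1, hx⟩ := hx
    obtain ⟨k2, h2, hy⟩ := hy
    refine ⟨k1 ⊔ k2, IntermediateField.finiteDimensional_sup k1 k2, ?_⟩
    obtain ⟨x', rfl⟩ := range_levelMap_mono k A ks (le_sup_left : k1 ≤ k1 ⊔ k2) hx
    obtain ⟨y', rfl⟩ := range_levelMap_mono k A ks (le_sup_right : k2 ≤ k1 ⊔ k2) hy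
    exact ⟨x' + y', map_add _ _ _⟩

end finiteLevel

end Groth.Agent.Lib.Helper21
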