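import Mathlib

/-!
# Big algebraically closed fields and automorphisms exchanging two embeddings (helper21)

`exists_algClosed_aut`: for two ring homomorphisms `α β : k →+* K` of fields there are an
algebraically closed field `k'`, an embedding `ι : K →+* k'` and an automorphism `τ` of `k'` with
`τ ∘ ι ∘ α = ι ∘ β`.
-/

set_option linter.style.haveILetI false
set_option autoImplicit false
universe u
open Cardinal

namespace Groth.Agent.Lib.Helper21.AlgClosedAut

theorem exists_ringEquiv_algebraMap {R K L : Type u} [CommRing R] [Field K] [Field L]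
    [Algebra R K] [Algebra R L] [IsAlgClosed K] [IsAlgClosed L] {ι κ : Type u} (v : ι → K)
    (w : κ → L) (e : ι ≃ κ) (hv : IsTranscendenceBasis R v) (hw : IsTranscendenceBasis R w) :
    ∃ τ : K ≃+* L, ∀ x, τ (algebraMap R K x) = algebraMap R L x := by
  letI := IsAlgClosed.isAlgClosure_of_transcendence_basis v hv
  letI := IsAlgClosed.isAlgClosure_of_transcendence_basis w hw
  let e' : Algebra.adjoin R (Set.range v) ≃ₐ[R] Algebra.adjoin R (Set.range w) :=
    hv.1.aevalEquiv.symm.trans ((MvPolynomial.renameEquiv R e).trans hw.1.aevalEquiv)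
  refine ⟨IsAlgClosure.equivOfEquiv K L e'.toRingEquiv, fun x => ?_⟩
  have h1 : algebraMap R K x =
      algebraMap (Algebra.adjoin R (Set.range v)) K (algebraMap R _ x) := rfl
  rw [h1, IsAlgClosure.equivOfEquiv_algebraMap]
  have h2 : e'.toRingEquiv (algebraMap R _ x) = algebraMap R _ x := e'.commutes x
  rw [h2]
  rfl

theorem mk_transcendenceBasis_eq {k k' : Type u} [Field k] [Field k'] [Algebra k k']
    [IsAlgClosed k'] {ι : Type u} (v : ι → k') (hv : IsTranscendenceBasis k v)
    (h1 : #k < #k') (h2 : ℵ₀ < #k') : #ι = #k' := by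
  apply le_antisymm
  · exact Cardinal.mk_le_of_injective hv.1.injective
  · have h := IsAlgClosed.cardinal_le_max_transcendence_basis' v hv
    by_contra hlt
    push Not at hlt
    have : max (max #k #ι) ℵ₀ < #k' := max_lt (max_lt h1 hlt) h2
    exact absurd h (not_le.mpr this)

theorem exists_algClosed_aut {k K : Type u} [Field k] [Field K] (α β : k →+* K) :
    ∃ (k' : Type u) (_ : Field k') (_ : IsAlgClosed k') (ι : K →+* k') (τ : k' ≃+* k'),
      ∀ x, τ (ι (α x)) = ι (β x) := by
  classical
  let I := Set (K × ℕ)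
  let F := FractionRing (MvPolynomial I K)
  let k' := AlgebraicClosure F
  let ι : K →+* k' := (algebraMap F k').comp ((algebraMap (MvPolynomial I K) F).comp MvPolynomial.C)
  -- cardinalities
  have hI : #I ≤ #k' := by
    refine Cardinal.mk_le_of_injective (f := fun i : I =>
      algebraMap F k' (algebraMap (MvPolynomial I K) F (MvPolynomial.X i))) ?_
    intro i j hij
    have h1 := (algebraMap F k').injective hij
    have h2 := IsFractionRing.injective (MvPolynomial I K) F h1
    exact MvPolynomial.X_injective h2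
  have hKN : #(K × ℕ) < #I := by
    show #(K × ℕ) < #(Set (K × ℕ))
    rw [Cardinal.mk_set]
    exact Cardinal.cantor _
  have hN : ℵ₀ ≤ #(K × ℕ) := by
    rw [Cardinal.aleph0_le_mk_iff]
    exact Infinite.of_injective (fun n : ℕ => ((0 : K), n)) (fun a b hab => (Prod.mk.inj hab).2)
  have hK : #K ≤ #(K × ℕ) := by
    refine Cardinal.mk_le_of_injective (f := fun x : K => (x, 0)) ?_
    intro a b hab
    exact (Prod.mk.inj hab).1
  have hk : #k ≤ #K := Cardinal.mk_le_of_injective α.injective
  have h1 : #k < #k' := lt_of_le_of_lt (hk.trans hK) (lt_of_lt_of_le hKN hI)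
  have h2 : ℵ₀ < #k' := lt_of_le_of_lt hN (lt_of_lt_of_le hKN hI)
  -- the two algebra structures
  let algα : Algebra k k' := (ι.comp α).toAlgebra
  let algβ : Algebra k k' := (ι.comp β).toAlgebra
  have fα : @FaithfulSMul k k' algα.toSMul := by
    letI := algα
    exact (faithfulSMul_iff_algebraMap_injective k k').mpr (ι.comp α).injective
  have fβ : @FaithfulSMul k k' algβ.toSMul := by
    letI := algβ
    exact (faithfulSMul_iff_algebraMap_injective k k').mpr (ι.comp β).injective
  obtain ⟨ια, vα, hvα⟩ := @exists_isTranscendenceBasis' k k' _ _ algα fα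
  obtain ⟨ιβ, vβ, hvβ⟩ := @exists_isTranscendenceBasis' k k' _ _ algβ fβ
  have cα : #ια = #k' := @mk_transcendenceBasis_eq k k' _ _ algα _ ια vα hvα h1 h2
  have cβ : #ιβ = #k' := @mk_transcendenceBasis_eq k k' _ _ algβ _ ιβ vβ hvβ h1 h2
  obtain ⟨e⟩ := Cardinal.eq.1 (cα.trans cβ.symm)
  obtain ⟨τ, hτ⟩ := @exists_ringEquiv_algebraMap k k' k' _ _ _ algα algβ _ _ ια ιβ vα vβ e hvα hvβ
  exact ⟨k', inferInstance, inferInstance, ι, τ, fun x => hτ x⟩

end Groth.Agent.Lib.Helper21.AlgClosedAut
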