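import Mathlib

/-!
# Counting irreducible / connected components along a surjective continuous map (helper21)
-/

universe u

namespace Groth.Agent.Lib.Helper21

/-- A continuous surjection induces a surjection on connected components. -/
theorem mk_connectedComponents_le_of_surjective {α β : Type u} [TopologicalSpace α]
    [TopologicalSpace β] {p : α → β} (hp : Continuous p) (hs : Function.Surjective p) :
    Cardinal.mk (ConnectedComponents β) ≤ Cardinal.mk (ConnectedComponents α) := by
  refine Cardinal.mk_le_of_surjective (f := hp.connectedComponentsMap) ?_
  intro y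
  obtain ⟨y, rfl⟩ := ConnectedComponents.surjective_coe y
  obtain ⟨x, rfl⟩ := hs y
  exact ⟨ConnectedComponents.mk x, hp.connectedComponentsMap_mk x⟩

/-- A continuous surjection onto a quasi-sober space: every irreducible component of the target is
the closure of the image of an irreducible component of the source. -/
theorem exists_irreducibleComponent_closure_image {α β : Type*} [TopologicalSpace α]
    [TopologicalSpace β] [QuasiSober β] {p : α → β} (hp : Continuous p)
    (hs : Function.Surjective p) (Z : Set β) (hZ : Z ∈ irreducibleComponents β) :
    ∃ Z' ∈ irreducibleComponents α, closure (p '' Z') = Z := by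
  have hZc : IsClosed Z := isClosed_of_mem_irreducibleComponents Z hZ
  have hZi : IsIrreducible Z := hZ.1
  obtain ⟨w, hw⟩ := hs hZi.genericPoint
  refine ⟨irreducibleComponent w, irreducibleComponent_mem_irreducibleComponents w, ?_⟩
  have hirr : IsIrreducible (closure (p '' irreducibleComponent w)) :=
    (isIrreducible_irreducibleComponent.image p hp.continuousOn).closure
  have hsub : Z ⊆ closure (p '' irreducibleComponent w) := by
    rw [← hZi.closure_genericPoint hZc]
    refine closure_minimal ?_ isClosed_closure
    rw [Set.singleton_subset_iff, ← hw]
    exact subset_closure ⟨w, mem_irreducibleComponent, rfl⟩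
  exact (hZ.2 hirr hsub).antisymm hsub |>.symm ▸ rfl

theorem mk_irreducibleComponents_le_of_surjective {α β : Type u} [TopologicalSpace α]
    [TopologicalSpace β] [QuasiSober β] {p : α → β} (hp : Continuous p)
    (hs : Function.Surjective p) :
    Cardinal.mk (irreducibleComponents β) ≤ Cardinal.mk (irreducibleComponents α) := by
  choose g hg1 hg2 using exists_irreducibleComponent_closure_image hp hs
  refine Cardinal.mk_le_of_injective (f := fun Z : irreducibleComponents β => ⟨g Z.1 Z.2, hg1 Z.1 Z.2⟩) ?_
  intro Z₁ Z₂ h
  have h' : g Z₁.1 Z₁.2 = g Z₂.1 Z₂.2 := congrArg Subtype.val h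
  apply Subtype.ext
  rw [← hg2 Z₁.1 Z₁.2, ← hg2 Z₂.1 Z₂.2, h']

end Groth.Agent.Lib.Helper21
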