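import Mathlib

/-!
# Helpers on base change of schemes over fields (helper21)

* `irreducibleSpace_of_surjective`: continuous surjective image of an irreducible space.
* `exists_common_extension`: two field extensions of `k` have a common extension.
* `surjective_SpecMap_of_field`: `Spec L ⟶ Spec K` is surjective for fields.
-/

universe u

open CategoryTheory CategoryTheory.Limits AlgebraicGeometry

namespace Groth.Agent.Lib.Helper21

theorem irreducibleSpace_of_surjective {α β : Type*} [TopologicalSpace α] [TopologicalSpace β]
    [IrreducibleSpace α] {f : α → β} (hf : Function.Surjective f) (hc : Continuous f) :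
    IrreducibleSpace β := by
  rw [irreducibleSpace_def]
  have := (IrreducibleSpace.isIrreducible_univ α).image f hc.continuousOn
  rwa [Set.image_univ, hf.range_eq] at this

/-- Two field extensions of `k` (in the same universe) admit a common extension. -/
theorem exists_common_extension (k K L : Type u) [Field k] [Field K] [Field L]
    [Algebra k K] [Algebra k L] :
    ∃ (M : Type u) (_ : Field M) (i : K →+* M) (j : L →+* M),
      i.comp (algebraMap k K) = j.comp (algebraMap k L) := by
  have : Nontrivial (TensorProduct k K L) := inferInstance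
  obtain ⟨m, hm⟩ := Ideal.exists_maximal (TensorProduct k K L)
  let : Field (TensorProduct k K L ⧸ m) := Ideal.Quotient.field m
  refine ⟨TensorProduct k K L ⧸ m, inferInstance,
    (Ideal.Quotient.mk m).comp (Algebra.TensorProduct.includeLeft (R := k) (S := k) (A := K) (B := L)).toRingHom,
    (Ideal.Quotient.mk m).comp (Algebra.TensorProduct.includeRight (R := k) (A := K) (B := L)).toRingHom, ?_⟩
  ext x
  simp only [RingHom.comp_apply]
  congr 1
  change (Algebra.TensorProduct.includeLeft (R := k) (S := k) (A := K) (B := L)) (algebraMap k K x) =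
    (Algebra.TensorProduct.includeRight (R := k) (A := K) (B := L)) (algebraMap k L x)
  rw [AlgHom.commutes, AlgHom.commutes]

instance surjective_SpecMap_of_field {K L : Type u} [Field K] [Field L] (φ : K →+* L) :
    Surjective (Spec.map (CommRingCat.ofHom φ)) := by
  constructor
  intro x
  have hs : Subsingleton (Spec (CommRingCat.of K)) := by
    change Subsingleton (PrimeSpectrum K)
    infer_instance
  have hn : Nonempty (Spec (CommRingCat.of L)) := by
    change Nonempty (PrimeSpectrum L)
    infer_instance
  obtain ⟨y⟩ := hn
  exact ⟨y, Subsingleton.elim _ _⟩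

end Groth.Agent.Lib.Helper21

namespace Groth.Agent.Lib.Helper21

section compare

variable {k K L M : Type u} [Field k] [Field K] [Field L] [Field M] [Algebra k K] [Algebra k L]
  {X : Scheme.{u}} (f : X ⟶ Spec (CommRingCat.of k))
  (i : K →+* M) (j : L →+* M) (hij : i.comp (algebraMap k K) = j.comp (algebraMap k L))
  {Y : Scheme.{u}} {fst : Y ⟶ X} {snd : Y ⟶ Spec (CommRingCat.of L)}
  (hY : IsPullback fst snd f (Spec.map (CommRingCat.ofHom (algebraMap k L))))

/-- `W = (X_K)_M`. -/
noncomputable abbrev bcbc : Scheme.{u} :=
  pullback (pullback.snd f (Spec.map (CommRingCat.ofHom (algebraMap k K))))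
    (Spec.map (CommRingCat.ofHom i))

include hij in
theorem bcbc_outer :
    IsPullback (pullback.fst (pullback.snd f (Spec.map (CommRingCat.ofHom (algebraMap k K))))
        (Spec.map (CommRingCat.ofHom i)) ≫ pullback.fst f _)
      (pullback.snd (pullback.snd f (Spec.map (CommRingCat.ofHom (algebraMap k K))))
        (Spec.map (CommRingCat.ofHom i))) f
      (Spec.map (CommRingCat.ofHom j) ≫ Spec.map (CommRingCat.ofHom (algebraMap k L))) := by
  have h1 := (IsPullback.of_hasPullback (pullback.snd f (Spec.map (CommRingCat.ofHom (algebraMap k K))))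
        (Spec.map (CommRingCat.ofHom i))).paste_horiz
    (IsPullback.of_hasPullback f (Spec.map (CommRingCat.ofHom (algebraMap k K))))
  have h2 : Spec.map (CommRingCat.ofHom i) ≫ Spec.map (CommRingCat.ofHom (algebraMap k K)) =
      Spec.map (CommRingCat.ofHom j) ≫ Spec.map (CommRingCat.ofHom (algebraMap k L)) := by
    rw [← Spec.map_comp, ← Spec.map_comp, ← CommRingCat.ofHom_comp, ← CommRingCat.ofHom_comp, hij]
  rwa [h2] at h1

include hij hY in
/-- the comparison morphism `(X_K)_M → Y = X_L`, a base change of `Spec M → Spec L`. -/
theorem exists_compare :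
    ∃ p : bcbc (K := K) f i ⟶ Y,
      IsPullback p (pullback.snd (pullback.snd f (Spec.map (CommRingCat.ofHom (algebraMap k K))))
        (Spec.map (CommRingCat.ofHom i))) snd (Spec.map (CommRingCat.ofHom j)) := by
  have hout := bcbc_outer f i j hij
  refine ⟨hY.lift (pullback.fst _ _ ≫ pullback.fst f _) (pullback.snd _ _ ≫ Spec.map (CommRingCat.ofHom j))
    (by rw [Category.assoc, Category.assoc]; exact hout.w), ?_⟩
  refine IsPullback.of_right ?_ (hY.lift_snd _ _ _) hY
  rw [hY.lift_fst]
  exact hout

include hij hY in
/-- the comparison morphism `(X_K)_M → Y = X_L`, a base change of `Spec M → Spec L`, together with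
its compatibility with the projections to `X`. -/
theorem exists_compare' :
    ∃ p : bcbc (K := K) f i ⟶ Y,
      IsPullback p (pullback.snd (pullback.snd f (Spec.map (CommRingCat.ofHom (algebraMap k K))))
        (Spec.map (CommRingCat.ofHom i))) snd (Spec.map (CommRingCat.ofHom j)) ∧
      p ≫ fst = pullback.fst (pullback.snd f (Spec.map (CommRingCat.ofHom (algebraMap k K))))
        (Spec.map (CommRingCat.ofHom i)) ≫ pullback.fst f _ := by
  have hout := bcbc_outer f i j hij
  refine ⟨hY.lift (pullback.fst _ _ ≫ pullback.fst f _) (pullback.snd _ _ ≫ Spec.map (CommRingCat.ofHom j))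
    (by rw [Category.assoc, Category.assoc]; exact hout.w), ?_, hY.lift_fst _ _ _⟩
  refine IsPullback.of_right ?_ (hY.lift_snd _ _ _) hY
  rw [hY.lift_fst]
  exact hout

end compare

instance isIntegral_Spec_field (K : Type u) [Field K] : IsIntegral (Spec (CommRingCat.of K)) :=
  inferInstance

instance subsingleton_Spec_field (K : Type u) [Field K] : Subsingleton (Spec (CommRingCat.of K)) := by
  change Subsingleton (PrimeSpectrum K)
  infer_instance

end Groth.Agent.Lib.Helper21
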