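import Groth.Agent.Lib.Helper21.AlgClosedTensor
import Groth.Agent.Lib.Helper21.FieldBC
import Groth.Agent.Lib.Helper21.CompCount

/-!
# Over an algebraically closed field every integral affine scheme is geometrically irreducible
(helper21)
-/

universe u

open CategoryTheory CategoryTheory.Limits AlgebraicGeometry
open scoped TensorProduct

namespace Groth.Agent.Lib.Helper21

/-- For `Ω` algebraically closed and `A` a domain over `Ω`, `Spec A → Spec Ω` is geometrically
irreducible. -/
theorem geometricallyIrreducible_SpecMap_of_isAlgClosed (Ω A : Type u) [Field Ω] [IsAlgClosed Ω]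
    [CommRing A] [IsDomain A] [Algebra Ω A] :
    GeometricallyIrreducible (Spec.map (CommRingCat.ofHom (algebraMap Ω A))) := by
  refine ⟨geometrically_iff_of_commRing_of_isClosedUnderIsomorphisms.mpr ?_⟩
  intro K _ _
  have hdom : IsDomain (A ⊗[Ω] K) := isDomain_tensorProduct_of_isAlgClosed
  have hirr : IrreducibleSpace ↥(Spec (CommRingCat.of (A ⊗[Ω] K))) := inferInstance
  exact ((pullbackSpecIso Ω A K).hom.homeomorph.irreducibleSpace_iff).2 hirr


theorem geometricallyIrreducible_SpecMap_of_isAlgClosed' {Ω A : Type u} [Field Ω] [IsAlgClosed Ω]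
    [CommRing A] [IsDomain A] (φ : Ω →+* A) :
    GeometricallyIrreducible (Spec.map (CommRingCat.ofHom φ)) := by
  algebraize [φ]
  exact geometricallyIrreducible_SpecMap_of_isAlgClosed Ω A

theorem geometricallyConnected_of_geometricallyIrreducible {X Y : Scheme.{u}} (f : X ⟶ Y)
    [h : GeometricallyIrreducible f] : GeometricallyConnected f := by
  refine ⟨fun K _ y Z fst snd hZ => ?_⟩
  have : IrreducibleSpace ↥Z := h.geometrically_irreducibleSpace y fst snd hZ
  infer_instance

set_option backward.isDefEq.respectTransparency.types false in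
theorem geometricallyIrreducible_pullback_fst {X Y S : Scheme.{u}} (f : X ⟶ S) (g : Y ⟶ S)
    (h : GeometricallyIrreducible g) : GeometricallyIrreducible (pullback.fst f g) :=
  MorphismProperty.pullback_fst f g h

section count

variable {k K Ω : Type u} [Field k] [Field K] [Algebra k K] [Field Ω] [Algebra k Ω] [IsAlgClosed Ω]
  {X : Scheme.{u}} (f : X ⟶ Spec (CommRingCat.of k))

/-- There is a scheme `W` with a geometrically irreducible open map to `X_Ω` and a surjection to
`X_K`. -/
theorem exists_dominating :
    ∃ (W : Scheme.{u}) (q : W ⟶ pullback f (Spec.map (CommRingCat.ofHom (algebraMap k Ω))))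
      (p : W ⟶ pullback f (Spec.map (CommRingCat.ofHom (algebraMap k K)))),
      GeometricallyIrreducible q ∧ IsOpenMap q ∧ Surjective p := by
  obtain ⟨M, _, i, j, hij⟩ := exists_common_extension k Ω K
  obtain ⟨p, hp⟩ := exists_compare f i j hij
    (IsPullback.of_hasPullback f (Spec.map (CommRingCat.ofHom (algebraMap k K))))
  have hgi : GeometricallyIrreducible (Spec.map (CommRingCat.ofHom i)) :=
    geometricallyIrreducible_SpecMap_of_isAlgClosed' i
  refine ⟨bcbc (K := Ω) f i, pullback.fst _ _, p, geometricallyIrreducible_pullback_fst _ _ hgi, ?_, ?_⟩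
  · have : UniversallyOpen (pullback.fst (pullback.snd f (Spec.map (CommRingCat.ofHom (algebraMap k Ω))))
        (Spec.map (CommRingCat.ofHom i))) := inferInstance
    exact Scheme.Hom.isOpenMap _
  · exact MorphismProperty.of_isPullback (P := @Surjective) hp.flip inferInstance

end count

end Groth.Agent.Lib.Helper21
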