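import Mathlib

/-!
# Tensor products of domains over an algebraically closed field are domains (helper21)

* `exists_algHom_ne_zero`: weak Nullstellensatz: a finitely generated domain `A` over an algebraically
  closed field `Ω` and `d ≠ 0` in `A` admit an `Ω`-point `φ : A →ₐ[Ω] Ω` with `φ d ≠ 0`.
* `isDomain_tensorProduct_of_isAlgClosed`: `A ⊗[Ω] B` is a domain when `A`, `B` are domains.
-/

open scoped TensorProduct

namespace Groth.Agent.Lib.Helper21

variable {Ω : Type*} [Field Ω] [IsAlgClosed Ω]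

theorem exists_algHom_ne_zero {A : Type*} [CommRing A] [IsDomain A] [Algebra Ω A]
    [Algebra.FiniteType Ω A] {d : A} (hd : d ≠ 0) : ∃ φ : A →ₐ[Ω] Ω, φ d ≠ 0 := by
  have hinj : Function.Injective (algebraMap A (Localization.Away d)) :=
    IsLocalization.injective (Localization.Away d)
      (powers_le_nonZeroDivisors_of_noZeroDivisors hd)
  have hnt : Nontrivial (Localization.Away d) := hinj.nontrivial
  have hft1 : Algebra.FiniteType A (Localization.Away d) :=
    IsLocalization.finiteType_of_monoid_fg (Submonoid.powers d) (Localization.Away d)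
  have hft : Algebra.FiniteType Ω (Localization.Away d) :=
    Algebra.FiniteType.trans (inferInstance : Algebra.FiniteType Ω A) hft1
  obtain ⟨m, hm⟩ := Ideal.exists_maximal (Localization.Away d)
  let _ : Field (Localization.Away d ⧸ m) := Ideal.Quotient.field m
  have hftF : Algebra.FiniteType Ω (Localization.Away d ⧸ m) :=
    Algebra.FiniteType.of_surjective (Ideal.Quotient.mkₐ Ω m) (Ideal.Quotient.mkₐ_surjective Ω m)
  have hfin : Module.Finite Ω (Localization.Away d ⧸ m) :=
    finite_of_finite_type_of_isJacobsonRing Ω (Localization.Away d ⧸ m)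
  have hbij : Function.Bijective (algebraMap Ω (Localization.Away d ⧸ m)) :=
    IsAlgClosed.algebraMap_bijective_of_isIntegral
  let e : Ω ≃ₐ[Ω] (Localization.Away d ⧸ m) := AlgEquiv.ofBijective (Algebra.ofId Ω _) hbij
  let φ : A →ₐ[Ω] Ω := (e.symm : (Localization.Away d ⧸ m) →ₐ[Ω] Ω).comp
    ((Ideal.Quotient.mkₐ Ω m).comp (IsScalarTower.toAlgHom Ω A (Localization.Away d)))
  refine ⟨φ, ?_⟩
  have hu : IsUnit (algebraMap A (Localization.Away d) d) := IsLocalization.Away.algebraMap_isUnit d
  have hu2 : IsUnit (φ d) := by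
    have := (hu.map (Ideal.Quotient.mkₐ Ω m)).map (e.symm : (Localization.Away d ⧸ m) →ₐ[Ω] Ω)
    exact this
  exact hu2.ne_zero


theorem noZeroDivisors_tensor_of_finiteType {A B : Type*} [CommRing A] [IsDomain A] [Algebra Ω A]
    [Algebra.FiniteType Ω A] [CommRing B] [IsDomain B] [Algebra Ω B] :
    NoZeroDivisors (A ⊗[Ω] B) := by
  classical
  constructor
  intro x y hxy
  by_contra hcon
  rw [not_or] at hcon
  obtain ⟨hx, hy⟩ := hcon
  let b := Module.Free.chooseBasis Ω B
  let e := TensorProduct.equivFinsuppOfBasisRight (M := A) b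
  have hex : e x ≠ 0 := (LinearEquiv.map_ne_zero_iff e).2 hx
  have hey : e y ≠ 0 := (LinearEquiv.map_ne_zero_iff e).2 hy
  obtain ⟨i₀, hi₀⟩ := Finsupp.ne_iff.1 hex
  obtain ⟨j₀, hj₀⟩ := Finsupp.ne_iff.1 hey
  simp only [Finsupp.coe_zero, Pi.zero_apply] at hi₀ hj₀
  obtain ⟨φ, hφ⟩ := exists_algHom_ne_zero (Ω := Ω) (mul_ne_zero hi₀ hj₀)
  let ψ : A ⊗[Ω] B →ₐ[Ω] B :=
    (Algebra.TensorProduct.lid Ω B).toAlgHom.comp (Algebra.TensorProduct.map φ (AlgHom.id Ω B))
  have hψ : ∀ z : A ⊗[Ω] B, ψ z = Finsupp.linearCombination Ω b ((e z).mapRange φ (map_zero φ)) := by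
    intro z
    conv_lhs => rw [← e.symm_apply_apply z, TensorProduct.equivFinsuppOfBasisRight_symm_apply]
    rw [Finsupp.linearCombination_apply, Finsupp.sum_mapRange_index (by intro i; simp)]
    rw [Finsupp.sum, map_sum]
    rfl
  have key : ∀ z : A ⊗[Ω] B, ψ z = 0 → ∀ i, φ (e z i) = 0 := by
    intro z hz i
    rw [hψ] at hz
    have := (linearIndependent_iff.1 b.linearIndependent) _ hz
    have h2 := DFunLike.congr_fun this i
    simpa using h2
  have h0 : ψ x * ψ y = 0 := by rw [← map_mul, hxy, map_zero]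
  apply hφ
  rw [map_mul]
  rcases mul_eq_zero.1 h0 with h | h
  · rw [key x h i₀, zero_mul]
  · rw [key y h j₀, mul_zero]


theorem isDomain_tensorProduct_of_isAlgClosed {A B : Type*} [CommRing A] [IsDomain A] [Algebra Ω A]
    [CommRing B] [IsDomain B] [Algebra Ω B] :
    IsDomain (A ⊗[Ω] B) := by
  have hnt : Nontrivial (A ⊗[Ω] B) := inferInstance
  have hnzd : NoZeroDivisors (A ⊗[Ω] B) := by
    constructor
    intro x y hxy
    obtain ⟨M', hM', hsub⟩ := TensorProduct.exists_finite_submodule_left_of_setFinite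
      ({x, y} : Set (A ⊗[Ω] B)) (Set.toFinite _)
    obtain ⟨s, hs⟩ := (Module.Finite.iff_fg.1 hM')
    let A₀ : Subalgebra Ω A := Algebra.adjoin Ω (s : Set A)
    have hle : M' ≤ Subalgebra.toSubmodule A₀ := by
      rw [← hs, Submodule.span_le]
      exact Algebra.subset_adjoin
    have hft : Algebra.FiniteType Ω A₀ :=
      (Subalgebra.fg_iff_finiteType A₀).1 (Subalgebra.fg_adjoin_finset s)
    let ι : A₀ ⊗[Ω] B →ₐ[Ω] A ⊗[Ω] B := Algebra.TensorProduct.map A₀.val (AlgHom.id Ω B)
    have hι : Function.Injective ι := by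
      have : Function.Injective ((A₀.val.toLinearMap).rTensor B) :=
        Module.Flat.rTensor_preserves_injective_linearMap _ Subtype.val_injective
      exact this
    have hrange : LinearMap.range (M'.subtype.rTensor B) ≤ LinearMap.range ι.toLinearMap := by
      have hcomp : M'.subtype = A₀.val.toLinearMap ∘ₗ (Submodule.inclusion hle) := by
        ext z; rfl
      rw [hcomp, LinearMap.rTensor_comp]
      exact LinearMap.range_comp_le_range _ _
    obtain ⟨x₀, hx₀⟩ := hrange (hsub (Set.mem_insert x {y}))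
    obtain ⟨y₀, hy₀⟩ := hrange (hsub (Set.mem_insert_of_mem x (Set.mem_singleton y)))
    have hx₀' : ι x₀ = x := hx₀
    have hy₀' : ι y₀ = y := hy₀
    have h0 : x₀ * y₀ = 0 := by
      apply hι
      rw [map_mul, hx₀', hy₀', hxy, map_zero]
    have := noZeroDivisors_tensor_of_finiteType (Ω := Ω) (A := A₀) (B := B)
    rcases mul_eq_zero.1 h0 with h | h
    · left; rw [← hx₀', h, map_zero]
    · right; rw [← hy₀', h, map_zero]
  exact NoZeroDivisors.to_isDomain _

end Groth.Agent.Lib.Helper21
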