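import Groth.Prelude.Def_AnPts
import Mathlib.AlgebraicGeometry.AlgClosed.Basic
import Mathlib.Analysis.Complex.Polynomial.Basic

/-!
# Basic facts on complex points of schemes locally of finite type over ℂ
-/

set_option autoImplicit false

open AlgebraicGeometry CategoryTheory TopologicalSpace Opposite

namespace Groth.Agent.Lib.Helper21

variable (X : Scheme.{0}) [X.Over An.SC] [LocallyOfFiniteType (X ↘ An.SC)]

instance jacobsonSpace_SC : JacobsonSpace An.SC :=
  inferInstanceAs (JacobsonSpace (Spec (CommRingCat.of ℂ)))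

lemma jacobsonSpace_of_lft : JacobsonSpace X :=
  LocallyOfFiniteType.jacobsonSpace (X ↘ An.SC)

lemma cpt_eq : An.cpt = IsLocalRing.closedPoint ℂ := Subsingleton.elim (α := PrimeSpectrum ℂ) _ _

/-- ℂ-points correspond to closed points. -/
noncomputable def ptsEquivClosedPoints : An.Pts X ≃ closedPoints X :=
  pointEquivClosedPoint (K := ℂ) (X ↘ An.SC)

lemma ptsEquivClosedPoints_apply (x : An.Pts X) : (ptsEquivClosedPoints X x : X) = x.pt := by
  change x.1 (IsLocalRing.closedPoint ℂ) = x.1 An.cpt
  rw [cpt_eq]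

lemma pt_injective : Function.Injective (An.Pts.pt : An.Pts X → X) := by
  intro x y h
  apply (ptsEquivClosedPoints X).injective
  apply Subtype.ext
  rw [ptsEquivClosedPoints_apply, ptsEquivClosedPoints_apply, h]

lemma isClosed_pt (x : An.Pts X) : IsClosed ({x.pt} : Set X) := by
  rw [← ptsEquivClosedPoints_apply]
  exact (ptsEquivClosedPoints X x).2

lemma exists_pt_eq {x : X} (hx : IsClosed ({x} : Set X)) : ∃ p : An.Pts X, p.pt = x := by
  refine ⟨(ptsEquivClosedPoints X).symm ⟨x, hx⟩, ?_⟩
  rw [← ptsEquivClosedPoints_apply, Equiv.apply_symm_apply]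

lemma range_pt : Set.range (An.Pts.pt : An.Pts X → X) = closedPoints X := by
  ext x
  constructor
  · rintro ⟨p, rfl⟩
    exact isClosed_pt X p
  · intro hx
    exact exists_pt_eq X hx

/-- A nonempty locally closed subset contains the underlying point of a ℂ-point. -/
lemma exists_pt_mem {Z : Set X} (hZ : Z.Nonempty) (hZ' : IsLocallyClosed Z) :
    ∃ p : An.Pts X, p.pt ∈ Z := by
  have := jacobsonSpace_of_lft X
  obtain ⟨x, hxZ, hx⟩ := nonempty_inter_closedPoints hZ hZ'
  obtain ⟨p, rfl⟩ := exists_pt_eq X hx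
  exact ⟨p, hxZ⟩

end Groth.Agent.Lib.Helper21
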