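import Groth.Agent.Lib.Helper21.AnPts

/-!
# The complex topology on ℂ-points: restriction lemmas and an inducing criterion
-/

set_option autoImplicit false

open AlgebraicGeometry CategoryTheory TopologicalSpace Opposite

namespace Groth.Agent.Lib.Helper21

variable {X : Scheme.{0}} [X.Over An.SC]

lemma ev_restrict (x : An.Pts X) {U U' : X.Opens} (hle : U' ≤ U) (h' : x.pt ∈ U') (s : Γ(X, U)) :
    x.ev U' h' (X.presheaf.map (homOfLE hle).op s) = x.ev U (hle h') s := by
  unfold An.Pts.ev
  congr 1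
  have := Scheme.Hom.map_appLE x.1 (An.Pts.top_le_preimage x h') (homOfLE hle).op
  exact ConcreteCategory.congr_hom this s

lemma basicSet_restrict {U U' : X.Opens} (hle : U' ≤ U) (s : Γ(X, U)) (V : Set ℂ) :
    An.Pts.basicSet U' (X.presheaf.map (homOfLE hle).op s) V =
      An.Pts.basicSet U s V ∩ An.Pts.pt ⁻¹' (U' : Set X) := by
  ext x
  constructor
  · rintro ⟨h, hv⟩
    rw [ev_restrict] at hv
    exact ⟨⟨hle h, hv⟩, h⟩
  · rintro ⟨⟨h, hv⟩, h'⟩
    refine ⟨h', ?_⟩
    rw [ev_restrict]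
    exact hv

variable {Y : Scheme.{0}} [Y.Over An.SC]

/-- If sections on `X` lift locally to sections on `Y` along `f`, then `X(ℂ) → Y(ℂ)` is inducing. -/
lemma isInducing_map_of_local_lift (f : X ⟶ Y) [f.IsOver An.SC]
    (H : ∀ (x : An.Pts X) (U : X.Opens) (s : Γ(X, U)), x.pt ∈ U →
      ∃ (W : Y.Opens) (t : Γ(Y, W)) (_ : f x.pt ∈ W) (hle : f ⁻¹ᵁ W ≤ U),
        f.app W t = X.presheaf.map (homOfLE hle).op s) :
    Topology.IsInducing (An.Pts.map f) := by
  refine ⟨le_antisymm ?_ ?_⟩
  · exact (An.Pts.continuous_map f).le_induced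
  · apply le_generateFrom
    rintro _ ⟨U, s, V, hV, rfl⟩
    rw [@isOpen_iff_forall_mem_open]
    rintro x ⟨hxU, hxV⟩
    obtain ⟨W, t, hW, hle, htw⟩ := H x U s hxU
    refine ⟨An.Pts.map f ⁻¹' An.Pts.basicSet W t V, ?_, ?_, ?_⟩
    · rw [An.Pts.preimage_basicSet, htw, basicSet_restrict]
      exact Set.inter_subset_left
    · exact isOpen_induced (An.Pts.isOpen_basicSet W t hV)
    · rw [An.Pts.preimage_basicSet, htw, basicSet_restrict]
      exact ⟨⟨hxU, hxV⟩, hW⟩

end Groth.Agent.Lib.Helper21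

namespace Groth.Agent.Lib.Helper21

open AlgebraicGeometry CategoryTheory TopologicalSpace Opposite

variable {X Y : Scheme.{0}} [X.Over An.SC] [Y.Over An.SC]

lemma map_injective_of_mono (f : X ⟶ Y) [f.IsOver An.SC] [Mono f] :
    Function.Injective (An.Pts.map f) := by
  intro x x' h
  apply Subtype.ext
  have : x.1 ≫ f = x'.1 ≫ f := congrArg Subtype.val h
  exact (cancel_mono f).1 this

/-- For `f` injective on points (and `X`, `Y` locally of finite type over ℂ), the image of
`X(ℂ) → Y(ℂ)` is the set of ℂ-points of `Y` lying in the image of `f`. -/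
lemma range_map_of_injective [LocallyOfFiniteType (X ↘ An.SC)] [LocallyOfFiniteType (Y ↘ An.SC)]
    (f : X ⟶ Y) [f.IsOver An.SC] (hf : Function.Injective f.base) :
    Set.range (An.Pts.map f) = An.Pts.pt ⁻¹' (Set.range f.base) := by
  ext y
  constructor
  · rintro ⟨x, rfl⟩
    exact ⟨x.pt, (An.Pts.pt_map f x).symm⟩
  · rintro ⟨x₀, hx₀⟩
    have hcl : IsClosed ({x₀} : Set X) := by
      have h1 : ({x₀} : Set X) = f.base ⁻¹' {y.pt} := by
        ext z
        simp only [Set.mem_singleton_iff, Set.mem_preimage]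
        constructor
        · rintro rfl; exact hx₀
        · intro hz; exact hf (hz.trans hx₀.symm)
      rw [h1]
      exact (isClosed_pt Y y).preimage f.continuous
    obtain ⟨p, rfl⟩ := exists_pt_eq X hcl
    refine ⟨p, ?_⟩
    apply pt_injective Y
    rw [An.Pts.pt_map]
    exact hx₀

end Groth.Agent.Lib.Helper21
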