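import Mathlib
import Groth.Agent.S0414
import Groth.Agent.S4961
import Groth.Agent.Lib.Helper21.CMFibLocus
import Groth.Agent.Lib.Helper21.RedSubscheme

/-!
# Constructibility of the Cohen–Macaulay fibre locus over a Noetherian base (helper21)

Noetherian induction with generic flatness and the openness of the Cohen–Macaulay locus of a flat
morphism locally of finite presentation.
-/

set_option linter.style.haveILetI false
set_option autoImplicit false
universe u

open CategoryTheory CategoryTheory.Limits AlgebraicGeometry TopologicalSpace Topology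

namespace Groth.Agent.Lib.Helper21.CMFibLocus

open Groth.Agent.Lib.Helper21 Groth.Agent.Lib.Helper21.RedSubscheme

theorem isConstructible_cmFib_of_isNoetherian {X S : Scheme.{u}} [AlgebraicGeometry.IsNoetherian S] (f : X ⟶ S)
    [LocallyOfFiniteType f] [QuasiCompact f] : IsConstructible (cmFib f) := by
  haveI : IsLocallyNoetherian X := LocallyOfFiniteType.isLocallyNoetherian f
  haveI : CompactSpace X := QuasiCompact.compactSpace_of_compactSpace f
  haveI : AlgebraicGeometry.IsNoetherian X := AlgebraicGeometry.IsNoetherian.mk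
  haveI : NoetherianSpace X := inferInstance
  have hopenC : ∀ O : Set X, IsOpen O → IsConstructible O :=
    fun O hO => (NoetherianSpace.isCompact O).isConstructible hO
  have hclosedC : ∀ C : Set X, IsClosed C → IsConstructible C :=
    fun C hC => (hopenC _ hC.isOpen_compl).of_compl
  suffices H : ∀ Z : Closeds S, IsConstructible (cmFib f ∩ f ⁻¹' (Z : Set S)) by
    have := H ⊤
    simpa using this
  intro Z
  induction Z using WellFoundedLT.induction with
  | ind Z IH =>
  by_cases hZ : (Z : Set S) = ∅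
  · rw [hZ]
    simp
  let I := Scheme.IdealSheafData.vanishingIdeal Z
  let T := I.subscheme
  let ι : T ⟶ S := I.subschemeι
  haveI : IsReduced T := isReduced_vanishingIdeal_subscheme Z
  have hrange : Set.range ι = (Z : Set S) := range_subschemeι_vanishingIdeal Z
  let fT : pullback f ι ⟶ T := pullback.snd f ι
  let p : pullback f ι ⟶ X := pullback.fst f ι
  obtain ⟨U, hUd, hUfl, hUfp⟩ := Groth.Agent.S0414.result fT
  haveI : Nonempty T := by
    obtain ⟨z, hz⟩ := Set.nonempty_iff_ne_empty.mpr hZ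
    rw [← hrange] at hz
    obtain ⟨t, -⟩ := hz
    exact ⟨t⟩
  obtain ⟨u, hu⟩ : (U : Set T).Nonempty := hUd.nonempty
  have hιcl : IsClosedEmbedding ι := ι.isClosedEmbedding
  let Z' : Closeds S := ⟨ι '' (U : Set T)ᶜ, hιcl.isClosedMap _ U.isOpen.isClosed_compl⟩
  have hZ'lt : Z' < Z := by
    rw [SetLike.lt_iff_le_and_exists]
    refine ⟨?_, ι u, ?_, ?_⟩
    · intro s hs
      have hs' : s ∈ ι '' (U : Set T)ᶜ := hs
      obtain ⟨t, -, rfl⟩ := hs'
      show ι t ∈ (Z : Set S)
      rw [← hrange]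
      exact ⟨t, rfl⟩
    · show ι u ∈ (Z : Set S)
      rw [← hrange]
      exact ⟨u, rfl⟩
    · intro hmem
      have hmem' : ι u ∈ ι '' (U : Set T)ᶜ := hmem
      obtain ⟨t, ht, hte⟩ := hmem'
      exact ht (hιcl.injective hte ▸ hu)
  have IH' := IH Z' hZ'lt
  let h := fT ∣_ U
  let j : ((fT ⁻¹ᵁ U : (pullback f ι).Opens) : Scheme.{u}) ⟶ X := (fT ⁻¹ᵁ U).ι ≫ p
  have sq : IsPullback j h f (U.ι ≫ ι) :=
    (isPullback_morphismRestrict fT U).flip.paste_horiz (IsPullback.of_hasPullback f ι)
  have hcm : cmFib h = j ⁻¹' cmFib f := cmFib_of_isPullback f (U.ι ≫ ι) h j sq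
  haveI : Flat h := hUfl
  haveI : LocallyOfFinitePresentation h := hUfp
  have hopen : IsOpen (j ⁻¹' cmFib f) := by
    rw [← hcm, cmFib_eq_of_flat]
    exact Groth.Agent.S4961.result h
  have hjemb : IsEmbedding j := by
    have h1 : IsEmbedding (fT ⁻¹ᵁ U).ι := (fT ⁻¹ᵁ U).ι.isOpenEmbedding.isEmbedding
    have h2 : IsEmbedding p := p.isClosedEmbedding.isEmbedding
    exact h2.comp h1
  obtain ⟨O', hO', hO'eq⟩ := hjemb.isInducing.isOpen_iff.mp hopen
  have hrangej : Set.range j = f ⁻¹' (ι '' (U : Set T)) := by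
    have h1 := Scheme.image_preimage_eq_of_isPullback sq.flip Set.univ
    rw [Set.preimage_univ, Set.image_univ, Set.image_univ] at h1
    rw [h1]
    congr 1
    ext s
    constructor
    · rintro ⟨t, rfl⟩
      exact ⟨t.1, t.2, rfl⟩
    · rintro ⟨t, ht, rfl⟩
      exact ⟨⟨t, ht⟩, rfl⟩
  have hpart : cmFib f ∩ f ⁻¹' (ι '' (U : Set T)) = O' ∩ f ⁻¹' (ι '' (U : Set T)) := by
    ext x
    constructor
    · rintro ⟨hx, hxr⟩
      refine ⟨?_, hxr⟩
      rw [← hrangej] at hxr
      obtain ⟨y, rfl⟩ := hxr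
      have : y ∈ j ⁻¹' O' := by rw [hO'eq]; exact hx
      exact this
    · rintro ⟨hx, hxr⟩
      refine ⟨?_, hxr⟩
      rw [← hrangej] at hxr
      obtain ⟨y, rfl⟩ := hxr
      have : y ∈ j ⁻¹' cmFib f := by rw [← hO'eq]; exact hx
      exact this
  obtain ⟨G, hG, hGeq⟩ := hιcl.isInducing.isOpen_iff.mp U.isOpen
  have hιU : ι '' (U : Set T) = (Z : Set S) ∩ G := by
    rw [← hGeq, Set.image_preimage_eq_inter_range, hrange, Set.inter_comm]
  have hcons2 : IsConstructible (cmFib f ∩ f ⁻¹' (ι '' (U : Set T))) := by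
    rw [hpart, hιU, Set.preimage_inter]
    exact (hopenC _ hO').inter ((hclosedC _ (Z.isClosed.preimage f.continuous)).inter
      (hopenC _ (hG.preimage f.continuous)))
  have hunion : cmFib f ∩ f ⁻¹' (Z : Set S) =
      (cmFib f ∩ f ⁻¹' (Z' : Set S)) ∪ (cmFib f ∩ f ⁻¹' (ι '' (U : Set T))) := by
    have : (Z : Set S) = (Z' : Set S) ∪ ι '' (U : Set T) := by
      show (Z : Set S) = ι '' (U : Set T)ᶜ ∪ ι '' (U : Set T)
      rw [← Set.image_union, Set.compl_union_self, Set.image_univ, hrange]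
    rw [this, Set.preimage_union, Set.inter_union_distrib_left]
  rw [hunion]
  exact IH'.union hcons2

end Groth.Agent.Lib.Helper21.CMFibLocus
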