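import Mathlib
import Groth.Agent.Lib.Helper21.CMFibNoeth
import Groth.Agent.Lib.Helper24.Lim8FGModel

/-!
# Local constructibility of the Cohen–Macaulay fibre locus (helper21)

EGA IV 12.1.1 (vi) / 9.9.x-type statement without flatness: for `f` locally of finite presentation
the set of points `x` such that the fibre through `x` is Cohen–Macaulay at `x` is locally
constructible.  Reduction to a Noetherian base via helper24's models over finitely generated
`ℤ`-subalgebras.
-/

set_option linter.style.haveILetI false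
set_option autoImplicit false
universe u

open CategoryTheory CategoryTheory.Limits AlgebraicGeometry TopologicalSpace Topology

namespace Groth.Agent.Lib.Helper21.CMFibLocus

theorem isConstructible_cmFib_of_affine_base (A : Type u) [CommRing A] {X : Scheme.{u}}
    (f : X ⟶ Spec (CommRingCat.of A)) [LocallyOfFinitePresentation f] [QuasiCompact f]
    [QuasiSeparated f] : IsConstructible (cmFib f) := by
  obtain ⟨A₀, hA₀, X₀, f₀, g, -, hlfp, hqc, hqs, hpb⟩ :=
    Groth.Agent.Lib.Helper24.Lim8.exists_model_over_fg_subalgebra (P := ⊤)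
      (by intro I _ _ D c hc _ l X₀ f₀ _ _; exact fun _ => ⟨l, 𝟙 l, MorphismProperty.top_apply _⟩) A f
      (MorphismProperty.top_apply _)
  haveI : Algebra.FiniteType ℤ ↥A₀ := (Subalgebra.fg_iff_finiteType A₀).mp hA₀
  haveI : IsNoetherianRing ↥A₀ := Algebra.FiniteType.isNoetherianRing ℤ ↥A₀
  haveI : AlgebraicGeometry.IsNoetherian (Spec (CommRingCat.of ↥A₀)) := inferInstance
  haveI := hlfp
  haveI := hqc
  rw [cmFib_of_isPullback f₀ _ f g hpb]
  exact g.isConstructible_preimage (isConstructible_cmFib_of_isNoetherian f₀)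

theorem isLocallyConstructible_cmFib {X S : Scheme.{u}} (f : X ⟶ S)
    [LocallyOfFinitePresentation f] : IsLocallyConstructible (cmFib f) := by
  intro x
  obtain ⟨_, ⟨(W : S.Opens), hW, rfl⟩, hfxW, -⟩ :=
    S.isBasis_affineOpens.exists_subset_of_mem_open (Set.mem_univ (f x)) isOpen_univ
  obtain ⟨_, ⟨(V : X.Opens), hV, rfl⟩, hxV, hVle⟩ :=
    X.isBasis_affineOpens.exists_subset_of_mem_open
      (show x ∈ ((f ⁻¹ᵁ W : X.Opens) : Set X) from hfxW) (f ⁻¹ᵁ W).isOpen
  refine ⟨V, V.isOpen.mem_nhds hxV, V.isOpen, ?_⟩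
  have hW' : IsAffineOpen W := hW
  haveI : IsAffine ↑V := hV
  haveI : IsAffine ↑W := hW
  let f₀ : (V : Scheme.{u}) ⟶ W := f.resLE W V hVle
  have hf₀ : f₀ ≫ W.ι = V.ι ≫ f := Scheme.Hom.resLE_comp_ι f hVle
  haveI : LocallyOfFinitePresentation f₀ := by
    haveI : LocallyOfFinitePresentation (f₀ ≫ W.ι) := by rw [hf₀]; infer_instance
    have sq : IsPullback (𝟙 (V : Scheme.{u})) f₀ (f₀ ≫ W.ι) W.ι :=
      IsPullback.of_horiz_isIso_mono ⟨by simp⟩
    exact MorphismProperty.of_isPullback (P := @LocallyOfFinitePresentation) sq inferInstance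
  haveI : LocallyOfFiniteType f₀ := inferInstance
  let f₁ : (V : Scheme.{u}) ⟶ Spec (CommRingCat.of Γ(S, W)) := f₀ ≫ hW'.isoSpec.hom
  haveI : LocallyOfFinitePresentation f₁ :=
    inferInstanceAs (LocallyOfFinitePresentation (f₀ ≫ hW'.isoSpec.hom))
  have e1 : cmFib (V.ι ≫ f) = V.ι ⁻¹' cmFib f := cmFib_comp_of_isOpenImmersion V.ι f
  haveI : LocallyOfFiniteType (f₀ ≫ W.ι) := by rw [hf₀]; infer_instance
  have e2 : cmFib (V.ι ≫ f) = cmFib f₀ := by rw [← hf₀]; exact cmFib_comp_mono f₀ W.ι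
  have e3 : cmFib f₁ = cmFib f₀ := cmFib_comp_mono f₀ hW'.isoSpec.hom
  have hgoal : V.ι ⁻¹' cmFib f = cmFib f₁ := by
    rw [e3, ← e2, e1]
  change IsConstructible (V.ι ⁻¹' cmFib f)
  rw [hgoal]
  haveI : CompactSpace ↑V := inferInstance
  haveI : QuasiCompact f₁ := quasiCompact_of_compactSpace f₁
  haveI : QuasiSeparated f₁ := inferInstance
  exact isConstructible_cmFib_of_affine_base Γ(S, W) f₁

end Groth.Agent.Lib.Helper21.CMFibLocus
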