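import Mathlib

/-!
# Counting connected components via clopen sets (helper21)

If every nonempty clopen subset of a clopen set `E` contains one of finitely many nonempty
preconnected sets `W i`, then `E` is covered by at most `#{i | W i ⊆ E}` preconnected sets each
containing some `W i`.  Consequences: bound on the number of connected components, and every
connected component of a point of `E` contains some `W i`.
-/

open Set

namespace Groth.Agent.Lib.Helper21

variable {Y : Type*} [TopologicalSpace Y] {ι : Type*} [Fintype ι]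

open Classical in
theorem exists_finset_preconnected_cover (W : ι → Set Y)
    (hWne : ∀ i, (W i).Nonempty) (E : Set Y) (hE : IsClopen E)
    (h : ∀ U : Set Y, IsClopen U → U ⊆ E → U.Nonempty → ∃ i, W i ⊆ U) :
    ∃ s : Finset (Set Y), s.card ≤ (Finset.univ.filter (fun i => W i ⊆ E)).card ∧
      (∀ T ∈ s, IsPreconnected T ∧ T ⊆ E ∧ ∃ i, W i ⊆ T) ∧ E ⊆ ⋃₀ (s : Set (Set Y)) := by
  induction' hn : (Finset.univ.filter (fun i => W i ⊆ E)).card using Nat.strong_induction_on
    with n ih generalizing E
  by_cases hne : E = ∅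
  · exact ⟨∅, by simp, by simp, by simp [hne]⟩
  have hEne : E.Nonempty := Set.nonempty_iff_ne_empty.2 hne
  by_cases hpre : IsPreconnected E
  · refine ⟨{E}, ?_, ?_, by simp⟩
    · obtain ⟨i, hi⟩ := h E hE subset_rfl hEne
      rw [Finset.card_singleton, ← hn]
      exact Finset.card_pos.2 ⟨i, by simp [hi]⟩
    · intro T hT
      rw [Finset.mem_singleton] at hT
      subst hT
      exact ⟨hpre, subset_rfl, h T hE subset_rfl hEne⟩
  · -- split `E`
    rw [IsPreconnected] at hpre
    push Not at hpre
    obtain ⟨U, V, hU, hV, hEUV, hEU, hEV, hEUV'⟩ := hpre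
    have hdisj : ∀ x, x ∈ E → x ∈ U → x ∈ V → False := fun x hx hxU hxV =>
      (Set.not_nonempty_iff_eq_empty.2 hEUV') ⟨x, hx, hxU, hxV⟩
    have hE1 : IsClopen (E ∩ U) := by
      refine ⟨?_, hE.2.inter hU⟩
      have : E ∩ U = E ∩ Vᶜ := by
        ext x
        constructor
        · rintro ⟨hx, hxU⟩
          exact ⟨hx, fun hxV => hdisj x hx hxU hxV⟩
        · rintro ⟨hx, hxV⟩
          rcases hEUV hx with hxU | hxV'
          · exact ⟨hx, hxU⟩
          · exact absurd hxV' hxV
      rw [this]
      exact hE.1.inter hV.isClosed_compl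
    have hE2 : IsClopen (E ∩ V) := by
      refine ⟨?_, hE.2.inter hV⟩
      have : E ∩ V = E ∩ Uᶜ := by
        ext x
        constructor
        · rintro ⟨hx, hxV⟩
          exact ⟨hx, fun hxU => hdisj x hx hxU hxV⟩
        · rintro ⟨hx, hxU⟩
          rcases hEUV hx with hxU' | hxV
          · exact absurd hxU' hxU
          · exact ⟨hx, hxV⟩
      rw [this]
      exact hE.1.inter hU.isClosed_compl
    set I := Finset.univ.filter (fun i => W i ⊆ E) with hI
    set I₁ := Finset.univ.filter (fun i => W i ⊆ E ∩ U) with hI₁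
    set I₂ := Finset.univ.filter (fun i => W i ⊆ E ∩ V) with hI₂
    have hI₁ne : 0 < I₁.card := by
      obtain ⟨i, hi⟩ := h (E ∩ U) hE1 inter_subset_left hEU
      exact Finset.card_pos.2 ⟨i, by rw [hI₁, Finset.mem_filter]; exact ⟨Finset.mem_univ _, hi⟩⟩
    have hI₂ne : 0 < I₂.card := by
      obtain ⟨i, hi⟩ := h (E ∩ V) hE2 inter_subset_left hEV
      exact Finset.card_pos.2 ⟨i, by rw [hI₂, Finset.mem_filter]; exact ⟨Finset.mem_univ _, hi⟩⟩
    have hdisjI : Disjoint I₁ I₂ := by
      rw [Finset.disjoint_left]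
      intro i hi1 hi2
      simp only [hI₁, hI₂, Finset.mem_filter, Finset.mem_univ, true_and] at hi1 hi2
      obtain ⟨w, hw⟩ := hWne i
      exact hdisj w (hi1 hw).1 (hi1 hw).2 (hi2 hw).2
    have hsub : I₁ ∪ I₂ ⊆ I := by
      intro i hi
      simp only [hI, hI₁, hI₂, Finset.mem_union, Finset.mem_filter, Finset.mem_univ, true_and] at hi ⊢
      rcases hi with hi | hi
      · exact hi.trans inter_subset_left
      · exact hi.trans inter_subset_left
    have hcard : I₁.card + I₂.card ≤ n := by
      rw [← hn, ← Finset.card_union_of_disjoint hdisjI]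
      exact Finset.card_le_card hsub
    obtain ⟨s₁, hs₁c, hs₁, hs₁cov⟩ := ih I₁.card (by omega) (E ∩ U) hE1
      (fun T hT hTE hTne => h T hT (hTE.trans inter_subset_left) hTne) rfl
    obtain ⟨s₂, hs₂c, hs₂, hs₂cov⟩ := ih I₂.card (by omega) (E ∩ V) hE2
      (fun T hT hTE hTne => h T hT (hTE.trans inter_subset_left) hTne) rfl
    refine ⟨s₁ ∪ s₂, ?_, ?_, ?_⟩
    · calc (s₁ ∪ s₂).card ≤ s₁.card + s₂.card := Finset.card_union_le _ _
        _ ≤ I₁.card + I₂.card := add_le_add hs₁c hs₂c
        _ ≤ n := hcard
    · intro T hT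
      rcases Finset.mem_union.1 hT with hT | hT
      · obtain ⟨h1, h2, h3⟩ := hs₁ T hT
        exact ⟨h1, h2.trans inter_subset_left, h3⟩
      · obtain ⟨h1, h2, h3⟩ := hs₂ T hT
        exact ⟨h1, h2.trans inter_subset_left, h3⟩
    · intro x hx
      rcases hEUV hx with hxU | hxV
      · obtain ⟨T, hT, hxT⟩ := hs₁cov ⟨hx, hxU⟩
        exact ⟨T, by simp only [Finset.coe_union, Set.mem_union]; exact Or.inl hT, hxT⟩
      · obtain ⟨T, hT, hxT⟩ := hs₂cov ⟨hx, hxV⟩
        exact ⟨T, by simp only [Finset.coe_union, Set.mem_union]; exact Or.inr hT, hxT⟩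

/-- Every connected component of a point of `E` contains some `W i`. -/
theorem exists_subset_connectedComponent (W : ι → Set Y)
    (hWne : ∀ i, (W i).Nonempty) (E : Set Y) (hE : IsClopen E)
    (h : ∀ U : Set Y, IsClopen U → U ⊆ E → U.Nonempty → ∃ i, W i ⊆ U) (y : Y) (hy : y ∈ E) :
    ∃ i, W i ⊆ connectedComponent y := by
  obtain ⟨s, -, hs, hcov⟩ := exists_finset_preconnected_cover W hWne E hE h
  obtain ⟨T, hT, hyT⟩ := hcov hy
  obtain ⟨hTpre, -, i, hi⟩ := hs T hT
  exact ⟨i, hi.trans (hTpre.subset_connectedComponent hyT)⟩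

/-- Bound on the number of connected components. -/
theorem card_connectedComponents_le (W : ι → Set Y)
    (hWne : ∀ i, (W i).Nonempty)
    (h : ∀ U : Set Y, IsClopen U → U.Nonempty → ∃ i, W i ⊆ U) :
    Finite (ConnectedComponents Y) ∧ Nat.card (ConnectedComponents Y) ≤ Fintype.card ι := by
  classical
  obtain ⟨s, hsc, hs, hcov⟩ := exists_finset_preconnected_cover W hWne Set.univ isClopen_univ
    (fun U hU _ hUne => h U hU hUne)
  have hne : ∀ T : s, (T : Set Y).Nonempty := fun T => by
    obtain ⟨-, -, i, hi⟩ := hs T.1 T.2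
    exact (hWne i).mono hi
  let F : s → ConnectedComponents Y := fun T => ConnectedComponents.mk (hne T).some
  have hF : Function.Surjective F := by
    intro c
    obtain ⟨y, rfl⟩ := ConnectedComponents.surjective_coe c
    obtain ⟨T, hT, hyT⟩ := hcov (Set.mem_univ y)
    refine ⟨⟨T, hT⟩, ?_⟩
    change ConnectedComponents.mk _ = ConnectedComponents.mk y
    rw [ConnectedComponents.coe_eq_coe']
    have hTpre := (hs T hT).1
    exact hTpre.subset_connectedComponent hyT (hne ⟨T, hT⟩).some_mem
  have hfin : Finite (ConnectedComponents Y) := Finite.of_surjective F hF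
  refine ⟨hfin, ?_⟩
  calc Nat.card (ConnectedComponents Y) ≤ Nat.card s := Nat.card_le_card_of_surjective F hF
    _ = s.card := by simp
    _ ≤ (Finset.univ.filter (fun i => W i ⊆ Set.univ)).card := hsc
    _ ≤ Fintype.card ι := Finset.card_le_univ _

/-- With finitely many connected components, each of them is clopen. -/
theorem isClopen_connectedComponent_of_finite {X : Type*} [TopologicalSpace X]
    [Finite (ConnectedComponents X)] (x : X) : IsClopen (connectedComponent x) := by
  have hd : DiscreteTopology (ConnectedComponents X) := inferInstance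
  have h : connectedComponent x =
      ConnectedComponents.mk ⁻¹' {ConnectedComponents.mk x} := by
    ext y
    rw [Set.mem_preimage, Set.mem_singleton_iff, ConnectedComponents.coe_eq_coe']
  rw [h]
  exact (isClopen_discrete _).preimage ConnectedComponents.continuous_coe

end Groth.Agent.Lib.Helper21
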