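import Groth.Agent.Lib.Helper21.AffineChart

/-!
# Connectedness / irreducibility of `X_{ks}` from the finite levels (helper21)

For an algebraic extension `ks/k`: if `X_{k'}` is connected (resp. irreducible) for every finite
subextension `k' ⊆ ks`, then `X_{ks}` is connected (resp. irreducible).  No quasi-compactness is
needed.
-/

universe u

open CategoryTheory CategoryTheory.Limits AlgebraicGeometry
open scoped TensorProduct

namespace Groth.Agent.Lib.Helper21

section

variable {k : Type u} [Field k] {X : Scheme.{u}} (f : X ⟶ Spec (CommRingCat.of k))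

/-- Every point has an affine chart, which is automatically a chart of `k`-schemes. -/
theorem exists_affine_chart (x : X) :
    ∃ (A : Type u) (_ : CommRing A) (_ : Algebra k A) (j : Spec (CommRingCat.of A) ⟶ X),
      IsOpenImmersion j ∧ j ≫ f = Spec.map (CommRingCat.ofHom (algebraMap k A)) ∧
        x ∈ Set.range j := by
  let 𝒰 := X.affineOpenCover
  let j : Spec (CommRingCat.of (𝒰.X (𝒰.idx x))) ⟶ X := 𝒰.f (𝒰.idx x)
  obtain ⟨φ, hφ⟩ := Spec.map_surjective (j ≫ f)
  let alg : Algebra k (𝒰.X (𝒰.idx x)) := φ.hom.toAlgebra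
  exact ⟨𝒰.X (𝒰.idx x), inferInstance, alg, j, 𝒰.map_prop _, hφ.symm, 𝒰.covers x⟩

/-- The tower map `X_K ⟶ X_{k'}` for an algebraic extension `K/k'` is surjective, open and
closed. -/
theorem exists_tower_map_top (k' K : Type u) [Field k'] [Field K] [Algebra k k'] [Algebra k' K]
    [Algebra k K] [IsScalarTower k k' K] [Algebra.IsAlgebraic k' K] :
    ∃ p : pullback f (Spec.map (CommRingCat.ofHom (algebraMap k K))) ⟶
        pullback f (Spec.map (CommRingCat.ofHom (algebraMap k k'))),
      p ≫ bcπ' f k' = bcπ' f K ∧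
      p ≫ pullback.snd f (Spec.map (CommRingCat.ofHom (algebraMap k k'))) =
        pullback.snd f (Spec.map (CommRingCat.ofHom (algebraMap k K))) ≫
          Spec.map (CommRingCat.ofHom (algebraMap k' K)) ∧
      Function.Surjective p ∧ IsOpenMap p ∧ IsClosedMap p := by
  obtain ⟨p, hp, hp1⟩ := exists_tower_map f k' K
  refine ⟨p, hp1, hp.w, ?_, ?_, ?_⟩
  · have : Surjective p := MorphismProperty.of_isPullback (P := @Surjective) hp.flip inferInstance
    exact Scheme.Hom.surjective _
  · have : UniversallyOpen p :=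
      MorphismProperty.of_isPullback (P := @UniversallyOpen) hp.flip inferInstance
    exact Scheme.Hom.isOpenMap _
  · have h1 : IsIntegralHom (Spec.map (CommRingCat.ofHom (algebraMap k' K))) := by
      rw [IsIntegralHom.SpecMap_iff]
      have : Algebra.IsIntegral k' K := Algebra.IsAlgebraic.isIntegral
      exact algebraMap_isIntegral_iff.mpr this
    have : IsIntegralHom p := MorphismProperty.of_isPullback (P := @IsIntegralHom) hp.flip h1
    exact Scheme.Hom.isClosedMap _

end

section main

variable {k : Type u} [Field k] {X : Scheme.{u}} (f : X ⟶ Spec (CommRingCat.of k))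
  (ks : Type u) [Field ks] [Algebra k ks] [Algebra.IsAlgebraic k ks]

instance isAlgebraic_intermediateField_top (k' : IntermediateField k ks) :
    Algebra.IsAlgebraic k' ks :=
  Algebra.IsAlgebraic.tower_top (K := k) k'

/-- If `X_{k'}` is connected for every finite subextension `k' ⊆ ks` of the algebraic extension
`ks/k`, then `X_{ks}` is connected. -/
theorem connectedSpace_of_finite_levels
    (h : ∀ k' : IntermediateField k ks, FiniteDimensional k k' →
      ConnectedSpace ↥(pullback f (Spec.map (CommRingCat.ofHom (algebraMap k k'))))) :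
    ConnectedSpace ↥(pullback f (Spec.map (CommRingCat.ofHom (algebraMap k ks)))) := by
  -- nonemptiness
  have hne : Nonempty ↥(pullback f (Spec.map (CommRingCat.ofHom (algebraMap k ks)))) := by
    have h0 := h ⊥ inferInstance
    obtain ⟨y⟩ := h0.toNonempty
    obtain ⟨z, -⟩ := surjective_bcπ f ks (bcπ' f (⊥ : IntermediateField k ks) y)
    exact ⟨z⟩
  rw [connectedSpace_iff_clopen]
  refine ⟨hne, fun U hU => ?_⟩
  by_contra hcon
  rw [not_or] at hcon
  obtain ⟨hU1, hU2⟩ := hcon
  obtain ⟨u, hu⟩ := Set.nonempty_iff_ne_empty.2 hU1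
  obtain ⟨v, hv⟩ := (Set.ne_univ_iff_exists_notMem U).1 hU2
  -- an affine chart around the image of `u`
  obtain ⟨A, _, _, j, hjo, hj, hxj⟩ := exists_affine_chart f (bcπ' f ks u)
  have hcko := isOpenImmersion_chart f j hj ks
  have hu' : u ∈ Set.range (chart f j hj ks) := by
    rw [range_chart]; exact hxj
  obtain ⟨s₀, rfl⟩ := hu'
  -- the clopen subset in the chart is a basic open
  have hclopen : IsClopen ((chart f j hj ks) ⁻¹' U) := hU.preimage (chart f j hj ks).continuous
  obtain ⟨e, -, he⟩ := PrimeSpectrum.isClopen_iff.1 hclopen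
  obtain ⟨k', hk', e', he'⟩ := exists_finite_level k A ks e
  obtain ⟨p, hp1, hp2, hps, hpo, hpc⟩ := exists_tower_map_top f k' ks
  have hsat := image_chart_basicOpen_eq_preimage f j hj k' ks p hp1 hp2 e'
  have hconn := h k' hk'
  -- the image of the complement is everything
  have hVimg : p '' Uᶜ = Set.univ := by
    have hcl : IsClopen (p '' Uᶜ) := ⟨hpc _ hU.compl.1, hpo _ hU.compl.2⟩
    rcases isClopen_iff.1 hcl with h0 | h1
    · exact absurd h0 (Set.Nonempty.ne_empty ⟨p v, v, hv, rfl⟩)
    · exact h1
  obtain ⟨v', hv', hpv'⟩ : p (chart f j hj ks s₀) ∈ p '' Uᶜ := by rw [hVimg]; trivial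
  -- but `v'` lies in the saturated set `U ∩ chart`
  have h1 : chart f j hj ks s₀ ∈ (chart f j hj ks) '' (PrimeSpectrum.basicOpen
      (levelMap k A ks k' e') : Set (PrimeSpectrum (A ⊗[k] ks))) := by
    refine ⟨s₀, ?_, rfl⟩
    rw [he', ← he]
    exact hu
  rw [hsat] at h1
  have h2 : v' ∈ p ⁻¹' ((chart f j hj k') '' (PrimeSpectrum.basicOpen e' :
      Set (PrimeSpectrum (A ⊗[k] k')))) := by
    rw [Set.mem_preimage, hpv']
    exact h1
  rw [← hsat] at h2
  obtain ⟨s₁, hs₁, rfl⟩ := h2
  rw [he', ← he] at hs₁
  exact hv' hs₁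

/-- If `X_{k'}` is irreducible for every finite subextension `k' ⊆ ks` of the algebraic extension
`ks/k`, then `X_{ks}` is irreducible. -/
theorem irreducibleSpace_of_finite_levels
    (h : ∀ k' : IntermediateField k ks, FiniteDimensional k k' →
      IrreducibleSpace ↥(pullback f (Spec.map (CommRingCat.ofHom (algebraMap k k'))))) :
    IrreducibleSpace ↥(pullback f (Spec.map (CommRingCat.ofHom (algebraMap k ks)))) := by
  -- nonemptiness
  have hne : Nonempty ↥(pullback f (Spec.map (CommRingCat.ofHom (algebraMap k ks)))) := by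
    have h0 := h ⊥ inferInstance
    obtain ⟨y⟩ := h0.toNonempty
    obtain ⟨z, -⟩ := surjective_bcπ f ks (bcπ' f (⊥ : IntermediateField k ks) y)
    exact ⟨z⟩
  -- key: every nonempty open contains a nonempty saturated open
  have key : ∀ U : Set ↥(pullback f (Spec.map (CommRingCat.ofHom (algebraMap k ks)))),
      IsOpen U → U.Nonempty → ∃ k₀ : IntermediateField k ks, FiniteDimensional k k₀ ∧
        ∀ k' : IntermediateField k ks, k₀ ≤ k' → ∀ (p : pullback f (Spec.map
          (CommRingCat.ofHom (algebraMap k ks))) ⟶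
            pullback f (Spec.map (CommRingCat.ofHom (algebraMap k k')))),
          p ≫ bcπ' f k' = bcπ' f ks →
          p ≫ pullback.snd f (Spec.map (CommRingCat.ofHom (algebraMap k k'))) =
            pullback.snd f (Spec.map (CommRingCat.ofHom (algebraMap k ks))) ≫
              Spec.map (CommRingCat.ofHom (algebraMap k' ks)) →
          ∃ O : Set ↥(pullback f (Spec.map (CommRingCat.ofHom (algebraMap k k')))),
            IsOpen O ∧ O.Nonempty ∧ p ⁻¹' O ⊆ U := by
    intro U hUo hUne
    obtain ⟨u, hu⟩ := hUne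
    obtain ⟨A, _, _, j, hjo, hj, hxj⟩ := exists_affine_chart f (bcπ' f ks u)
    have hcko := isOpenImmersion_chart f j hj ks
    have hu' : u ∈ Set.range (chart f j hj ks) := by
      rw [range_chart]; exact hxj
    obtain ⟨s₀, rfl⟩ := hu'
    have hopen : IsOpen ((chart f j hj ks) ⁻¹' U) := hUo.preimage (chart f j hj ks).continuous
    obtain ⟨_, ⟨g, rfl⟩, hs₀g, hgU⟩ :=
      PrimeSpectrum.isTopologicalBasis_basic_opens.exists_subset_of_mem_open
        (show s₀ ∈ (chart f j hj ks) ⁻¹' U from hu) hopen
    obtain ⟨k₀, hk₀, hg₀⟩ := exists_finite_level k A ks g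
    refine ⟨k₀, hk₀, fun k' hk' p hp1 hp2 => ?_⟩
    obtain ⟨g', hg'⟩ := range_levelMap_mono k A ks hk' hg₀
    have hsat := image_chart_basicOpen_eq_preimage f j hj k' ks p hp1 hp2 g'
    have hck'o := isOpenImmersion_chart f j hj k'
    refine ⟨(chart f j hj k') '' (PrimeSpectrum.basicOpen g' : Set (PrimeSpectrum (A ⊗[k] k'))),
      (chart f j hj k').isOpenEmbedding.isOpenMap _ (PrimeSpectrum.basicOpen g').2, ?_, ?_⟩
    · have h1 : chart f j hj ks s₀ ∈ (chart f j hj ks) '' (PrimeSpectrum.basicOpen
          (levelMap k A ks k' g') : Set (PrimeSpectrum (A ⊗[k] ks))) := by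
        refine ⟨s₀, ?_, rfl⟩
        rw [hg']
        exact hs₀g
      rw [hsat] at h1
      exact ⟨_, h1⟩
    · rw [← hsat]
      rintro _ ⟨s, hs, rfl⟩
      rw [hg'] at hs
      exact hgU hs
  refine { toNonempty := hne, isPreirreducible_univ := ?_ }
  rintro U V hU hV ⟨x, -, hxU⟩ ⟨y, -, hyV⟩
  obtain ⟨k₁, hk₁, H₁⟩ := key U hU ⟨x, hxU⟩
  obtain ⟨k₂, hk₂, H₂⟩ := key V hV ⟨y, hyV⟩
  have hk' : FiniteDimensional k ↥(k₁ ⊔ k₂) := IntermediateField.finiteDimensional_sup k₁ k₂
  obtain ⟨p, hp1, hp2, hps, -, -⟩ := exists_tower_map_top f ↥(k₁ ⊔ k₂) ks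
  obtain ⟨O₁, hO₁, hO₁ne, hO₁U⟩ := H₁ (k₁ ⊔ k₂) le_sup_left p hp1 hp2
  obtain ⟨O₂, hO₂, hO₂ne, hO₂V⟩ := H₂ (k₁ ⊔ k₂) le_sup_right p hp1 hp2
  have hirr := h (k₁ ⊔ k₂) hk'
  obtain ⟨w, hw₁, hw₂⟩ := nonempty_preirreducible_inter hO₁ hO₂ hO₁ne hO₂ne
  obtain ⟨z, rfl⟩ := hps w
  exact ⟨z, trivial, hO₁U hw₁, hO₂V hw₂⟩

end main

section sepClosure

variable {k : Type u} [Field k] {X : Scheme.{u}} (f : X ⟶ Spec (CommRingCat.of k))

/-- If `X_K` is connected for all finite separable extensions `K/k`, then `X` is geometrically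
connected over `k`. -/
theorem geometricallyConnected_of_finite_separable
    (h : ∀ (K : Type u) [Field K] [Algebra k K] [FiniteDimensional k K] [Algebra.IsSeparable k K],
      ConnectedSpace ↥(pullback f (Spec.map (CommRingCat.ofHom (algebraMap k K))))) :
    GeometricallyConnected f := by
  have hsc : IsSepClosure k (separableClosure k (AlgebraicClosure k)) := inferInstance
  have hscl : IsSepClosed (separableClosure k (AlgebraicClosure k)) := hsc.sep_closed
  have hsep : Algebra.IsSeparable k (separableClosure k (AlgebraicClosure k)) := hsc.separable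
  have := connectedSpace_of_finite_levels f (separableClosure k (AlgebraicClosure k))
    (fun k' hk' => by
      have : Algebra.IsSeparable k k' :=
        Algebra.isSeparable_tower_bot_of_isSeparable k k' (separableClosure k (AlgebraicClosure k))
      exact h k')
  exact geometricallyConnected_of_connectedSpace_isSepClosed f
    (separableClosure k (AlgebraicClosure k))

/-- If `X_K` is irreducible for all finite separable extensions `K/k`, then `X` is geometrically
irreducible over `k`. -/
theorem geometricallyIrreducible_of_finite_separable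
    (h : ∀ (K : Type u) [Field K] [Algebra k K] [FiniteDimensional k K] [Algebra.IsSeparable k K],
      IrreducibleSpace ↥(pullback f (Spec.map (CommRingCat.ofHom (algebraMap k K))))) :
    GeometricallyIrreducible f := by
  have hsc : IsSepClosure k (separableClosure k (AlgebraicClosure k)) := inferInstance
  have hscl : IsSepClosed (separableClosure k (AlgebraicClosure k)) := hsc.sep_closed
  have hsep : Algebra.IsSeparable k (separableClosure k (AlgebraicClosure k)) := hsc.separable
  have := irreducibleSpace_of_finite_levels f (separableClosure k (AlgebraicClosure k))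
    (fun k' hk' => by
      have : Algebra.IsSeparable k k' :=
        Algebra.isSeparable_tower_bot_of_isSeparable k k' (separableClosure k (AlgebraicClosure k))
      exact h k')
  exact geometricallyIrreducible_of_irreducibleSpace_isSepClosed f
    (separableClosure k (AlgebraicClosure k))

end sepClosure

end Groth.Agent.Lib.Helper21
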