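import Groth.Agent.Lib.Helper21.GeomConnComp

/-!
# Towers of field extensions and base change (helper21)

* `exists_tower_map`: for `k → k' → K`, the comparison `X_K ⟶ X_{k'}` is a base change of
  `Spec K ⟶ Spec k'`, compatible with the projections to `X`.
* `universallyInjective_SpecMap_of_isPurelyInseparable`, `isHomeomorph_of_isPullback_of_isPurelyInseparable`:
  purely inseparable extensions are universal homeomorphisms.
* `isConnected_preimage_of_isAlgClosed`, `isIrreducible_preimage_of_isAlgClosed`: connectedness /
  irreducibility of preimages can be tested over one algebraically closed algebraic extension.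
-/

universe u

open CategoryTheory CategoryTheory.Limits AlgebraicGeometry

namespace Groth.Agent.Lib.Helper21

section tower

variable {k : Type u} [Field k] {X : Scheme.{u}} (f : X ⟶ Spec (CommRingCat.of k))
  (k' K : Type u) [Field k'] [Field K] [Algebra k k'] [Algebra k' K] [Algebra k K]
  [IsScalarTower k k' K]

theorem exists_tower_map :
    ∃ p : pullback f (Spec.map (CommRingCat.ofHom (algebraMap k K))) ⟶
        pullback f (Spec.map (CommRingCat.ofHom (algebraMap k k'))),
      IsPullback p (pullback.snd f (Spec.map (CommRingCat.ofHom (algebraMap k K))))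
        (pullback.snd f (Spec.map (CommRingCat.ofHom (algebraMap k k'))))
        (Spec.map (CommRingCat.ofHom (algebraMap k' K))) ∧
      p ≫ bcπ' f k' = bcπ' f K := by
  have hY := IsPullback.of_hasPullback f (Spec.map (CommRingCat.ofHom (algebraMap k k')))
  have hcomp : Spec.map (CommRingCat.ofHom (algebraMap k' K)) ≫
      Spec.map (CommRingCat.ofHom (algebraMap k k')) =
      Spec.map (CommRingCat.ofHom (algebraMap k K)) := by
    rw [← Spec.map_comp, ← CommRingCat.ofHom_comp, ← IsScalarTower.algebraMap_eq]
  have hout : IsPullback (bcπ' f K) (pullback.snd f (Spec.map (CommRingCat.ofHom (algebraMap k K)))) f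
      (Spec.map (CommRingCat.ofHom (algebraMap k' K)) ≫
        Spec.map (CommRingCat.ofHom (algebraMap k k'))) := by
    rw [hcomp]
    exact IsPullback.of_hasPullback f _
  refine ⟨hY.lift (bcπ' f K) (pullback.snd f _ ≫ Spec.map (CommRingCat.ofHom (algebraMap k' K)))
    (by rw [Category.assoc]; exact hout.w), ?_, hY.lift_fst _ _ _⟩
  refine IsPullback.of_right ?_ (hY.lift_snd _ _ _) hY
  rw [hY.lift_fst]
  exact hout

end tower

section insep

/-- `Spec k' → Spec k` is universally injective for a purely inseparable extension. -/
theorem universallyInjective_SpecMap_of_isPurelyInseparable {k k' : Type u} [Field k] [Field k']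
    [Algebra k k'] [IsPurelyInseparable k k'] :
    UniversallyInjective (Spec.map (CommRingCat.ofHom (algebraMap k k'))) := by
  refine ((tfae_universallyInjective _).out 0 1).mpr ?_
  intro K _ g₁ g₂ hg
  dsimp only at hg
  obtain ⟨φ₁, rfl⟩ := Spec.map_surjective g₁
  obtain ⟨φ₂, rfl⟩ := Spec.map_surjective g₂
  rw [← Spec.map_comp, ← Spec.map_comp] at hg
  have h1 := Spec.map_injective hg
  have h2 : φ₁.hom.comp (algebraMap k k') = φ₂.hom.comp (algebraMap k k') := by
    have := congrArg CommRingCat.Hom.hom h1
    simpa using this
  have h3 := IsPurelyInseparable.injective_comp_algebraMap k k' K h2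
  congr 1
  exact CommRingCat.hom_ext h3

/-- Any base change of `Spec k' → Spec k`, `k'/k` purely inseparable, is a homeomorphism. -/
theorem isHomeomorph_of_isPullback_of_isPurelyInseparable {k k' : Type u} [Field k] [Field k']
    [Algebra k k'] [IsPurelyInseparable k k'] {X' Y' : Scheme.{u}}
    {i₁ : X' ⟶ Spec (CommRingCat.of k')} {i₂ : Y' ⟶ Spec (CommRingCat.of k)} {f' : X' ⟶ Y'}
    (hpb : IsPullback f' i₁ i₂ (Spec.map (CommRingCat.ofHom (algebraMap k k')))) :
    IsHomeomorph f' := by
  have hui : UniversallyInjective (Spec.map (CommRingCat.ofHom (algebraMap k k'))) :=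
    universallyInjective_SpecMap_of_isPurelyInseparable
  have h1 : Surjective f' := MorphismProperty.of_isPullback (P := @Surjective) hpb.flip inferInstance
  have h2 : UniversallyInjective f' :=
    MorphismProperty.of_isPullback (P := @UniversallyInjective) hpb.flip hui
  have h3 : UniversallyOpen f' :=
    MorphismProperty.of_isPullback (P := @UniversallyOpen) hpb.flip inferInstance
  exact ⟨f'.continuous, f'.isOpenMap, f'.injective, f'.surjective⟩

end insep

section algClosed

variable {k : Type u} [Field k] {X : Scheme.{u}} (f : X ⟶ Spec (CommRingCat.of k))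
  (kbar : Type u) [Field kbar] [Algebra k kbar] [Algebra.IsAlgebraic k kbar] [IsAlgClosed kbar]

/-- the auxiliary scheme `W` over `X_{k̄}` and `X_K`. -/
theorem exists_dominating_algebraic (K : Type u) [Field K] [Algebra k K] :
    ∃ (W : Scheme.{u}) (q : W ⟶ pullback f (Spec.map (CommRingCat.ofHom (algebraMap k kbar))))
      (p : W ⟶ pullback f (Spec.map (CommRingCat.ofHom (algebraMap k K)))),
      GeometricallyIrreducible q ∧ IsOpenMap q ∧ Surjective p ∧
        p ≫ bcπ' f K = q ≫ bcπ' f kbar := by
  let i : kbar →ₐ[k] AlgebraicClosure K := IsAlgClosed.lift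
  let j : K →+* AlgebraicClosure K := algebraMap K (AlgebraicClosure K)
  have hij : i.toRingHom.comp (algebraMap k kbar) = j.comp (algebraMap k K) := by
    ext x
    simp only [RingHom.comp_apply]
    change i (algebraMap k _ x) = _
    rw [i.commutes]
    exact IsScalarTower.algebraMap_apply k K (AlgebraicClosure K) x
  obtain ⟨p, hp, hpπ⟩ := exists_compare' f i.toRingHom j hij
    (IsPullback.of_hasPullback f (Spec.map (CommRingCat.ofHom (algebraMap k K))))
  have hgi : GeometricallyIrreducible (Spec.map (CommRingCat.ofHom i.toRingHom)) :=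
    geometricallyIrreducible_SpecMap_of_isAlgClosed' i.toRingHom
  refine ⟨bcbc (K := kbar) f i.toRingHom, pullback.fst _ _, p,
    geometricallyIrreducible_pullback_fst _ _ hgi, ?_, ?_, hpπ⟩
  · have : UniversallyOpen (pullback.fst (pullback.snd f (Spec.map (CommRingCat.ofHom (algebraMap k kbar))))
        (Spec.map (CommRingCat.ofHom i.toRingHom))) := inferInstance
    exact Scheme.Hom.isOpenMap _
  · exact MorphismProperty.of_isPullback (P := @Surjective) hp.flip inferInstance

omit [Algebra.IsAlgebraic k kbar] [IsAlgClosed kbar] in
theorem preimage_eq_image_preimage (K : Type u) [Field K] [Algebra k K]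
    {W : Scheme.{u}} {q : W ⟶ pullback f (Spec.map (CommRingCat.ofHom (algebraMap k kbar)))}
    {p : W ⟶ pullback f (Spec.map (CommRingCat.ofHom (algebraMap k K)))} (hp : Surjective p)
    (hpq : p ≫ bcπ' f K = q ≫ bcπ' f kbar) (C : Set X) :
    (bcπ' f K) ⁻¹' C = p '' (q ⁻¹' ((bcπ' f kbar) ⁻¹' C)) := by
  have hcomm : ∀ w, (bcπ' f K) (p w) = (bcπ' f kbar) (q w) := by
    intro w
    have h3 : (p ≫ bcπ' f K) w = (q ≫ bcπ' f kbar) w := by rw [hpq]
    rw [Scheme.Hom.comp_apply, Scheme.Hom.comp_apply] at h3
    exact h3
  ext z
  constructor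
  · intro hz
    obtain ⟨w, rfl⟩ := p.surjective z
    refine ⟨w, ?_, rfl⟩
    change (bcπ' f kbar) (q w) ∈ C
    rw [← hcomm]
    exact hz
  · rintro ⟨w, hw, rfl⟩
    change (bcπ' f K) (p w) ∈ C
    rw [hcomm]
    exact hw

theorem isConnected_preimage_of_isAlgClosed (C : Set X) (hCcl : IsClosed C)
    (hC : _root_.IsConnected ((bcπ' f kbar) ⁻¹' C)) (K : Type u) [Field K] [Algebra k K] :
    _root_.IsConnected ((bcπ' f K) ⁻¹' C) := by
  obtain ⟨W, q, p, hq, hqo, hp, hpq⟩ := exists_dominating_algebraic f kbar K
  have hqc : GeometricallyConnected q := geometricallyConnected_of_geometricallyIrreducible q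
  rw [preimage_eq_image_preimage f kbar K hp hpq C]
  exact (Scheme.Hom.isConnected_preimage q hqo hC (hCcl.preimage (bcπ' f kbar).continuous)).image _
    p.continuous.continuousOn

theorem isIrreducible_preimage_of_isAlgClosed (C : Set X)
    (hC : IsIrreducible ((bcπ' f kbar) ⁻¹' C)) (K : Type u) [Field K] [Algebra k K] :
    IsIrreducible ((bcπ' f K) ⁻¹' C) := by
  obtain ⟨W, q, p, hq, hqo, hp, hpq⟩ := exists_dominating_algebraic f kbar K
  rw [preimage_eq_image_preimage f kbar K hp hpq C]
  exact (Scheme.Hom.isIrreducible_preimage q hqo hC).image _ p.continuous.continuousOn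

/-- geometric connectedness can be tested on one algebraically closed algebraic extension. -/
theorem geometricallyConnected_of_connectedSpace_isAlgClosed
    [ConnectedSpace ↥(pullback f (Spec.map (CommRingCat.ofHom (algebraMap k kbar))))] :
    GeometricallyConnected f := by
  refine ⟨geometrically_iff_of_commRing_of_isClosedUnderIsomorphisms.mpr ?_⟩
  intro K _ _
  have h := isConnected_preimage_of_isAlgClosed f kbar Set.univ isClosed_univ
    (by rw [Set.preimage_univ]; exact isConnected_univ) K
  rw [Set.preimage_univ] at h
  exact connectedSpace_iff_univ.2 h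

/-- geometric irreducibility can be tested on one algebraically closed algebraic extension. -/
theorem geometricallyIrreducible_of_irreducibleSpace_isAlgClosed
    [IrreducibleSpace ↥(pullback f (Spec.map (CommRingCat.ofHom (algebraMap k kbar))))] :
    GeometricallyIrreducible f := by
  refine ⟨geometrically_iff_of_commRing_of_isClosedUnderIsomorphisms.mpr ?_⟩
  intro K _ _
  have h := isIrreducible_preimage_of_isAlgClosed f kbar Set.univ
    (by rw [Set.preimage_univ]; exact IrreducibleSpace.isIrreducible_univ _) K
  rw [Set.preimage_univ] at h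
  exact (irreducibleSpace_def _).2 h

end algClosed

section sepClosed

variable {k : Type u} [Field k] {X : Scheme.{u}} (f : X ⟶ Spec (CommRingCat.of k))
  (ks : Type u) [Field ks] [Algebra k ks] [Algebra.IsAlgebraic k ks] [IsSepClosed ks]

omit [Algebra.IsAlgebraic k ks] in
/-- `X_{k̄} → X_{k^s}` is a homeomorphism (`k̄` the algebraic closure of the separably closed
algebraic extension `k^s`). -/
theorem exists_homeomorph_algebraicClosure_of_isSepClosed :
    ∃ p : pullback f (Spec.map (CommRingCat.ofHom (algebraMap k (AlgebraicClosure ks)))) ⟶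
        pullback f (Spec.map (CommRingCat.ofHom (algebraMap k ks))),
      IsHomeomorph p ∧ p ≫ bcπ' f ks = bcπ' f (AlgebraicClosure ks) := by
  obtain ⟨p, hp, hpπ⟩ := exists_tower_map f ks (AlgebraicClosure ks)
  exact ⟨p, isHomeomorph_of_isPullback_of_isPurelyInseparable hp, hpπ⟩

instance isAlgebraic_algebraicClosure_of_isAlgebraic :
    Algebra.IsAlgebraic k (AlgebraicClosure ks) :=
  Algebra.IsAlgebraic.trans k ks (AlgebraicClosure ks)

/-- geometric connectedness can be tested over a separably closed algebraic extension. -/
theorem geometricallyConnected_of_connectedSpace_isSepClosed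
    [ConnectedSpace ↥(pullback f (Spec.map (CommRingCat.ofHom (algebraMap k ks))))] :
    GeometricallyConnected f := by
  obtain ⟨p, hp, -⟩ := exists_homeomorph_algebraicClosure_of_isSepClosed f ks
  have : ConnectedSpace ↥(pullback f (Spec.map (CommRingCat.ofHom (algebraMap k (AlgebraicClosure ks))))) :=
    (hp.homeomorph.symm.surjective).connectedSpace hp.homeomorph.symm.continuous
  exact geometricallyConnected_of_connectedSpace_isAlgClosed f (AlgebraicClosure ks)

/-- geometric irreducibility can be tested over a separably closed algebraic extension. -/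
theorem geometricallyIrreducible_of_irreducibleSpace_isSepClosed
    [IrreducibleSpace ↥(pullback f (Spec.map (CommRingCat.ofHom (algebraMap k ks))))] :
    GeometricallyIrreducible f := by
  obtain ⟨p, hp, -⟩ := exists_homeomorph_algebraicClosure_of_isSepClosed f ks
  have : IrreducibleSpace ↥(pullback f (Spec.map (CommRingCat.ofHom (algebraMap k (AlgebraicClosure ks))))) :=
    (hp.homeomorph.symm.surjective).irreducibleSpace hp.homeomorph.symm.continuous
  exact geometricallyIrreducible_of_irreducibleSpace_isAlgClosed f (AlgebraicClosure ks)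

end sepClosed

end Groth.Agent.Lib.Helper21
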