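import Groth.Agent.Lib.Helper21.SepClosedIn
import Groth.Agent.Lib.Helper21.FieldTower

/-!
# Primary field extensions are geometrically irreducible (helper21)

`geometricallyIrreducible_SpecMap_of_separableClosure_eq_bot`: if `k` is separably closed in the
field `K` then `Spec K ⟶ Spec k` is geometrically irreducible (hence geometrically connected).
-/

universe u

open CategoryTheory CategoryTheory.Limits AlgebraicGeometry
open scoped TensorProduct

namespace Groth.Agent.Lib.Helper21

theorem geometricallyIrreducible_SpecMap_of_separableClosure_eq_bot (k K : Type u) [Field k]
    [Field K] [Algebra k K] (h : separableClosure k K = ⊥) :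
    GeometricallyIrreducible (Spec.map (CommRingCat.ofHom (algebraMap k K))) := by
  have hsc : IsSepClosure k (separableClosure k (AlgebraicClosure K)) := inferInstance
  have hscl : IsSepClosed (separableClosure k (AlgebraicClosure K)) := hsc.sep_closed
  have hdom : IsDomain ((separableClosure k (AlgebraicClosure K)) ⊗[k] K) :=
    isDomain_separableClosure_tensor (Ω := AlgebraicClosure K) h
  have hdom' : IsDomain (K ⊗[k] (separableClosure k (AlgebraicClosure K))) :=
    (Algebra.TensorProduct.comm k K (separableClosure k (AlgebraicClosure K))).toMulEquiv.isDomain
  have hirr : IrreducibleSpace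
      ↥(Spec (CommRingCat.of (K ⊗[k] (separableClosure k (AlgebraicClosure K))))) := inferInstance
  have : IrreducibleSpace ↥(pullback (Spec.map (CommRingCat.ofHom (algebraMap k K)))
      (Spec.map (CommRingCat.ofHom (algebraMap k (separableClosure k (AlgebraicClosure K)))))) :=
    ((pullbackSpecIso k K (separableClosure k (AlgebraicClosure K))).hom.homeomorph.irreducibleSpace_iff).2
      hirr
  exact geometricallyIrreducible_of_irreducibleSpace_isSepClosed
    (Spec.map (CommRingCat.ofHom (algebraMap k K))) (separableClosure k (AlgebraicClosure K))

theorem geometricallyConnected_SpecMap_of_separableClosure_eq_bot (k K : Type u) [Field k]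
    [Field K] [Algebra k K] (h : separableClosure k K = ⊥) :
    GeometricallyConnected (Spec.map (CommRingCat.ofHom (algebraMap k K))) := by
  have := geometricallyIrreducible_SpecMap_of_separableClosure_eq_bot k K h
  exact geometricallyConnected_of_geometricallyIrreducible _

end Groth.Agent.Lib.Helper21
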