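import Mathlib

/-!
# Connectedness of preimages under open and closed maps (helper21)

`isPreconnected_preimage_of_isOpenMap_of_isClosedMap`: for `p : α → β` open and closed,
`C ⊆ β` preconnected, `T ⊆ p ⁻¹' C` preconnected containing a whole fibre `p ⁻¹' {w₀}`, `w₀ ∈ C`,
the preimage `p ⁻¹' C` is preconnected.
-/

namespace Groth.Agent.Lib.Helper21

theorem isPreconnected_preimage_of_isOpenMap_of_isClosedMap {α β : Type*} [TopologicalSpace α]
    [TopologicalSpace β] {p : α → β} (ho : IsOpenMap p) (hcl : IsClosedMap p)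
    {C : Set β} (hC : IsPreconnected C) {T : Set α} (hT : IsPreconnected T) (hTC : T ⊆ p ⁻¹' C)
    {w₀ : β} (hw₀ : w₀ ∈ C) (hfib : p ⁻¹' {w₀} ⊆ T) :
    IsPreconnected (p ⁻¹' C) := by
  rw [isPreconnected_iff_subset_of_disjoint]
  -- the key one-sided statement
  have key : ∀ u v : Set α, IsOpen u → IsOpen v → p ⁻¹' C ⊆ u ∪ v → p ⁻¹' C ∩ (u ∩ v) = ∅ →
      T ⊆ u → p ⁻¹' C ⊆ u := by
    intro u v hu hv huv hdisj hTu
    -- B = p '' (S ∩ v)
    have hB1 : p '' (p ⁻¹' C ∩ v) = C ∩ p '' v := by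
      ext c
      constructor
      · rintro ⟨s, ⟨hsC, hsv⟩, rfl⟩
        exact ⟨hsC, s, hsv, rfl⟩
      · rintro ⟨hc, s, hsv, rfl⟩
        exact ⟨s, ⟨hc, hsv⟩, rfl⟩
    have hSv : p ⁻¹' C ∩ v = p ⁻¹' C ∩ uᶜ := by
      ext s
      constructor
      · rintro ⟨hs, hsv⟩
        refine ⟨hs, fun hsu => ?_⟩
        have : s ∈ p ⁻¹' C ∩ (u ∩ v) := ⟨hs, hsu, hsv⟩
        rw [hdisj] at this
        exact this
      · rintro ⟨hs, hsu⟩
        rcases huv hs with h | h
        · exact absurd h hsu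
        · exact ⟨hs, h⟩
    have hB2 : p '' (p ⁻¹' C ∩ v) = C ∩ p '' uᶜ := by
      rw [hSv]
      ext c
      constructor
      · rintro ⟨s, ⟨hsC, hsv⟩, rfl⟩
        exact ⟨hsC, s, hsv, rfl⟩
      · rintro ⟨hc, s, hsv, rfl⟩
        exact ⟨s, ⟨hc, hsv⟩, rfl⟩
    have hw₀B : w₀ ∉ p '' (p ⁻¹' C ∩ v) := by
      rintro ⟨s, ⟨hs, hsv⟩, hsw⟩
      have hsT : s ∈ T := hfib hsw
      have : s ∈ p ⁻¹' C ∩ (u ∩ v) := ⟨hs, hTu hsT, hsv⟩
      rw [hdisj] at this
      exact this
    have hO : IsOpen (p '' v) := ho v hv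
    have hF : IsClosed (p '' uᶜ) := hcl _ hu.isClosed_compl
    have hcover : C ⊆ p '' v ∪ (p '' uᶜ)ᶜ := by
      intro c hc
      by_cases h : c ∈ p '' uᶜ
      · left
        have : c ∈ C ∩ p '' uᶜ := ⟨hc, h⟩
        rw [← hB2, hB1] at this
        exact this.2
      · right; exact h
    have hdis : C ∩ (p '' v ∩ (p '' uᶜ)ᶜ) = ∅ := by
      ext c
      simp only [Set.mem_inter_iff, Set.mem_compl_iff, Set.mem_empty_iff_false, iff_false]
      rintro ⟨hc, hcv, hcu⟩
      have : c ∈ C ∩ p '' v := ⟨hc, hcv⟩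
      rw [← hB1, hB2] at this
      exact hcu this.2
    have hsplit := (isPreconnected_iff_subset_of_disjoint.1 hC) _ _ hO hF.isOpen_compl hcover hdis
    rcases hsplit with h | h
    · exfalso
      apply hw₀B
      rw [hB1]
      exact ⟨hw₀, h hw₀⟩
    · -- B = ∅
      intro s hs
      rcases huv hs with hsu | hsv
      · exact hsu
      · exfalso
        have h1 : p s ∈ p '' (p ⁻¹' C ∩ v) := ⟨s, ⟨hs, hsv⟩, rfl⟩
        rw [hB2] at h1
        exact h h1.1 h1.2
  intro u v hu hv huv hdisj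
  have hTdisj : T ∩ (u ∩ v) = ∅ := by
    apply Set.eq_empty_of_subset_empty
    rw [← hdisj]
    exact Set.inter_subset_inter_left _ hTC
  rcases (isPreconnected_iff_subset_of_disjoint.1 hT) u v hu hv (hTC.trans huv) hTdisj with h | h
  · left; exact key u v hu hv huv hdisj h
  · right
    refine key v u hv hu (by rwa [Set.union_comm]) (by rwa [Set.inter_comm v u]) h

end Groth.Agent.Lib.Helper21
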