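import Groth.Agent.Lib.Helper21.GeomConnComp

/-!
# Transfer of connectedness of a base change along a morphism (helper21)

If `h : T ⟶ X` is a `k`-morphism, `X` is connected, `K/k` is algebraic and `T_K` is connected, then
`X_K` is connected.
-/

universe u

open CategoryTheory CategoryTheory.Limits AlgebraicGeometry

namespace Groth.Agent.Lib.Helper21

theorem connectedSpace_bc_of_connectedSpace_bc {k : Type u} [Field k] {T X : Scheme.{u}}
    (g : T ⟶ Spec (CommRingCat.of k)) (f : X ⟶ Spec (CommRingCat.of k)) (h : T ⟶ X)
    (w : h ≫ f = g) (K : Type u) [Field K] [Algebra k K] [Algebra.IsAlgebraic k K]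
    [ConnectedSpace X]
    [hT : ConnectedSpace ↥(pullback g (Spec.map (CommRingCat.ofHom (algebraMap k K))))] :
    ConnectedSpace ↥(pullback f (Spec.map (CommRingCat.ofHom (algebraMap k K)))) := by
  subst w
  -- `T_K` is the pullback of `h` along `p`
  have hconn : ConnectedSpace ↥(pullback h (bcπ' f K)) :=
    (pullbackRightPullbackFstIso f (Spec.map (CommRingCat.ofHom (algebraMap k K)))
      h).hom.homeomorph.symm.surjective.connectedSpace
      (pullbackRightPullbackFstIso f (Spec.map (CommRingCat.ofHom (algebraMap k K)))
      h).hom.homeomorph.symm.continuous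
  have hTpre : _root_.IsPreconnected (Set.range (pullback.snd h (bcπ' f K))) :=
    isPreconnected_range (pullback.snd h (bcπ' f K)).continuous
  have hrange : Set.range (pullback.snd h (bcπ' f K)) = (bcπ' f K) ⁻¹' Set.range h :=
    Scheme.Pullback.range_snd h (bcπ' f K)
  obtain ⟨s⟩ := hconn.toNonempty
  let t : T := pullback.fst h (bcπ' f K) s
  have hpre : _root_.IsPreconnected ((bcπ' f K) ⁻¹' (Set.univ : Set X)) :=
    isPreconnected_preimage_of_isOpenMap_of_isClosedMap (isOpenMap_bcπ f K)
      (isClosedMap_bcπ_of_isAlgebraic f K) isPreconnected_univ hTpre (fun _ _ => trivial)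
      (Set.mem_univ (h t)) (by
        rw [hrange]
        intro z hz
        rw [Set.mem_preimage, Set.mem_singleton_iff] at hz
        rw [Set.mem_preimage, hz]
        exact ⟨t, rfl⟩)
  rw [Set.preimage_univ] at hpre
  exact { isPreconnected_univ := hpre, toNonempty := ⟨pullback.snd h (bcπ' f K) s⟩ }

end Groth.Agent.Lib.Helper21
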