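import Groth.Agent.Lib.Helper21.FieldDim
import Mathlib

/-!
# Dimension of constructible subsets of schemes locally of finite type over a field
-/

set_option linter.style.haveILetI false
universe u

open CategoryTheory CategoryTheory.Limits AlgebraicGeometry TopologicalSpace Topology

namespace Groth.Agent.Lib.Helper21.FieldDim

section Top

variable {X : Type*} [TopologicalSpace X]

/-- a constructible set either contains or misses a nonempty open subset of `closure {x}`. -/
theorem exists_open_inter_closure_subset_or {s : Set X} (hs : IsConstructible s) (x : X) :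
    ∃ U : Set X, IsOpen U ∧ x ∈ U ∧ (closure {x} ∩ U ⊆ s ∨ closure {x} ∩ U ⊆ sᶜ) := by
  induction hs using IsConstructible.empty_union_induction with
  | open_retrocompact U0 hU0 _ =>
    by_cases hx : x ∈ U0
    · exact ⟨U0, hU0, hx, Or.inl Set.inter_subset_right⟩
    · refine ⟨Set.univ, isOpen_univ, trivial, Or.inr ?_⟩
      rintro y ⟨hy, -⟩ hyU
      have hsp : x ⤳ y := specializes_iff_mem_closure.mpr hy
      exact hx (hsp.mem_open hU0 hyU)
  | union s hs t ht hs' ht' =>
    obtain ⟨U1, hU1, hx1, h1⟩ := hs'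
    obtain ⟨U2, hU2, hx2, h2⟩ := ht'
    rcases h1 with h1 | h1
    · exact ⟨U1, hU1, hx1, Or.inl (h1.trans Set.subset_union_left)⟩
    · rcases h2 with h2 | h2
      · exact ⟨U2, hU2, hx2, Or.inl (h2.trans Set.subset_union_right)⟩
      · refine ⟨U1 ∩ U2, hU1.inter hU2, ⟨hx1, hx2⟩, Or.inr ?_⟩
        rintro y ⟨hy, hy1, hy2⟩ (hys | hyt)
        · exact h1 ⟨hy, hy1⟩ hys
        · exact h2 ⟨hy, hy2⟩ hyt
  | compl s hs hs' =>
    obtain ⟨U1, hU1, hx1, h1⟩ := hs'
    refine ⟨U1, hU1, hx1, ?_⟩
    rcases h1 with h1 | h1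
    · exact Or.inr (by rwa [compl_compl])
    · exact Or.inl h1

theorem exists_open_inter_closure_subset {s : Set X} (hs : IsConstructible s) {x : X}
    (hx : x ∈ s) : ∃ U : Set X, IsOpen U ∧ x ∈ U ∧ closure {x} ∩ U ⊆ s := by
  obtain ⟨U, hU, hxU, h | h⟩ := exists_open_inter_closure_subset_or hs x
  · exact ⟨U, hU, hxU, h⟩
  · exact absurd hx (h ⟨subset_closure rfl, hxU⟩)

end Top

variable {k : Type u} [Field k] {X : Scheme.{u}} (f : X ⟶ Spec (CommRingCat.of k))
  [LocallyOfFiniteType f]

/-- for a constructible subset `T`, `trdeg κ(x) ≤ dim T` for every `x ∈ T`. -/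
theorem td_le_dim_of_isConstructible {T : Set X} (hT : IsConstructible T) {x : X} (hx : x ∈ T) :
    ((td f x : ℕ) : WithBot ℕ∞) ≤ topologicalKrullDim ↥T := by
  obtain ⟨U, hU, hxU, hsub⟩ := exists_open_inter_closure_subset hT hx
  have hlc : IsLocallyClosed (closure {x} ∩ U) := by
    rw [Set.inter_comm]
    exact hU.isLocallyClosed.inter isClosed_closure.isLocallyClosed
  have h1 := (dim_le_iff_of_isLocallyClosed f _ hlc _).mp le_rfl x ⟨subset_closure rfl, hxU⟩
  exact h1.trans (Topology.IsEmbedding.inclusion hsub).topologicalKrullDim_le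

end Groth.Agent.Lib.Helper21.FieldDim
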