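import Mathlib.Topology.Constructible
import Mathlib.Topology.JacobsonSpace
import Mathlib.Topology.LocallyClosed

/-!
# Nonempty (locally) constructible sets in Jacobson spaces contain closed points
-/

set_option autoImplicit false

open Topology Set

namespace Groth.Agent.Lib.Helper21

variable {X : Type*} [TopologicalSpace X]

lemma exists_isLocallyClosed_subset_of_isConstructible {s : Set X}
    (hs : IsConstructible s) (hne : s.Nonempty) :
    ∃ Z ⊆ s, Z.Nonempty ∧ IsLocallyClosed Z := by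
  revert hne
  refine BooleanSubalgebra.closure_sdiff_sup_induction
    (s := {U : Set X | IsOpen U ∧ IsRetrocompact U})
    (p := fun s _ => s.Nonempty → ∃ Z ⊆ s, Z.Nonempty ∧ IsLocallyClosed Z)
    ⟨?_, ?_⟩ ⟨isOpen_empty, IsRetrocompact.empty⟩ ⟨isOpen_univ, IsRetrocompact.univ⟩
    ?_ ?_ s hs
  · intro a ha b hb
    exact ⟨ha.1.union hb.1, ha.2.union hb.2⟩
  · intro a ha b hb
    exact ⟨ha.1.inter hb.1, ha.2.inter_isOpen hb.2 hb.1⟩
  · intro x hx y hy hne
    refine ⟨x \ y, subset_rfl, hne, ?_⟩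
    exact ⟨x, yᶜ, hx.1, hy.1.isClosed_compl, rfl⟩
  · intro x _ y _ ihx ihy hne
    rcases hne with ⟨z, hz | hz⟩
    · obtain ⟨Z, hZ, h1, h2⟩ := ihx ⟨z, hz⟩
      exact ⟨Z, hZ.trans subset_union_left, h1, h2⟩
    · obtain ⟨Z, hZ, h1, h2⟩ := ihy ⟨z, hz⟩
      exact ⟨Z, hZ.trans subset_union_right, h1, h2⟩

lemma exists_isLocallyClosed_subset_of_isLocallyConstructible {s : Set X}
    (hs : IsLocallyConstructible s) (hne : s.Nonempty) :
    ∃ Z ⊆ s, Z.Nonempty ∧ IsLocallyClosed Z := by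
  obtain ⟨y, hy⟩ := hne
  obtain ⟨U, hU, hUo, hUc⟩ := hs y
  have hyU : y ∈ U := mem_of_mem_nhds hU
  obtain ⟨Z, hZ, hZne, hZlc⟩ :=
    exists_isLocallyClosed_subset_of_isConstructible hUc ⟨⟨y, hyU⟩, hy⟩
  refine ⟨Subtype.val '' Z, ?_, hZne.image _, ?_⟩
  · rintro _ ⟨z, hz, rfl⟩
    exact hZ hz
  · refine hZlc.image IsInducing.subtypeVal ?_
    rw [Subtype.range_coe]
    exact hUo.isLocallyClosed

lemma isLocallyConstructible_compl_of {s : Set X} (hs : IsLocallyConstructible s) :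
    IsLocallyConstructible sᶜ := by
  intro x
  obtain ⟨U, hU, hUo, hUc⟩ := hs x
  refine ⟨U, hU, hUo, ?_⟩
  have : (Subtype.val ⁻¹' sᶜ : Set U) = (Subtype.val ⁻¹' s : Set U)ᶜ := rfl
  rw [this]
  exact hUc.compl

lemma exists_closedPoint_mem_of_isLocallyConstructible [JacobsonSpace X] {s : Set X}
    (hs : IsLocallyConstructible s) (hne : s.Nonempty) :
    ∃ x ∈ s, IsClosed ({x} : Set X) := by
  obtain ⟨Z, hZ, hZne, hZlc⟩ := exists_isLocallyClosed_subset_of_isLocallyConstructible hs hne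
  obtain ⟨x, hxZ, hx⟩ := nonempty_inter_closedPoints hZne hZlc
  exact ⟨x, hZ hxZ, hx⟩

end Groth.Agent.Lib.Helper21
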