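import Mathlib.AlgebraicGeometry.Limits
import Mathlib.AlgebraicGeometry.Morphisms.QuasiSeparated

/-!
# Topology of binary coproducts of schemes
-/

set_option autoImplicit false
universe u

open AlgebraicGeometry CategoryTheory CategoryTheory.Limits Topology

namespace Groth.Agent.Lib.Helper21

variable (X Y : Scheme.{u})

lemma range_inl_eq_compl :
    Set.range (coprod.inl : X ⟶ X ⨿ Y) = (Set.range (coprod.inr : Y ⟶ X ⨿ Y))ᶜ :=
  (isCompl_range_inl_inr X Y).eq_compl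

lemma range_inr_eq_compl :
    Set.range (coprod.inr : Y ⟶ X ⨿ Y) = (Set.range (coprod.inl : X ⟶ X ⨿ Y))ᶜ :=
  (isCompl_range_inl_inr X Y).symm.eq_compl

lemma isClosedEmbedding_inl : IsClosedEmbedding (coprod.inl : X ⟶ X ⨿ Y) := by
  refine ⟨(coprod.inl : X ⟶ X ⨿ Y).isOpenEmbedding.isEmbedding, ?_⟩
  rw [range_inl_eq_compl]
  exact (coprod.inr : Y ⟶ X ⨿ Y).isOpenEmbedding.isOpen_range.isClosed_compl

lemma isClosedEmbedding_inr : IsClosedEmbedding (coprod.inr : Y ⟶ X ⨿ Y) := by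
  refine ⟨(coprod.inr : Y ⟶ X ⨿ Y).isOpenEmbedding.isEmbedding, ?_⟩
  rw [range_inr_eq_compl]
  exact (coprod.inl : X ⟶ X ⨿ Y).isOpenEmbedding.isOpen_range.isClosed_compl

lemma exists_inl_or_inr (z : (X ⨿ Y : Scheme.{u})) :
    (∃ x : X, (coprod.inl : X ⟶ X ⨿ Y) x = z) ∨ (∃ y : Y, (coprod.inr : Y ⟶ X ⨿ Y) y = z) := by
  have h := (isCompl_range_inl_inr X Y).sup_eq_top
  have hz : z ∈ Set.range (coprod.inl : X ⟶ X ⨿ Y) ⊔ Set.range (coprod.inr : Y ⟶ X ⨿ Y) := by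
    rw [h]; trivial
  exact hz

lemma eq_image_union_image (S : Set (X ⨿ Y : Scheme.{u})) :
    S = (coprod.inl : X ⟶ X ⨿ Y) '' ((coprod.inl : X ⟶ X ⨿ Y) ⁻¹' S) ∪
      (coprod.inr : Y ⟶ X ⨿ Y) '' ((coprod.inr : Y ⟶ X ⨿ Y) ⁻¹' S) := by
  ext z
  constructor
  · intro hz
    rcases exists_inl_or_inr X Y z with ⟨x, rfl⟩ | ⟨y, rfl⟩
    · exact Or.inl ⟨x, hz, rfl⟩
    · exact Or.inr ⟨y, hz, rfl⟩
  · rintro (⟨x, hx, rfl⟩ | ⟨y, hy, rfl⟩)
    · exact hx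
    · exact hy

lemma isCompact_iff_preimage (S : Set (X ⨿ Y : Scheme.{u})) :
    IsCompact S ↔ IsCompact ((coprod.inl : X ⟶ X ⨿ Y) ⁻¹' S) ∧
      IsCompact ((coprod.inr : Y ⟶ X ⨿ Y) ⁻¹' S) := by
  constructor
  · intro h
    exact ⟨(isClosedEmbedding_inl X Y).isCompact_preimage h,
      (isClosedEmbedding_inr X Y).isCompact_preimage h⟩
  · rintro ⟨h1, h2⟩
    rw [eq_image_union_image X Y S]
    exact (h1.image (coprod.inl : X ⟶ X ⨿ Y).continuous).union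
      (h2.image (coprod.inr : Y ⟶ X ⨿ Y).continuous)

end Groth.Agent.Lib.Helper21
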