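import Groth.Agent.Lib.Helper21.FibreTd
import Groth.Agent.Lib.Helper21.FlatFibreDimField
import Groth.Agent.Lib.Helper21.MaximalPoints
import Groth.Agent.Lib.Helper73.IrredDim
import Mathlib

/-!
# Dominant quasi-compact morphisms hit the maximal points; dimension of source vs target + fibres
-/

set_option linter.style.haveILetI false
universe u

open CategoryTheory CategoryTheory.Limits AlgebraicGeometry TopologicalSpace

namespace Groth.Agent.Lib.Helper21.FieldDim

section Dominant

variable {X Y : Scheme.{u}} (f : X ⟶ Y)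

/-- a quasi-compact morphism with dense range from a locally Noetherian scheme hits every maximal
point of the target. -/
theorem mem_range_of_maximal_of_denseRange [QuasiCompact f] [IsLocallyNoetherian X]
    (hd : DenseRange f) {η : Y} (hη : ∀ z : Y, z ⤳ η → η ⤳ z) : η ∈ Set.range f := by
  obtain ⟨_, ⟨W, hW, rfl⟩, hηW, -⟩ :=
    Y.isBasis_affineOpens.exists_subset_of_mem_open (Set.mem_univ η) isOpen_univ
  have hW' : IsAffineOpen W := hW
  let V : X.Opens := f ⁻¹ᵁ W
  have hVc : IsCompact (V : Set X) := QuasiCompact.isCompact_preimage (f := f) _ W.2 hW'.isCompact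
  have : CompactSpace ↥(V : Scheme.{u}) := isCompact_iff_compactSpace.mp hVc
  have : IsLocallyNoetherian (V : Scheme.{u}) := isLocallyNoetherian_of_isOpenImmersion V.ι
  have : AlgebraicGeometry.IsNoetherian (V : Scheme.{u}) := AlgebraicGeometry.IsNoetherian.mk
  have hNS : NoetherianSpace ↥V := inferInstanceAs (NoetherianSpace ↥(V : Scheme.{u}))
  have hQS : QuasiSober ↥V := inferInstanceAs (QuasiSober ↥(V : Scheme.{u}))
  have hfin : (irreducibleComponents ↥V).Finite := NoetherianSpace.finite_irreducibleComponents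
  -- generic points of the components
  let gp : ∀ T : Set ↥V, T ∈ irreducibleComponents ↥V → X := fun T hT => (hT.1.genericPoint : ↥V).1
  let C : Set Y := ⋃ T ∈ irreducibleComponents ↥V, ⋃ hT : T ∈ irreducibleComponents ↥V,
    closure {f (gp T hT)}
  have hCcl : IsClosed C := by
    refine hfin.isClosed_biUnion fun T hT => ?_
    exact isClosed_iUnion_of_finite fun _ => isClosed_closure
  have hfV : ∀ x : X, x ∈ V → f x ∈ C := by
    intro x hx
    have hT := irreducibleComponent_mem_irreducibleComponents (⟨x, hx⟩ : ↥V)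
    have hcl := isClosed_of_mem_irreducibleComponents _ hT
    have hgen : IsGenericPoint hT.1.genericPoint (irreducibleComponent (⟨x, hx⟩ : ↥V)) :=
      hT.1.isGenericPoint_genericPoint hcl
    have hsp : hT.1.genericPoint ⤳ (⟨x, hx⟩ : ↥V) := hgen.specializes mem_irreducibleComponent
    have hsp' : gp _ hT ⤳ x := (subtype_specializes_iff _ _).mp hsp
    have hsp'' : f (gp _ hT) ⤳ f x := hsp'.map f.continuous
    refine Set.mem_iUnion₂.mpr ⟨_, hT, Set.mem_iUnion.mpr ⟨hT, ?_⟩⟩
    exact hsp''.mem_closure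
  have hηC : η ∈ C := by
    by_contra hηC
    have hopen : IsOpen ((W : Set Y) ∩ Cᶜ) := W.2.inter hCcl.isOpen_compl
    obtain ⟨_, ⟨hyW, hyC⟩, x, rfl⟩ := hd.inter_open_nonempty _ hopen ⟨η, hηW, hηC⟩
    exact hyC (hfV x hyW)
  obtain ⟨T, hT, hmem⟩ := Set.mem_iUnion₂.mp hηC
  obtain ⟨hT', hmem'⟩ := Set.mem_iUnion.mp hmem
  have hsp : f (gp T hT') ⤳ η := specializes_iff_mem_closure.mpr hmem'
  have hsp' := hη _ hsp
  exact ⟨gp T hT', ((hsp.antisymm hsp').eq)⟩

end Dominant

section Dim

variable {k : Type u} [Field k] {X Y : Scheme.{u}} (qX : X ⟶ Spec (CommRingCat.of k))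
  (qY : Y ⟶ Spec (CommRingCat.of k)) [LocallyOfFiniteType qX] [LocallyOfFiniteType qY]
  (f : X ⟶ Y) (hf : f ≫ qY = qX) [LocallyOfFiniteType f]

include hf in
/-- if all fibres have dimension `≤ r` then `dim X ≤ r + dim Y`. -/
theorem dim_le_add_of_fibre_le (r : ℕ)
    (h : ∀ x : X, topologicalKrullDim (f.fiber (f x)) ≤ (r : WithBot ℕ∞)) :
    topologicalKrullDim X ≤ (r : WithBot ℕ∞) + topologicalKrullDim Y := by
  rw [dim_le_iff qX]
  intro x
  rw [td_eq_add_tdR qX qY f hf x]
  push_cast
  rw [add_comm]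
  refine add_le_add ?_ (td_le_dim qY _)
  exact (tdR_le_dim_fiber f x).trans (h x)

include hf in
/-- if the fibres over the maximal points have dimension `≥ r` then `r + dim Y ≤ dim X`. -/
theorem add_dim_le_of_maximal_fibres (r : ℕ)
    (h : ∀ η : Y, (∀ z : Y, z ⤳ η → η ⤳ z) →
      (r : WithBot ℕ∞) ≤ topologicalKrullDim (f.fiber η)) :
    (r : WithBot ℕ∞) + topologicalKrullDim Y ≤ topologicalKrullDim X := by
  have step : ∀ η : Y, (∀ z : Y, z ⤳ η → η ⤳ z) →
      ((td qY η : ℕ) : WithBot ℕ∞) + (r : WithBot ℕ∞) ≤ topologicalKrullDim X := by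
    intro η hη
    obtain ⟨D', h1, h2⟩ := Groth.Agent.Lib.Helper73.SchemeDim.exists_sub_bound
      (topologicalKrullDim X) (td qY η)
    have h3 : topologicalKrullDim (f.fiber η) ≤ D' := by
      rw [dim_fiber_le_iff]
      intro x hx
      apply h1
      have h4 := td_eq_add_tdR qX qY f hf x
      have h5 := td_le_dim qX x
      rw [h4] at h5
      push_cast at h5
      rw [add_comm, ← hx]
      exact h5
    have h4 := (h η hη).trans h3
    rw [add_comm]
    exact (add_le_add_left h4 _).trans h2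
  obtain ⟨D'', h1, h2⟩ := Groth.Agent.Lib.Helper73.SchemeDim.exists_sub_bound
    (topologicalKrullDim X) r
  have h3 : topologicalKrullDim Y ≤ D'' := by
    rw [dim_le_iff qY]
    intro y
    obtain ⟨ξ, hξ, hξy⟩ := exists_maximal_specializes y
    have h4 : ((td qY y : ℕ) : WithBot ℕ∞) ≤ ((td qY ξ : ℕ) : WithBot ℕ∞) := by
      exact_mod_cast td_le_of_specializes qY hξy
    exact h4.trans (h1 _ (step ξ hξ))
  rw [add_comm]
  exact (add_le_add_left h3 _).trans h2

end Dim

end Groth.Agent.Lib.Helper21.FieldDim
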