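import Mathlib
import Groth.Prelude.Def_Grpd
import Groth.Prelude.Def_AlgSp

/-!
# The groupoid scheme attached to an equivalence relation (helper21)

* `inj_left`, `rel_refl`, `rel_symm`, `rel_trans`: scheme-level forms of `AlgSp.IsEqvRel`.
* `ofEqv h : Grpd.GroupoidScheme S` with `U = U.left`, `R = R.left`, `s = s.left`, `t = t.left`.
* `isIso_stabilizerToU`: for a groupoid with `(t, s)` injective on points, the stabilizer is trivial.
-/

set_option linter.style.haveILetI false
set_option autoImplicit false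
universe u
open CategoryTheory CategoryTheory.Limits AlgebraicGeometry

namespace Groth.Agent.Lib.Helper21.EqvGrpd

variable {S : Scheme.{u}} {R U : Over S} {s t : R ⟶ U}

theorem inj_left (h : AlgSp.IsEqvRel s t) {T : Scheme.{u}} (x y : T ⟶ R.left)
    (ht : x ≫ t.left = y ≫ t.left) (hs : x ≫ s.left = y ≫ s.left) : x = y := by
  have hxy : y ≫ R.hom = x ≫ R.hom := by
    calc y ≫ R.hom = (y ≫ t.left) ≫ U.hom := by rw [Category.assoc, Over.w t]
      _ = (x ≫ t.left) ≫ U.hom := by rw [ht]
      _ = x ≫ R.hom := by rw [Category.assoc, Over.w t]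
  let T' : Over S := Over.mk (x ≫ R.hom)
  let x' : T' ⟶ R := Over.homMk x rfl
  let y' : T' ⟶ R := Over.homMk y hxy
  have := h.injective T' x' y' (by ext; exact ht) (by ext; exact hs)
  exact congrArg CommaMorphism.left this

theorem rel_refl (h : AlgSp.IsEqvRel s t) {T : Scheme.{u}} (a : T ⟶ U.left) :
    ∃ ρ : T ⟶ R.left, ρ ≫ t.left = a ∧ ρ ≫ s.left = a := by
  obtain ⟨r, h1, h2⟩ := (h.equivalence (Over.mk (a ≫ U.hom))).refl (Over.homMk a rfl)
  exact ⟨r.left, congrArg CommaMorphism.left h1, congrArg CommaMorphism.left h2⟩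

theorem rel_symm (h : AlgSp.IsEqvRel s t) {T : Scheme.{u}} (ρ : T ⟶ R.left) :
    ∃ ρ' : T ⟶ R.left, ρ' ≫ t.left = ρ ≫ s.left ∧ ρ' ≫ s.left = ρ ≫ t.left := by
  let T' : Over S := Over.mk (ρ ≫ R.hom)
  let r : T' ⟶ R := Over.homMk ρ rfl
  obtain ⟨r', h1, h2⟩ := (h.equivalence T').symm ⟨r, rfl, rfl⟩
  exact ⟨r'.left, congrArg CommaMorphism.left h1, congrArg CommaMorphism.left h2⟩

theorem rel_trans (h : AlgSp.IsEqvRel s t) {T : Scheme.{u}} (ρ₁ ρ₂ : T ⟶ R.left)
    (h12 : ρ₁ ≫ s.left = ρ₂ ≫ t.left) :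
    ∃ ρ : T ⟶ R.left, ρ ≫ t.left = ρ₁ ≫ t.left ∧ ρ ≫ s.left = ρ₂ ≫ s.left := by
  let T' : Over S := Over.mk (ρ₁ ≫ R.hom)
  let r₁ : T' ⟶ R := Over.homMk ρ₁ rfl
  have h2 : ρ₂ ≫ R.hom = ρ₁ ≫ R.hom := by
    calc ρ₂ ≫ R.hom = (ρ₂ ≫ t.left) ≫ U.hom := by rw [Category.assoc, Over.w t]
      _ = (ρ₁ ≫ s.left) ≫ U.hom := by rw [h12]
      _ = ρ₁ ≫ R.hom := by rw [Category.assoc, Over.w s]
  let r₂ : T' ⟶ R := Over.homMk ρ₂ h2
  have e : r₁ ≫ s = r₂ ≫ t := by ext; exact h12
  obtain ⟨r, h1, h2⟩ := (h.equivalence T').trans ⟨r₁, rfl, rfl⟩ ⟨r₂, e.symm, rfl⟩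
  exact ⟨r.left, congrArg CommaMorphism.left h1, congrArg CommaMorphism.left h2⟩

section Def
variable (h : AlgSp.IsEqvRel s t)

noncomputable def eMap : U.left ⟶ R.left := (rel_refl h (𝟙 U.left)).choose
lemma eMap_t : eMap h ≫ t.left = 𝟙 _ := (rel_refl h (𝟙 U.left)).choose_spec.1
lemma eMap_s : eMap h ≫ s.left = 𝟙 _ := (rel_refl h (𝟙 U.left)).choose_spec.2

noncomputable def iMap : R.left ⟶ R.left := (rel_symm h (𝟙 R.left)).choose
lemma iMap_t : iMap h ≫ t.left = s.left :=
  ((rel_symm h (𝟙 R.left)).choose_spec.1).trans (Category.id_comp _)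
lemma iMap_s : iMap h ≫ s.left = t.left :=
  ((rel_symm h (𝟙 R.left)).choose_spec.2).trans (Category.id_comp _)

noncomputable def cMap : pullback s.left t.left ⟶ R.left :=
  (rel_trans h (pullback.fst s.left t.left) (pullback.snd s.left t.left) pullback.condition).choose
lemma cMap_t : cMap h ≫ t.left = pullback.fst s.left t.left ≫ t.left :=
  (rel_trans h (pullback.fst s.left t.left) (pullback.snd s.left t.left)
    pullback.condition).choose_spec.1
lemma cMap_s : cMap h ≫ s.left = pullback.snd s.left t.left ≫ s.left :=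
  (rel_trans h (pullback.fst s.left t.left) (pullback.snd s.left t.left)
    pullback.condition).choose_spec.2

/-- the groupoid scheme of an equivalence relation. -/
noncomputable def ofEqv : Grpd.GroupoidScheme S where
  U := U.left
  R := R.left
  pU := U.hom
  pR := R.hom
  s := s.left
  t := t.left
  e := eMap h
  i := iMap h
  c := cMap h
  s_over := Over.w s
  t_over := Over.w t
  comp_s := by
    intro T α β hab
    rw [Category.assoc, cMap_s, pullback.lift_snd_assoc]
  comp_t := by
    intro T α β hab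
    rw [Category.assoc, cMap_t, pullback.lift_fst_assoc]
  assoc := by
    intro T α β γ h₁ h₂
    apply inj_left h
    · simp only [Category.assoc, cMap_t, pullback.lift_fst_assoc]
    · simp only [Category.assoc, cMap_s, pullback.lift_snd_assoc]
  e_s := eMap_s h
  e_t := eMap_t h
  comp_e := by
    intro T α
    apply inj_left h
    · simp only [Category.assoc, cMap_t, pullback.lift_fst_assoc]
    · simp only [Category.assoc, cMap_s, pullback.lift_snd_assoc, eMap_s, Category.comp_id]
  e_comp := by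
    intro T α
    apply inj_left h
    · simp only [Category.assoc, cMap_t, pullback.lift_fst_assoc, eMap_t, Category.comp_id]
    · simp only [Category.assoc, cMap_s, pullback.lift_snd_assoc]
  i_s := iMap_s h
  i_t := iMap_t h
  comp_i := by
    intro T α
    apply inj_left h
    · simp only [Category.assoc, cMap_t, pullback.lift_fst_assoc, eMap_t, Category.comp_id]
    · simp only [Category.assoc, cMap_s, pullback.lift_snd_assoc, iMap_s, eMap_s,
        Category.comp_id]
  i_comp := by
    intro T α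
    apply inj_left h
    · simp only [Category.assoc, cMap_t, pullback.lift_fst_assoc, iMap_t, eMap_t,
        Category.comp_id]
    · simp only [Category.assoc, cMap_s, pullback.lift_snd_assoc, eMap_s, Category.comp_id]

@[simp] lemma ofEqv_U : (ofEqv h).U = U.left := rfl
@[simp] lemma ofEqv_R : (ofEqv h).R = R.left := rfl
@[simp] lemma ofEqv_s : (ofEqv h).s = s.left := rfl
@[simp] lemma ofEqv_t : (ofEqv h).t = t.left := rfl
@[simp] lemma ofEqv_pU : (ofEqv h).pU = U.hom := rfl

end Def

/-- for a groupoid whose `(t, s)` is injective on points, the stabilizer is trivial. -/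
theorem isIso_stabilizerToU (G : Grpd.GroupoidScheme S)
    (hinj : ∀ {T : Scheme.{u}} (x y : T ⟶ G.R), x ≫ G.t = y ≫ G.t → x ≫ G.s = y ≫ G.s → x = y) :
    IsIso G.stabilizerToU := by
  have hfst_t : pullback.fst G.j G.diag ≫ G.t = G.stabilizerToU := by
    have := pullback.condition (f := G.j) (g := G.diag) =≫ pullback.fst G.pU G.pU
    simp only [Category.assoc] at this
    rw [Grpd.GroupoidScheme.j, pullback.lift_fst, Grpd.GroupoidScheme.diag, pullback.lift_fst,
      Category.comp_id] at this
    exact this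
  have hfst_s : pullback.fst G.j G.diag ≫ G.s = G.stabilizerToU := by
    have := pullback.condition (f := G.j) (g := G.diag) =≫ pullback.snd G.pU G.pU
    simp only [Category.assoc] at this
    rw [Grpd.GroupoidScheme.j, pullback.lift_snd, Grpd.GroupoidScheme.diag, pullback.lift_snd,
      Category.comp_id] at this
    exact this
  obtain ⟨eS, e1, e2⟩ : ∃ eS : G.U ⟶ pullback G.j G.diag,
      eS ≫ pullback.fst G.j G.diag = G.e ∧ eS ≫ pullback.snd G.j G.diag = 𝟙 _ :=
    ⟨G.eStab, pullback.lift_fst _ _ _, pullback.lift_snd _ _ _⟩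
  have key : pullback.snd G.j G.diag ≫ eS = 𝟙 (pullback G.j G.diag) := by
    apply pullback.hom_ext
    · rw [Category.assoc, Category.id_comp, e1]
      apply hinj
      · rw [Category.assoc, G.e_t, Category.comp_id]
        exact hfst_t.symm
      · rw [Category.assoc, G.e_s, Category.comp_id]
        exact hfst_s.symm
    · rw [Category.assoc, Category.id_comp, e2, Category.comp_id]
  exact ⟨eS, key, e2⟩

end Groth.Agent.Lib.Helper21.EqvGrpd
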