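import Mathlib
import Groth.Agent.Lib.Helper30.AlgSpQuotOpen2
import Groth.Agent.Lib.Helper40.QuotSection

/-!
# Restricting an equivalence relation along an fppf-covering slice: the quotient sheaves agree
(helper21)

`exists_iso_quot`: for an equivalence relation `s, t : R ⇉ U`, a morphism `g : U' ⟶ U`, a relation
`s', t' : R' ⇉ U'` with `r : R' ⟶ R` over `g` having the lifting property of the restriction, and a
scheme `X₁` with `p1 : X₁ ⟶ U'`, `p2 : X₁ ⟶ R`, `g p1 = t p2` and `s p2` an fppf covering of `U`, the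
induced map of fppf quotient sheaves `U'/R' ⟶ U/R` exists and is an isomorphism.
-/

set_option linter.style.haveILetI false
set_option autoImplicit false
set_option maxHeartbeats 800000
set_option backward.isDefEq.respectTransparency false
universe u
open CategoryTheory CategoryTheory.Limits AlgebraicGeometry MorphismProperty AlgSp Opposite

namespace Groth.Agent.Lib.Helper21.EqvQuot

open Groth.Agent.Lib.Helper40.QuotShApi Groth.Agent.Lib.Helper30.QuotEff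

variable {S : Scheme.{u}}

theorem repMap_comp {A B C : Over S} (a : A ⟶ B) (b : B ⟶ C) :
    QuotSh.repMap Scheme.fppfPrecoverage (a ≫ b) =
      QuotSh.repMap Scheme.fppfPrecoverage a ≫ QuotSh.repMap Scheme.fppfPrecoverage b := by
  unfold QuotSh.repMap
  rw [← Functor.map_comp, ← Functor.whiskerRight_comp, ← yoneda.map_comp]

/-- an fppf covering induces an epimorphism of representable sheaves. -/
theorem epi_yon_map_of_fppf {Z T : Over S} (p : Z ⟶ T) [Flat p.left] [Surjective p.left]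
    [LocallyOfFinitePresentation p.left] : Epi ((AlgSp.yon S).map p) := by
  apply epi_of_locally_lifts
  intro V σ
  obtain ⟨y, rfl⟩ := (AlgSp.yon S).map_surjective σ
  refine ⟨liftSieve p y, liftSieve_mem_fppf p V y, ?_⟩
  rintro V' k ⟨x, hx⟩
  exact ⟨(AlgSp.yon S).map x, by rw [← Functor.map_comp, hx, Functor.map_comp]⟩

section
variable {R U R' U' : Over S} {s t : R ⟶ U} {g : U' ⟶ U} {s' t' : R' ⟶ U'}

theorem qπ_eq_of_lift
    (hlift : ∀ {T : Over S} (a b : T ⟶ U') (ρ : T ⟶ R), ρ ≫ t = a ≫ g → ρ ≫ s = b ≫ g →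
      ∃ ρ' : T ⟶ R', ρ' ≫ t' = a ∧ ρ' ≫ s' = b)
    (hpre : ∀ T : Over S, Equivalence (PRel s t T)) {V : Over S} (a' b' : V ⟶ U')
    (h1 : (AlgSp.yon S).map (a' ≫ g) ≫ qπ s t = (AlgSp.yon S).map (b' ≫ g) ≫ qπ s t) :
    (AlgSp.yon S).map a' ≫ qπ s' t' = (AlgSp.yon S).map b' ≫ qπ s' t' := by
  refine yon_hom_ext_of_cover _ _ (eqvSieve s t (a' ≫ g) (b' ≫ g))
    (eqvSieve_mem_of_qπ_eq s t _ _ h1) ?_
  intro V' k hk
  obtain ⟨r₀, hr1, hr2⟩ := pRel_of_eqvSieve hpre _ _ k hk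
  obtain ⟨ρ, e2, e3⟩ : ∃ ρ : V' ⟶ R', ρ ≫ t' = k ≫ b' ∧ ρ ≫ s' = k ≫ a' :=
    hlift (k ≫ b') (k ≫ a') r₀ (by rw [hr2, Category.assoc]) (by rw [hr1, Category.assoc])
  have key : (AlgSp.yon S).map (k ≫ a') ≫ qπ s' t' = (AlgSp.yon S).map (k ≫ b') ≫ qπ s' t' := by
    rw [← e2, ← e3, Functor.map_comp, Functor.map_comp,
      Category.assoc ((AlgSp.yon S).map ρ) ((AlgSp.yon S).map s') (qπ s' t'),
      Category.assoc ((AlgSp.yon S).map ρ) ((AlgSp.yon S).map t') (qπ s' t'),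
      yon_map_qπ_condition]
  calc (AlgSp.yon S).map k ≫ (AlgSp.yon S).map a' ≫ qπ s' t'
      = (AlgSp.yon S).map (k ≫ a') ≫ qπ s' t' := by
        rw [Functor.map_comp, Category.assoc ((AlgSp.yon S).map k) ((AlgSp.yon S).map a')
          (qπ s' t')]
    _ = (AlgSp.yon S).map (k ≫ b') ≫ qπ s' t' := key
    _ = (AlgSp.yon S).map k ≫ (AlgSp.yon S).map b' ≫ qπ s' t' := by
        rw [Functor.map_comp, Category.assoc ((AlgSp.yon S).map k) ((AlgSp.yon S).map b')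
          (qπ s' t')]

theorem mono_quot_of_lift
    (hlift : ∀ {T : Over S} (a b : T ⟶ U') (ρ : T ⟶ R), ρ ≫ t = a ≫ g → ρ ≫ s = b ≫ g →
      ∃ ρ' : T ⟶ R', ρ' ≫ t' = a ∧ ρ' ≫ s' = b)
    (hpre : ∀ T : Over S, Equivalence (PRel s t T))
    (φ : QuotSh.quot Scheme.fppfPrecoverage s' t' ⟶ QuotSh.quot Scheme.fppfPrecoverage s t)
    (hφ' : qπ s' t' ≫ φ = (AlgSp.yon S).map g ≫ qπ s t) : Mono φ := by
  apply mono_of_yon_cancel
  intro T a b hab
  obtain ⟨Ra, hRa, Ha⟩ := exists_cover_lift_of_epi (qπ s' t') a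
  obtain ⟨Rb, hRb, Hb⟩ := exists_cover_lift_of_epi (qπ s' t') b
  refine yon_hom_ext_of_cover a b (Ra ⊓ Rb) ((AlgSp.J S).intersection_covering hRa hRb) ?_
  rintro V k ⟨hka, hkb⟩
  obtain ⟨a₁, ha₁⟩ := Ha k hka
  obtain ⟨b₁, hb₁⟩ := Hb k hkb
  obtain ⟨a', rfl⟩ := (AlgSp.yon S).map_surjective a₁
  obtain ⟨b', rfl⟩ := (AlgSp.yon S).map_surjective b₁
  rw [← ha₁, ← hb₁]
  have ea : (AlgSp.yon S).map (a' ≫ g) ≫ qπ s t = (AlgSp.yon S).map k ≫ a ≫ φ := by
    rw [Functor.map_comp, Category.assoc ((AlgSp.yon S).map a') ((AlgSp.yon S).map g) (qπ s t),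
      ← hφ', ← Category.assoc ((AlgSp.yon S).map a') (qπ s' t') φ, ha₁,
      Category.assoc ((AlgSp.yon S).map k) a φ]
  have eb : (AlgSp.yon S).map (b' ≫ g) ≫ qπ s t = (AlgSp.yon S).map k ≫ b ≫ φ := by
    rw [Functor.map_comp, Category.assoc ((AlgSp.yon S).map b') ((AlgSp.yon S).map g) (qπ s t),
      ← hφ', ← Category.assoc ((AlgSp.yon S).map b') (qπ s' t') φ, hb₁,
      Category.assoc ((AlgSp.yon S).map k) b φ]
  exact qπ_eq_of_lift hlift hpre a' b' (by rw [ea, eb, hab])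

/-- **the quotient sheaves agree.** -/
theorem exists_iso_quot (h : AlgSp.IsEqvRel s t) (r : R' ⟶ R)
    (hs : r ≫ s = s' ≫ g) (ht : r ≫ t = t' ≫ g)
    (hlift : ∀ {T : Over S} (a b : T ⟶ U') (ρ : T ⟶ R), ρ ≫ t = a ≫ g → ρ ≫ s = b ≫ g →
      ∃ ρ' : T ⟶ R', ρ' ≫ t' = a ∧ ρ' ≫ s' = b)
    {X₁ : Over S} (p1 : X₁ ⟶ U') (p2 : X₁ ⟶ R) (hp : p1 ≫ g = p2 ≫ t)
    [Flat (p2 ≫ s).left] [Surjective (p2 ≫ s).left]
    [LocallyOfFinitePresentation (p2 ≫ s).left] :
    ∃ ψ : QuotSh.quot Scheme.fppfPrecoverage s' t' ⟶ QuotSh.quot Scheme.fppfPrecoverage s t,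
      QuotSh.quotπ Scheme.fppfPrecoverage s' t' ≫ ψ =
        QuotSh.repMap Scheme.fppfPrecoverage g ≫ QuotSh.quotπ Scheme.fppfPrecoverage s t ∧
      IsIso ψ := by
  have w : QuotSh.repMap Scheme.fppfPrecoverage s' ≫
      (QuotSh.repMap Scheme.fppfPrecoverage g ≫ QuotSh.quotπ Scheme.fppfPrecoverage s t) =
      QuotSh.repMap Scheme.fppfPrecoverage t' ≫
      (QuotSh.repMap Scheme.fppfPrecoverage g ≫ QuotSh.quotπ Scheme.fppfPrecoverage s t) := by
    rw [← Category.assoc, ← Category.assoc, ← repMap_comp, ← repMap_comp, ← hs, ← ht,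
      repMap_comp, repMap_comp, Category.assoc, Category.assoc, QuotSh.quot_condition]
  let ψ : QuotSh.quot Scheme.fppfPrecoverage s' t' ⟶ QuotSh.quot Scheme.fppfPrecoverage s t :=
    coequalizer.desc _ w
  have hψ : QuotSh.quotπ Scheme.fppfPrecoverage s' t' ≫ ψ =
      QuotSh.repMap Scheme.fppfPrecoverage g ≫ QuotSh.quotπ Scheme.fppfPrecoverage s t :=
    coequalizer.π_desc _ w
  have hψ' := qπ_comp_of_quotπ_comp ψ hψ
  have hpre := fun T => pRel_equivalence_of_isEqvRel h T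
  haveI : Mono ψ := mono_quot_of_lift hlift hpre ψ hψ'
  haveI : Epi ψ := by
    haveI : Epi ((AlgSp.yon S).map (p2 ≫ s)) := epi_yon_map_of_fppf (p2 ≫ s)
    have e1 : (AlgSp.yon S).map (p2 ≫ s) ≫ qπ s t =
        (AlgSp.yon S).map p1 ≫ ((AlgSp.yon S).map g ≫ qπ s t) := by
      rw [Functor.map_comp, Category.assoc, ← yon_map_qπ_condition, ← Category.assoc,
        ← Functor.map_comp, ← hp, Functor.map_comp, Category.assoc]
    haveI : Epi ((AlgSp.yon S).map p1 ≫ ((AlgSp.yon S).map g ≫ qπ s t)) := by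
      rw [← e1]; infer_instance
    haveI : Epi ((AlgSp.yon S).map g ≫ qπ s t) := epi_of_epi ((AlgSp.yon S).map p1) _
    haveI : Epi (qπ s' t' ≫ ψ) := by rw [hψ']; infer_instance
    exact epi_of_epi (qπ s' t') ψ
  exact ⟨ψ, hψ, isIso_of_mono_of_epi ψ⟩

end

end Groth.Agent.Lib.Helper21.EqvQuot
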