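import Mathlib
import Groth.Prelude.Def_AlgSp

/-!
# Restriction of an equivalence relation along a morphism (helper21)

For `s t : R ⟶ U` and `g : U' ⟶ U` over `S`, the concrete restriction
`R' = (U' ×_{g,U,t} R) ×_{h,U,g} U'` with `h = s ∘ pr₂`, as an object over `S`, with its maps
`s' = pr₂`, `t' = pr₁ ∘ pr₁`, `r = pr₂ ∘ pr₁ : R' ⟶ R`, the lifting property and `IsEqvRel`.
-/

set_option linter.style.haveILetI false
set_option autoImplicit false
universe u
open CategoryTheory CategoryTheory.Limits AlgebraicGeometry

namespace Groth.Agent.Lib.Helper21.EqvRestrict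

variable {S : Scheme.{u}} {R U U' : Over S} (s t : R ⟶ U) (g : U' ⟶ U)

/-- `h = s ∘ pr₂ : U' ×_{g,U,t} R ⟶ U`. -/
noncomputable abbrev hL : pullback g.left t.left ⟶ U.left := pullback.snd g.left t.left ≫ s.left

/-- the restricted relation, as a scheme. -/
noncomputable abbrev RL : Scheme.{u} := pullback (hL s t g) g.left

/-- the restricted relation over `S`. -/
noncomputable def R' : Over S := Over.mk (pullback.snd (hL s t g) g.left ≫ U'.hom)

lemma r_over :
    (pullback.fst (hL s t g) g.left ≫ pullback.snd g.left t.left) ≫ R.hom =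
      pullback.snd (hL s t g) g.left ≫ U'.hom := by
  have c := pullback.condition (f := hL s t g) (g := g.left)
  calc (pullback.fst (hL s t g) g.left ≫ pullback.snd g.left t.left) ≫ R.hom
      = (pullback.fst (hL s t g) g.left ≫ pullback.snd g.left t.left) ≫ s.left ≫ U.hom := by
        rw [Over.w s]
    _ = (pullback.fst (hL s t g) g.left ≫ hL s t g) ≫ U.hom := by
        simp only [Category.assoc]
    _ = (pullback.snd (hL s t g) g.left ≫ g.left) ≫ U.hom := by rw [c]
    _ = pullback.snd (hL s t g) g.left ≫ U'.hom := by rw [Category.assoc, Over.w g]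

lemma t_over :
    (pullback.fst (hL s t g) g.left ≫ pullback.fst g.left t.left) ≫ U'.hom =
      pullback.snd (hL s t g) g.left ≫ U'.hom := by
  have c' := pullback.condition (f := g.left) (g := t.left)
  rw [← r_over s t g]
  calc (pullback.fst (hL s t g) g.left ≫ pullback.fst g.left t.left) ≫ U'.hom
      = pullback.fst (hL s t g) g.left ≫ (pullback.fst g.left t.left ≫ g.left) ≫ U.hom := by
        rw [Category.assoc, Category.assoc, Over.w g]
    _ = pullback.fst (hL s t g) g.left ≫ (pullback.snd g.left t.left ≫ t.left) ≫ U.hom := by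
        rw [c']
    _ = (pullback.fst (hL s t g) g.left ≫ pullback.snd g.left t.left) ≫ R.hom := by
        rw [Category.assoc, Category.assoc, Over.w t]

/-- source of the restriction. -/
noncomputable def s' : R' s t g ⟶ U' := Over.homMk (pullback.snd (hL s t g) g.left) rfl

/-- target of the restriction. -/
noncomputable def t' : R' s t g ⟶ U' :=
  Over.homMk (pullback.fst (hL s t g) g.left ≫ pullback.fst g.left t.left) (t_over s t g)

/-- the map to the original relation. -/
noncomputable def r : R' s t g ⟶ R :=
  Over.homMk (pullback.fst (hL s t g) g.left ≫ pullback.snd g.left t.left) (r_over s t g)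

lemma s'_left : (s' s t g).left = pullback.snd (hL s t g) g.left := rfl
lemma t'_left : (t' s t g).left =
    pullback.fst (hL s t g) g.left ≫ pullback.fst g.left t.left := rfl
lemma r_left : (r s t g).left =
    pullback.fst (hL s t g) g.left ≫ pullback.snd g.left t.left := rfl

lemma r_s : r s t g ≫ s = s' s t g ≫ g := by
  ext
  show (pullback.fst (hL s t g) g.left ≫ pullback.snd g.left t.left) ≫ s.left =
    pullback.snd (hL s t g) g.left ≫ g.left
  rw [Category.assoc]
  exact pullback.condition (f := hL s t g) (g := g.left)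

lemma r_t : r s t g ≫ t = t' s t g ≫ g := by
  ext
  show (pullback.fst (hL s t g) g.left ≫ pullback.snd g.left t.left) ≫ t.left =
    (pullback.fst (hL s t g) g.left ≫ pullback.fst g.left t.left) ≫ g.left
  rw [Category.assoc, Category.assoc, pullback.condition (f := g.left) (g := t.left)]

/-- the lifting property. -/
theorem exists_lift {T : Over S} (a b : T ⟶ U') (ρ : T ⟶ R) (h1 : ρ ≫ t = a ≫ g)
    (h2 : ρ ≫ s = b ≫ g) :
    ∃ ρ' : T ⟶ R' s t g, ρ' ≫ t' s t g = a ∧ ρ' ≫ s' s t g = b ∧ ρ' ≫ r s t g = ρ := by
  have c1 : a.left ≫ g.left = ρ.left ≫ t.left := (congrArg CommaMorphism.left h1).symm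
  have c2 : pullback.lift a.left ρ.left c1 ≫ hL s t g = b.left ≫ g.left := by
    rw [pullback.lift_snd_assoc]
    exact congrArg CommaMorphism.left h2
  let ρl : T.left ⟶ RL s t g := pullback.lift (pullback.lift a.left ρ.left c1) b.left c2
  have hρ : ρl ≫ (R' s t g).hom = T.hom := by
    show ρl ≫ pullback.snd (hL s t g) g.left ≫ U'.hom = T.hom
    rw [pullback.lift_snd_assoc, Over.w]
  refine ⟨Over.homMk ρl hρ, ?_, ?_, ?_⟩
  · ext
    show ρl ≫ pullback.fst (hL s t g) g.left ≫ pullback.fst g.left t.left = a.left
    rw [pullback.lift_fst_assoc, pullback.lift_fst]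
  · ext
    show ρl ≫ pullback.snd (hL s t g) g.left = b.left
    rw [pullback.lift_snd]
  · ext
    show ρl ≫ pullback.fst (hL s t g) g.left ≫ pullback.snd g.left t.left = ρ.left
    rw [pullback.lift_fst_assoc, pullback.lift_snd]

/-- the restriction of an equivalence relation is an equivalence relation. -/
theorem isEqvRel (h : AlgSp.IsEqvRel s t) : AlgSp.IsEqvRel (s' s t g) (t' s t g) := by
  have hiff : ∀ (T : Over S) (a b : T ⟶ U'),
      (∃ ρ' : T ⟶ R' s t g, ρ' ≫ t' s t g = a ∧ ρ' ≫ s' s t g = b) ↔
      (∃ ρ : T ⟶ R, ρ ≫ t = a ≫ g ∧ ρ ≫ s = b ≫ g) := by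
    intro T a b
    constructor
    · rintro ⟨ρ', rfl, rfl⟩
      exact ⟨ρ' ≫ r s t g, by rw [Category.assoc, r_t, Category.assoc],
        by rw [Category.assoc, r_s, Category.assoc]⟩
    · rintro ⟨ρ, h1, h2⟩
      obtain ⟨ρ', e1, e2, -⟩ := exists_lift s t g a b ρ h1 h2
      exact ⟨ρ', e1, e2⟩
  constructor
  · intro T r₁ r₂ ht hs
    have hr : r₁ ≫ r s t g = r₂ ≫ r s t g := by
      apply h.injective
      · rw [Category.assoc, Category.assoc, r_t, ← Category.assoc, ← Category.assoc, ht]
      · rw [Category.assoc, Category.assoc, r_s, ← Category.assoc, ← Category.assoc, hs]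
    ext
    have ht' : r₁.left ≫ pullback.fst (hL s t g) g.left ≫ pullback.fst g.left t.left =
        r₂.left ≫ pullback.fst (hL s t g) g.left ≫ pullback.fst g.left t.left :=
      congrArg CommaMorphism.left ht
    have hs' : r₁.left ≫ pullback.snd (hL s t g) g.left =
        r₂.left ≫ pullback.snd (hL s t g) g.left := congrArg CommaMorphism.left hs
    have hr' : r₁.left ≫ pullback.fst (hL s t g) g.left ≫ pullback.snd g.left t.left =
        r₂.left ≫ pullback.fst (hL s t g) g.left ≫ pullback.snd g.left t.left :=
      congrArg CommaMorphism.left hr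
    show (r₁.left : T.left ⟶ pullback (hL s t g) g.left) = r₂.left
    apply pullback.hom_ext
    · apply pullback.hom_ext
      · exact (Category.assoc _ _ _).trans (ht'.trans (Category.assoc _ _ _).symm)
      · exact (Category.assoc _ _ _).trans (hr'.trans (Category.assoc _ _ _).symm)
    · exact hs'
  · intro T
    have e := h.equivalence T
    refine ⟨fun a => ?_, ?_, ?_⟩
    · rw [hiff]
      exact e.refl _
    · intro a b hab
      rw [hiff] at hab ⊢
      exact e.symm hab
    · intro a b c hab hbc
      rw [hiff] at hab hbc ⊢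
      exact e.trans hab hbc

end Groth.Agent.Lib.Helper21.EqvRestrict
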