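import Mathlib
import Groth.Agent.Lib.Helper21.EqvQuot
import Groth.Agent.Lib.Helper21.EqvRestrict

/-!
# The quotient of the restriction of an equivalence relation along an fppf slice (helper21)

`exists_iso_quot_restrict`: for an equivalence relation `s, t : R ⇉ U` over `S` and `g : U' ⟶ U`
such that `h = s ∘ pr₂ : U' ×_{g,U,t} R ⟶ U` is flat, surjective and locally of finite presentation,
the map of fppf quotient sheaves `U'/R|_{U'} ⟶ U/R` is an isomorphism.
-/

set_option linter.style.haveILetI false
set_option autoImplicit false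
set_option maxHeartbeats 800000
universe u
open CategoryTheory CategoryTheory.Limits AlgebraicGeometry

namespace Groth.Agent.Lib.Helper21.EqvQuotRestrict

open Groth.Agent.Lib.Helper21.EqvRestrict Groth.Agent.Lib.Helper21.EqvQuot

variable {S : Scheme.{u}} {R U U' : Over S} (s t : R ⟶ U) (g : U' ⟶ U)

theorem exists_iso_quot_restrict (h : AlgSp.IsEqvRel s t)
    [Flat (pullback.snd g.left t.left ≫ s.left)]
    [Surjective (pullback.snd g.left t.left ≫ s.left)]
    [LocallyOfFinitePresentation (pullback.snd g.left t.left ≫ s.left)] :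
    ∃ ψ : QuotSh.quot Scheme.fppfPrecoverage (s' s t g) (t' s t g) ⟶
        QuotSh.quot Scheme.fppfPrecoverage s t,
      QuotSh.quotπ Scheme.fppfPrecoverage (s' s t g) (t' s t g) ≫ ψ =
        QuotSh.repMap Scheme.fppfPrecoverage g ≫ QuotSh.quotπ Scheme.fppfPrecoverage s t ∧
      IsIso ψ := by
  let X₁ : Over S := Over.mk (pullback.fst g.left t.left ≫ U'.hom)
  let p1 : X₁ ⟶ U' := Over.homMk (pullback.fst g.left t.left) rfl
  have hp2 : pullback.snd g.left t.left ≫ R.hom = pullback.fst g.left t.left ≫ U'.hom := by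
    calc pullback.snd g.left t.left ≫ R.hom
        = (pullback.snd g.left t.left ≫ t.left) ≫ U.hom := by rw [Category.assoc, Over.w t]
      _ = (pullback.fst g.left t.left ≫ g.left) ≫ U.hom := by rw [pullback.condition]
      _ = pullback.fst g.left t.left ≫ U'.hom := by rw [Category.assoc, Over.w g]
  let p2 : X₁ ⟶ R := Over.homMk (pullback.snd g.left t.left) hp2
  have hp : p1 ≫ g = p2 ≫ t := by
    ext
    exact pullback.condition
  haveI : Flat (p2 ≫ s).left := ‹Flat (pullback.snd g.left t.left ≫ s.left)›
  haveI : Surjective (p2 ≫ s).left := ‹Surjective (pullback.snd g.left t.left ≫ s.left)›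
  haveI : LocallyOfFinitePresentation (p2 ≫ s).left :=
    ‹LocallyOfFinitePresentation (pullback.snd g.left t.left ≫ s.left)›
  exact exists_iso_quot h (r s t g) (r_s s t g) (r_t s t g)
    (fun a b ρ h1 h2 => by
      obtain ⟨ρ', e1, e2, -⟩ := exists_lift s t g a b ρ h1 h2
      exact ⟨ρ', e1, e2⟩) p1 p2 hp

end Groth.Agent.Lib.Helper21.EqvQuotRestrict
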