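import Mathlib
import Groth.Agent.Lib.Helper40.GrpdTrans
import Groth.Agent.Lib.Helper21.CMEquidim
import Groth.Agent.Lib.Helper21.CMFibLocus
import Groth.Agent.S4961

/-!
# The Cohen–Macaulay locus of a groupoid scheme (helper21)

Stacks, More on Groupoids, Lemma 40.8.2-type statement: for a groupoid scheme `(U, R, s, t, c)` with
`s`, `t` flat and locally of finite presentation there is an open `U' ⊆ U` such that `t⁻¹(U')` is the
Cohen–Macaulay locus of `s`, `s⁻¹(U')` the Cohen–Macaulay locus of `t`, and both restrictions are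
surjective onto `U`.
-/

set_option linter.style.haveILetI false
set_option autoImplicit false
universe u

open CategoryTheory CategoryTheory.Limits AlgebraicGeometry TopologicalSpace IsLocalRing

namespace Groth.Agent.Lib.Helper21.GrpdCM

open Groth.Agent.Lib.Helper21.CMFibLocus Groth.Agent.Lib.Helper21.CMEquidim

/-- the two definitions of "Cohen–Macaulay at a point" agree. -/
theorem grpd_isCMAt_iff {X Y : Scheme.{u}} (f : X ⟶ Y) (x : X) :
    Grpd.IsCMAt f x ↔ MoreMor.IsCMAt f x := by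
  obtain ⟨π, hπ, hker⟩ := Groth.Agent.Lib.Helper33.GorComp.exists_fibre_proj f x
  let e : (X.presheaf.stalk x ⧸ RingHom.ker π) ≃+*
      (f.fiber (f x)).presheaf.stalk (f.asFiber x) :=
    RingHom.quotientKerEquivOfSurjective hπ
  have e' : (X.presheaf.stalk x ⧸
      (maximalIdeal (Y.presheaf.stalk (f x))).map (f.stalkMap x).hom) ≃+*
      (f.fiber (f x)).presheaf.stalk (f.asFiber x) :=
    (Ideal.quotEquivOfEq hker.symm).trans e
  have hcm := Groth.Agent.Lib.Helper33.CMComp.cm_ringEquiv_iff e'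
  constructor
  · rintro ⟨h1, h2⟩
    exact ⟨h1, hcm.1 h2⟩
  · rintro ⟨h1, h2⟩
    exact ⟨h1, hcm.2 h2⟩

variable {S : Scheme.{u}} (G : Grpd.GroupoidScheme S)

/-- translation invariance: the Cohen–Macaulay locus of `s` is saturated for `t`. -/
theorem isCMAt_s_iff_of_t_eq [Flat G.s] [LocallyOfFinitePresentation G.s] (r r' : G.R)
    (h : G.t r = G.t r') : MoreMor.IsCMAt G.s r ↔ MoreMor.IsCMAt G.s r' := by
  obtain ⟨k, _, a, b, φ, p, -, -, hφ, hp, hp'⟩ :=
    Groth.Agent.Lib.Helper40.GrpdRank.main_trans G r r' h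
  have h1 : cmFib (pullback.snd G.s a) = (pullback.fst G.s a) ⁻¹' cmFib G.s :=
    cmFib_of_isPullback G.s a (pullback.snd G.s a) (pullback.fst G.s a)
      (IsPullback.of_hasPullback G.s a)
  have h2 : cmFib (pullback.snd G.s b) = (pullback.fst G.s b) ⁻¹' cmFib G.s :=
    cmFib_of_isPullback G.s b (pullback.snd G.s b) (pullback.fst G.s b)
      (IsPullback.of_hasPullback G.s b)
  have h3 : cmFib (pullback.snd G.s a) = φ.hom ⁻¹' cmFib (pullback.snd G.s b) := by
    rw [← hφ]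
    exact cmFib_comp_of_isOpenImmersion φ.hom (pullback.snd G.s b)
  have e : ∀ z : G.R, MoreMor.IsCMAt G.s z ↔ z ∈ cmFib G.s := by
    intro z
    rw [cmFib_eq_of_flat]
    exact Iff.rfl
  rw [e, e, ← hp, ← hp']
  have a1 : (pullback.fst G.s a) p ∈ cmFib G.s ↔ p ∈ cmFib (pullback.snd G.s a) := by
    rw [h1]; exact Iff.rfl
  have a2 : (pullback.fst G.s b) (φ.hom p) ∈ cmFib G.s ↔ φ.hom p ∈ cmFib (pullback.snd G.s b) := by
    rw [h2]; exact Iff.rfl
  have a3 : p ∈ cmFib (pullback.snd G.s a) ↔ φ.hom p ∈ cmFib (pullback.snd G.s b) := by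
    rw [h3]; exact Iff.rfl
  rw [a1, a2, a3]

/-- Stacks 40.8.2-type: the open of `U` controlling the Cohen–Macaulay loci of `s` and `t`. -/
theorem exists_open_cm [Flat G.s] [LocallyOfFinitePresentation G.s] [Flat G.t]
    [LocallyOfFinitePresentation G.t] :
    ∃ U' : G.U.Opens, (G.t ⁻¹ᵁ U' : Set G.R) = {r | Grpd.IsCMAt G.s r} ∧
      (G.s ⁻¹ᵁ U' : Set G.R) = {r | Grpd.IsCMAt G.t r} ∧
      ⇑G.t '' (G.s ⁻¹ᵁ U' : Set G.R) = Set.univ ∧ ⇑G.s '' (G.t ⁻¹ᵁ U' : Set G.R) = Set.univ := by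
  let Ws : Set G.R := {r | MoreMor.IsCMAt G.s r}
  have hWs : IsOpen Ws := Groth.Agent.S4961.result G.s
  have hopen : IsOpenMap G.t := G.t.isOpenMap
  let U' : G.U.Opens := ⟨G.t '' Ws, hopen _ hWs⟩
  have h1 : (G.t ⁻¹ᵁ U' : Set G.R) = Ws := by
    ext r
    constructor
    · rintro ⟨r', hr', hrr'⟩
      exact (isCMAt_s_iff_of_t_eq G r' r hrr').1 hr'
    · intro hr
      exact ⟨r, hr, rfl⟩
  have es : ∀ z : G.R, MoreMor.IsCMAt G.s z ↔ z ∈ cmFib G.s := by
    intro z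
    rw [cmFib_eq_of_flat]
    exact Iff.rfl
  have et : ∀ z : G.R, MoreMor.IsCMAt G.t z ↔ z ∈ cmFib G.t := by
    intro z
    rw [cmFib_eq_of_flat]
    exact Iff.rfl
  have hti : cmFib G.t = G.i ⁻¹' cmFib G.s := by
    have := cmFib_comp_of_isOpenImmersion G.i G.s
    rwa [G.i_s] at this
  have h2 : (G.s ⁻¹ᵁ U' : Set G.R) = {r | MoreMor.IsCMAt G.t r} := by
    ext r
    have hir : G.i r ∈ (G.t ⁻¹ᵁ U' : Set G.R) ↔ MoreMor.IsCMAt G.s (G.i r) := by
      rw [h1]; exact Iff.rfl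
    have hts : G.t (G.i r) = G.s r := by
      rw [← Scheme.Hom.comp_apply, G.i_t]
    show G.s r ∈ U' ↔ MoreMor.IsCMAt G.t r
    rw [et, hti, Set.mem_preimage, ← es, ← hir]
    show G.s r ∈ U' ↔ G.t (G.i r) ∈ U'
    rw [hts]
  have surj : ∀ (f : G.R ⟶ G.U) [Flat f] [LocallyOfFinitePresentation f] (e : G.U ⟶ G.R)
      (_ : e ≫ f = 𝟙 G.U) (u : G.U), ∃ r : G.R, MoreMor.IsCMAt f r ∧ f r = u := by
    intro f _ _ e he u
    have hd := dense_cmLocus_fibre f u
    have hne : Nonempty (f.fiber u) := by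
      have : e u ∈ f ⁻¹' {u} := by
        show f (e u) = u
        rw [← Scheme.Hom.comp_apply, he]
        rfl
      rw [← f.range_fiberι] at this
      obtain ⟨z, -⟩ := this
      exact ⟨z⟩
    obtain ⟨z, hz⟩ := hd.nonempty
    refine ⟨f.fiberι u z, hz, ?_⟩
    have : f.fiberι u z ∈ Set.range (f.fiberι u) := ⟨z, rfl⟩
    rw [f.range_fiberι] at this
    exact this
  refine ⟨U', ?_, ?_, ?_, ?_⟩
  · rw [h1]
    ext r
    exact (grpd_isCMAt_iff G.s r).symm
  · rw [h2]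
    ext r
    exact (grpd_isCMAt_iff G.t r).symm
  · rw [h2]
    apply Set.eq_univ_of_forall
    intro u
    obtain ⟨r, hr, hru⟩ := surj G.t G.e G.e_t u
    exact ⟨r, hr, hru⟩
  · rw [h1]
    apply Set.eq_univ_of_forall
    intro u
    obtain ⟨r, hr, hru⟩ := surj G.s G.e G.e_s u
    exact ⟨r, hr, hru⟩

end Groth.Agent.Lib.Helper21.GrpdCM
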