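import Mathlib
import Groth.Agent.Lib.Helper40.GrpdTrans

/-!
# The action of a groupoid on `U' ×_{g,U,t} R` (helper21)

For a groupoid scheme `(U, R, s, t, c, e, i)` and `g : U' ⟶ U`, put `X = U' ×_{g,U,t} R` with
`h = s ∘ pr₂ : X ⟶ U`.  The groupoid acts on `X` over `h`: `act : X ×_{h,U,t} R ⟶ X`,
`((u', r), r') ↦ (u', r ∘ r')`, and the square `(act, pr₂, h, s)` is cartesian.  There is a section
`sec : U' ⟶ X`, `u' ↦ (u', e(g u'))`, and `eps : X ⟶ X ×_{h,U,t} R`, `(u', r) ↦ (sec u', r)`
with `eps ≫ act = 𝟙`.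
-/

set_option autoImplicit false
universe u
open CategoryTheory CategoryTheory.Limits AlgebraicGeometry

namespace Groth.Agent.Lib.Helper21.GrpdAct

open Groth.Agent.Lib.Helper40.GrpdRank

variable {S : Scheme.{u}} (G : Grpd.GroupoidScheme S) {U' : Scheme.{u}} (g : U' ⟶ G.U)

/-- `h = s ∘ pr₂ : U' ×_{g,U,t} R ⟶ U`. -/
noncomputable abbrev hX : pullback g G.t ⟶ G.U := pullback.snd g G.t ≫ G.s

lemma act_cond1 :
    (pullback.fst (hX G g) G.t ≫ pullback.snd g G.t) ≫ G.s = pullback.snd (hX G g) G.t ≫ G.t := by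
  rw [Category.assoc]
  exact pullback.condition

lemma act_cond2 :
    (pullback.fst (hX G g) G.t ≫ pullback.fst g G.t) ≫ g =
      m G (pullback.fst (hX G g) G.t ≫ pullback.snd g G.t) (pullback.snd (hX G g) G.t)
        (act_cond1 G g) ≫ G.t := by
  rw [m_t, Category.assoc, Category.assoc, pullback.condition]

/-- the action `((u', r), r') ↦ (u', r ∘ r')`. -/
noncomputable def act : pullback (hX G g) G.t ⟶ pullback g G.t :=
  pullback.lift (pullback.fst (hX G g) G.t ≫ pullback.fst g G.t)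
    (m G (pullback.fst (hX G g) G.t ≫ pullback.snd g G.t) (pullback.snd (hX G g) G.t)
      (act_cond1 G g)) (act_cond2 G g)

lemma act_fst : act G g ≫ pullback.fst g G.t =
    pullback.fst (hX G g) G.t ≫ pullback.fst g G.t := pullback.lift_fst _ _ _

lemma act_snd : act G g ≫ pullback.snd g G.t =
    m G (pullback.fst (hX G g) G.t ≫ pullback.snd g G.t) (pullback.snd (hX G g) G.t)
      (act_cond1 G g) := pullback.lift_snd _ _ _

lemma act_hX : act G g ≫ hX G g = pullback.snd (hX G g) G.t ≫ G.s := by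
  rw [← Category.assoc, act_snd, m_s]

/-- the action square is cartesian. -/
lemma isPullback_act : IsPullback (act G g) (pullback.snd (hX G g) G.t) (hX G g) G.s := by
  suffices hlim : IsLimit (PullbackCone.mk (act G g) (pullback.snd (hX G g) G.t) (act_hX G g)) from
    IsPullback.of_isLimit hlim
  have hk1 : ∀ k : PullbackCone (hX G g) G.s,
      (k.fst ≫ pullback.snd g G.t) ≫ G.s = (k.snd ≫ G.i) ≫ G.t := by
    intro k
    rw [Category.assoc]
    exact k.condition.trans (i_t' G k.snd).symm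
  have hk2 : ∀ k : PullbackCone (hX G g) G.s,
      (k.fst ≫ pullback.fst g G.t) ≫ g =
        m G (k.fst ≫ pullback.snd g G.t) (k.snd ≫ G.i) (hk1 k) ≫ G.t := by
    intro k
    rw [m_t, Category.assoc, Category.assoc, pullback.condition]
  have hk3 : ∀ k : PullbackCone (hX G g) G.s,
      pullback.lift (k.fst ≫ pullback.fst g G.t)
        (m G (k.fst ≫ pullback.snd g G.t) (k.snd ≫ G.i) (hk1 k)) (hk2 k) ≫ hX G g =
      k.snd ≫ G.t := by
    intro k
    rw [← Category.assoc, pullback.lift_snd, m_s]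
    exact i_s' G k.snd
  refine PullbackCone.IsLimit.mk (act_hX G g)
    (fun k => pullback.lift
      (pullback.lift (k.fst ≫ pullback.fst g G.t)
        (m G (k.fst ≫ pullback.snd g G.t) (k.snd ≫ G.i) (hk1 k)) (hk2 k)) k.snd (hk3 k)) ?_ ?_ ?_
  · intro k
    apply pullback.hom_ext
    · rw [Category.assoc, act_fst, ← Category.assoc, pullback.lift_fst, pullback.lift_fst]
    · rw [Category.assoc, act_snd]
      set a := k.fst ≫ pullback.snd g G.t with ha
      have h1 : a ≫ G.s = (k.snd ≫ G.i) ≫ G.t := hk1 k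
      have h2 : m G a (k.snd ≫ G.i) h1 ≫ G.s = k.snd ≫ G.t :=
        (m_s G _ _ _).trans (i_s' G k.snd)
      have h3 : (k.snd ≫ G.i) ≫ G.s = k.snd ≫ G.t := i_s' G k.snd
      have hcond : a ≫ G.s = k.snd ≫ G.s := by
        rw [ha, Category.assoc]; exact k.condition
      have h4 : a ≫ G.s = m G (k.snd ≫ G.i) k.snd h3 ≫ G.t :=
        hcond.trans ((m_t G _ _ h3).trans (i_t' G k.snd)).symm
      have h5 : a ≫ G.s = (a ≫ G.s ≫ G.e) ≫ G.t := se_t G a
      have hℓ1 : pullback.lift
          (pullback.lift (k.fst ≫ pullback.fst g G.t)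
            (m G (k.fst ≫ pullback.snd g G.t) (k.snd ≫ G.i) (hk1 k)) (hk2 k)) k.snd (hk3 k) ≫
          (pullback.fst (hX G g) G.t ≫ pullback.snd g G.t) = m G a (k.snd ≫ G.i) h1 := by
        rw [← Category.assoc, pullback.lift_fst, pullback.lift_snd]
      have hℓ2 : pullback.lift
          (pullback.lift (k.fst ≫ pullback.fst g G.t)
            (m G (k.fst ≫ pullback.snd g G.t) (k.snd ≫ G.i) (hk1 k)) (hk2 k)) k.snd (hk3 k) ≫
          pullback.snd (hX G g) G.t = k.snd := pullback.lift_snd _ _ _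
      have h6 : (pullback.lift
          (pullback.lift (k.fst ≫ pullback.fst g G.t)
            (m G (k.fst ≫ pullback.snd g G.t) (k.snd ≫ G.i) (hk1 k)) (hk2 k)) k.snd (hk3 k) ≫
          (pullback.fst (hX G g) G.t ≫ pullback.snd g G.t)) ≫ G.s =
          (pullback.lift
          (pullback.lift (k.fst ≫ pullback.fst g G.t)
            (m G (k.fst ≫ pullback.snd g G.t) (k.snd ≫ G.i) (hk1 k)) (hk2 k)) k.snd (hk3 k) ≫
          pullback.snd (hX G g) G.t) ≫ G.t := by
        rw [hℓ1, hℓ2]; exact h2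
      rw [comp_m G _ _ _ (act_cond1 G g) h6]
      calc m G _ _ h6 = m G (m G a (k.snd ≫ G.i) h1) k.snd h2 := m_congr G hℓ1 hℓ2 h6 h2
        _ = m G a (m G (k.snd ≫ G.i) k.snd h3) h4 := m_assoc G _ _ _ h1 h3 h2 h4
        _ = m G a (a ≫ G.s ≫ G.e) h5 :=
            m_congr G rfl ((i_m G k.snd h3).trans (whisk_se G hcond.symm)) h4 h5
        _ = a := m_e G a h5
  · intro k
    exact pullback.lift_snd _ _ _
  · intro k m' hm1 hm2
    have hαβ : (m' ≫ pullback.fst (hX G g) G.t ≫ pullback.snd g G.t) ≫ G.s =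
        (m' ≫ pullback.snd (hX G g) G.t) ≫ G.t := by
      simp only [Category.assoc]
      congr 1
      exact pullback.condition
    have hγ : k.fst ≫ pullback.snd g G.t =
        m G (m' ≫ pullback.fst (hX G g) G.t ≫ pullback.snd g G.t)
          (m' ≫ pullback.snd (hX G g) G.t) hαβ := by
      rw [← hm1, Category.assoc, act_snd]
      exact comp_m G m' _ _ (act_cond1 G g) hαβ
    have h1' : (k.fst ≫ pullback.snd g G.t) ≫ G.s =
        ((m' ≫ pullback.snd (hX G g) G.t) ≫ G.i) ≫ G.t := by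
      rw [hm2]; exact hk1 k
    have hαeq := uniq_aux G (m' ≫ pullback.fst (hX G g) G.t ≫ pullback.snd g G.t)
      (m' ≫ pullback.snd (hX G g) G.t) (k.fst ≫ pullback.snd g G.t) hαβ hγ h1'
    apply pullback.hom_ext
    · apply pullback.hom_ext
      · rw [Category.assoc, pullback.lift_fst, pullback.lift_fst, ← hm1, Category.assoc, act_fst]
      · rw [Category.assoc, pullback.lift_fst, pullback.lift_snd]
        refine hαeq.trans (m_congr G rfl ?_ h1' _)
        rw [hm2]
    · exact hm2.trans (pullback.lift_snd _ _ _).symm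

/-- the section `u' ↦ (u', e(g u'))`. -/
noncomputable def sec : U' ⟶ pullback g G.t :=
  pullback.lift (𝟙 U') (g ≫ G.e) (by rw [Category.id_comp, Category.assoc, G.e_t, Category.comp_id])

@[reassoc]
lemma sec_fst : sec G g ≫ pullback.fst g G.t = 𝟙 U' := pullback.lift_fst _ _ _

@[reassoc]
lemma sec_snd : sec G g ≫ pullback.snd g G.t = g ≫ G.e := pullback.lift_snd _ _ _

lemma sec_hX : sec G g ≫ hX G g = g := by
  rw [← Category.assoc, sec_snd, Category.assoc, G.e_s, Category.comp_id]

lemma eps_cond : (pullback.fst g G.t ≫ sec G g) ≫ hX G g = pullback.snd g G.t ≫ G.t := by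
  rw [Category.assoc, sec_hX, pullback.condition]

/-- `(u', r) ↦ ((u', e(g u')), r)`. -/
noncomputable def eps : pullback g G.t ⟶ pullback (hX G g) G.t :=
  pullback.lift (pullback.fst g G.t ≫ sec G g) (pullback.snd g G.t) (eps_cond G g)

@[reassoc]
lemma eps_fst : eps G g ≫ pullback.fst (hX G g) G.t = pullback.fst g G.t ≫ sec G g :=
  pullback.lift_fst _ _ _

@[reassoc]
lemma eps_snd : eps G g ≫ pullback.snd (hX G g) G.t = pullback.snd g G.t :=
  pullback.lift_snd _ _ _

lemma eps_act : eps G g ≫ act G g = 𝟙 _ := by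
  apply pullback.hom_ext
  · rw [Category.assoc, act_fst, eps_fst_assoc, sec_fst, Category.comp_id, Category.id_comp]
  · rw [Category.assoc, act_snd, Category.id_comp]
    have h1 : eps G g ≫ (pullback.fst (hX G g) G.t ≫ pullback.snd g G.t) =
        pullback.snd g G.t ≫ G.t ≫ G.e := by
      rw [eps_fst_assoc, sec_snd, ← Category.assoc, pullback.condition, Category.assoc]
    have h2 : eps G g ≫ pullback.snd (hX G g) G.t = pullback.snd g G.t := eps_snd G g
    have h3 : (eps G g ≫ (pullback.fst (hX G g) G.t ≫ pullback.snd g G.t)) ≫ G.s =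
        (eps G g ≫ pullback.snd (hX G g) G.t) ≫ G.t := by
      rw [h1, h2]; exact te_s G _
    rw [comp_m G _ _ _ (act_cond1 G g) h3]
    exact (m_congr G h1 h2 h3 (te_s G _)).trans (e_m G _ _)

/-- **saturation**: a subset of `X` whose preimages under `act` and `pr₁` agree is the preimage of a
subset of `U'`. -/
theorem mem_iff_sec_mem (Wset : Set ↑(pullback g G.t))
    (hW : ∀ z : ↑(pullback (hX G g) G.t),
      act G g z ∈ Wset ↔ pullback.fst (hX G g) G.t z ∈ Wset) (x : ↑(pullback g G.t)) :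
    x ∈ Wset ↔ sec G g (pullback.fst g G.t x) ∈ Wset := by
  have h1 : act G g (eps G g x) = x := by
    rw [← Scheme.Hom.comp_apply, eps_act]; rfl
  have h2 : pullback.fst (hX G g) G.t (eps G g x) = sec G g (pullback.fst g G.t x) := by
    rw [← Scheme.Hom.comp_apply, eps_fst]; rfl
  rw [← h2, ← hW, h1]

end Groth.Agent.Lib.Helper21.GrpdAct
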