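import Mathlib
import Groth.Agent.Lib.Helper21.GrpdAct
import Groth.Agent.Lib.Helper21.CMFibLocus
import Groth.Agent.Lib.Helper67.FlatAtBC
import Groth.Agent.Lib.Helper73.QFAt
import Groth.Agent.S9358
import Groth.Agent.S0386

/-!
# Invariant loci for the action of a groupoid on `U' ×_{g,U,t} R` (helper21)

Pointwise properties of `h = s ∘ pr₂ : X = U' ×_{g,U,t} R ⟶ U` that are compatible with flat base
change (flatness, quasi-finiteness, Cohen–Macaulay fibres) hold on subsets of `X` that are preimages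
of subsets of `U'` under `pr₁`, because `pr₂ : X ×_{h,U,t} R ⟶ R` is the base change of `h` along
both `s` (through the action) and `t` (through the projection).
-/

set_option linter.style.haveILetI false
set_option autoImplicit false
universe u
open CategoryTheory CategoryTheory.Limits AlgebraicGeometry

namespace Groth.Agent.Lib.Helper21.GrpdInvLocus

open Groth.Agent.Lib.Helper21.GrpdAct Groth.Agent.Lib.Helper21.CMFibLocus

section BC

variable {X Y X' Y' : Scheme.{u}} {f : X ⟶ Y} {f' : X' ⟶ Y'} {g' : X' ⟶ X} {g : Y' ⟶ Y}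

/-- Descent of flatness at a point along a flat morphism (after helper23 `FlatHomog`). -/
theorem flat_stalkMap_of_comp {X' X Y : Scheme.{u}} (g : X' ⟶ X) (f : X ⟶ Y) [Flat g]
    (x' : X') (hgf : ((g ≫ f).stalkMap x').hom.Flat) : (f.stalkMap (g x')).hom.Flat := by
  let φ := (f.stalkMap (g x')).hom
  let ψ := (g.stalkMap x').hom
  have hcomp : ((g ≫ f).stalkMap x').hom = ψ.comp φ := by
    rw [Scheme.Hom.stalkMap_comp]; rfl
  have h1 : (ψ.comp φ).Flat := hcomp ▸ hgf
  have h2 : ψ.Flat := Flat.stalkMap g x'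
  letI := φ.toAlgebra
  letI := ψ.toAlgebra
  letI := (ψ.comp φ).toAlgebra
  haveI : IsScalarTower (Y.presheaf.stalk (f (g x'))) (X.presheaf.stalk (g x'))
      (X'.presheaf.stalk x') := IsScalarTower.of_algebraMap_eq' rfl
  haveI : Module.Flat (Y.presheaf.stalk (f (g x'))) (X'.presheaf.stalk x') := h1
  haveI : Module.Flat (X.presheaf.stalk (g x')) (X'.presheaf.stalk x') := h2
  haveI : IsLocalHom (algebraMap (X.presheaf.stalk (g x')) (X'.presheaf.stalk x')) :=
    (inferInstance : IsLocalHom (g.stalkMap x').hom)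
  haveI : Module.FaithfullyFlat (X.presheaf.stalk (g x')) (X'.presheaf.stalk x') :=
    Module.FaithfullyFlat.of_flat_of_isLocalHom
  exact Groth.Agent.Lib.Helper67.FlatAtBC.flat_of_faithfullyFlat_of_flat
    (Y.presheaf.stalk (f (g x'))) (X.presheaf.stalk (g x')) (X'.presheaf.stalk x')

theorem flat_stalkMap_comp {X Y Z : Scheme.{u}} (f : X ⟶ Y) (g : Y ⟶ Z) (x : X)
    (hf : (f.stalkMap x).hom.Flat) (hg : (g.stalkMap (f x)).hom.Flat) :
    ((f ≫ g).stalkMap x).hom.Flat := by
  have e : ((f ≫ g).stalkMap x).hom = (f.stalkMap x).hom.comp (g.stalkMap (f x)).hom := by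
    rw [Scheme.Hom.stalkMap_comp]; rfl
  rw [e]
  exact RingHom.Flat.comp hg hf

/-- flatness at a point and flat base change. -/
theorem flat_iff_of_isPullback (hc : IsPullback g' f' f g) [Flat g] (x' : X') :
    (f'.stalkMap x').hom.Flat ↔ (f.stalkMap (g' x')).hom.Flat := by
  haveI : Flat g' := MorphismProperty.of_isPullback (P := @Flat) hc.flip inferInstance
  constructor
  · intro h
    apply flat_stalkMap_of_comp g' f x'
    have h1 : ((f' ≫ g).stalkMap x').hom.Flat :=
      flat_stalkMap_comp f' g x' h (Flat.stalkMap g (f' x'))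
    have key : ∀ (φ : X' ⟶ Y) (_ : φ = f' ≫ g), (φ.stalkMap x').hom.Flat := by
      intro φ hφ
      subst hφ
      exact h1
    exact key _ hc.w
  · intro h
    exact Groth.Agent.Lib.Helper67.FlatAtBC.flat_stalkMap_of_isPullback hc.flip x' h

/-- quasi-finiteness at a point and base change. -/
theorem quasiFiniteAt_iff_of_isPullback (hc : IsPullback g' f' f g) [LocallyOfFiniteType f]
    (x' : X') : f'.QuasiFiniteAt x' ↔ f.QuasiFiniteAt (g' x') := by
  haveI : LocallyOfFiniteType f' :=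
    MorphismProperty.of_isPullback (P := @LocallyOfFiniteType) hc inferInstance
  rw [Groth.Agent.Lib.Helper73.QFAt.quasiFiniteAt_iff_fibreDimAt_eq_zero,
    Groth.Agent.Lib.Helper73.QFAt.quasiFiniteAt_iff_fibreDimAt_eq_zero,
    (Groth.Agent.S9358.result f g g' f' hc 0).1 x']

end BC

/-- the flat and quasi-finite locus. -/
def fqSet {X Y : Scheme.{u}} (f : X ⟶ Y) : Set X :=
  {x | (f.stalkMap x).hom.Flat ∧ f.QuasiFiniteAt x}

/-- the Cohen–Macaulay locus (flat with Cohen–Macaulay fibre). -/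
def fcSet {X Y : Scheme.{u}} (f : X ⟶ Y) : Set X :=
  {x | (f.stalkMap x).hom.Flat ∧ x ∈ cmFib f}

theorem fqSet_of_isPullback {X Y X' Y' : Scheme.{u}} {f : X ⟶ Y} {f' : X' ⟶ Y'} {g' : X' ⟶ X}
    {g : Y' ⟶ Y} (hc : IsPullback g' f' f g) [Flat g] [LocallyOfFiniteType f] :
    fqSet f' = g' ⁻¹' fqSet f := by
  ext x'
  show _ ∧ _ ↔ _ ∧ _
  rw [flat_iff_of_isPullback hc x', quasiFiniteAt_iff_of_isPullback hc x']

theorem fcSet_of_isPullback {X Y X' Y' : Scheme.{u}} {f : X ⟶ Y} {f' : X' ⟶ Y'} {g' : X' ⟶ X}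
    {g : Y' ⟶ Y} (hc : IsPullback g' f' f g) [Flat g] [LocallyOfFiniteType f] :
    fcSet f' = g' ⁻¹' fcSet f := by
  ext x'
  show _ ∧ _ ↔ _ ∧ _
  rw [flat_iff_of_isPullback hc x', cmFib_of_isPullback f g f' g' hc]
  rfl

theorem isOpen_fqSet {X Y : Scheme.{u}} (f : X ⟶ Y) [LocallyOfFinitePresentation f] :
    IsOpen (fqSet f) :=
  (Groth.Agent.S0386.result f).inter f.isOpen_quasiFiniteAt

variable {S : Scheme.{u}} (G : Grpd.GroupoidScheme S) {U' : Scheme.{u}} (g : U' ⟶ G.U)

/-- a base-change compatible locus of `h` is the preimage of a subset of `U'`. -/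
theorem mem_locus_iff [Flat G.s] [Flat G.t]
    (L : ∀ {A B : Scheme.{u}} (_ : A ⟶ B), Set A)
    (hL : ∀ {X Y X' Y' : Scheme.{u}} {f : X ⟶ Y} {f' : X' ⟶ Y'} {g' : X' ⟶ X} {g : Y' ⟶ Y}
      (_ : IsPullback g' f' f g) [Flat g] [LocallyOfFiniteType f], L f' = g' ⁻¹' L f)
    [LocallyOfFiniteType (hX G g)] (x : ↑(pullback g G.t)) :
    x ∈ L (hX G g) ↔ sec G g (pullback.fst g G.t x) ∈ L (hX G g) := by
  apply mem_iff_sec_mem G g (L (hX G g))
  intro z
  have h1 : L (pullback.snd (hX G g) G.t) = (act G g) ⁻¹' L (hX G g) := hL (isPullback_act G g)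
  have h2 : L (pullback.snd (hX G g) G.t) = (pullback.fst (hX G g) G.t) ⁻¹' L (hX G g) :=
    hL (IsPullback.of_hasPullback (hX G g) G.t)
  have h3 := h1.symm.trans h2
  exact (Set.ext_iff.mp h3 z)

end Groth.Agent.Lib.Helper21.GrpdInvLocus
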