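import Mathlib
import Groth.Agent.Lib.Helper21.GrpdInvLocus

/-!
# Restricting a groupoid to a slice: shrinking and the involution (helper21)

* `exists_shrink`: if a base-change compatible open locus `L` of `h = s ∘ pr₂ : U' ×_{g,U,t} R ⟶ U`
  contains `sec u'`, there is an affine open `U'' ∋ u'` of `U'` such that for the restriction
  `g'' = g ∘ ι` the locus of `h''` is everything.
* `inv'`: the inverse of the restricted groupoid `R' = (U' ×_{g,U,t} R) ×_{h,U,g} U'`, exchanging source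
  and target.
-/

set_option linter.style.haveILetI false
set_option autoImplicit false
universe u
open CategoryTheory CategoryTheory.Limits AlgebraicGeometry

namespace Groth.Agent.Lib.Helper21.GrpdShrink

open Groth.Agent.Lib.Helper21.GrpdAct Groth.Agent.Lib.Helper21.GrpdInvLocus
  Groth.Agent.Lib.Helper40.GrpdRank

variable {S : Scheme.{u}} (G : Grpd.GroupoidScheme S) {U' : Scheme.{u}} (g : U' ⟶ G.U)

section Shrink

variable {U'' : Scheme.{u}} (ι : U'' ⟶ U')

/-- the comparison `U'' ×_{g ι,U,t} R ⟶ U' ×_{g,U,t} R`. -/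
noncomputable def kmap : pullback (ι ≫ g) G.t ⟶ pullback g G.t :=
  pullback.map (ι ≫ g) G.t g G.t ι (𝟙 _) (𝟙 _) (by simp) (by simp)

instance [IsOpenImmersion ι] : IsOpenImmersion (kmap G g ι) := by
  unfold kmap
  infer_instance

@[reassoc]
lemma kmap_fst : kmap G g ι ≫ pullback.fst g G.t = pullback.fst (ι ≫ g) G.t ≫ ι :=
  pullback.lift_fst _ _ _

@[reassoc]
lemma kmap_snd : kmap G g ι ≫ pullback.snd g G.t = pullback.snd (ι ≫ g) G.t := by
  unfold kmap
  rw [pullback.lift_snd, Category.comp_id]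

lemma kmap_hX : kmap G g ι ≫ hX G g = hX G (ι ≫ g) := by
  rw [kmap_snd_assoc]

end Shrink

/-- **shrinking**. -/
theorem exists_shrink [Flat G.s] [Flat G.t] [LocallyOfFiniteType (hX G g)]
    (L : ∀ {A B : Scheme.{u}} (_ : A ⟶ B), Set A)
    (hL : ∀ {X Y X' Y' : Scheme.{u}} {f : X ⟶ Y} {f' : X' ⟶ Y'} {g' : X' ⟶ X} {g : Y' ⟶ Y}
      (_ : IsPullback g' f' f g) [Flat g] [LocallyOfFiniteType f], L f' = g' ⁻¹' L f)
    (hLo : ∀ {A' A B : Scheme.{u}} (k : A' ⟶ A) [IsOpenImmersion k] (f : A ⟶ B)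
      [LocallyOfFiniteType f], L (k ≫ f) = k ⁻¹' L f)
    (hopen : IsOpen (L (hX G g))) (p : ↑(pullback g G.t)) (hp : p ∈ L (hX G g)) :
    ∃ (U'' : U'.Opens), IsAffineOpen U'' ∧ pullback.fst g G.t p ∈ U'' ∧
      ∀ x, x ∈ L (hX G (U''.ι ≫ g)) := by
  let W' : U'.Opens := ⟨(sec G g) ⁻¹' L (hX G g), hopen.preimage (sec G g).continuous⟩
  have hu' : pullback.fst g G.t p ∈ W' := (mem_locus_iff G g L hL p).mp hp
  obtain ⟨_, ⟨(U'' : U'.Opens), hU'', rfl⟩, hu'U'', hU''W'⟩ :=
    U'.isBasis_affineOpens.exists_subset_of_mem_open hu' W'.isOpen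
  refine ⟨U'', hU'', hu'U'', ?_⟩
  intro x
  have h1 : L (hX G (U''.ι ≫ g)) = (kmap G g U''.ι) ⁻¹' L (hX G g) := by
    rw [← kmap_hX G g U''.ι]
    exact hLo (kmap G g U''.ι) (hX G g)
  rw [h1, Set.mem_preimage, mem_locus_iff G g L hL]
  have h2 : pullback.fst g G.t (kmap G g U''.ι x) = U''.ι (pullback.fst (U''.ι ≫ g) G.t x) := by
    rw [← Scheme.Hom.comp_apply, kmap_fst]; rfl
  rw [h2]
  apply hU''W'
  exact (pullback.fst (U''.ι ≫ g) G.t x).2

section Inv

lemma inv_cond1 : pullback.snd (hX G g) g ≫ g =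
    (pullback.fst (hX G g) g ≫ pullback.snd g G.t ≫ G.i) ≫ G.t := by
  rw [Category.assoc, Category.assoc, G.i_t, ← pullback.condition]

lemma inv_cond2 : pullback.lift (pullback.snd (hX G g) g)
      (pullback.fst (hX G g) g ≫ pullback.snd g G.t ≫ G.i) (inv_cond1 G g) ≫ hX G g =
    (pullback.fst (hX G g) g ≫ pullback.fst g G.t) ≫ g := by
  rw [← Category.assoc, pullback.lift_snd, Category.assoc, Category.assoc, G.i_s, Category.assoc,
    pullback.condition]

/-- the inverse of the restricted groupoid, `((u₁, r), u₂) ↦ ((u₂, r⁻¹), u₁)`. -/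
noncomputable def inv' : pullback (hX G g) g ⟶ pullback (hX G g) g :=
  pullback.lift (pullback.lift (pullback.snd (hX G g) g)
      (pullback.fst (hX G g) g ≫ pullback.snd g G.t ≫ G.i) (inv_cond1 G g))
    (pullback.fst (hX G g) g ≫ pullback.fst g G.t) (inv_cond2 G g)

@[reassoc]
lemma inv'_snd : inv' G g ≫ pullback.snd (hX G g) g =
    pullback.fst (hX G g) g ≫ pullback.fst g G.t := pullback.lift_snd _ _ _

@[reassoc]
lemma inv'_fst_fst : inv' G g ≫ pullback.fst (hX G g) g ≫ pullback.fst g G.t =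
    pullback.snd (hX G g) g := by
  unfold inv'
  rw [pullback.lift_fst_assoc, pullback.lift_fst]

@[reassoc]
lemma inv'_fst_snd : inv' G g ≫ pullback.fst (hX G g) g ≫ pullback.snd g G.t =
    pullback.fst (hX G g) g ≫ pullback.snd g G.t ≫ G.i := by
  unfold inv'
  rw [pullback.lift_fst_assoc, pullback.lift_snd]

lemma inv'_inv' : inv' G g ≫ inv' G g = 𝟙 _ := by
  apply pullback.hom_ext
  · apply pullback.hom_ext
    · rw [Category.assoc, Category.assoc, inv'_fst_fst, inv'_snd, Category.id_comp]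
    · rw [Category.assoc, Category.assoc, inv'_fst_snd, inv'_fst_snd_assoc, Category.id_comp,
        i_comp_i, Category.comp_id]
  · rw [Category.assoc, inv'_snd, inv'_fst_fst, Category.id_comp]

instance : IsIso (inv' G g) := ⟨⟨inv' G g, inv'_inv' G g, inv'_inv' G g⟩⟩

/-- the source of the restricted groupoid is its target after the inverse. -/
lemma fst_fst_eq : pullback.fst (hX G g) g ≫ pullback.fst g G.t =
    inv' G g ≫ pullback.snd (hX G g) g := (inv'_snd G g).symm

end Inv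

end Groth.Agent.Lib.Helper21.GrpdShrink
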