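import Mathlib
import Groth.Agent.Lib.Helper21.GrpdShrink
import Groth.Agent.Lib.Helper21.GrpdCM

/-!
# Properties of the restriction of a groupoid to a slice (helper21)

If `h = s ∘ pr₂ : U' ×_{g,U,t} R ⟶ U` is flat and quasi-finite (resp. Cohen–Macaulay) at every point,
then so are the source and target maps of the restriction `R' = (U' ×_{g,U,t} R) ×_{h,U,g} U'`.
-/

set_option linter.style.haveILetI false
set_option autoImplicit false
universe u
open CategoryTheory CategoryTheory.Limits AlgebraicGeometry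

namespace Groth.Agent.Lib.Helper21.GrpdRestrictMain

open Groth.Agent.Lib.Helper21.GrpdAct Groth.Agent.Lib.Helper21.GrpdInvLocus
  Groth.Agent.Lib.Helper21.GrpdShrink Groth.Agent.Lib.Helper21.CMFibLocus

theorem flat_comp_openImmersion_iff {A' A B : Scheme.{u}} (k : A' ⟶ A) [IsOpenImmersion k]
    (f : A ⟶ B) (x : A') :
    ((k ≫ f).stalkMap x).hom.Flat ↔ (f.stalkMap (k x)).hom.Flat := by
  constructor
  · intro h
    exact flat_stalkMap_of_comp k f x h
  · intro h
    exact flat_stalkMap_comp k f x (Flat.stalkMap k x) h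

theorem fqSet_comp_openImmersion {A' A B : Scheme.{u}} (k : A' ⟶ A) [IsOpenImmersion k]
    (f : A ⟶ B) : fqSet (k ≫ f) = k ⁻¹' fqSet f := by
  ext x
  show _ ∧ _ ↔ _ ∧ _
  rw [flat_comp_openImmersion_iff, Scheme.Hom.quasiFiniteAt_comp_iff_of_isOpenImmersion]

theorem fcSet_comp_openImmersion {A' A B : Scheme.{u}} (k : A' ⟶ A) [IsOpenImmersion k]
    (f : A ⟶ B) [LocallyOfFiniteType f] : fcSet (k ≫ f) = k ⁻¹' fcSet f := by
  ext x
  show _ ∧ _ ↔ _ ∧ _
  rw [flat_comp_openImmersion_iff, cmFib_comp_of_isOpenImmersion]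
  rfl

theorem mem_fcSet_iff {X Y : Scheme.{u}} (f : X ⟶ Y) (x : X) :
    x ∈ fcSet f ↔ Grpd.IsCMAt f x :=
  (Groth.Agent.Lib.Helper21.GrpdCM.grpd_isCMAt_iff f x).symm

variable {S : Scheme.{u}} (G : Grpd.GroupoidScheme S) {U' : Scheme.{u}} (g : U' ⟶ G.U)

/-- flat, locally of finite presentation, locally quasi-finite for the restriction. -/
theorem restrict_fq [LocallyOfFinitePresentation G.s] [LocallyOfFinitePresentation g]
    (hall : ∀ x, x ∈ fqSet (hX G g)) :
    (Flat (hX G g) ∧ LocallyOfFinitePresentation (hX G g) ∧ LocallyOfFiniteType (hX G g) ∧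
      LocallyQuasiFinite (hX G g)) ∧
    (Flat (pullback.snd (hX G g) g) ∧ LocallyOfFinitePresentation (pullback.snd (hX G g) g) ∧
      LocallyQuasiFinite (pullback.snd (hX G g) g)) ∧
    (Flat (pullback.fst (hX G g) g ≫ pullback.fst g G.t) ∧
      LocallyOfFinitePresentation (pullback.fst (hX G g) g ≫ pullback.fst g G.t) ∧
      LocallyQuasiFinite (pullback.fst (hX G g) g ≫ pullback.fst g G.t)) := by
  haveI h1 : LocallyOfFinitePresentation (hX G g) := inferInstance
  haveI h2 : LocallyOfFiniteType (hX G g) := inferInstance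
  haveI h3 : Flat (hX G g) := Flat.of_stalkMap _ (fun x => (hall x).1)
  haveI h4 : LocallyQuasiFinite (hX G g) := by
    rw [← Scheme.Hom.quasiFiniteLocus_eq_top_iff]
    ext x
    simp only [TopologicalSpace.Opens.coe_top, Set.mem_univ, iff_true]
    exact (hall x).2
  refine ⟨⟨h3, h1, h2, h4⟩, ⟨inferInstance, inferInstance, inferInstance⟩, ?_⟩
  rw [fst_fst_eq]
  exact ⟨inferInstance, inferInstance, inferInstance⟩

/-- Cohen–Macaulay, locally of finite presentation for the restriction. -/
theorem restrict_fc [LocallyOfFinitePresentation G.s] [LocallyOfFinitePresentation g]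
    (hall : ∀ x, x ∈ fcSet (hX G g)) :
    (∀ q, Grpd.IsCMAt (hX G g) q) ∧ LocallyOfFinitePresentation (hX G g) ∧
    (∀ q, Grpd.IsCMAt (pullback.snd (hX G g) g) q) ∧
    LocallyOfFinitePresentation (pullback.snd (hX G g) g) ∧
    (∀ q, Grpd.IsCMAt (pullback.fst (hX G g) g ≫ pullback.fst g G.t) q) ∧
    LocallyOfFinitePresentation (pullback.fst (hX G g) g ≫ pullback.fst g G.t) := by
  haveI h1 : LocallyOfFinitePresentation (hX G g) := inferInstance
  haveI h2 : LocallyOfFiniteType (hX G g) := inferInstance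
  haveI h3 : Flat (hX G g) := Flat.of_stalkMap _ (fun x => (hall x).1)
  have h5 : ∀ q, q ∈ fcSet (pullback.snd (hX G g) g) := by
    intro q
    refine ⟨Flat.stalkMap _ q, ?_⟩
    rw [cmFib_of_isPullback (hX G g) g (pullback.snd (hX G g) g) (pullback.fst (hX G g) g)
      (IsPullback.of_hasPullback (hX G g) g)]
    exact (hall _).2
  refine ⟨fun q => (mem_fcSet_iff _ q).mp (hall q), h1, fun q => (mem_fcSet_iff _ q).mp (h5 q),
    inferInstance, ?_, ?_⟩
  · intro q
    rw [← mem_fcSet_iff]
    have h6 : fcSet (pullback.fst (hX G g) g ≫ pullback.fst g G.t) =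
        (inv' G g) ⁻¹' fcSet (pullback.snd (hX G g) g) := by
      rw [fst_fst_eq]
      exact fcSet_comp_openImmersion (inv' G g) (pullback.snd (hX G g) g)
    rw [h6]
    exact h5 _
  · rw [fst_fst_eq]
    infer_instance

end Groth.Agent.Lib.Helper21.GrpdRestrictMain
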