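import Mathlib
import Groth.Agent.Lib.Helper21.FibreTd
import Groth.Agent.Lib.Helper21.FieldDimStalk
import Groth.Agent.Lib.Helper33.GorComp
import Groth.Agent.Lib.Helper73.ClosedImm

/-!
# The local dimension of a fibre via the fibre local ring (helper21)

`dim_x f⁻¹(f x) = dim (O_{X,x}/𝔪_{f x} O_{X,x}) + trdeg κ(x)/κ(f x)` for `f` locally of finite type.
-/

set_option linter.style.haveILetI false
set_option autoImplicit false
universe u

open CategoryTheory CategoryTheory.Limits AlgebraicGeometry TopologicalSpace IsLocalRing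

namespace Groth.Agent.Lib.Helper21.FieldDim

variable {X Y : Scheme.{u}} (f : X ⟶ Y) [LocallyOfFiniteType f]

/-- **fibre dimension formula**. -/
theorem fibreDimAt_eq_ringKrullDim_add (x : X) :
    FlatMor.fibreDimAt f x =
      ringKrullDim (X.presheaf.stalk x ⧸
        (maximalIdeal (Y.presheaf.stalk (f x))).map (f.stalkMap x).hom) + (tdR f x : ℕ) := by
  obtain ⟨π, hπ, hker⟩ := Groth.Agent.Lib.Helper33.GorComp.exists_fibre_proj f x
  let e : (X.presheaf.stalk x ⧸
      (maximalIdeal (Y.presheaf.stalk (f x))).map (f.stalkMap x).hom) ≃+*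
      (f.fiber (f x)).presheaf.stalk (f.asFiber x) :=
    (Ideal.quotEquivOfEq hker.symm).trans (RingHom.quotientKerEquivOfSurjective hπ)
  rw [ringKrullDim_eq_of_ringEquiv e]
  unfold FlatMor.fibreDimAt
  rw [localDim_eq_stalk_add_td (fibStr f (f x)) (f.asFiber x), td_fibStr f (f x) (f.asFiber x),
    Scheme.Hom.fiberι_asFiber]

/-- a surjective residue field extension has transcendence degree `0`. -/
theorem tdR_eq_zero_of_surjective (x : X)
    (h : Function.Surjective (f.residueFieldMap x).hom) : tdR f x = 0 := by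
  apply tdR_eq_of_trdegAt_eq
  unfold trdegAt
  letI := (f.residueFieldMap x).hom.toAlgebra
  haveI : Algebra.IsIntegral (Y.residueField (f x)) (X.residueField x) :=
    Algebra.IsIntegral.of_surjective (Algebra.ofId (Y.residueField (f x)) (X.residueField x)) h
  haveI : Algebra.IsAlgebraic (Y.residueField (f x)) (X.residueField x) := inferInstance
  rw [trdeg_eq_zero]
  rfl

/-- at a point in the image of a section, the residue field extension is trivial. -/
theorem tdR_eq_zero_of_section (e : Y ⟶ X) (he : e ≫ f = 𝟙 Y) (y : Y) : tdR f (e y) = 0 := by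
  apply tdR_eq_zero_of_surjective
  have h1 := Scheme.Hom.residueFieldMap_congr he y
  rw [Scheme.residueFieldMap_comp] at h1
  have h2 : Function.Surjective ((f.residueFieldMap (e y)) ≫ e.residueFieldMap y).hom := by
    rw [h1, Scheme.residueFieldMap_id]
    have h3 : Function.Surjective (𝟙 (Y.residueField y) : Y.residueField y ⟶ _).hom :=
      Function.surjective_id
    have h4 : Function.Surjective (Y.residueFieldCongr
        (show (e ≫ f) y = (𝟙 Y : Y ⟶ Y) y by rw [he])).hom.hom :=
      (ConcreteCategory.bijective_of_isIso _).2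
    exact h3.comp h4
  intro c
  obtain ⟨a, ha⟩ := h2 (e.residueFieldMap y c)
  refine ⟨a, ?_⟩
  exact (e.residueFieldMap y).hom.injective ha

/-- composing with a morphism that is surjective on stalks does not change `tdR`. -/
theorem tdR_comp_of_surjectiveOnStalks {Z : Scheme.{u}} (ι : Z ⟶ X) [SurjectiveOnStalks ι]
    [LocallyOfFiniteType (ι ≫ f)] (w : Z) : tdR (ι ≫ f) w = tdR f (ι w) := by
  apply tdR_eq_of_trdegAt_eq
  rw [← trdegAt_eq_tdR f (ι w)]
  exact Groth.Agent.Lib.Helper73.SchemeDim.trdeg_residueFieldMap_comp ι f w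

end Groth.Agent.Lib.Helper21.FieldDim
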