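import Mathlib

/-!
# Finite type points of a scheme (helper21)

A point `x` of a scheme `X` with `Spec κ(x) ⟶ X` locally of finite type is a closed point of a
suitable affine open neighbourhood; more precisely there are arbitrarily small affine open
neighbourhoods `V` of `x` with `Γ(X, V) → κ(x)` surjective (Stacks, Morphisms 16.4-type).
-/

set_option linter.style.haveILetI false
set_option autoImplicit false
universe u

open CategoryTheory CategoryTheory.Limits AlgebraicGeometry TopologicalSpace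

namespace Groth.Agent.Lib.Helper21.FTPoint

/-- factorization of `Spec κ(x) ⟶ X` through an affine open neighbourhood. -/
theorem fromSpecResidueField_eq {X : Scheme.{u}} {U : X.Opens} (hU : IsAffineOpen U) {x : X}
    (hx : x ∈ U) :
    X.fromSpecResidueField x = Spec.map (X.evaluation U x hx) ≫ hU.fromSpec := by
  rw [Scheme.fromSpecResidueField, ← hU.fromSpecStalk_eq_fromSpecStalk hx,
    IsAffineOpen.fromSpecStalk, ← Category.assoc, ← Spec.map_comp]
  rfl

/-- ring-level core: a finite type ring map `φ : A → K` onto (fractions of) a field becomes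
surjective after inverting one element. -/
theorem exists_forall_mul_pow {A K : Type*} [CommRing A] [Field K] (φ : A →+* K)
    (hft : φ.FiniteType) (hfrac : ∀ c : K, ∃ a b : A, φ b ≠ 0 ∧ c * φ b = φ a) :
    ∃ g : A, φ g ≠ 0 ∧ ∀ c : K, ∃ (n : ℕ) (a : A), c * φ g ^ n = φ a := by
  classical
  letI := φ.toAlgebra
  have hft' : Algebra.FiniteType A K := hft
  obtain ⟨T, hT⟩ := hft'.out
  choose a b hb hab using hfrac
  refine ⟨∏ t ∈ T, b t, ?_, ?_⟩
  · rw [map_prod]
    exact Finset.prod_ne_zero_iff.mpr (fun t _ => hb t)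
  · intro c
    have hc : c ∈ Algebra.adjoin A (T : Set K) := by rw [hT]; trivial
    induction hc using Algebra.adjoin_induction with
    | mem t ht =>
      refine ⟨1, a t * ∏ t' ∈ T.erase t, b t', ?_⟩
      rw [pow_one, ← Finset.mul_prod_erase T b ht, map_mul, map_mul, ← mul_assoc, hab]
    | algebraMap r => exact ⟨0, r, by rw [pow_zero, mul_one]; rfl⟩
    | add x y _ _ hx hy =>
      obtain ⟨n, ax, hx⟩ := hx
      obtain ⟨m, ay, hy⟩ := hy
      refine ⟨n + m, ax * (∏ t ∈ T, b t) ^ m + ay * (∏ t ∈ T, b t) ^ n, ?_⟩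
      rw [map_add, map_mul, map_mul, map_pow, map_pow, ← hx, ← hy, pow_add]
      ring
    | mul x y _ _ hx hy =>
      obtain ⟨n, ax, hx⟩ := hx
      obtain ⟨m, ay, hy⟩ := hy
      refine ⟨n + m, ax * ay, ?_⟩
      rw [map_mul, ← hx, ← hy, pow_add]
      ring

/-- **finite type points**: arbitrarily small affine open neighbourhoods on which evaluation at
the point is surjective. -/
theorem exists_affine_evaluation_surjective {X : Scheme.{u}} (x : X)
    [hx : LocallyOfFiniteType (X.fromSpecResidueField x)] (O : X.Opens) (hxO : x ∈ O) :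
    ∃ (V : X.Opens) (_ : IsAffineOpen V) (hxV : x ∈ V), V ≤ O ∧
      Function.Surjective (X.evaluation V x hxV).hom := by
  obtain ⟨_, ⟨(V₀ : X.Opens), hV₀, rfl⟩, hxV₀, hV₀O⟩ :=
    X.isBasis_affineOpens.exists_subset_of_mem_open hxO O.isOpen
  let φ : Γ(X, V₀) →+* X.residueField x := (X.evaluation V₀ x hxV₀).hom
  have hft : φ.FiniteType := by
    have h1 : LocallyOfFiniteType (Spec.map (X.evaluation V₀ x hxV₀) ≫ hV₀.fromSpec) := by
      rw [← fromSpecResidueField_eq hV₀ hxV₀]
      exact hx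
    have h2 : LocallyOfFiniteType (Spec.map (X.evaluation V₀ x hxV₀)) :=
      locallyOfFiniteType_of_comp _ hV₀.fromSpec
    exact (HasRingHomProperty.Spec_iff (P := @LocallyOfFiniteType)).mp h2
  have hfrac : ∀ c : X.residueField x, ∃ a b : Γ(X, V₀), φ b ≠ 0 ∧ c * φ b = φ a := by
    intro c
    obtain ⟨c', rfl⟩ := X.residue_surjective x c
    letI := X.presheaf.algebra_section_stalk ⟨x, hxV₀⟩
    haveI := hV₀.isLocalization_stalk ⟨x, hxV₀⟩
    obtain ⟨a, b, rfl⟩ := IsLocalization.exists_mk'_eq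
      (hV₀.primeIdealOf ⟨x, hxV₀⟩).asIdeal.primeCompl c'
    refine ⟨a, b.1, ?_, ?_⟩
    · have hu : IsUnit (algebraMap Γ(X, V₀) (X.presheaf.stalk x) b.1) :=
        IsLocalization.map_units _ b
      have : IsUnit ((X.residue x).hom (algebraMap Γ(X, V₀) (X.presheaf.stalk x) b.1)) :=
        hu.map _
      exact this.ne_zero
    · have h := IsLocalization.mk'_spec (X.presheaf.stalk x) a b
      have := congrArg (X.residue x).hom h
      rw [map_mul] at this
      exact this
  obtain ⟨g, hg, hall⟩ := exists_forall_mul_pow φ hft hfrac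
  have hxg : x ∈ X.basicOpen g := (X.evaluation_ne_zero_iff_mem_basicOpen x hxV₀ g).mp hg
  refine ⟨X.basicOpen g, hV₀.basicOpen g, hxg, (X.basicOpen_le g).trans hV₀O, ?_⟩
  intro c
  obtain ⟨n, a, hna⟩ := hall c
  let r : Γ(X, V₀) →+* Γ(X, X.basicOpen g) := (X.presheaf.map (homOfLE (X.basicOpen_le g)).op).hom
  have hr : ∀ a', (X.evaluation (X.basicOpen g) x hxg).hom (r a') = φ a' := by
    intro a'
    exact congrArg (X.residue x).hom (X.presheaf.germ_res_apply (homOfLE (X.basicOpen_le g)) x hxg a')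
  have hu : IsUnit (r g) := RingedSpace.isUnit_res_basicOpen _ g
  obtain ⟨v, hv⟩ := hu
  refine ⟨r a * ((v⁻¹ : (Γ(X, X.basicOpen g))ˣ) : Γ(X, X.basicOpen g)) ^ n, ?_⟩
  have h1 : (X.evaluation (X.basicOpen g) x hxg).hom ((v⁻¹ : (Γ(X, X.basicOpen g))ˣ) :
      Γ(X, X.basicOpen g)) * φ g = 1 := by
    rw [← hr g, ← hv, ← map_mul, Units.inv_mul, map_one]
  rw [map_mul, map_pow, hr, ← hna]
  have h2 : ((X.evaluation (X.basicOpen g) x hxg).hom ((v⁻¹ : (Γ(X, X.basicOpen g))ˣ) :
      Γ(X, X.basicOpen g)) * φ g) ^ n = 1 := by rw [h1, one_pow]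
  rw [mul_pow] at h2
  set w := (X.evaluation (X.basicOpen g) x hxg).hom ((v⁻¹ : (Γ(X, X.basicOpen g))ˣ) :
      Γ(X, X.basicOpen g)) with hw
  calc c * φ g ^ n * w ^ n = c * (w ^ n * φ g ^ n) := by ring
    _ = c := by rw [h2, mul_one]

end Groth.Agent.Lib.Helper21.FTPoint
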