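import Mathlib
import Groth.Agent.Lib.Helper21.ConstrDim

/-!
# Two field structures on a finitely generated domain with a common rational point (helper21)

`eq_of_sub_mem`: let `A` be a domain, `σ τ : k →+* A` two ring maps from a field with `A` of finite
type via `σ`, and `𝔪` a proper ideal with `σ a - τ a ∈ 𝔪` for all `a`.  Then `σ = τ`.
(Special case, sufficient for groupoid schemes, of Stacks "uniqueness of base field".)
-/

set_option linter.style.haveILetI false
set_option autoImplicit false
universe u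

open Polynomial Topology

namespace Groth.Agent.Lib.Helper21.TwoFields

/-- in a domain of finite type over a field, a transcendental element `θ` has some `θ ^ n - 1`
(`n ≥ 1`) which is not a unit. -/
theorem exists_pow_sub_one_not_isUnit {k A : Type u} [Field k] [CommRing A] [IsDomain A]
    [Algebra k A] [Algebra.FiniteType k A] (θ : A) (hθ : Transcendental k θ) :
    ∃ n : ℕ, 0 < n ∧ ¬ IsUnit (θ ^ n - 1) := by
  let f : k[X] →+* A := (Polynomial.aeval θ : k[X] →ₐ[k] A).toRingHom
  have hfinj : Function.Injective f := transcendental_iff_injective.mp hθ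
  have hft : f.FiniteType := by
    have h1 : (f.comp (algebraMap k k[X])).FiniteType := by
      have : f.comp (algebraMap k k[X]) = algebraMap k A := by
        ext a
        simp [f]
      rw [this]
      exact (RingHom.finiteType_algebraMap).mpr inferInstance
    exact RingHom.FiniteType.of_comp_finiteType h1
  have hfp : f.FinitePresentation := RingHom.FinitePresentation.of_finiteType.mp hft
  have hC : IsConstructible (Set.range (PrimeSpectrum.comap f)) :=
    PrimeSpectrum.isConstructible_range_comap hfp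
  let η : PrimeSpectrum k[X] := ⟨⊥, Ideal.isPrime_bot⟩
  have hη : η ∈ Set.range (PrimeSpectrum.comap f) := by
    refine ⟨⟨⊥, Ideal.isPrime_bot⟩, ?_⟩
    ext1
    show Ideal.comap f ⊥ = ⊥
    exact (RingHom.injective_iff_ker_eq_bot f).mp hfinj
  obtain ⟨O, hO, hηO, hsub⟩ :=
    Groth.Agent.Lib.Helper21.FieldDim.exists_open_inter_closure_subset hC hη
  have hcl : closure ({η} : Set (PrimeSpectrum k[X])) = Set.univ := by
    rw [PrimeSpectrum.closure_singleton]
    show PrimeSpectrum.zeroLocus ((⊥ : Ideal k[X]) : Set k[X]) = Set.univ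
    simp
  rw [hcl, Set.univ_inter] at hsub
  obtain ⟨_, ⟨h, rfl⟩, hηh, hhO⟩ :=
    PrimeSpectrum.isTopologicalBasis_basic_opens.exists_subset_of_mem_open hηO hO
  have hh0 : h ≠ 0 := by
    intro h0
    apply hηh
    show h ∈ (⊥ : Ideal k[X])
    rw [h0]
    exact Ideal.zero_mem _
  -- choose n
  obtain ⟨n, hn1, hn2⟩ : ∃ n : ℕ, h.natDegree < n ∧ ((n : ℕ) : k) ≠ 0 := by
    by_cases hc : ((h.natDegree + 1 : ℕ) : k) = 0
    · refine ⟨h.natDegree + 2, by omega, ?_⟩
      have : ((h.natDegree + 2 : ℕ) : k) = ((h.natDegree + 1 : ℕ) : k) + 1 := by push_cast; ring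
      rw [this, hc, zero_add]
      exact one_ne_zero
    · exact ⟨h.natDegree + 1, by omega, hc⟩
  have hnpos : 0 < n := by omega
  let Q : k[X] := X ^ n - 1
  have hQsep : Q.Separable := Polynomial.X_pow_sub_one_separable_iff.mpr hn2
  have hQsq : Squarefree Q := hQsep.squarefree
  have hQdeg : Q.natDegree = n := by
    have : Q = X ^ n - C 1 := by simp [Q]
    rw [this]
    exact Polynomial.natDegree_X_pow_sub_C
  have hnot : h ∉ (Ideal.span {Q}).radical := by
    intro hmem
    obtain ⟨m, hm⟩ := hmem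
    rw [Ideal.mem_span_singleton] at hm
    have hm0 : m ≠ 0 := by
      rintro rfl
      rw [pow_zero] at hm
      have hu : IsUnit Q := isUnit_of_dvd_one hm
      have := Polynomial.natDegree_eq_zero_of_isUnit hu
      omega
    have hdvd : Q ∣ h := (hQsq.dvd_pow_iff_dvd hm0).mp hm
    have := Polynomial.natDegree_le_of_dvd hdvd hh0
    omega
  rw [Ideal.radical_eq_sInf, Submodule.mem_sInf] at hnot
  push Not at hnot
  obtain ⟨𝔫, ⟨h𝔫Q, h𝔫prime⟩, hh𝔫⟩ := hnot
  have hmem : (⟨𝔫, h𝔫prime⟩ : PrimeSpectrum k[X]) ∈ Set.range (PrimeSpectrum.comap f) :=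
    hsub (hhO hh𝔫)
  obtain ⟨𝔓, h𝔓⟩ := hmem
  refine ⟨n, hnpos, ?_⟩
  intro hu
  have hQ𝔫 : Q ∈ 𝔫 := h𝔫Q (Ideal.subset_span rfl)
  have hfQ : f Q ∈ 𝔓.asIdeal := by
    have : Q ∈ (PrimeSpectrum.comap f 𝔓).asIdeal := by rw [h𝔓]; exact hQ𝔫
    exact this
  have hfQ' : f Q = θ ^ n - 1 := by
    simp [f, Q]
  rw [hfQ'] at hfQ
  exact 𝔓.isPrime.ne_top (Ideal.eq_top_of_isUnit_mem _ hfQ hu)

/-- two ring maps from a field into a domain of finite type (via the first) which agree modulo a
proper ideal are equal. -/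
theorem eq_of_sub_mem {k A : Type u} [Field k] [CommRing A] [IsDomain A] (σ τ : k →+* A)
    (hσ : σ.FiniteType) (𝔪 : Ideal A) (h𝔪 : 𝔪 ≠ ⊤) (h : ∀ a, σ a - τ a ∈ 𝔪) : σ = τ := by
  letI : Algebra k A := σ.toAlgebra
  haveI : Algebra.FiniteType k A := hσ
  ext a
  by_contra hne
  have hb0 : σ a - τ a ≠ 0 := sub_ne_zero.mpr hne
  by_cases halg : IsAlgebraic k (τ a)
  · have hb : IsAlgebraic k (σ a - τ a) := by
      have h1 : IsAlgebraic k (σ a) := isAlgebraic_algebraMap (R := k) (A := A) a
      exact h1.sub halg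
    have hu : IsUnit (σ a - τ a) := hb.isIntegral.isUnit hb0
    exact h𝔪 (Ideal.eq_top_of_isUnit_mem _ (h a) hu)
  · have htr : Transcendental k (τ a) := halg
    obtain ⟨n, hn, hnu⟩ := exists_pow_sub_one_not_isUnit (k := k) (τ a) htr
    apply hnu
    have h1 : τ a ^ n - 1 = τ (a ^ n - 1) := by simp
    rw [h1]
    by_cases h0 : a ^ n - 1 = 0
    · exfalso
      apply halg
      refine ⟨X ^ n - 1, ?_, ?_⟩
      · intro hX
        have hX' : (X ^ n - C 1 : k[X]) = 0 := by simpa using hX
        have := congrArg Polynomial.natDegree hX'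
        rw [Polynomial.natDegree_X_pow_sub_C, Polynomial.natDegree_zero] at this
        omega
      · have : τ (a ^ n - 1) = 0 := by rw [h0, map_zero]
        simpa using this
    · exact (IsUnit.mk0 _ h0).map τ

end Groth.Agent.Lib.Helper21.TwoFields
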