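import Mathlib
import Groth.Agent.Lib.Helper21.TwoFields
import Groth.Agent.Lib.Helper21.FTPoint
import Groth.Prelude.Def_Grpd

/-!
# Points of a groupoid scheme near the unit section lying in the stabilizer (helper21)

For a groupoid scheme `(U, R, s, t, c, e, i)` with `s` locally of finite type and a finite type
point `u` of `U`: every generization `z` of `e(u)` with `s(z) = t(z) = u` lies in the image of the
fibre `G_u` of the stabilizer.  Consequence: a dimension bound for the local ring of `R` at `e(u)`.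
-/

set_option linter.style.haveILetI false
set_option autoImplicit false
universe u

open CategoryTheory CategoryTheory.Limits AlgebraicGeometry TopologicalSpace Topology

namespace Groth.Agent.Lib.Helper21.GrpdDiagPt

open Groth.Agent.Lib.Helper21.FTPoint

variable {S : Scheme.{u}} (G : Grpd.GroupoidScheme S)

theorem id_appLE {X : Scheme.{u}} (f : X ⟶ X) (hf : f = 𝟙 X) (V V' : X.Opens) (h : V' ≤ f ⁻¹ᵁ V)
    (h' : V' ≤ V) : f.appLE V V' h = X.presheaf.map (homOfLE h').op := by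
  subst hf
  simp only [Scheme.Hom.appLE, Scheme.Hom.id_app]
  erw [Category.id_comp]
  rfl

theorem s_e_apply (u : G.U) : G.s (G.e u) = u := by
  rw [← Scheme.Hom.comp_apply, G.e_s]; rfl

theorem t_e_apply (u : G.U) : G.t (G.e u) = u := by
  rw [← Scheme.Hom.comp_apply, G.e_t]; rfl

/-- at a generization `z` of `e(u)` lying over `u` for both `s` and `t`, `u` a finite type point,
`s` and `t` induce the same `κ(z)`-point of `U`. -/
theorem fromSpecResidueField_comp_s_eq [LocallyOfFiniteType G.s] (u : G.U)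
    [LocallyOfFiniteType (G.U.fromSpecResidueField u)] (z : G.R) (hz : z ⤳ G.e u)
    (hsz : G.s z = u) (htz : G.t z = u) :
    G.R.fromSpecResidueField z ≫ G.s = G.R.fromSpecResidueField z ≫ G.t := by
  have hsx : G.s (G.e u) = u := s_e_apply G u
  have htx : G.t (G.e u) = u := t_e_apply G u
  obtain ⟨V, hV, huV, -, hsurj⟩ :=
    exists_affine_evaluation_surjective u (⊤ : G.U.Opens) trivial
  have hxO : G.e u ∈ G.s ⁻¹ᵁ V ⊓ G.t ⁻¹ᵁ V := by
    refine ⟨?_, ?_⟩
    · show G.s (G.e u) ∈ V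
      rw [hsx]; exact huV
    · show G.t (G.e u) ∈ V
      rw [htx]; exact huV
  obtain ⟨_, ⟨(W : G.R.Opens), hW, rfl⟩, hxW, hWO⟩ :=
    G.R.isBasis_affineOpens.exists_subset_of_mem_open hxO (G.s ⁻¹ᵁ V ⊓ G.t ⁻¹ᵁ V).isOpen
  have hzW : z ∈ W := hz.mem_open W.isOpen hxW
  have hsle : W ≤ G.s ⁻¹ᵁ V := fun y hy => (hWO hy).1
  have htle : W ≤ G.t ⁻¹ᵁ V := fun y hy => (hWO hy).2
  have huO : u ∈ V ⊓ G.e ⁻¹ᵁ W := ⟨huV, hxW⟩
  obtain ⟨_, ⟨(V'' : G.U.Opens), hV'', rfl⟩, huV'', hV''O⟩ :=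
    G.U.isBasis_affineOpens.exists_subset_of_mem_open huO (V ⊓ G.e ⁻¹ᵁ W).isOpen
  have hV''V : V'' ≤ V := fun y hy => (hV''O hy).1
  have hele : V'' ≤ G.e ⁻¹ᵁ W := fun y hy => (hV''O hy).2
  let evz : Γ(G.R, W) →+* G.R.residueField z := (G.R.evaluation W z hzW).hom
  let 𝔭 : Ideal Γ(G.R, W) := RingHom.ker evz
  haveI h𝔭 : 𝔭.IsPrime := RingHom.ker_isPrime evz
  let σB : Γ(G.U, V) →+* Γ(G.R, W) := (G.s.appLE V W hsle).hom
  let τB : Γ(G.U, V) →+* Γ(G.R, W) := (G.t.appLE V W htle).hom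
  let ε : Γ(G.R, W) →+* Γ(G.U, V'') := (G.e.appLE W V'' hele).hom
  let ρV : Γ(G.U, V) →+* Γ(G.U, V'') := (G.U.presheaf.map (homOfLE hV''V).op).hom
  have hεσ : ∀ a, ε (σB a) = ρV a := by
    intro a
    have h1 := Scheme.Hom.appLE_comp_appLE G.e G.s V W V'' hsle hele
    rw [id_appLE (G.e ≫ G.s) G.e_s V V'' _ hV''V] at h1
    exact congrArg (fun φ : Γ(G.U, V) ⟶ Γ(G.U, V'') => φ.hom a) h1
  have hετ : ∀ a, ε (τB a) = ρV a := by
    intro a
    have h1 := Scheme.Hom.appLE_comp_appLE G.e G.t V W V'' htle hele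
    rw [id_appLE (G.e ≫ G.t) G.e_t V V'' _ hV''V] at h1
    exact congrArg (fun φ : Γ(G.U, V) ⟶ Γ(G.U, V'') => φ.hom a) h1
  let evu'' : Γ(G.U, V'') →+* G.U.residueField u := (G.U.evaluation V'' u huV'').hom
  let δ : Γ(G.R, W) →+* G.U.residueField u := evu''.comp ε
  have h𝔭δ : 𝔭 ≤ RingHom.ker δ := by
    intro f hf
    have hf' : G.R.evaluation W z hzW f = 0 := hf
    rw [Scheme.evaluation_eq_zero_iff_notMem_basicOpen] at hf'
    have hx₀ : G.e u ∉ G.R.basicOpen f := fun h => hf' (hz.mem_open (G.R.basicOpen f).isOpen h)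
    rw [RingHom.mem_ker]
    show (G.U.evaluation V'' u huV'') (G.e.appLE W V'' hele f) = 0
    rw [Scheme.evaluation_eq_zero_iff_notMem_basicOpen, Scheme.basicOpen_appLE]
    rintro ⟨-, h⟩
    exact hx₀ h
  let A := Γ(G.R, W) ⧸ 𝔭
  let δA : A →+* G.U.residueField u := Ideal.Quotient.lift 𝔭 δ h𝔭δ
  let evu : Γ(G.U, V) →+* G.U.residueField u := (G.U.evaluation V u huV).hom
  let 𝔪 : Ideal Γ(G.U, V) := RingHom.ker evu
  haveI h𝔪 : 𝔪.IsMaximal := RingHom.ker_isMaximal_of_surjective evu hsurj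
  letI : Field (Γ(G.U, V) ⧸ 𝔪) := Ideal.Quotient.field 𝔪
  have hker : ∀ (f : G.R ⟶ G.U) (hle : W ≤ f ⁻¹ᵁ V) (_ : f z = u) (a : Γ(G.U, V)), a ∈ 𝔪 →
      (f.appLE V W hle).hom a ∈ 𝔭 := by
    intro f hle hfz a ha
    have ha' : G.U.evaluation V u huV a = 0 := ha
    rw [Scheme.evaluation_eq_zero_iff_notMem_basicOpen] at ha'
    show (G.R.evaluation W z hzW) (f.appLE V W hle a) = 0
    rw [Scheme.evaluation_eq_zero_iff_notMem_basicOpen, Scheme.basicOpen_appLE]
    rintro ⟨-, h⟩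
    apply ha'
    have : f z ∈ G.U.basicOpen a := h
    rwa [hfz] at this
  let σ' : (Γ(G.U, V) ⧸ 𝔪) →+* A :=
    Ideal.Quotient.lift 𝔪 ((Ideal.Quotient.mk 𝔭).comp σB) (by
      intro a ha
      show (Ideal.Quotient.mk 𝔭) (σB a) = 0
      rw [Ideal.Quotient.eq_zero_iff_mem]
      exact hker G.s hsle hsz a ha)
  let τ' : (Γ(G.U, V) ⧸ 𝔪) →+* A :=
    Ideal.Quotient.lift 𝔪 ((Ideal.Quotient.mk 𝔭).comp τB) (by
      intro a ha
      show (Ideal.Quotient.mk 𝔭) (τB a) = 0
      rw [Ideal.Quotient.eq_zero_iff_mem]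
      exact hker G.t htle htz a ha)
  have hσft : σ'.FiniteType := by
    have h1 : σB.FiniteType :=
      HasRingHomProperty.appLE (P := @LocallyOfFiniteType) G.s inferInstance
        ⟨V, hV⟩ ⟨W, hW⟩ hsle
    have h3 : (Ideal.Quotient.mk 𝔭).FiniteType :=
      RingHom.FiniteType.of_surjective _ Ideal.Quotient.mk_surjective
    have h4 : (σ'.comp (Ideal.Quotient.mk 𝔪)).FiniteType := by
      have : σ'.comp (Ideal.Quotient.mk 𝔪) = (Ideal.Quotient.mk 𝔭).comp σB := by
        ext a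
        rfl
      rw [this]
      exact h3.comp h1
    exact RingHom.FiniteType.of_comp_finiteType h4
  have hmem : ∀ a, σ' a - τ' a ∈ RingHom.ker δA := by
    intro a
    obtain ⟨a, rfl⟩ := Ideal.Quotient.mk_surjective a
    rw [RingHom.mem_ker, map_sub]
    change evu'' (ε (σB a)) - evu'' (ε (τB a)) = 0
    rw [hεσ, hετ, sub_self]
  have hkey : σ' = τ' :=
    Groth.Agent.Lib.Helper21.TwoFields.eq_of_sub_mem σ' τ' hσft (RingHom.ker δA)
      (RingHom.ker_ne_top δA) hmem
  have hev : ∀ a : Γ(G.U, V), evz (σB a) = evz (τB a) := by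
    intro a
    have h1 : σ' (Ideal.Quotient.mk 𝔪 a) = τ' (Ideal.Quotient.mk 𝔪 a) := by rw [hkey]
    have h2 : σB a - τB a ∈ 𝔭 := by
      rw [← Ideal.Quotient.eq]
      exact h1
    have h3 : evz (σB a - τB a) = 0 := h2
    rw [map_sub, sub_eq_zero] at h3
    exact h3
  -- conclude
  rw [fromSpecResidueField_eq hW hzW, Category.assoc, Category.assoc,
    ← IsAffineOpen.SpecMap_appLE_fromSpec G.s hV hW hsle,
    ← IsAffineOpen.SpecMap_appLE_fromSpec G.t hV hW htle, ← Category.assoc, ← Category.assoc,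
    ← Spec.map_comp, ← Spec.map_comp]
  congr 2
  ext a
  exact hev a

/-- the map from the stabilizer to `R`. -/
noncomputable def stabToR : G.stabilizer ⟶ G.R := pullback.fst G.j G.diag

/-- the map from the fibre of the stabilizer over `u` to `R`. -/
noncomputable def rho (u : G.U) : G.stabilizerToU.fiber u ⟶ G.R :=
  G.stabilizerToU.fiberι u ≫ stabToR G

theorem stabToR_comp_s : stabToR G ≫ G.s = G.stabilizerToU := by
  have h := congrArg (fun φ => φ ≫ pullback.snd G.pU G.pU) (pullback.condition (f := G.j) (g := G.diag))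
  simp only [Grpd.GroupoidScheme.j, Grpd.GroupoidScheme.diag, Category.assoc,
    pullback.lift_snd, Category.comp_id] at h
  exact h

theorem range_stabToR : Set.range (stabToR G) = G.j ⁻¹' Set.range G.diag :=
  Scheme.Pullback.range_fst G.j G.diag

instance : IsImmersion (stabToR G) := by
  haveI : IsImmersion G.diag := inferInstanceAs (IsImmersion (pullback.diagonal G.pU))
  exact inferInstanceAs (IsImmersion (pullback.fst G.j G.diag))

instance (u : G.U) : IsPreimmersion (rho G u) := by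
  unfold rho
  infer_instance

theorem mem_range_rho [LocallyOfFiniteType G.s] (u : G.U)
    [LocallyOfFiniteType (G.U.fromSpecResidueField u)] (z : G.R) (hz : z ⤳ G.e u)
    (hsz : G.s z = u) (htz : G.t z = u) : z ∈ Set.range (rho G u) := by
  let α := G.R.fromSpecResidueField z
  have hα : α ≫ G.s = α ≫ G.t := fromSpecResidueField_comp_s_eq G u z hz hsz htz
  have hj : α ≫ G.j = (α ≫ G.s) ≫ G.diag := by
    apply pullback.hom_ext
    · simp only [Grpd.GroupoidScheme.j, Grpd.GroupoidScheme.diag, Category.assoc,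
        pullback.lift_fst, Category.comp_id]
      exact hα.symm
    · simp only [Grpd.GroupoidScheme.j, Grpd.GroupoidScheme.diag, Category.assoc,
        pullback.lift_snd, Category.comp_id]
  obtain ⟨p⟩ : Nonempty (Spec (G.R.residueField z)) := inferInstance
  have hp : α p = z := Scheme.fromSpecResidueField_apply z p
  have hjz : G.j z ∈ Set.range G.diag := by
    refine ⟨G.s z, ?_⟩
    have h1 : G.j z = (α ≫ G.j) p := by rw [Scheme.Hom.comp_apply, hp]
    have h2 : G.diag (G.s z) = ((α ≫ G.s) ≫ G.diag) p := by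
      rw [Scheme.Hom.comp_apply, Scheme.Hom.comp_apply, hp]
    rw [h1, h2, hj]
  have hz' : z ∈ Set.range (stabToR G) := by rw [range_stabToR]; exact hjz
  obtain ⟨g₀, hg₀⟩ := hz'
  have hg₀u : G.stabilizerToU g₀ = u := by
    rw [← stabToR_comp_s, Scheme.Hom.comp_apply, hg₀, hsz]
  have hmem : g₀ ∈ Set.range (G.stabilizerToU.fiberι u) := by
    rw [Scheme.Hom.range_fiberι]
    exact hg₀u
  obtain ⟨g₁, hg₁⟩ := hmem
  refine ⟨g₁, ?_⟩
  show (G.stabilizerToU.fiberι u ≫ stabToR G) g₁ = z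
  rw [Scheme.Hom.comp_apply, hg₁, hg₀]

/-- points of `Spec (O_{X,x₀}/𝔓)` lie over `f x₀` when `𝔓` lies over the maximal ideal. -/
theorem apply_fromSpecStalk_quotient {X Y : Scheme.{u}} (f : X ⟶ Y) (x₀ : X)
    (𝔓 : Ideal (X.presheaf.stalk x₀))
    (h : 𝔓.comap (f.stalkMap x₀).hom = IsLocalRing.maximalIdeal (Y.presheaf.stalk (f x₀)))
    (w : Spec (CommRingCat.of (X.presheaf.stalk x₀ ⧸ 𝔓))) :
    f ((Spec.map (CommRingCat.ofHom (Ideal.Quotient.mk 𝔓)) ≫ X.fromSpecStalk x₀) w) = f x₀ := by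
  rw [← Scheme.Hom.comp_apply, Category.assoc, ← Scheme.SpecMap_stalkMap_fromSpecStalk,
    ← Category.assoc, ← Spec.map_comp, Scheme.Hom.comp_apply]
  have hcl : Spec.map (f.stalkMap x₀ ≫ CommRingCat.ofHom (Ideal.Quotient.mk 𝔓)) w =
      IsLocalRing.closedPoint (Y.presheaf.stalk (f x₀)) := by
    rw [Spec.map_apply]
    apply PrimeSpectrum.ext
    show Ideal.comap _ w.asIdeal = IsLocalRing.maximalIdeal _
    symm
    apply (IsLocalRing.maximalIdeal.isMaximal _).eq_of_le
    · haveI := w.isPrime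
      exact (Ideal.IsPrime.comap _).ne_top
    · intro a ha
      rw [← h] at ha
      rw [Ideal.mem_comap]
      have : (f.stalkMap x₀ ≫ CommRingCat.ofHom (Ideal.Quotient.mk 𝔓)).hom a = 0 := by
        show Ideal.Quotient.mk 𝔓 ((f.stalkMap x₀).hom a) = 0
        rw [Ideal.Quotient.eq_zero_iff_mem]
        exact ha
      rw [this]
      exact zero_mem _
  exact (congrArg (Y.fromSpecStalk (f x₀)) hcl).trans Scheme.fromSpecStalk_closedPoint

/-- **dimension bound**: a prime of `O_{R,e(u)}` lying over the maximal ideals along both `s` and `t`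
has coheight at most `dim G_u`. -/
theorem ringKrullDim_quotient_le [LocallyOfFiniteType G.s] (u : G.U)
    [LocallyOfFiniteType (G.U.fromSpecResidueField u)]
    (𝔓 : Ideal (G.R.presheaf.stalk (G.e u))) [𝔓.IsPrime]
    (h1 : 𝔓.comap (G.s.stalkMap (G.e u)).hom = IsLocalRing.maximalIdeal _)
    (h2 : 𝔓.comap (G.t.stalkMap (G.e u)).hom = IsLocalRing.maximalIdeal _) :
    ringKrullDim (G.R.presheaf.stalk (G.e u) ⧸ 𝔓) ≤
      topologicalKrullDim (G.stabilizerToU.fiber u) := by
  let ψ : Spec (CommRingCat.of (G.R.presheaf.stalk (G.e u) ⧸ 𝔓)) ⟶ G.R :=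
    Spec.map (CommRingCat.ofHom (Ideal.Quotient.mk 𝔓)) ≫ G.R.fromSpecStalk (G.e u)
  haveI : IsClosedImmersion (Spec.map (CommRingCat.ofHom (Ideal.Quotient.mk 𝔓))) :=
    IsClosedImmersion.spec_of_surjective _ Ideal.Quotient.mk_surjective
  haveI : IsPreimmersion ψ := by
    show IsPreimmersion (Spec.map (CommRingCat.ofHom (Ideal.Quotient.mk 𝔓)) ≫
      G.R.fromSpecStalk (G.e u))
    infer_instance
  have hsub : ∀ w, ψ w ∈ Set.range (rho G u) := by
    intro w
    refine mem_range_rho G u (ψ w) ?_ ?_ ?_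
    · have : ψ w ∈ Set.range (G.R.fromSpecStalk (G.e u)) := by
        refine ⟨Spec.map (CommRingCat.ofHom (Ideal.Quotient.mk 𝔓)) w, ?_⟩
        rfl
      rw [Scheme.range_fromSpecStalk] at this
      exact this
    · exact (apply_fromSpecStalk_quotient G.s (G.e u) 𝔓 h1 w).trans (s_e_apply G u)
    · exact (apply_fromSpecStalk_quotient G.t (G.e u) 𝔓 h2 w).trans (t_e_apply G u)
  rw [← PrimeSpectrum.topologicalKrullDim_eq_ringKrullDim]
  let e := (rho G u).isEmbedding.toHomeomorph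
  let g : Spec (CommRingCat.of (G.R.presheaf.stalk (G.e u) ⧸ 𝔓)) → G.stabilizerToU.fiber u :=
    fun w => e.symm ⟨ψ w, hsub w⟩
  have hg : IsInducing g := by
    have h1 : IsInducing (fun w : Spec (CommRingCat.of (G.R.presheaf.stalk (G.e u) ⧸ 𝔓)) =>
        (⟨ψ w, hsub w⟩ : Set.range (rho G u))) :=
      (ψ.isEmbedding.isInducing).codRestrict hsub
    exact e.symm.isInducing.comp h1
  exact hg.topologicalKrullDim_le

end Groth.Agent.Lib.Helper21.GrpdDiagPt
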