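import Mathlib
import Groth.Agent.Lib.Helper33.PullbackStalk

/-!
# Stalks of the pullback along a hypersurface slice of an affine open (helper21)

For `t : R ⟶ U`, an affine open `V ⊆ U` and `f₀ ∈ Γ(U, V)`, let `g : Spec (Γ(U,V)/(f₀)) ⟶ U` be the
canonical immersion.  At a point `p` of `pullback g t`, the stalk map of the second projection is
surjective with kernel generated by the image of `f₀`.
-/

set_option linter.style.haveILetI false
set_option autoImplicit false
universe u

open CategoryTheory CategoryTheory.Limits AlgebraicGeometry TopologicalSpace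

namespace Groth.Agent.Lib.Helper21.PullbackSliceStalk

/-- structure map `Γ(U,V) ⟶ O_{Q,q}` of a `U`-scheme at a point over `V`. -/
noncomputable def glV {Q U : Scheme.{u}} (m : Q ⟶ U) (V : U.Opens) (q : Q) (hq : m q ∈ V) :
    Γ(U, V) ⟶ Q.presheaf.stalk q :=
  U.presheaf.germ V (m q) hq ≫ m.stalkMap q

theorem glV_congr {Q U : Scheme.{u}} {m₁ m₂ : Q ⟶ U} (h : m₁ = m₂) (V : U.Opens) (q : Q)
    (hq : m₁ q ∈ V) : glV m₁ V q hq = glV m₂ V q (h ▸ hq) := by
  subst h; rfl

theorem glV_comp {Q' Q U : Scheme.{u}} (a : Q' ⟶ Q) (m : Q ⟶ U) (V : U.Opens) (q' : Q')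
    (hq : (a ≫ m) q' ∈ V) :
    glV (a ≫ m) V q' hq = glV m V (a q') hq ≫ a.stalkMap q' := by
  unfold glV
  rw [Scheme.Hom.stalkMap_comp]
  rfl

theorem glV_fromSpec {U : Scheme.{u}} {V : U.Opens} (hV : IsAffineOpen V) (w : Spec Γ(U, V))
    (hw : hV.fromSpec w ∈ V) :
    glV hV.fromSpec V w hw =
      (Scheme.ΓSpecIso Γ(U, V)).inv ≫ (Spec Γ(U, V)).presheaf.germ ⊤ w trivial := by
  unfold glV
  rw [Scheme.Hom.germ_stalkMap, hV.fromSpec_app_self, Category.assoc]
  congr 1
  exact (Spec Γ(U, V)).presheaf.germ_res (eqToHom hV.fromSpec_preimage_self) w hw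

variable {R U : Scheme.{u}} (t : R ⟶ U) {V : U.Opens} (hV : IsAffineOpen V) (f₀ : Γ(U, V))

/-- the immersion `Spec (Γ(V)/(f₀)) ⟶ U`. -/
noncomputable def sliceHom : Spec (CommRingCat.of (Γ(U, V) ⧸ Ideal.span {f₀})) ⟶ U :=
  Spec.map (CommRingCat.ofHom (Ideal.Quotient.mk (Ideal.span {f₀}))) ≫ hV.fromSpec

instance : IsImmersion (sliceHom hV f₀) := by
  haveI : IsClosedImmersion (Spec.map (CommRingCat.ofHom (Ideal.Quotient.mk (Ideal.span {f₀})))) :=
    IsClosedImmersion.spec_of_surjective _ Ideal.Quotient.mk_surjective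
  haveI := hV.isOpenImmersion_fromSpec
  unfold sliceHom
  infer_instance

instance : LocallyOfFinitePresentation (sliceHom hV f₀) := by
  haveI : LocallyOfFinitePresentation
      (Spec.map (CommRingCat.ofHom (Ideal.Quotient.mk (Ideal.span {f₀})))) := by
    rw [HasRingHomProperty.Spec_iff (P := @LocallyOfFinitePresentation)]
    exact RingHom.FinitePresentation.of_surjective _ Ideal.Quotient.mk_surjective
      (by rw [CommRingCat.hom_ofHom, Ideal.mk_ker]; exact ⟨{f₀}, by simp⟩)
  haveI := hV.isOpenImmersion_fromSpec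
  unfold sliceHom
  infer_instance

theorem range_sliceHom_subset : Set.range (sliceHom hV f₀) ⊆ (V : Set U) := by
  rintro _ ⟨w, rfl⟩
  have : (sliceHom hV f₀) w ∈ Set.range hV.fromSpec := by
    unfold sliceHom
    rw [Scheme.Hom.comp_apply]
    exact ⟨_, rfl⟩
  rwa [hV.range_fromSpec] at this

theorem snd_mem (p : ↑(pullback (sliceHom hV f₀) t)) :
    pullback.snd (sliceHom hV f₀) t p ∈ t ⁻¹ᵁ V := by
  show t (pullback.snd (sliceHom hV f₀) t p) ∈ V
  rw [← Scheme.Hom.comp_apply, ← pullback.condition, Scheme.Hom.comp_apply]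
  exact range_sliceHom_subset hV f₀ ⟨_, rfl⟩

set_option maxHeartbeats 400000 in
/-- **stalk of the slice pullback**: the kernel of the stalk map of the second projection. -/
theorem ker_stalkMap_snd (p : ↑(pullback (sliceHom hV f₀) t)) :
    RingHom.ker ((pullback.snd (sliceHom hV f₀) t).stalkMap p).hom =
      Ideal.span {(glV t V (pullback.snd (sliceHom hV f₀) t p) (snd_mem t hV f₀ p)).hom f₀} := by
  haveI := hV.isOpenImmersion_fromSpec
  let φ : Γ(U, V) ⟶ CommRingCat.of (Γ(U, V) ⧸ Ideal.span {f₀}) :=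
    CommRingCat.ofHom (Ideal.Quotient.mk (Ideal.span {f₀}))
  have hφ : Function.Surjective φ.hom := Ideal.Quotient.mk_surjective
  let fst' := pullback.fst hV.fromSpec t
  let snd' := pullback.snd hV.fromSpec t
  let fstP := pullback.fst (sliceHom hV f₀) t
  let sndP := pullback.snd (sliceHom hV f₀) t
  have hcond : (fstP ≫ Spec.map φ) ≫ hV.fromSpec = sndP ≫ t := by
    rw [Category.assoc]
    exact pullback.condition
  let i : pullback (sliceHom hV f₀) t ⟶ pullback hV.fromSpec t :=
    pullback.lift (fstP ≫ Spec.map φ) sndP hcond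
  have hi1 : i ≫ fst' = fstP ≫ Spec.map φ := pullback.lift_fst _ _ _
  have hi2 : i ≫ snd' = sndP := pullback.lift_snd _ _ _
  have hsq : IsPullback i fstP fst' (Spec.map φ) := by
    refine IsPullback.of_right ?_ hi1 (IsPullback.of_hasPullback hV.fromSpec t).flip
    rw [hi2]
    exact (IsPullback.of_hasPullback (sliceHom hV f₀) t).flip
  have hker := Groth.Agent.Lib.Helper33.PullbackStalk.ker_stalkMap fst' fstP i φ hφ hsq p
  have hkerφ : RingHom.ker φ.hom = Ideal.span {f₀} := by
    show RingHom.ker (Ideal.Quotient.mk (Ideal.span {f₀})) = _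
    exact Ideal.mk_ker
  rw [hkerφ, Ideal.map_span, Set.image_singleton] at hker
  -- identify the structure maps
  have hgl : ∀ (y : ↑(pullback hV.fromSpec t)) (hy : t (snd' y) ∈ V),
      Groth.Agent.Lib.Helper33.PullbackStalk.gl fst' y = glV t V (snd' y) hy ≫ snd'.stalkMap y := by
    intro y hy
    have hy1 : (snd' ≫ t) y ∈ V := hy
    have hy2 : (fst' ≫ hV.fromSpec) y ∈ V := by
      have : fst' ≫ hV.fromSpec = snd' ≫ t := pullback.condition
      rw [this]; exact hy1
    rw [← glV_comp snd' t V y hy1, ← glV_congr (pullback.condition : fst' ≫ hV.fromSpec = snd' ≫ t) V y hy2,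
      glV_comp fst' hV.fromSpec V y hy2, glV_fromSpec hV (fst' y) hy2]
    unfold Groth.Agent.Lib.Helper33.PullbackStalk.gl
    simp only [Category.assoc]
  -- the general statement, to substitute `sndP = i ≫ snd'`
  have aux : ∀ (j : pullback (sliceHom hV f₀) t ⟶ R) (_ : j = i ≫ snd') (hx : t (j p) ∈ V),
      RingHom.ker (j.stalkMap p).hom = Ideal.span {(glV t V (j p) hx).hom f₀} := by
    intro j hj hx
    subst hj
    have hθ : Function.Bijective (snd'.stalkMap (i p)).hom :=
      ConcreteCategory.bijective_of_isIso (snd'.stalkMap (i p))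
    have hx' : t (snd' (i p)) ∈ V := hx
    have h1 : RingHom.ker ((i ≫ snd').stalkMap p).hom =
        RingHom.ker ((i.stalkMap p).hom.comp (snd'.stalkMap (i p)).hom) := by
      rw [Scheme.Hom.stalkMap_comp]
      rfl
    have h3 : RingHom.ker ((i.stalkMap p).hom.comp (snd'.stalkMap (i p)).hom) =
        (RingHom.ker (i.stalkMap p).hom).comap (snd'.stalkMap (i p)).hom := by
      ext a
      simp only [RingHom.mem_ker, Ideal.mem_comap, RingHom.comp_apply]
    have key : RingHom.ker ((i.stalkMap p).hom.comp (snd'.stalkMap (i p)).hom) =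
        Ideal.span {(glV t V (snd' (i p)) hx').hom f₀} := by
      rw [h3, hker, hgl (i p) hx']
      have h2 : (glV t V (snd' (i p)) hx' ≫ snd'.stalkMap (i p)).hom f₀ =
          (snd'.stalkMap (i p)).hom ((glV t V (snd' (i p)) hx').hom f₀) := rfl
      rw [h2, ← Set.image_singleton, ← Ideal.map_span, Ideal.comap_map_of_bijective _ hθ]
    exact h1.trans key
  exact aux sndP hi2.symm (snd_mem t hV f₀ p)

theorem stalkMap_snd_surjective (p : ↑(pullback (sliceHom hV f₀) t)) :
    Function.Surjective ((pullback.snd (sliceHom hV f₀) t).stalkMap p).hom :=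
  (pullback.snd (sliceHom hV f₀) t).stalkMap_surjective p

end Groth.Agent.Lib.Helper21.PullbackSliceStalk
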