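import Mathlib
import Groth.Agent.Lib.Helper33.PullbackStalk
import Groth.Agent.Lib.Helper21.PullbackSliceStalk

/-!
# Stalks of the pullback along a closed slice `V(I₀)` of an affine open (helper21)

Ideal version of `PullbackSliceStalk`: for `t : R ⟶ U`, an affine open `V ⊆ U` and an ideal
`I₀ ⊆ Γ(U, V)`, let `g : Spec (Γ(U,V)/I₀) ⟶ U` be the canonical immersion.  At a point `p` of
`pullback g t`, the stalk map of the second projection is surjective with kernel generated by the
image of `I₀`.
-/

set_option linter.style.haveILetI false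
set_option autoImplicit false
universe u

open CategoryTheory CategoryTheory.Limits AlgebraicGeometry TopologicalSpace

namespace Groth.Agent.Lib.Helper21.PullbackSliceStalkI

open Groth.Agent.Lib.Helper21.PullbackSliceStalk

variable {R U : Scheme.{u}} (t : R ⟶ U) {V : U.Opens} (hV : IsAffineOpen V) (I₀ : Ideal Γ(U, V))

/-- the immersion `Spec (Γ(V)/I₀) ⟶ U`. -/
noncomputable def sliceHomI : Spec (CommRingCat.of (Γ(U, V) ⧸ I₀)) ⟶ U :=
  Spec.map (CommRingCat.ofHom (Ideal.Quotient.mk I₀)) ≫ hV.fromSpec

instance : IsImmersion (sliceHomI hV I₀) := by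
  haveI : IsClosedImmersion (Spec.map (CommRingCat.ofHom (Ideal.Quotient.mk I₀))) :=
    IsClosedImmersion.spec_of_surjective _ Ideal.Quotient.mk_surjective
  haveI := hV.isOpenImmersion_fromSpec
  unfold sliceHomI
  infer_instance

theorem lfp_sliceHomI (hfg : I₀.FG) : LocallyOfFinitePresentation (sliceHomI hV I₀) := by
  haveI : LocallyOfFinitePresentation
      (Spec.map (CommRingCat.ofHom (Ideal.Quotient.mk I₀))) := by
    rw [HasRingHomProperty.Spec_iff (P := @LocallyOfFinitePresentation)]
    exact RingHom.FinitePresentation.of_surjective _ Ideal.Quotient.mk_surjective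
      (by rw [CommRingCat.hom_ofHom, Ideal.mk_ker]; exact hfg)
  haveI := hV.isOpenImmersion_fromSpec
  unfold sliceHomI
  infer_instance

theorem range_sliceHomI_subset : Set.range (sliceHomI hV I₀) ⊆ (V : Set U) := by
  rintro _ ⟨w, rfl⟩
  have : (sliceHomI hV I₀) w ∈ Set.range hV.fromSpec := by
    unfold sliceHomI
    rw [Scheme.Hom.comp_apply]
    exact ⟨_, rfl⟩
  rwa [hV.range_fromSpec] at this

theorem snd_memI (p : ↑(pullback (sliceHomI hV I₀) t)) :
    pullback.snd (sliceHomI hV I₀) t p ∈ t ⁻¹ᵁ V := by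
  show t (pullback.snd (sliceHomI hV I₀) t p) ∈ V
  rw [← Scheme.Hom.comp_apply, ← pullback.condition, Scheme.Hom.comp_apply]
  exact range_sliceHomI_subset hV I₀ ⟨_, rfl⟩

set_option maxHeartbeats 400000 in
/-- **stalk of the slice pullback**: the kernel of the stalk map of the second projection. -/
theorem ker_stalkMap_sndI (p : ↑(pullback (sliceHomI hV I₀) t)) :
    RingHom.ker ((pullback.snd (sliceHomI hV I₀) t).stalkMap p).hom =
      I₀.map (glV t V (pullback.snd (sliceHomI hV I₀) t p) (snd_memI t hV I₀ p)).hom := by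
  haveI := hV.isOpenImmersion_fromSpec
  let φ : Γ(U, V) ⟶ CommRingCat.of (Γ(U, V) ⧸ I₀) :=
    CommRingCat.ofHom (Ideal.Quotient.mk I₀)
  have hφ : Function.Surjective φ.hom := Ideal.Quotient.mk_surjective
  let fst' := pullback.fst hV.fromSpec t
  let snd' := pullback.snd hV.fromSpec t
  let fstP := pullback.fst (sliceHomI hV I₀) t
  let sndP := pullback.snd (sliceHomI hV I₀) t
  have hcond : (fstP ≫ Spec.map φ) ≫ hV.fromSpec = sndP ≫ t := by
    rw [Category.assoc]
    exact pullback.condition
  let i : pullback (sliceHomI hV I₀) t ⟶ pullback hV.fromSpec t :=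
    pullback.lift (fstP ≫ Spec.map φ) sndP hcond
  have hi1 : i ≫ fst' = fstP ≫ Spec.map φ := pullback.lift_fst _ _ _
  have hi2 : i ≫ snd' = sndP := pullback.lift_snd _ _ _
  have hsq : IsPullback i fstP fst' (Spec.map φ) := by
    refine IsPullback.of_right ?_ hi1 (IsPullback.of_hasPullback hV.fromSpec t).flip
    rw [hi2]
    exact (IsPullback.of_hasPullback (sliceHomI hV I₀) t).flip
  have hker := Groth.Agent.Lib.Helper33.PullbackStalk.ker_stalkMap fst' fstP i φ hφ hsq p
  have hkerφ : RingHom.ker φ.hom = I₀ := by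
    show RingHom.ker (Ideal.Quotient.mk I₀) = _
    exact Ideal.mk_ker
  rw [hkerφ] at hker
  -- identify the structure maps
  have hgl : ∀ (y : ↑(pullback hV.fromSpec t)) (hy : t (snd' y) ∈ V),
      Groth.Agent.Lib.Helper33.PullbackStalk.gl fst' y = glV t V (snd' y) hy ≫ snd'.stalkMap y := by
    intro y hy
    have hy1 : (snd' ≫ t) y ∈ V := hy
    have hy2 : (fst' ≫ hV.fromSpec) y ∈ V := by
      have : fst' ≫ hV.fromSpec = snd' ≫ t := pullback.condition
      rw [this]; exact hy1
    rw [← glV_comp snd' t V y hy1, ← glV_congr (pullback.condition : fst' ≫ hV.fromSpec = snd' ≫ t) V y hy2,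
      glV_comp fst' hV.fromSpec V y hy2, glV_fromSpec hV (fst' y) hy2]
    unfold Groth.Agent.Lib.Helper33.PullbackStalk.gl
    simp only [Category.assoc]
  -- the general statement, to substitute `sndP = i ≫ snd'`
  have aux : ∀ (j : pullback (sliceHomI hV I₀) t ⟶ R) (_ : j = i ≫ snd') (hx : t (j p) ∈ V),
      RingHom.ker (j.stalkMap p).hom = I₀.map (glV t V (j p) hx).hom := by
    intro j hj hx
    subst hj
    have hθ : Function.Bijective (snd'.stalkMap (i p)).hom :=
      ConcreteCategory.bijective_of_isIso (snd'.stalkMap (i p))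
    have hx' : t (snd' (i p)) ∈ V := hx
    have h1 : RingHom.ker ((i ≫ snd').stalkMap p).hom =
        RingHom.ker ((i.stalkMap p).hom.comp (snd'.stalkMap (i p)).hom) := by
      rw [Scheme.Hom.stalkMap_comp]
      rfl
    have h3 : RingHom.ker ((i.stalkMap p).hom.comp (snd'.stalkMap (i p)).hom) =
        (RingHom.ker (i.stalkMap p).hom).comap (snd'.stalkMap (i p)).hom := by
      ext a
      simp only [RingHom.mem_ker, Ideal.mem_comap, RingHom.comp_apply]
    have key : RingHom.ker ((i.stalkMap p).hom.comp (snd'.stalkMap (i p)).hom) =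
        I₀.map (glV t V (snd' (i p)) hx').hom := by
      rw [h3, hker, hgl (i p) hx']
      have h2 : (glV t V (snd' (i p)) hx' ≫ snd'.stalkMap (i p)).hom =
          (snd'.stalkMap (i p)).hom.comp (glV t V (snd' (i p)) hx').hom := rfl
      rw [h2, ← Ideal.map_map, Ideal.comap_map_of_bijective _ hθ]
    exact h1.trans key
  exact aux sndP hi2.symm (snd_memI t hV I₀ p)

theorem stalkMap_sndI_surjective (p : ↑(pullback (sliceHomI hV I₀) t)) :
    Function.Surjective ((pullback.snd (sliceHomI hV I₀) t).stalkMap p).hom :=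
  (pullback.snd (sliceHomI hV I₀) t).stalkMap_surjective p

end Groth.Agent.Lib.Helper21.PullbackSliceStalkI
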