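import Mathlib
import Groth.Agent.Lib.Helper29.ExtRees3
import Groth.Agent.Lib.Helper33.CMComp

/-!
# Slicing the closed fibre of a local homomorphism by a regular element (helper21)

Ring-level input for Stacks 40.12.1: `σ : A → B` local rings, `π : B ↠ C` with kernel `(b)`,
`b ∈ 𝔪_B` regular on the Cohen–Macaulay fibre ring `B/𝔪_A B`; then `C/𝔪_A C` is Cohen–Macaulay of
dimension one less.
-/

set_option linter.style.haveILetI false
set_option autoImplicit false
universe u

namespace Groth.Agent.Lib.Helper21.SliceRing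

open IsLocalRing

theorem slice_ring {A B C : Type u} [CommRing A] [CommRing B] [CommRing C] [IsLocalRing A]
    [IsLocalRing B] (σ : A →+* B) (π : B →+* C) (hπ : Function.Surjective π) (b : B)
    (hker : RingHom.ker π = Ideal.span {b}) (hbm : b ∈ maximalIdeal B)
    (hcm : LocCoh.IsCohenMacaulayLocalRing (B ⧸ (maximalIdeal A).map σ))
    (hreg : IsSMulRegular (B ⧸ (maximalIdeal A).map σ)
      (Ideal.Quotient.mk ((maximalIdeal A).map σ) b)) :
    LocCoh.IsCohenMacaulayLocalRing (C ⧸ (maximalIdeal A).map (π.comp σ)) ∧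
    ringKrullDim (C ⧸ (maximalIdeal A).map (π.comp σ)) + 1 =
      ringKrullDim (B ⧸ (maximalIdeal A).map σ) := by
  set I : Ideal B := (maximalIdeal A).map σ with hI
  set J : Ideal C := (maximalIdeal A).map (π.comp σ) with hJ
  have hJI : J = I.map π := by rw [hJ, hI, Ideal.map_map]
  haveI : IsLocalRing (B ⧸ I) := hcm.toIsLocalRing
  haveI : IsNoetherianRing (B ⧸ I) := by haveI := hcm; infer_instance
  set b' : B ⧸ I := Ideal.Quotient.mk I b with hb'
  have hb'm : b' ∈ maximalIdeal (B ⧸ I) := by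
    rw [mem_maximalIdeal, mem_nonunits_iff]
    intro hu
    haveI : IsLocalHom (Ideal.Quotient.mk I) :=
      IsLocalHom.of_surjective _ Ideal.Quotient.mk_surjective
    have : IsUnit b := isUnit_of_map_unit (Ideal.Quotient.mk I) b hu
    exact (mem_maximalIdeal b).mp hbm this
  have hQ : LocCoh.IsCohenMacaulayLocalRing ((B ⧸ I) ⧸ Ideal.span {b'}) :=
    (Groth.Agent.Lib.Helper29.ExtRees.cmLocal_iff_quotient_span (B ⧸ I) b' hb'm hreg).mp hcm
  have hdim : ringKrullDim ((B ⧸ I) ⧸ Ideal.span {b'}) + 1 = ringKrullDim (B ⧸ I) :=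
    ringKrullDim_quotient_span_singleton_succ_eq_ringKrullDim hreg hb'm
  let ψ : (B ⧸ I) →+* (C ⧸ J) := Ideal.Quotient.lift I ((Ideal.Quotient.mk J).comp π) (by
    intro a ha
    show Ideal.Quotient.mk J (π a) = 0
    rw [Ideal.Quotient.eq_zero_iff_mem, hJI]
    exact Ideal.mem_map_of_mem π ha)
  have hψ : Function.Surjective ψ := by
    intro y
    obtain ⟨c, rfl⟩ := Ideal.Quotient.mk_surjective y
    obtain ⟨x, rfl⟩ := hπ c
    exact ⟨Ideal.Quotient.mk I x, rfl⟩
  have hkerψ : RingHom.ker ψ = Ideal.span {b'} := by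
    apply le_antisymm
    · intro y hy
      obtain ⟨x, rfl⟩ := Ideal.Quotient.mk_surjective y
      rw [RingHom.mem_ker] at hy
      have h1 : Ideal.Quotient.mk J (π x) = 0 := hy
      rw [Ideal.Quotient.eq_zero_iff_mem, hJI] at h1
      have h2 : x ∈ (I.map π).comap π := h1
      rw [Ideal.comap_map_of_surjective π hπ, ← RingHom.ker_eq_comap_bot, hker] at h2
      obtain ⟨i, hi, k, hk, rfl⟩ := Submodule.mem_sup.mp h2
      obtain ⟨c, rfl⟩ := Ideal.mem_span_singleton'.mp hk
      rw [map_add, map_mul, Ideal.Quotient.eq_zero_iff_mem.mpr hi, zero_add]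
      exact Ideal.mul_mem_left _ _ (Ideal.subset_span rfl)
    · rw [Ideal.span_le, Set.singleton_subset_iff]
      show ψ b' = 0
      show Ideal.Quotient.mk J (π b) = 0
      have : π b = 0 := by
        have : b ∈ RingHom.ker π := by rw [hker]; exact Ideal.subset_span rfl
        exact this
      rw [this, map_zero]
  let e : ((B ⧸ I) ⧸ Ideal.span {b'}) ≃+* (C ⧸ J) :=
    (Ideal.quotEquivOfEq hkerψ.symm).trans (RingHom.quotientKerEquivOfSurjective hψ)
  refine ⟨(Groth.Agent.Lib.Helper33.CMComp.cm_ringEquiv_iff e).mp hQ, ?_⟩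
  rw [← ringKrullDim_eq_of_ringEquiv e]
  exact hdim

end Groth.Agent.Lib.Helper21.SliceRing
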