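import Mathlib
import Groth.Agent.Lib.Helper35.RegSlice8
import Groth.Agent.Lib.Helper21.SliceRing
import Groth.Agent.Lib.Helper29.CM

/-!
# Iterated slicing of a Cohen–Macaulay fibre ring (ring level, helper21)

Chart data `A₀ → B₀ ← A₀'` with a prime `q` of `B₀`, localizations `Ap`, `Bq`, `σ : Ap → Bq` flat with
Cohen–Macaulay fibre ring `B̄ = Bq/𝔪Bq`.  Assume every prime `𝔓 ⊇ 𝔪Bq` of `Bq` whose contraction to `A₀'`
contains `p' = τ₀⁻¹ q` has `dim Bq/𝔓 ≤ d₁`.  Then there is a finitely generated ideal `I₀ ⊆ p'` such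
that for `C = Bq/τ₀(I₀)Bq`: `Ap → C` is flat with Cohen–Macaulay fibre ring of dimension `≤ d₁`.
-/

set_option linter.style.haveILetI false
set_option autoImplicit false
set_option maxHeartbeats 800000
universe u

namespace Groth.Agent.Lib.Helper21.SliceIterRing

open IsLocalRing Groth.Agent.Lib.Helper35 Groth.Agent.Lib.Helper35.RegSlice8
  Groth.Agent.Lib.Helper35.RegSlice7 Groth.Agent.Lib.Helper29

/-- the conclusion, for all quotients `π : Bq ↠ C` with kernel `J`. -/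
def Concl {Ap Bq : Type u} [CommRing Ap] [IsLocalRing Ap] [CommRing Bq] (σ : Ap →+* Bq)
    (J : Ideal Bq) (d1 : WithBot ℕ∞) : Prop :=
  ∀ (C : Type u) [CommRing C] (π : Bq →+* C), Function.Surjective π → RingHom.ker π = J →
    (π.comp σ).Flat ∧ LocCoh.IsCohenMacaulayLocalRing (C ⧸ (maximalIdeal Ap).map (π.comp σ)) ∧
    ringKrullDim (C ⧸ (maximalIdeal Ap).map (π.comp σ)) ≤ d1

theorem concl_bot {Ap Bq : Type u} [CommRing Ap] [IsLocalRing Ap] [CommRing Bq] (σ : Ap →+* Bq)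
    (d1 : WithBot ℕ∞) (hflat : σ.Flat)
    (hcm : LocCoh.IsCohenMacaulayLocalRing (Bq ⧸ (maximalIdeal Ap).map σ))
    (hd : ringKrullDim (Bq ⧸ (maximalIdeal Ap).map σ) ≤ d1) : Concl σ ⊥ d1 := by
  intro C _ π hπ hker
  have hbij : Function.Bijective π :=
    ⟨(RingHom.injective_iff_ker_eq_bot π).mpr hker, hπ⟩
  let e : Bq ≃+* C := RingEquiv.ofBijective π hbij
  have hmap : (maximalIdeal Ap).map (π.comp σ) =
      ((maximalIdeal Ap).map σ).map (e : Bq →+* C) := by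
    rw [Ideal.map_map]
    rfl
  let ē : (Bq ⧸ (maximalIdeal Ap).map σ) ≃+* (C ⧸ (maximalIdeal Ap).map (π.comp σ)) :=
    Ideal.quotientEquiv _ _ e hmap
  refine ⟨hflat.comp (RingHom.Flat.of_bijective hbij),
    (Groth.Agent.Lib.Helper33.CMComp.cm_ringEquiv_iff ē).mp hcm, ?_⟩
  rw [← ringKrullDim_eq_of_ringEquiv ē]
  exact hd

theorem concl_step {Ap Bq : Type u} [CommRing Ap] [IsLocalRing Ap] [CommRing Bq] (σ : Ap →+* Bq)
    (d1 : WithBot ℕ∞) (b : Bq) (J' : Ideal Bq)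
    (h : Concl ((Ideal.Quotient.mk (Ideal.span {b})).comp σ)
      (J'.map (Ideal.Quotient.mk (Ideal.span {b}))) d1) :
    Concl σ (Ideal.span {b} ⊔ J') d1 := by
  intro C _ π hπ hker
  have hb : Ideal.span {b} ≤ RingHom.ker π := by
    rw [hker]; exact le_sup_left
  let π' : (Bq ⧸ Ideal.span {b}) →+* C := Ideal.Quotient.lift (Ideal.span {b}) π hb
  have hπ' : Function.Surjective π' := by
    intro c
    obtain ⟨x, rfl⟩ := hπ c
    exact ⟨Ideal.Quotient.mk _ x, rfl⟩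
  have hker' : RingHom.ker π' = J'.map (Ideal.Quotient.mk (Ideal.span {b})) := by
    show RingHom.ker (Ideal.Quotient.lift (Ideal.span {b}) π hb) = _
    rw [Ideal.ker_quotient_lift, hker, Ideal.map_sup, Ideal.map_quotient_self, bot_sup_eq]
  obtain ⟨h1, h2, h3⟩ := h C π' hπ' hker'
  have e : π'.comp ((Ideal.Quotient.mk (Ideal.span {b})).comp σ) = π.comp σ := by
    ext x
    rfl
  rw [e] at h1 h2 h3
  exact ⟨h1, h2, h3⟩

section Main

variable {A₀ A₀' : Type u} [CommRing A₀] [CommRing A₀'] (p : Ideal A₀) [p.IsPrime]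
  (Ap : Type u) [CommRing Ap] [IsLocalRing Ap] [Algebra A₀ Ap] [IsLocalization.AtPrime Ap p]

theorem exists_ideal_slice (d1 : WithBot ℕ∞) (n : ℕ) :
    ∀ (B₀ : Type u) [CommRing B₀] [Algebra A₀ B₀] [Algebra.FinitePresentation A₀ B₀]
      (τ₀ : A₀' →+* B₀) (q : Ideal B₀) [q.IsPrime] [q.LiesOver p]
      (Bq : Type u) [CommRing Bq] [Algebra B₀ Bq] [IsLocalization.AtPrime Bq q]
      (σ : Ap →+* Bq)
      (_ : σ.comp (algebraMap A₀ Ap) = (algebraMap B₀ Bq).comp (algebraMap A₀ B₀))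
      (_ : σ.Flat)
      (_ : LocCoh.IsCohenMacaulayLocalRing (Bq ⧸ (maximalIdeal Ap).map σ))
      (_ : ringKrullDim (Bq ⧸ (maximalIdeal Ap).map σ) = n)
      (_ : ∀ 𝔓 : Ideal Bq, 𝔓.IsPrime → (maximalIdeal Ap).map σ ≤ 𝔓 →
        q.comap τ₀ ≤ 𝔓.comap ((algebraMap B₀ Bq).comp τ₀) → ringKrullDim (Bq ⧸ 𝔓) ≤ d1),
      ∃ I₀ : Ideal A₀', I₀.FG ∧ I₀ ≤ q.comap τ₀ ∧
        Concl σ (I₀.map ((algebraMap B₀ Bq).comp τ₀)) d1 := by
  induction n with
  | zero =>
    intro B₀ _ _ _ τ₀ q _ _ Bq _ _ _ σ hσ hflat hcm hn hK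
    haveI : IsLocalRing Bq := IsLocalization.AtPrime.isLocalRing Bq q
    refine ⟨⊥, Submodule.fg_bot, bot_le, ?_⟩
    rw [Ideal.map_bot]
    refine concl_bot σ d1 hflat hcm ?_
    -- `0 ≤ d1` from the maximal ideal
    haveI : IsLocalRing (Bq ⧸ (maximalIdeal Ap).map σ) := hcm.toIsLocalRing
    have hm : (maximalIdeal Ap).map σ ≤ maximalIdeal Bq := by
      apply le_maximalIdeal
      intro htop
      haveI : Nontrivial (Bq ⧸ (maximalIdeal Ap).map σ) := inferInstance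
      exact (Ideal.Quotient.nontrivial_iff.mp this) htop
    have h0 := hK (maximalIdeal Bq) inferInstance hm (by
      intro a ha
      rw [Ideal.mem_comap] at ha ⊢
      show algebraMap B₀ Bq (τ₀ a) ∈ maximalIdeal Bq
      rw [IsLocalization.AtPrime.to_map_mem_maximal_iff Bq q]
      exact ha)
    rw [hn]
    refine le_trans ?_ h0
    rw [Nat.cast_zero]
    exact ringKrullDim_nonneg_of_nontrivial
  | succ k ih =>
    intro B₀ _ _ _ τ₀ q _ _ Bq _ _ _ σ hσ hflat hcm hn hK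
    haveI : IsLocalRing Bq := IsLocalization.AtPrime.isLocalRing Bq q
    by_cases hle : ringKrullDim (Bq ⧸ (maximalIdeal Ap).map σ) ≤ d1
    · refine ⟨⊥, Submodule.fg_bot, bot_le, ?_⟩
      rw [Ideal.map_bot]
      exact concl_bot σ d1 hflat hcm hle
    set I : Ideal Bq := (maximalIdeal Ap).map σ with hI
    haveI : IsLocalRing (Bq ⧸ I) := hcm.toIsLocalRing
    haveI : IsNoetherianRing (Bq ⧸ I) := by haveI := hcm; infer_instance
    let ev : A₀' →+* (Bq ⧸ I) := (Ideal.Quotient.mk I).comp ((algebraMap B₀ Bq).comp τ₀)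
    -- key claim
    have hkey : ∀ 𝔫 ∈ associatedPrimes (Bq ⧸ I) (Bq ⧸ I), ¬ (q.comap τ₀ ≤ 𝔫.comap ev) := by
      intro 𝔫 h𝔫 hcon
      haveI h𝔫p : 𝔫.IsPrime := IsAssociatedPrime.isPrime h𝔫
      let 𝔓 : Ideal Bq := 𝔫.comap (Ideal.Quotient.mk I)
      haveI : 𝔓.IsPrime := Ideal.IsPrime.comap _
      have hI𝔓 : I ≤ 𝔓 := by
        intro a ha
        show Ideal.Quotient.mk I a ∈ 𝔫
        rw [Ideal.Quotient.eq_zero_iff_mem.mpr ha]
        exact zero_mem _
      have h1 := hK 𝔓 inferInstance hI𝔓 hcon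
      have hdim𝔫 : ringKrullDim ((Bq ⧸ I) ⧸ 𝔫) = ringKrullDim (Bq ⧸ I) := by
        rw [CMLib.ringKrullDim_quotient_eq_of_isCM (Bq ⧸ I) (Bq ⧸ I) hcm.supportDim_eq_depth h𝔫,
          Module.supportDim_self_eq_ringKrullDim]
      have hsurj : ringKrullDim ((Bq ⧸ I) ⧸ 𝔫) ≤ ringKrullDim (Bq ⧸ 𝔓) := by
        let θ : Bq ⧸ 𝔓 →+* (Bq ⧸ I) ⧸ 𝔫 :=
          Ideal.Quotient.lift 𝔓 ((Ideal.Quotient.mk 𝔫).comp (Ideal.Quotient.mk I)) (fun a ha => by
            show Ideal.Quotient.mk 𝔫 (Ideal.Quotient.mk I a) = 0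
            exact Ideal.Quotient.eq_zero_iff_mem.mpr ha)
        refine ringKrullDim_le_of_surjective θ ?_
        intro y
        obtain ⟨y', rfl⟩ := Ideal.Quotient.mk_surjective y
        obtain ⟨a, rfl⟩ := Ideal.Quotient.mk_surjective y'
        exact ⟨Ideal.Quotient.mk 𝔓 a, rfl⟩
      exact hle (hdim𝔫 ▸ (hsurj.trans h1))
    -- prime avoidance
    have hfin : (associatedPrimes (Bq ⧸ I) (Bq ⧸ I)).Finite := associatedPrimes.finite _ _
    have hav : ¬ (((q.comap τ₀ : Ideal A₀') : Set A₀') ⊆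
        ⋃ 𝔫 ∈ (hfin.toFinset : Set (Ideal (Bq ⧸ I))), ((𝔫.comap ev : Ideal A₀') : Set A₀')) := by
      intro hsub
      rw [Ideal.subset_union_prime (⊥ : Ideal (Bq ⧸ I)) ⊥ (fun 𝔫 h𝔫 _ _ => by
        haveI := IsAssociatedPrime.isPrime (hfin.mem_toFinset.mp h𝔫)
        exact Ideal.IsPrime.comap _)] at hsub
      obtain ⟨𝔫, h𝔫, hle'⟩ := hsub
      exact hkey 𝔫 (hfin.mem_toFinset.mp h𝔫) hle'
    obtain ⟨a, hap, ha⟩ := Set.not_subset.mp hav
    have hap' : τ₀ a ∈ q := hap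
    set b : Bq := algebraMap B₀ Bq (τ₀ a) with hb
    have hreg : IsSMulRegular (Bq ⧸ I) (Ideal.Quotient.mk I b) := by
      by_contra hnr
      have h1 : Ideal.Quotient.mk I b ∈ ({r | IsSMulRegular (Bq ⧸ I) r}ᶜ : Set (Bq ⧸ I)) := hnr
      rw [← biUnion_associatedPrimes_eq_compl_regular (Bq ⧸ I) (Bq ⧸ I)] at h1
      simp only [Set.mem_iUnion] at h1
      obtain ⟨𝔫, h𝔫, hmem⟩ := h1
      apply ha
      simp only [Set.mem_iUnion]
      exact ⟨𝔫, hfin.mem_toFinset.mpr h𝔫, hmem⟩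
    have hbm : b ∈ maximalIdeal Bq := by
      rw [hb, IsLocalization.AtPrime.to_map_mem_maximal_iff Bq q]
      exact hap'
    -- the new chart
    set g : B₀ := τ₀ a with hg
    have hgq : g ∈ q := hap'
    have hreg' : Ideal.Quotient.mk ((maximalIdeal Ap).map σ) (algebraMap B₀ Bq g) ∈
        nonZeroDivisors (Bq ⧸ (maximalIdeal Ap).map σ) := by
      rw [mem_nonZeroDivisors_iff_right]
      intro y hy
      apply hreg
      simp only [smul_zero]
      rw [← hy, mul_comm]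
      rfl
    obtain ⟨w, hwq, -, hΩ⟩ := exists_slice_stalk_intrinsic p q Ap Bq σ hσ hflat g hreg'
    have hflatC := flat_quot_stalk p q Ap Bq σ hσ g (hΩ ⟨q, inferInstance⟩ hwq)
    haveI hqC : (q.map (Ideal.Quotient.mk (Ideal.span {g}))).IsPrime := map_mk_isPrime q g hgq
    haveI : Algebra.FinitePresentation A₀ (B₀ ⧸ Ideal.span {g}) :=
      Algebra.FinitePresentation.quotient (Submodule.fg_span_singleton g)
    haveI : (q.map (Ideal.Quotient.mk (Ideal.span {g}))).LiesOver p := by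
      constructor
      have h1 : algebraMap A₀ (B₀ ⧸ Ideal.span {g}) =
          (Ideal.Quotient.mk (Ideal.span {g})).comp (algebraMap A₀ B₀) := rfl
      rw [Ideal.under, h1, ← Ideal.comap_comap, comap_map_mk q g hgq]
      exact Ideal.LiesOver.over (p := p) (P := q)
    letI algC : Algebra (B₀ ⧸ Ideal.span {g}) (Bq ⧸ Ideal.span {algebraMap B₀ Bq g}) :=
      quotAlg (S := Bq) g
    haveI : IsLocalization.AtPrime (Bq ⧸ Ideal.span {algebraMap B₀ Bq g})
        (q.map (Ideal.Quotient.mk (Ideal.span {g}))) := by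
      have h1 := isLocalization_quot (S := Bq) q.primeCompl g
      rw [map_primeCompl q g hgq] at h1
      exact h1
    have hσC : ((Ideal.Quotient.mk (Ideal.span {algebraMap B₀ Bq g})).comp σ).comp
        (algebraMap A₀ Ap) = (algebraMap (B₀ ⧸ Ideal.span {g})
          (Bq ⧸ Ideal.span {algebraMap B₀ Bq g})).comp (algebraMap A₀ (B₀ ⧸ Ideal.span {g})) := by
      rw [RingHom.comp_assoc, hσ]
      rfl
    obtain ⟨hcmC, hdimC⟩ := Groth.Agent.Lib.Helper21.SliceRing.slice_ring σ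
      (Ideal.Quotient.mk (Ideal.span {b})) Ideal.Quotient.mk_surjective b Ideal.mk_ker hbm hcm hreg
    have hnC : ringKrullDim ((Bq ⧸ Ideal.span {b}) ⧸
        (maximalIdeal Ap).map ((Ideal.Quotient.mk (Ideal.span {b})).comp σ)) = k := by
      apply CMLib.withBot_add_one_cancel
      rw [hdimC, hn]
      push_cast
      rfl
    have hKC : ∀ 𝔓' : Ideal (Bq ⧸ Ideal.span {b}), 𝔓'.IsPrime →
        (maximalIdeal Ap).map ((Ideal.Quotient.mk (Ideal.span {b})).comp σ) ≤ 𝔓' →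
        (q.map (Ideal.Quotient.mk (Ideal.span {g}))).comap
            ((Ideal.Quotient.mk (Ideal.span {g})).comp τ₀) ≤
          𝔓'.comap ((algebraMap (B₀ ⧸ Ideal.span {g}) (Bq ⧸ Ideal.span {b})).comp
            ((Ideal.Quotient.mk (Ideal.span {g})).comp τ₀)) →
        ringKrullDim ((Bq ⧸ Ideal.span {b}) ⧸ 𝔓') ≤ d1 := by
      intro 𝔓' h𝔓' h1 h2
      let 𝔓 : Ideal Bq := 𝔓'.comap (Ideal.Quotient.mk (Ideal.span {b}))
      haveI : 𝔓.IsPrime := Ideal.IsPrime.comap _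
      have hA : (maximalIdeal Ap).map σ ≤ 𝔓 := by
        rw [Ideal.map_le_iff_le_comap]
        intro x hx
        have : (Ideal.Quotient.mk (Ideal.span {b})).comp σ x ∈ 𝔓' :=
          h1 (Ideal.mem_map_of_mem _ hx)
        exact this
      have hB : q.comap τ₀ ≤ 𝔓.comap ((algebraMap B₀ Bq).comp τ₀) := by
        intro a' ha'
        have h3 : a' ∈ (q.map (Ideal.Quotient.mk (Ideal.span {g}))).comap
            ((Ideal.Quotient.mk (Ideal.span {g})).comp τ₀) :=
          Ideal.mem_map_of_mem _ ha'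
        exact h2 h3
      have h4 := hK 𝔓 inferInstance hA hB
      refine le_trans ?_ h4
      let θ : Bq ⧸ 𝔓 →+* (Bq ⧸ Ideal.span {b}) ⧸ 𝔓' :=
        Ideal.Quotient.lift 𝔓 ((Ideal.Quotient.mk 𝔓').comp (Ideal.Quotient.mk (Ideal.span {b})))
          (fun x hx => by
            show Ideal.Quotient.mk 𝔓' (Ideal.Quotient.mk (Ideal.span {b}) x) = 0
            exact Ideal.Quotient.eq_zero_iff_mem.mpr hx)
      refine ringKrullDim_le_of_surjective θ ?_
      intro y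
      obtain ⟨y', rfl⟩ := Ideal.Quotient.mk_surjective y
      obtain ⟨x, rfl⟩ := Ideal.Quotient.mk_surjective y'
      exact ⟨Ideal.Quotient.mk 𝔓 x, rfl⟩
    obtain ⟨I₀', hfg', hle', hconcl'⟩ := ih (B₀ ⧸ Ideal.span {g})
      ((Ideal.Quotient.mk (Ideal.span {g})).comp τ₀)
      (q.map (Ideal.Quotient.mk (Ideal.span {g})))
      (Bq ⧸ Ideal.span {algebraMap B₀ Bq g})
      ((Ideal.Quotient.mk (Ideal.span {algebraMap B₀ Bq g})).comp σ) hσC hflatC hcmC hnC hKC
    refine ⟨Ideal.span {a} ⊔ I₀', (Submodule.fg_span_singleton a).sup hfg', ?_, ?_⟩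
    · refine sup_le ?_ ?_
      · rw [Ideal.span_le, Set.singleton_subset_iff]
        exact hap
      · intro x hx
        have h1 := hle' hx
        have h2 : τ₀ x ∈ (q.map (Ideal.Quotient.mk (Ideal.span {g}))).comap
            (Ideal.Quotient.mk (Ideal.span {g})) := h1
        rw [comap_map_mk q g hgq] at h2
        exact h2
    · rw [Ideal.map_sup, Ideal.map_span, Set.image_singleton]
      apply concl_step σ d1 b
      have h5 : (I₀'.map ((algebraMap B₀ Bq).comp τ₀)).map (Ideal.Quotient.mk (Ideal.span {b})) =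
          I₀'.map ((algebraMap (B₀ ⧸ Ideal.span {g}) (Bq ⧸ Ideal.span {b})).comp
            ((Ideal.Quotient.mk (Ideal.span {g})).comp τ₀)) := by
        rw [Ideal.map_map]
        rfl
      rw [h5]
      exact hconcl'

end Main

end Groth.Agent.Lib.Helper21.SliceIterRing
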