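import Mathlib
import Groth.Agent.Lib.Helper21.GrpdDiagPt
import Groth.Agent.Lib.Helper21.SliceIterRing
import Groth.Agent.Lib.Helper21.PullbackSliceStalkI
import Groth.Agent.Lib.Helper21.FibreDimFormula

/-!
# Iterated slicing of a groupoid (helper21)

Stacks, More on Groupoids, Lemma 40.12.2 (local part): for a groupoid scheme `(U, R, s, t, c, e, i)`
with `s` Cohen–Macaulay and locally of finite presentation and `u` a finite type point of `U`, there
is an affine open `V ∋ u` and a finitely generated ideal `I₀ ⊆ Γ(V)` vanishing at `u` such that, for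
`g : U' = Spec (Γ(V)/I₀) ⟶ U`, the morphism `s ∘ pr₂ : U' ×_{g,U,t} R ⟶ U` is Cohen–Macaulay at
`(u, e(u))` with fibre of dimension `≤ dim G_u` there.
-/

set_option linter.style.haveILetI false
set_option autoImplicit false
universe u

open CategoryTheory CategoryTheory.Limits AlgebraicGeometry TopologicalSpace IsLocalRing

namespace Groth.Agent.Lib.Helper21.GrpdSliceIter

open Groth.Agent.Lib.Helper21.GrpdDiagPt Groth.Agent.Lib.Helper21.PullbackSliceStalk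
  Groth.Agent.Lib.Helper21.PullbackSliceStalkI Groth.Agent.Lib.Helper21.SliceIterRing
  Groth.Agent.Lib.Helper21.FieldDim

theorem exists_nat_eq (x : WithBot ℕ∞) (h1 : x ≠ ⊥) (h2 : x ≠ ⊤) : ∃ n : ℕ, x = n := by
  obtain ⟨y, rfl⟩ := WithBot.ne_bot_iff_exists.mp h1
  have : y ≠ ⊤ := fun h => h2 (by rw [h]; rfl)
  obtain ⟨n, rfl⟩ := ENat.ne_top_iff_exists.mp this
  exact ⟨n, rfl⟩

/-- abstract form: `j : P ⟶ R` with surjective stalk map at `p` with kernel `J` satisfying `Concl`. -/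
theorem isCMAt_comp_of_concl {R U P : Scheme.{u}} (s : R ⟶ U) (j : P ⟶ R) (p : P)
    (d1 : WithBot ℕ∞) (J : Ideal (R.presheaf.stalk (j p)))
    (hπ : Function.Surjective (j.stalkMap p).hom)
    (hker : RingHom.ker (j.stalkMap p).hom = J)
    (hc : Concl (s.stalkMap (j p)).hom J d1) :
    Grpd.IsCMAt (j ≫ s) p ∧
    ringKrullDim (P.presheaf.stalk p ⧸
        (maximalIdeal (U.presheaf.stalk ((j ≫ s) p))).map ((j ≫ s).stalkMap p).hom) ≤ d1 := by
  obtain ⟨h1, h2, h3⟩ := hc (P.presheaf.stalk p) (j.stalkMap p).hom hπ hker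
  have hcomp : ((j ≫ s).stalkMap p).hom = (j.stalkMap p).hom.comp (s.stalkMap (j p)).hom := by
    rw [Scheme.Hom.stalkMap_comp]
    rfl
  have key : ∀ (φ : U.presheaf.stalk (s (j p)) →+* P.presheaf.stalk p)
      (_ : φ = (j.stalkMap p).hom.comp (s.stalkMap (j p)).hom),
      (φ.Flat ∧ LocCoh.IsCohenMacaulayLocalRing (P.presheaf.stalk p ⧸
        (maximalIdeal (U.presheaf.stalk (s (j p)))).map φ)) ∧
      ringKrullDim (P.presheaf.stalk p ⧸
        (maximalIdeal (U.presheaf.stalk (s (j p)))).map φ) ≤ d1 := by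
    intro φ hφ
    subst hφ
    exact ⟨⟨h1, h2⟩, h3⟩
  exact key _ hcomp

set_option maxHeartbeats 1600000 in
theorem exists_iter_slice (S : Scheme.{u}) (G : Grpd.GroupoidScheme S)
    [LocallyOfFinitePresentation G.s] [LocallyOfFinitePresentation G.t]
    (hs : ∀ r : G.R, Grpd.IsCMAt G.s r) (u : G.U)
    (hu : LocallyOfFiniteType (G.U.fromSpecResidueField u))
    (d1 : WithBot ℕ∞) (hd : topologicalKrullDim ↥(G.stabilizerToU.fiber u) ≤ d1) :
    ∃ (V : G.U.Opens) (hV : IsAffineOpen V) (I₀ : Ideal Γ(G.U, V))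
      (u' : Spec (CommRingCat.of (Γ(G.U, V) ⧸ I₀))) (p : ↑(pullback (sliceHomI hV I₀) G.t)),
      I₀.FG ∧ sliceHomI hV I₀ u' = u ∧ pullback.fst (sliceHomI hV I₀) G.t p = u' ∧
      pullback.snd (sliceHomI hV I₀) G.t p = G.e u ∧
      Grpd.IsCMAt (pullback.snd (sliceHomI hV I₀) G.t ≫ G.s) p ∧
      FlatMor.fibreDimAt (pullback.snd (sliceHomI hV I₀) G.t ≫ G.s) p ≤ d1 := by
  haveI := hu
  have hsx : G.s (G.e u) = u := s_e_apply G u
  have htx : G.t (G.e u) = u := t_e_apply G u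
  -- charts
  obtain ⟨_, ⟨(V : G.U.Opens), hV, rfl⟩, huV, -⟩ :=
    G.U.isBasis_affineOpens.exists_subset_of_mem_open (Set.mem_univ u) isOpen_univ
  replace hV : IsAffineOpen V := hV
  have hsxV : G.s (G.e u) ∈ V := by rw [hsx]; exact huV
  have htxV : G.t (G.e u) ∈ V := by rw [htx]; exact huV
  have hxO : G.e u ∈ G.s ⁻¹ᵁ V ⊓ G.t ⁻¹ᵁ V := ⟨hsxV, htxV⟩
  obtain ⟨_, ⟨(W : G.R.Opens), hW, rfl⟩, hxW, hWO⟩ :=
    G.R.isBasis_affineOpens.exists_subset_of_mem_open hxO (G.s ⁻¹ᵁ V ⊓ G.t ⁻¹ᵁ V).isOpen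
  replace hW : IsAffineOpen W := hW
  have hsle : W ≤ G.s ⁻¹ᵁ V := fun y hy => (hWO hy).1
  have htle : W ≤ G.t ⁻¹ᵁ V := fun y hy => (hWO hy).2
  have hfp := G.s.finitePresentation_appLE hV hW hsle
  letI algAB : Algebra Γ(G.U, V) Γ(G.R, W) := (G.s.appLE V W hsle).hom.toAlgebra
  haveI : Algebra.FinitePresentation Γ(G.U, V) Γ(G.R, W) := hfp
  let p₀ := (hV.primeIdealOf ⟨G.s (G.e u), hsxV⟩).asIdeal
  let q₀ := (hW.primeIdealOf ⟨G.e u, hxW⟩).asIdeal
  haveI : q₀.LiesOver p₀ :=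
    ⟨congr($(IsAffineOpen.comap_primeIdealOf_appLE V hV W hW hsle hxW).1).symm⟩
  letI := G.U.presheaf.algebra_section_stalk ⟨G.s (G.e u), hsxV⟩
  haveI := hV.isLocalization_stalk ⟨G.s (G.e u), hsxV⟩
  letI := G.R.presheaf.algebra_section_stalk ⟨G.e u, hxW⟩
  haveI := hW.isLocalization_stalk ⟨G.e u, hxW⟩
  have hσ : (G.s.stalkMap (G.e u)).hom.comp
      (algebraMap Γ(G.U, V) (G.U.presheaf.stalk (G.s (G.e u)))) =
      (algebraMap Γ(G.R, W) (G.R.presheaf.stalk (G.e u))).comp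
        (algebraMap Γ(G.U, V) Γ(G.R, W)) := by
    ext a
    simp only [RingHom.algebraMap_toAlgebra, Scheme.Hom.germ_stalkMap_apply, Scheme.Hom.appLE,
      homOfLE_leOfHom, CommRingCat.hom_comp, RingHom.coe_comp, Function.comp_apply,
      G.R.presheaf.germ_res_apply]
  let τ₀ : Γ(G.U, V) →+* Γ(G.R, W) := (G.t.appLE V W htle).hom
  have hτ : (algebraMap Γ(G.R, W) (G.R.presheaf.stalk (G.e u))).comp τ₀ =
      (glV G.t V (G.e u) htxV).hom := by
    ext a
    show (G.R.presheaf.germ W (G.e u) hxW).hom ((G.t.appLE V W htle).hom a) = _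
    unfold glV
    simp only [Scheme.Hom.appLE, CommRingCat.hom_comp, RingHom.coe_comp, Function.comp_apply,
      G.R.presheaf.germ_res_apply, Scheme.Hom.germ_stalkMap_apply]
  let w : Spec Γ(G.U, V) := hV.primeIdealOf ⟨G.t (G.e u), htxV⟩
  have hq₀τ : q₀.comap τ₀ = w.asIdeal :=
    congr($(IsAffineOpen.comap_primeIdealOf_appLE V hV W hW htle hxW).1)
  let B₀ := G.R.presheaf.stalk (G.e u)
  let σ₀ : G.U.presheaf.stalk (G.s (G.e u)) →+* B₀ := (G.s.stalkMap (G.e u)).hom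
  let I : Ideal B₀ := (maximalIdeal (G.U.presheaf.stalk (G.s (G.e u)))).map σ₀
  have hcm₀ : LocCoh.IsCohenMacaulayLocalRing (B₀ ⧸ I) := (hs (G.e u)).2
  haveI : IsLocalRing (B₀ ⧸ I) := hcm₀.toIsLocalRing
  haveI : IsNoetherianRing (B₀ ⧸ I) := by haveI := hcm₀; infer_instance
  obtain ⟨n, hn⟩ := exists_nat_eq (ringKrullDim (B₀ ⧸ I)) ringKrullDim_ne_bot ringKrullDim_ne_top
  -- the dimension bound
  have hK : ∀ 𝔓 : Ideal B₀, 𝔓.IsPrime → I ≤ 𝔓 →
      q₀.comap τ₀ ≤ 𝔓.comap ((algebraMap Γ(G.R, W) B₀).comp τ₀) →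
      ringKrullDim (B₀ ⧸ 𝔓) ≤ d1 := by
    intro 𝔓 h𝔓 hI𝔓 hle
    haveI := h𝔓
    have h1 : 𝔓.comap σ₀ = maximalIdeal (G.U.presheaf.stalk (G.s (G.e u))) := by
      symm
      apply (maximalIdeal.isMaximal _).eq_of_le
      · exact (Ideal.IsPrime.comap σ₀).ne_top
      · intro a ha
        exact hI𝔓 (Ideal.mem_map_of_mem σ₀ ha)
    have h2 : 𝔓.comap (G.t.stalkMap (G.e u)).hom =
        maximalIdeal (G.U.presheaf.stalk (G.t (G.e u))) := by
      symm
      apply (maximalIdeal.isMaximal _).eq_of_le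
      · exact (Ideal.IsPrime.comap _).ne_top
      · letI := G.U.presheaf.algebra_section_stalk ⟨G.t (G.e u), htxV⟩
        haveI := hV.isLocalization_stalk ⟨G.t (G.e u), htxV⟩
        rw [← IsLocalization.AtPrime.map_eq_maximalIdeal w.asIdeal
          (G.U.presheaf.stalk (G.t (G.e u))), Ideal.map_le_iff_le_comap, Ideal.comap_comap,
          ← hq₀τ]
        rw [hτ] at hle
        exact hle
    exact (ringKrullDim_quotient_le G u 𝔓 h1 h2).trans hd
  obtain ⟨I₀, hfg, hI₀le, hconcl⟩ := exists_ideal_slice p₀ (G.U.presheaf.stalk (G.s (G.e u)))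
    d1 n Γ(G.R, W) τ₀ q₀ B₀ σ₀ hσ (hs (G.e u)).1 hcm₀ hn hK
  rw [hτ] at hconcl
  -- the point
  have hw : hV.fromSpec w = G.t (G.e u) := hV.fromSpec_primeIdealOf ⟨_, htxV⟩
  obtain ⟨u', hu'⟩ : ∃ u', Spec.map (CommRingCat.ofHom (Ideal.Quotient.mk I₀)) u' = w := by
    have h1 : w ∈ Set.range (PrimeSpectrum.comap (Ideal.Quotient.mk I₀)) := by
      rw [_root_.range_comap_of_surjective _ _ Ideal.Quotient.mk_surjective, Ideal.mk_ker]
      have hz : ((I₀ : Ideal Γ(G.U, V)) : Set Γ(G.U, V)) ⊆ w.asIdeal := by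
        rw [SetLike.coe_subset_coe, ← hq₀τ]
        exact hI₀le
      exact hz
    exact h1
  have hgu' : sliceHomI hV I₀ u' = G.t (G.e u) := by
    show (Spec.map (CommRingCat.ofHom (Ideal.Quotient.mk I₀)) ≫ hV.fromSpec) u' = _
    rw [Scheme.Hom.comp_apply, hu', hw]
  obtain ⟨p, hp1, hp2⟩ := Scheme.Pullback.exists_preimage_pullback u' (G.e u) hgu'
  have hconclx : ∀ (x : G.R) (_ : x = G.e u) (hm : G.t x ∈ V),
      Concl (G.s.stalkMap x).hom (I₀.map (glV G.t V x hm).hom) d1 := by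
    rintro x rfl hm
    exact hconcl
  obtain ⟨hcmp, hdimp⟩ := isCMAt_comp_of_concl G.s (pullback.snd (sliceHomI hV I₀) G.t) p d1 _
    (stalkMap_sndI_surjective G.t hV I₀ p) (ker_stalkMap_sndI G.t hV I₀ p) (hconclx _ hp2 _)
  refine ⟨V, hV, I₀, u', p, hfg, hgu'.trans htx, hp1, hp2, hcmp, ?_⟩
  haveI := lfp_sliceHomI hV I₀ hfg
  haveI : IsImmersion (pullback.snd (sliceHomI hV I₀) G.t) := inferInstance
  haveI : LocallyOfFiniteType (pullback.snd (sliceHomI hV I₀) G.t ≫ G.s) := inferInstance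
  have htd : tdR G.s (pullback.snd (sliceHomI hV I₀) G.t p) = 0 := by
    rw [hp2]
    exact tdR_eq_zero_of_section G.s G.e G.e_s u
  rw [fibreDimAt_eq_ringKrullDim_add (pullback.snd (sliceHomI hV I₀) G.t ≫ G.s) p,
    tdR_comp_of_surjectiveOnStalks G.s (pullback.snd (sliceHomI hV I₀) G.t) p, htd]
  simp only [Nat.cast_zero, add_zero]
  exact hdimp

end Groth.Agent.Lib.Helper21.GrpdSliceIter
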