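import Mathlib
import Groth.Agent.Lib.Helper21.EqvGrpd
import Groth.Agent.Lib.Helper21.GrpdCM
import Groth.Agent.Lib.Helper21.GrpdRestrictMain
import Groth.Agent.Lib.Helper21.GrpdShrink
import Groth.Agent.Lib.Helper81.FtPts
import Groth.Agent.S7508

/-!
# Slicing a groupoid scheme / equivalence relation (helper21)

* `exists_cm_open`: Stacks 40.8.1 for an equivalence relation with flat lfp `s, t`: an open `W ⊆ U`
  such that `t⁻¹ W ⟶ U` (via `s`) is an fppf covering and the restriction to `W` has Cohen–Macaulay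
  source and target.
* `exists_slice_cm`: for a groupoid scheme with Cohen–Macaulay lfp `s, t` and locally quasi-finite
  stabilizer, a morphism `g : U' ⟶ U` (disjoint union of affine slices through all finite type
  points) such that `h = s ∘ pr₂ : U' ×_{g,U,t} R ⟶ U` is flat, lfp, locally quasi-finite and
  surjective.
-/

set_option linter.style.haveILetI false
set_option autoImplicit false
set_option maxHeartbeats 800000
universe u
open CategoryTheory CategoryTheory.Limits AlgebraicGeometry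

namespace Groth.Agent.Lib.Helper21.EqvSlice

open Groth.Agent.Lib.Helper21.GrpdAct Groth.Agent.Lib.Helper21.GrpdInvLocus
  Groth.Agent.Lib.Helper21.GrpdShrink Groth.Agent.Lib.Helper21.GrpdRestrictMain
  Groth.Agent.Lib.Helper21.EqvGrpd

variable {S : Scheme.{u}}

/-- Stacks 40.8.1 for groupoids with flat lfp source and target. -/
theorem exists_cm_open (G : Grpd.GroupoidScheme S) [Flat G.s] [LocallyOfFinitePresentation G.s]
    [Flat G.t] [LocallyOfFinitePresentation G.t] :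
    ∃ W : G.U.Opens,
      (Flat (hX G W.ι) ∧ LocallyOfFinitePresentation (hX G W.ι) ∧ Surjective (hX G W.ι)) ∧
      (∀ q, Grpd.IsCMAt (pullback.snd (hX G W.ι) W.ι) q) ∧
      LocallyOfFinitePresentation (pullback.snd (hX G W.ι) W.ι) ∧
      (∀ q, Grpd.IsCMAt (pullback.fst (hX G W.ι) W.ι ≫ pullback.fst W.ι G.t) q) ∧
      LocallyOfFinitePresentation (pullback.fst (hX G W.ι) W.ι ≫ pullback.fst W.ι G.t) := by
  obtain ⟨W, hW1, -, -, hW4⟩ := Groth.Agent.Lib.Helper21.GrpdCM.exists_open_cm G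
  have hmem : ∀ x : ↑(pullback W.ι G.t), pullback.snd W.ι G.t x ∈ (G.t ⁻¹ᵁ W : Set G.R) := by
    intro x
    show G.t (pullback.snd W.ι G.t x) ∈ W
    rw [← Scheme.Hom.comp_apply, ← pullback.condition, Scheme.Hom.comp_apply]
    exact (pullback.fst W.ι G.t x).2
  have hall : ∀ x, x ∈ fcSet (hX G W.ι) := by
    intro x
    have h1 : fcSet (hX G W.ι) = (pullback.snd W.ι G.t) ⁻¹' fcSet G.s :=
      fcSet_comp_openImmersion (pullback.snd W.ι G.t) G.s
    rw [h1, Set.mem_preimage, mem_fcSet_iff]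
    have := hmem x
    rw [hW1] at this
    exact this
  obtain ⟨-, h2, h3, h4, h5, h6⟩ := restrict_fc G W.ι hall
  refine ⟨W, ⟨inferInstance, h2, ⟨fun u => ?_⟩⟩, h3, h4, h5, h6⟩
  have hu : u ∈ ⇑G.s '' (G.t ⁻¹ᵁ W : Set G.R) := by rw [hW4]; trivial
  obtain ⟨r, hr, hru⟩ := hu
  have hr' : r ∈ Set.range (pullback.snd W.ι G.t) := by
    rw [Scheme.Pullback.range_snd]
    show G.t r ∈ Set.range W.ι
    rw [Scheme.Opens.range_ι]
    exact hr
  obtain ⟨x, rfl⟩ := hr'
  exact ⟨x, by rw [Scheme.Hom.comp_apply]; exact hru⟩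

/-- the slice through all finite type points. -/
theorem exists_slice_cm (G : Grpd.GroupoidScheme S) [LocallyOfFinitePresentation G.s]
    [LocallyOfFinitePresentation G.t] (hs : ∀ r : G.R, Grpd.IsCMAt G.s r)
    (ht : ∀ r : G.R, Grpd.IsCMAt G.t r) [LocallyOfFiniteType G.stabilizerToU]
    [LocallyQuasiFinite G.stabilizerToU] :
    ∃ (U' : Scheme.{u}) (g : U' ⟶ G.U), LocallyOfFinitePresentation g ∧
      (∀ x, x ∈ fqSet (hX G g)) ∧ Surjective (hX G g) := by
  classical
  have H : ∀ i : {u : G.U // LocallyOfFiniteType (G.U.fromSpecResidueField u)},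
      ∃ (U' : Scheme.{u}) (g : U' ⟶ G.U) (u' : U'), LocallyOfFinitePresentation g ∧ g u' = i.1 ∧
        Flat (hX G g) ∧ LocallyQuasiFinite (hX G g) := by
    intro i
    obtain ⟨U', _, g, u', _, hg, hgu, ⟨h1, h2, h3, h4⟩, -, -⟩ :=
      Groth.Agent.S7508.result S G hs ht i.1 i.2
    exact ⟨U', g, u', hg, hgu, h1, h4⟩
  choose Uf gf uf hgf hguf hfl hlqf using H
  let g : (∐ Uf) ⟶ G.U := Sigma.desc gf
  have hι : ∀ i, Sigma.ι Uf i ≫ g = gf i := fun i => Sigma.ι_desc _ _
  haveI hgfp : LocallyOfFinitePresentation g := by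
    haveI : IsZariskiLocalAtSource @LocallyOfFinitePresentation.{u} :=
      HasRingHomProperty.instIsZariskiLocalAtSource
    rw [IsZariskiLocalAtSource.iff_of_openCover (P := @LocallyOfFinitePresentation)
      (sigmaOpenCover Uf)]
    show ∀ i : {u : G.U // LocallyOfFiniteType (G.U.fromSpecResidueField u)},
      LocallyOfFinitePresentation (Sigma.ι Uf i ≫ g)
    intro i
    rw [hι]
    exact hgf i
  have key : ∀ (i) (φ : Uf i ⟶ G.U), φ = gf i → ∀ x, x ∈ fqSet (hX G φ) := by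
    intro i φ hφ
    subst hφ
    intro x
    haveI := hfl i
    haveI := hlqf i
    exact ⟨Flat.stalkMap _ x, Scheme.Hom.quasiFiniteAt _ x⟩
  have hall : ∀ x, x ∈ fqSet (hX G g) := by
    intro x
    obtain ⟨i, y, rfl⟩ := (Scheme.Pullback.openCoverOfLeft (sigmaOpenCover Uf) g G.t).exists_eq x
    have h1 : fqSet (kmap G g (Sigma.ι Uf i) ≫ hX G g) =
        (kmap G g (Sigma.ι Uf i)) ⁻¹' fqSet (hX G g) :=
      fqSet_comp_openImmersion (kmap G g (Sigma.ι Uf i)) (hX G g)
    have hy : y ∈ fqSet (kmap G g (Sigma.ι Uf i) ≫ hX G g) := by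
      rw [kmap_hX]
      exact key i _ (hι i) y
    rw [h1] at hy
    exact hy
  refine ⟨∐ Uf, g, hgfp, hall, ?_⟩
  obtain ⟨⟨hF, hP, hT, hQ⟩, -, -⟩ := restrict_fq G g hall
  haveI := hF
  haveI := hP
  have hopen : IsOpen (Set.range (hX G g)) := (hX G g).isOpenMap.isOpen_range
  constructor
  intro u
  by_contra hu
  have hne : ((Set.range (hX G g))ᶜ).Nonempty := ⟨u, hu⟩
  obtain ⟨z, hz, hzft⟩ := Groth.Agent.Lib.Helper81.FtPts.exists_isFt_of_isLocallyClosed
    ((Set.range (hX G g))ᶜ) hopen.isClosed_compl.isLocallyClosed hne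
  apply hz
  have e1 : gf ⟨z, hzft⟩ (uf ⟨z, hzft⟩) = z := hguf ⟨z, hzft⟩
  refine ⟨sec G g (Sigma.ι Uf ⟨z, hzft⟩ (uf ⟨z, hzft⟩)), ?_⟩
  rw [← Scheme.Hom.comp_apply, sec_hX, ← Scheme.Hom.comp_apply, hι]
  exact e1

end Groth.Agent.Lib.Helper21.EqvSlice
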