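import Mathlib

/-!
# The algebraic closure of `k` in a finitely generated field extension is finite (helper21)
-/

open MvPolynomial IntermediateField
open scoped IntermediateField.algebraAdjoinAdjoin

namespace Groth.Agent.Lib.Helper21

section

variable {k K : Type*} [Field k] [Field K] [Algebra k K]

/-- Elements algebraic over `k` that are `k`-linearly independent stay linearly independent over the
polynomial ring generated by an algebraically independent family. -/
theorem linearIndependent_adjoin_of_algebraicIndependent
    (L : IntermediateField k K) [Algebra.IsAlgebraic k L] {σ : Type*} {x : σ → K}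
    (hx : AlgebraicIndependent k x) {ι : Type*} (c : ι → L) (hc : LinearIndependent k c) :
    LinearIndependent (Algebra.adjoin k (Set.range x)) (fun i => (c i : K)) := by
  classical
  rw [linearIndependent_iff']
  intro t g hg i hi
  have hrange : ∀ j, ∃ p : MvPolynomial σ k, aeval x p = (g j : K) := by
    intro j
    have h : (g j : K) ∈ (aeval x : MvPolynomial σ k →ₐ[k] K).range := by
      rw [← Algebra.adjoin_range_eq_range_aeval]
      exact (g j).2
    exact h
  choose p hp using hrange
  have hxL : AlgebraicIndependent L x := hx.extendScalars L
  rw [algebraicIndependent_iff_injective_aeval] at hxL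
  let P : MvPolynomial σ L := ∑ j ∈ t, C (c j) * map (algebraMap k L) (p j)
  have hP : aeval x P = 0 := by
    simp only [P, map_sum, map_mul, aeval_C, aeval_map_algebraMap]
    rw [← hg]
    refine Finset.sum_congr rfl (fun j _ => ?_)
    rw [hp j, mul_comm]
    rfl
  have hP0 : P = 0 := hxL (by rw [hP, map_zero])
  have hcoeff : ∀ m, ∀ j ∈ t, coeff m (p j) = 0 := by
    intro m
    have h1 : coeff m P = 0 := by rw [hP0, coeff_zero]
    simp only [P, coeff_sum, coeff_C_mul, coeff_map] at h1
    rw [linearIndependent_iff'] at hc
    refine hc t (fun j => coeff m (p j)) ?_
    rw [← h1]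
    refine Finset.sum_congr rfl (fun j _ => ?_)
    rw [Algebra.smul_def, mul_comm]
  have hpi : p i = 0 := by
    ext m
    rw [hcoeff m i hi, coeff_zero]
  apply Subtype.ext
  rw [← hp i, hpi, map_zero]
  rfl

/-- In a finitely generated field extension `K/k`, the algebraic closure of `k` in `K` is finite
over `k`. -/
theorem finiteDimensional_algebraicClosure_of_essFiniteType [Algebra.EssFiniteType k K] :
    FiniteDimensional k (algebraicClosure k K) := by
  obtain ⟨s, hs⟩ := exists_isTranscendenceBasis k K
  have halg : Algebra.IsAlgebraic (adjoin k (Set.range ((↑) : s → K))) K := hs.isAlgebraic_field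
  have hess : Algebra.EssFiniteType (adjoin k (Set.range ((↑) : s → K))) K :=
    Algebra.EssFiniteType.of_comp k _ K
  have hfin : Module.Finite (adjoin k (Set.range ((↑) : s → K))) K :=
    Algebra.finite_of_essFiniteType_of_isAlgebraic
  have hrank : Module.rank k (algebraicClosure k K) ≤
      (Module.finrank (adjoin k (Set.range ((↑) : s → K))) K : ℕ) := by
    apply rank_le
    intro t ht
    have h1 := linearIndependent_adjoin_of_algebraicIndependent (algebraicClosure k K) hs.1
      (fun i : t => (i : algebraicClosure k K)) ht
    have h2 : LinearIndependent (adjoin k (Set.range ((↑) : s → K)))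
        (fun i : t => ((i : algebraicClosure k K) : K)) :=
      (LinearIndependent.iff_fractionRing (Algebra.adjoin k (Set.range ((↑) : s → K)))
        (adjoin k (Set.range ((↑) : s → K)))).1 h1
    have h3 := h2.fintype_card_le_finrank
    simpa using h3
  exact Module.rank_lt_aleph0_iff.1 (lt_of_le_of_lt hrank Cardinal.natCast_lt_aleph0)

/-- In a finitely generated field extension `K/k`, the separable closure of `k` in `K` is finite
over `k`. -/
theorem finiteDimensional_separableClosure_of_essFiniteType [Algebra.EssFiniteType k K] :
    FiniteDimensional k (separableClosure k K) := by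
  have := finiteDimensional_algebraicClosure_of_essFiniteType (k := k) (K := K)
  have hle : separableClosure k K ≤ algebraicClosure k K := le_algebraicClosure k K _
  exact Module.Finite.of_injective (IntermediateField.inclusion hle).toLinearMap
    (IntermediateField.inclusion_injective hle)

end

end Groth.Agent.Lib.Helper21
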