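import Mathlib
import Groth.Agent.S0414
import Groth.Agent.Lib.Helper21.RedSubscheme
import Groth.Agent.Lib.Helper24.Lim8FGModel

/-!
# Local constructibility of fibrewise loci: an abstract skeleton (helper21)

A *fibrewise locus* `L` assigns to every morphism of schemes `f : X ⟶ S` a subset `L f ⊆ X`
(think: "the set of points `x` at which the fibre of `f` through `x` has property `P`").  If

* `bc`: `L` commutes with arbitrary base change (for `f` locally of finite presentation),
* `oi`: `L` commutes with restriction to open subschemes of the source,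
* `fl`: `L f` is open for `f` flat and locally of finite presentation over a locally Noetherian
  base,

then `L f` is locally constructible for every `f` locally of finite presentation
(EGA IV 9.9-style).  The proof is Noetherian induction with generic flatness over a Noetherian
base, and reduction to a Noetherian base via models over finitely generated `ℤ`-subalgebras.
-/

set_option linter.style.haveILetI false
set_option autoImplicit false
universe u

open CategoryTheory CategoryTheory.Limits AlgebraicGeometry TopologicalSpace Topology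

namespace Groth.Agent.Lib.Helper21.FibLocusCons

open Groth.Agent.Lib.Helper21 Groth.Agent.Lib.Helper21.RedSubscheme

/-- A fibrewise locus compatible with base change, open immersions on the source, and open for flat
morphisms locally of finite presentation over locally Noetherian bases. -/
structure FibLocus where
  /-- the locus -/
  L : ∀ {X S : Scheme.{u}}, (X ⟶ S) → Set X
  bc : ∀ {X Y X' Y' : Scheme.{u}} (f : X ⟶ Y) (g : Y' ⟶ Y) (f' : X' ⟶ Y') (g' : X' ⟶ X),
    IsPullback g' f' f g → LocallyOfFinitePresentation f → L f' = g' ⁻¹' L f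
  oi : ∀ {U X S : Scheme.{u}} (j : U ⟶ X) (f : X ⟶ S), IsOpenImmersion j →
    LocallyOfFinitePresentation f → L (j ≫ f) = j ⁻¹' L f
  fl : ∀ {X S : Scheme.{u}} (f : X ⟶ S), IsLocallyNoetherian S → Flat f →
    LocallyOfFinitePresentation f → IsOpen (L f)

namespace FibLocus

variable (Φ : FibLocus.{u})

/-- post-composition with a monomorphism does not change the locus. -/
theorem comp_mono {X Y Z : Scheme.{u}} (h : X ⟶ Y) (m : Y ⟶ Z) [Mono m]
    [LocallyOfFinitePresentation (h ≫ m)] : Φ.L (h ≫ m) = Φ.L h := by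
  have sq : IsPullback (𝟙 X) h (h ≫ m) m := IsPullback.of_horiz_isIso_mono ⟨by simp⟩
  have := Φ.bc (h ≫ m) m h (𝟙 X) sq inferInstance
  rw [this]
  rfl

theorem isConstructible_of_isNoetherian {X S : Scheme.{u}} [AlgebraicGeometry.IsNoetherian S]
    (f : X ⟶ S) [LocallyOfFinitePresentation f] [QuasiCompact f] : IsConstructible (Φ.L f) := by
  haveI : IsLocallyNoetherian X := LocallyOfFiniteType.isLocallyNoetherian f
  haveI : CompactSpace X := QuasiCompact.compactSpace_of_compactSpace f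
  haveI : AlgebraicGeometry.IsNoetherian X := AlgebraicGeometry.IsNoetherian.mk
  haveI : NoetherianSpace X := inferInstance
  have hopenC : ∀ O : Set X, IsOpen O → IsConstructible O :=
    fun O hO => (NoetherianSpace.isCompact O).isConstructible hO
  have hclosedC : ∀ C : Set X, IsClosed C → IsConstructible C :=
    fun C hC => (hopenC _ hC.isOpen_compl).of_compl
  suffices H : ∀ Z : Closeds S, IsConstructible (Φ.L f ∩ f ⁻¹' (Z : Set S)) by
    have := H ⊤
    simpa using this
  intro Z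
  induction Z using WellFoundedLT.induction with
  | ind Z IH =>
  by_cases hZ : (Z : Set S) = ∅
  · rw [hZ]
    simp
  let I := Scheme.IdealSheafData.vanishingIdeal Z
  let T := I.subscheme
  let ι : T ⟶ S := I.subschemeι
  haveI : IsReduced T := isReduced_vanishingIdeal_subscheme Z
  have hrange : Set.range ι = (Z : Set S) := range_subschemeι_vanishingIdeal Z
  let fT : pullback f ι ⟶ T := pullback.snd f ι
  let p : pullback f ι ⟶ X := pullback.fst f ι
  obtain ⟨U, hUd, hUfl, hUfp⟩ := Groth.Agent.S0414.result fT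
  haveI : Nonempty T := by
    obtain ⟨z, hz⟩ := Set.nonempty_iff_ne_empty.mpr hZ
    rw [← hrange] at hz
    obtain ⟨t, -⟩ := hz
    exact ⟨t⟩
  obtain ⟨u, hu⟩ : (U : Set T).Nonempty := hUd.nonempty
  have hιcl : IsClosedEmbedding ι := ι.isClosedEmbedding
  let Z' : Closeds S := ⟨ι '' (U : Set T)ᶜ, hιcl.isClosedMap _ U.isOpen.isClosed_compl⟩
  have hZ'lt : Z' < Z := by
    rw [SetLike.lt_iff_le_and_exists]
    refine ⟨?_, ι u, ?_, ?_⟩
    · intro s hs
      have hs' : s ∈ ι '' (U : Set T)ᶜ := hs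
      obtain ⟨t, -, rfl⟩ := hs'
      show ι t ∈ (Z : Set S)
      rw [← hrange]
      exact ⟨t, rfl⟩
    · show ι u ∈ (Z : Set S)
      rw [← hrange]
      exact ⟨u, rfl⟩
    · intro hmem
      have hmem' : ι u ∈ ι '' (U : Set T)ᶜ := hmem
      obtain ⟨t, ht, hte⟩ := hmem'
      exact ht (hιcl.injective hte ▸ hu)
  have IH' := IH Z' hZ'lt
  let h := fT ∣_ U
  let j : ((fT ⁻¹ᵁ U : (pullback f ι).Opens) : Scheme.{u}) ⟶ X := (fT ⁻¹ᵁ U).ι ≫ p
  have sq : IsPullback j h f (U.ι ≫ ι) :=
    (isPullback_morphismRestrict fT U).flip.paste_horiz (IsPullback.of_hasPullback f ι)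
  have hcm : Φ.L h = j ⁻¹' Φ.L f := Φ.bc f (U.ι ≫ ι) h j sq inferInstance
  haveI : IsLocallyNoetherian T := LocallyOfFiniteType.isLocallyNoetherian ι
  haveI : IsLocallyNoetherian (U : Scheme.{u}) := LocallyOfFiniteType.isLocallyNoetherian U.ι
  have hopen : IsOpen (j ⁻¹' Φ.L f) := by
    rw [← hcm]
    exact Φ.fl h inferInstance hUfl hUfp
  have hjemb : IsEmbedding j := by
    have h1 : IsEmbedding (fT ⁻¹ᵁ U).ι := (fT ⁻¹ᵁ U).ι.isOpenEmbedding.isEmbedding
    have h2 : IsEmbedding p := p.isClosedEmbedding.isEmbedding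
    exact h2.comp h1
  obtain ⟨O', hO', hO'eq⟩ := hjemb.isInducing.isOpen_iff.mp hopen
  have hrangej : Set.range j = f ⁻¹' (ι '' (U : Set T)) := by
    have h1 := Scheme.image_preimage_eq_of_isPullback sq.flip Set.univ
    rw [Set.preimage_univ, Set.image_univ, Set.image_univ] at h1
    rw [h1]
    congr 1
    ext s
    constructor
    · rintro ⟨t, rfl⟩
      exact ⟨t.1, t.2, rfl⟩
    · rintro ⟨t, ht, rfl⟩
      exact ⟨⟨t, ht⟩, rfl⟩
  have hpart : Φ.L f ∩ f ⁻¹' (ι '' (U : Set T)) = O' ∩ f ⁻¹' (ι '' (U : Set T)) := by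
    ext x
    constructor
    · rintro ⟨hx, hxr⟩
      refine ⟨?_, hxr⟩
      rw [← hrangej] at hxr
      obtain ⟨y, rfl⟩ := hxr
      have : y ∈ j ⁻¹' O' := by rw [hO'eq]; exact hx
      exact this
    · rintro ⟨hx, hxr⟩
      refine ⟨?_, hxr⟩
      rw [← hrangej] at hxr
      obtain ⟨y, rfl⟩ := hxr
      have : y ∈ j ⁻¹' Φ.L f := by rw [← hO'eq]; exact hx
      exact this
  obtain ⟨G, hG, hGeq⟩ := hιcl.isInducing.isOpen_iff.mp U.isOpen
  have hιU : ι '' (U : Set T) = (Z : Set S) ∩ G := by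
    rw [← hGeq, Set.image_preimage_eq_inter_range, hrange, Set.inter_comm]
  have hcons2 : IsConstructible (Φ.L f ∩ f ⁻¹' (ι '' (U : Set T))) := by
    rw [hpart, hιU, Set.preimage_inter]
    exact (hopenC _ hO').inter ((hclosedC _ (Z.isClosed.preimage f.continuous)).inter
      (hopenC _ (hG.preimage f.continuous)))
  have hunion : Φ.L f ∩ f ⁻¹' (Z : Set S) =
      (Φ.L f ∩ f ⁻¹' (Z' : Set S)) ∪ (Φ.L f ∩ f ⁻¹' (ι '' (U : Set T))) := by
    have : (Z : Set S) = (Z' : Set S) ∪ ι '' (U : Set T) := by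
      show (Z : Set S) = ι '' (U : Set T)ᶜ ∪ ι '' (U : Set T)
      rw [← Set.image_union, Set.compl_union_self, Set.image_univ, hrange]
    rw [this, Set.preimage_union, Set.inter_union_distrib_left]
  rw [hunion]
  exact IH'.union hcons2

theorem isConstructible_of_affine_base (A : Type u) [CommRing A] {X : Scheme.{u}}
    (f : X ⟶ Spec (CommRingCat.of A)) [LocallyOfFinitePresentation f] [QuasiCompact f]
    [QuasiSeparated f] : IsConstructible (Φ.L f) := by
  obtain ⟨A₀, hA₀, X₀, f₀, g, -, hlfp, hqc, hqs, hpb⟩ :=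
    Groth.Agent.Lib.Helper24.Lim8.exists_model_over_fg_subalgebra (P := ⊤)
      (by intro I _ _ D c hc _ l X₀ f₀ _ _; exact fun _ => ⟨l, 𝟙 l, MorphismProperty.top_apply _⟩) A f
      (MorphismProperty.top_apply _)
  haveI : Algebra.FiniteType ℤ ↥A₀ := (Subalgebra.fg_iff_finiteType A₀).mp hA₀
  haveI : IsNoetherianRing ↥A₀ := Algebra.FiniteType.isNoetherianRing ℤ ↥A₀
  haveI : AlgebraicGeometry.IsNoetherian (Spec (CommRingCat.of ↥A₀)) := inferInstance
  haveI := hlfp
  haveI := hqc
  rw [Φ.bc f₀ _ f g hpb inferInstance]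
  exact g.isConstructible_preimage (Φ.isConstructible_of_isNoetherian f₀)

theorem isLocallyConstructible {X S : Scheme.{u}} (f : X ⟶ S)
    [LocallyOfFinitePresentation f] : IsLocallyConstructible (Φ.L f) := by
  intro x
  obtain ⟨_, ⟨(W : S.Opens), hW, rfl⟩, hfxW, -⟩ :=
    S.isBasis_affineOpens.exists_subset_of_mem_open (Set.mem_univ (f x)) isOpen_univ
  obtain ⟨_, ⟨(V : X.Opens), hV, rfl⟩, hxV, hVle⟩ :=
    X.isBasis_affineOpens.exists_subset_of_mem_open
      (show x ∈ ((f ⁻¹ᵁ W : X.Opens) : Set X) from hfxW) (f ⁻¹ᵁ W).isOpen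
  refine ⟨V, V.isOpen.mem_nhds hxV, V.isOpen, ?_⟩
  have hW' : IsAffineOpen W := hW
  haveI : IsAffine ↑V := hV
  haveI : IsAffine ↑W := hW
  let f₀ : (V : Scheme.{u}) ⟶ W := f.resLE W V hVle
  have hf₀ : f₀ ≫ W.ι = V.ι ≫ f := Scheme.Hom.resLE_comp_ι f hVle
  haveI : LocallyOfFinitePresentation (f₀ ≫ W.ι) := by rw [hf₀]; infer_instance
  haveI : LocallyOfFinitePresentation f₀ := by
    have sq : IsPullback (𝟙 (V : Scheme.{u})) f₀ (f₀ ≫ W.ι) W.ι :=
      IsPullback.of_horiz_isIso_mono ⟨by simp⟩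
    exact MorphismProperty.of_isPullback (P := @LocallyOfFinitePresentation) sq inferInstance
  let f₁ : (V : Scheme.{u}) ⟶ Spec (CommRingCat.of Γ(S, W)) := f₀ ≫ hW'.isoSpec.hom
  haveI : LocallyOfFinitePresentation f₁ :=
    inferInstanceAs (LocallyOfFinitePresentation (f₀ ≫ hW'.isoSpec.hom))
  have e1 : Φ.L (V.ι ≫ f) = V.ι ⁻¹' Φ.L f := Φ.oi V.ι f inferInstance inferInstance
  have e2 : Φ.L (V.ι ≫ f) = Φ.L f₀ := by rw [← hf₀]; exact Φ.comp_mono f₀ W.ι
  have e3 : Φ.L f₁ = Φ.L f₀ := Φ.comp_mono f₀ hW'.isoSpec.hom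
  have hgoal : V.ι ⁻¹' Φ.L f = Φ.L f₁ := by
    rw [e3, ← e2, e1]
  change IsConstructible (V.ι ⁻¹' Φ.L f)
  rw [hgoal]
  haveI : CompactSpace ↑V := inferInstance
  haveI : QuasiCompact f₁ := quasiCompact_of_compactSpace f₁
  haveI : QuasiSeparated f₁ := inferInstance
  exact Φ.isConstructible_of_affine_base Γ(S, W) f₁

end FibLocus

end Groth.Agent.Lib.Helper21.FibLocusCons
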