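import Mathlib

/-!
# The fibre of a base change (helper21)

For `f : X ⟶ S`, `g : U ⟶ S`, `u : U` with `g u = s`: the fibre of `X ×_S U → U` over `u` is the base
change of the fibre of `f` over `s` along `κ(s) → κ(u)`.
-/

universe u

open CategoryTheory CategoryTheory.Limits AlgebraicGeometry

namespace Groth.Agent.Lib.Helper21

variable {X S U : Scheme.{u}} (f : X ⟶ S) (g : U ⟶ S)

/-- the residue field map `κ(s) → κ(u)` for `g u = s`. -/
noncomputable def resMapOfEq (u : U) {s : S} (hu : g u = s) :
    S.residueField s ⟶ U.residueField u :=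
  (S.residueFieldCongr hu).inv ≫ g.residueFieldMap u

theorem fromSpecResidueField_comp_eq (u : U) {s : S} (hu : g u = s) :
    U.fromSpecResidueField u ≫ g = Spec.map (resMapOfEq g u hu) ≫ S.fromSpecResidueField s := by
  subst hu
  rw [resMapOfEq, Scheme.residueFieldCongr_refl, Iso.refl_inv, Category.id_comp]
  exact (Scheme.Hom.SpecMap_residueFieldMap_fromSpecResidueField g u).symm

/-- The fibre of the base change `X ×_S U → U` over `u`. -/
noncomputable def fiberBaseChangeIso (u : U) {s : S} (hu : g u = s) :
    (pullback.snd f g).fiber u ≅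
      pullback (f.fiberToSpecResidueField s) (Spec.map (resMapOfEq g u hu)) :=
  (pullbackLeftPullbackSndIso f g (U.fromSpecResidueField u)) ≪≫
    pullback.congrHom rfl (fromSpecResidueField_comp_eq g u hu) ≪≫
    (pullbackLeftPullbackSndIso f (S.fromSpecResidueField s) (Spec.map (resMapOfEq g u hu))).symm

/-- Changing the second leg by an isomorphism. -/
noncomputable def pullbackPrecompIso {A B C B' : Scheme.{u}} (a : A ⟶ C) (b : B ⟶ C) (i : B' ≅ B) :
    pullback a (i.hom ≫ b) ≅ pullback a b :=
  asIso (pullback.map a (i.hom ≫ b) a b (𝟙 _) i.hom (𝟙 _) (by simp) (by simp))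

end Groth.Agent.Lib.Helper21
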