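import Groth.Agent.Lib.Helper21.ValTrdeg
import Groth.Agent.Lib.Helper21.FieldDimBC
import Mathlib

/-!
# Residue transcendence degrees over a valuation ring, scheme version (helper21)

`tdR_le_of_valuation`: `h : P ⟶ Spec R` locally of finite type, `R` a valuation ring, `ζ ⤳ w` in `P`
with `h ζ` the generic point: `trdeg κ(w)/κ(h w) ≤ trdeg κ(ζ)/κ(h ζ)`.
-/

set_option linter.style.haveILetI false
universe u

open CategoryTheory CategoryTheory.Limits AlgebraicGeometry

namespace Groth.Agent.Lib.Helper21.ValTrdeg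

open Groth.Agent.Lib.Helper21.FieldDim

variable {R : CommRingCat.{u}} {X : Scheme.{u}} (g : X ⟶ Spec R)

/-- structure map `R → O_{X,x}` of a scheme over `Spec R`. -/
noncomputable def stR (x : X) : R →+* X.presheaf.stalk x :=
  (Spec.preimage (X.fromSpecStalk x ≫ g)).hom

theorem SpecMap_stR (x : X) :
    Spec.map (CommRingCat.ofHom (stR g x)) = X.fromSpecStalk x ≫ g := by
  rw [stR, CommRingCat.ofHom_hom, Spec.map_preimage]

/-- structure map `R → κ(x)` of a scheme over `Spec R`. -/
noncomputable def resR (x : X) : R →+* X.residueField x := (X.residue x).hom.comp (stR g x)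

theorem SpecMap_resR (x : X) :
    Spec.map (CommRingCat.ofHom (resR g x)) = X.fromSpecResidueField x ≫ g := by
  have : CommRingCat.ofHom (resR g x) = CommRingCat.ofHom (stR g x) ≫ X.residue x := rfl
  rw [this, Spec.map_comp, SpecMap_stR, Scheme.fromSpecResidueField, Category.assoc]

theorem eq_of_SpecMap_eq {A B : Type u} [CommRing A] [CommRing B] {φ ψ : A →+* B}
    (h : Spec.map (CommRingCat.ofHom φ) = Spec.map (CommRingCat.ofHom ψ)) : φ = ψ := by
  have := Spec.map_injective h
  have h2 := congrArg CommRingCat.Hom.hom this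
  simpa using h2

theorem stR_specializes {x y : X} (h : x ⤳ y) :
    (X.presheaf.stalkSpecializes h).hom.comp (stR g y) = stR g x := by
  apply eq_of_SpecMap_eq
  have : CommRingCat.ofHom ((X.presheaf.stalkSpecializes h).hom.comp (stR g y)) =
      CommRingCat.ofHom (stR g y) ≫ X.presheaf.stalkSpecializes h := rfl
  rw [this, Spec.map_comp, SpecMap_stR, SpecMap_stR, ← Category.assoc,
    Scheme.SpecMap_stalkSpecializes_fromSpecStalk]

theorem residueFieldMap_comp_resR (x : X) :
    (g.residueFieldMap x).hom.comp (resR (𝟙 (Spec R)) (g x)) = resR g x := by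
  apply eq_of_SpecMap_eq
  have : CommRingCat.ofHom ((g.residueFieldMap x).hom.comp
      (resR (𝟙 (Spec R)) (g x))) =
      CommRingCat.ofHom (resR (𝟙 (Spec R)) (g x)) ≫ g.residueFieldMap x := rfl
  rw [this, Spec.map_comp, SpecMap_resR, SpecMap_resR, Category.comp_id]
  exact Scheme.Hom.SpecMap_residueFieldMap_fromSpecResidueField g x

set_option backward.isDefEq.respectTransparency.types false in
/-- the structure map to the residue field of a point `t` of `Spec R` is `R → κ(t.asIdeal)`. -/
theorem resR_id_eq (t : Spec R) :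
    resR (𝟙 (Spec R)) t =
      (Scheme.Spec.residueFieldIso R t).inv.hom.comp
        (algebraMap R t.asIdeal.ResidueField) := by
  apply eq_of_SpecMap_eq
  have : CommRingCat.ofHom ((Scheme.Spec.residueFieldIso R t).inv.hom.comp
      (algebraMap R t.asIdeal.ResidueField)) =
      CommRingCat.ofHom (algebraMap R t.asIdeal.ResidueField) ≫
        (Scheme.Spec.residueFieldIso R t).inv := rfl
  rw [this, Spec.map_comp, SpecMap_resR, Category.comp_id]
  exact (Scheme.Spec.map_residueFieldIso_inv_eq_fromSpecResidueField R t).symm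

set_option backward.isDefEq.respectTransparency.types false in
theorem resR_id_eq_zero_iff (t : Spec R) (a : R) :
    resR (𝟙 (Spec R)) t a = 0 ↔ a ∈ t.asIdeal := by
  rw [resR_id_eq, RingHom.comp_apply]
  have hinj : Function.Injective (Scheme.Spec.residueFieldIso R t).inv.hom :=
    (ConcreteCategory.bijective_of_isIso (Scheme.Spec.residueFieldIso R t).inv).1
  rw [← Ideal.algebraMap_residueField_eq_zero (I := t.asIdeal)]
  constructor
  · intro h
    exact hinj (h.trans (map_zero _).symm)
  · intro h
    rw [h, map_zero]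

set_option backward.isDefEq.respectTransparency.types false in
theorem resR_id_frac (t : Spec R) (c : (Spec R).residueField t) :
    ∃ a b : R, b ∉ t.asIdeal ∧
      resR (𝟙 (Spec R)) t b * c = resR (𝟙 (Spec R)) t a := by
  set e := Scheme.Spec.residueFieldIso R t with he
  obtain ⟨x, y, hy, hxy⟩ := IsFractionRing.div_surjective (A := R ⧸ t.asIdeal) (e.hom.hom c)
  obtain ⟨a, rfl⟩ := Ideal.Quotient.mk_surjective x
  obtain ⟨b, rfl⟩ := Ideal.Quotient.mk_surjective y
  have hb : b ∉ t.asIdeal := by
    intro hb
    have : Ideal.Quotient.mk t.asIdeal b = 0 := Ideal.Quotient.eq_zero_iff_mem.mpr hb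
    rw [this] at hy
    exact zero_notMem_nonZeroDivisors hy
  refine ⟨a, b, hb, ?_⟩
  have hb0 : algebraMap (R ⧸ t.asIdeal) t.asIdeal.ResidueField (Ideal.Quotient.mk t.asIdeal b) ≠ 0 := by
    intro h
    exact nonZeroDivisors.ne_zero hy
      ((IsFractionRing.injective (R ⧸ t.asIdeal) t.asIdeal.ResidueField) (h.trans (map_zero _).symm))
  have h3 : algebraMap R t.asIdeal.ResidueField b * e.hom.hom c =
      algebraMap R t.asIdeal.ResidueField a := by
    rw [← hxy]
    rw [IsScalarTower.algebraMap_apply R (R ⧸ t.asIdeal) t.asIdeal.ResidueField b,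
      IsScalarTower.algebraMap_apply R (R ⧸ t.asIdeal) t.asIdeal.ResidueField a]
    simp only [Ideal.Quotient.algebraMap_eq]
    field_simp
  rw [resR_id_eq, RingHom.comp_apply, RingHom.comp_apply, ← h3, map_mul]
  congr 1
  symm
  change (e.hom ≫ e.inv).hom c = c
  rw [e.hom_inv_id]
  rfl

variable {P : Scheme.{u}} (h : P ⟶ Spec R) [LocallyOfFiniteType h]

/-- **valuation inequality**: along any specialization `ζ ⤳ w` in a scheme locally of finite type
over a valuation ring, the residue transcendence degree does not increase. -/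
theorem tdR_le_of_valuation' [IsDomain R] [ValuationRing R] {ζ w : P} (hs : ζ ⤳ w) :
    tdR h w ≤ tdR h ζ := by
  have key := trdeg_le_of_valuation (V := R) (K' := (Spec R).residueField (h ζ))
    (k := (Spec R).residueField (h w)) (B := P.presheaf.stalk w)
    (L := P.residueField w) (L' := P.residueField ζ)
    (resR (𝟙 _) (h ζ)) (resR (𝟙 _) (h w)) (stR h w) (P.residue w).hom
    ((P.residue ζ).hom.comp (P.presheaf.stalkSpecializes hs).hom)
    (h.residueFieldMap w).hom (h.residueFieldMap ζ).hom ?_ ?_ ?_ ?_ ?_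
  · have h1 : trdegAt h w ≤ trdegAt h ζ := key
    rw [trdegAt_eq_tdR, trdegAt_eq_tdR] at h1
    exact_mod_cast h1
  · rw [residueFieldMap_comp_resR]; rfl
  · rw [residueFieldMap_comp_resR, RingHom.comp_assoc, stR_specializes]; rfl
  · intro c
    obtain ⟨a, b, hb, hab⟩ := resR_id_frac (h ζ) c
    refine ⟨a, b, ?_, hab⟩
    intro hb0
    exact hb ((resR_id_eq_zero_iff (h ζ) b).mp hb0)
  · exact Scheme.residue_surjective P w
  · intro b hb
    by_contra hτ
    have hu : IsUnit b := by
      rw [← IsLocalRing.notMem_maximalIdeal]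
      intro hm
      exact hτ ((IsLocalRing.residue_eq_zero_iff _).mpr hm)
    have hu' := hu.map ((P.residue ζ).hom.comp (P.presheaf.stalkSpecializes hs).hom)
    exact hu'.ne_zero hb

theorem tdR_le_of_valuation [IsDomain R] [ValuationRing R] {ζ w : P} (hs : ζ ⤳ w)
    (_hζ : (h ζ).asIdeal = ⊥) : tdR h w ≤ tdR h ζ :=
  tdR_le_of_valuation' h hs

end Groth.Agent.Lib.Helper21.ValTrdeg
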