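import Groth.Agent.Lib.Helper21.OpenGeneralizing
import Groth.Agent.Lib.Helper21.ValTrdegSch
import Groth.Agent.Lib.Helper21.FibreTd
import Mathlib

/-!
# Closures inside fibres: dimension, base change, specialization from the generic fibre (helper21)

* `dim_fibre_inter_le_iff`: `dim (f⁻¹(y) ∩ C) ≤ d ↔ ∀ x ∈ C over y, tdR f x ≤ d` for closed `C`.
* `mem_closure_preimage_inter_fibre`: closures in fibres are compatible with base change
  (the map between fibres is open, as a base change of a morphism of spectra of fields).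
* `exists_specializes_of_mem_closure_of_fibre`: for `h` of finite type, a point in the closure of a
  subset `G` of a fibre is a specialization of a point of that fibre lying in the closure of `G`.
-/

set_option linter.style.haveILetI false
universe u

open CategoryTheory CategoryTheory.Limits AlgebraicGeometry TopologicalSpace Topology

namespace Groth.Agent.Lib.Helper21.FibreClosureDim

open Groth.Agent.Lib.Helper21.FieldDim

section Dim

variable {X Y : Scheme.{u}} (f : X ⟶ Y) [LocallyOfFiniteType f]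

theorem dim_fibre_inter_le_iff (y : Y) (C : Set X) (hC : IsClosed C) (d : WithBot ℕ∞) :
    topologicalKrullDim ↥(f ⁻¹' {y} ∩ C) ≤ d ↔
      ∀ x ∈ C, f x = y → ((tdR f x : ℕ) : WithBot ℕ∞) ≤ d := by
  have hsub : f ⁻¹' {y} ∩ C ⊆ Set.range (f.fiberι y) := by
    rw [Scheme.Hom.range_fiberι]; exact Set.inter_subset_left
  have e := (f.fiberι y).isEmbedding.homeomorphOfSubsetRange hsub
  rw [← e.isHomeomorph.topologicalKrullDim_eq]
  have hmem : ∀ z : f.fiber y, f (f.fiberι y z) = y := by
    intro z
    have : f.fiberι y z ∈ Set.range (f.fiberι y) := ⟨z, rfl⟩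
    rw [Scheme.Hom.range_fiberι] at this
    exact this
  have hT : IsClosed ((f.fiberι y) ⁻¹' (f ⁻¹' {y} ∩ C)) := by
    have : (f.fiberι y) ⁻¹' (f ⁻¹' {y} ∩ C) = (f.fiberι y) ⁻¹' C := by
      ext z
      constructor
      · intro hz; exact hz.2
      · intro hz; exact ⟨hmem z, hz⟩
    rw [this]
    exact hC.preimage (f.fiberι y).continuous
  rw [dim_le_iff_of_isLocallyClosed (fibStr f y) _ hT.isLocallyClosed]
  constructor
  · intro h x hxC hx
    obtain ⟨z, rfl⟩ : x ∈ Set.range (f.fiberι y) := by rw [Scheme.Hom.range_fiberι]; exact hx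
    rw [← td_fibStr]
    exact h z ⟨hx, hxC⟩
  · intro h z hz
    rw [td_fibStr]
    exact h _ hz.2 hz.1

end Dim

section BaseChange

variable {X S T : Scheme.{u}} (f : X ⟶ S) (φ : T ⟶ S)

/-- closures inside fibres are compatible with base change. -/
theorem mem_closure_preimage_inter_fibre (E : Set X) (w' : ↑(pullback f φ))
    (hw : pullback.fst f φ w' ∈ closure (E ∩ f ⁻¹' {φ (pullback.snd f φ w')})) :
    w' ∈ closure ((pullback.fst f φ) ⁻¹' E ∩
      (pullback.snd f φ) ⁻¹' {pullback.snd f φ w'}) := by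
  set t := pullback.snd f φ w' with ht
  obtain ⟨q, hq1, hqo⟩ : ∃ q : (pullback.snd f φ).fiber t ⟶ f.fiber (φ t),
      q ≫ f.fiberι (φ t) = (pullback.snd f φ).fiberι t ≫ pullback.fst f φ ∧ UniversallyOpen q := by
    have hpb : IsPullback (pullback.fst f φ) (pullback.snd f φ) f φ :=
      IsPullback.of_hasPullback f φ
    have sq := isPullback_fiberToSpecResidueField_of_isPullback hpb t
    refine ⟨pullback.map (pullback.snd f φ) (T.fromSpecResidueField t) f
      (S.fromSpecResidueField (φ t)) (pullback.fst f φ) (Spec.map (φ.residueFieldMap t)) φ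
      hpb.w.symm (by simp), pullback.lift_fst _ _ _, ?_⟩
    exact MorphismProperty.of_isPullback sq.flip inferInstance
  have hqopen : IsOpenMap q := q.isOpenMap
  have hq1' : ∀ z, f.fiberι (φ t) (q z) = pullback.fst f φ ((pullback.snd f φ).fiberι t z) := by
    intro z
    exact congrArg (fun g : (pullback.snd f φ).fiber t ⟶ X => g z) hq1
  rw [mem_closure_iff]
  intro U hU hwU
  obtain ⟨z', hz'⟩ : w' ∈ Set.range ((pullback.snd f φ).fiberι t) := by
    rw [Scheme.Hom.range_fiberι]; rfl
  have hU' : IsOpen (((pullback.snd f φ).fiberι t) ⁻¹' U) :=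
    hU.preimage ((pullback.snd f φ).fiberι t).continuous
  have hO' : IsOpen (q '' (((pullback.snd f φ).fiberι t) ⁻¹' U)) := hqopen _ hU'
  obtain ⟨O, hO, hOeq⟩ := (f.fiberι (φ t)).isEmbedding.toIsInducing.isOpen_iff.mp hO'
  have hwO : pullback.fst f φ w' ∈ O := by
    have h1 : q z' ∈ (f.fiberι (φ t)) ⁻¹' O := by
      rw [hOeq]
      refine ⟨z', ?_, rfl⟩
      change (pullback.snd f φ).fiberι t z' ∈ U
      rw [hz']; exact hwU
    have h2 : f.fiberι (φ t) (q z') ∈ O := h1
    rw [hq1', hz'] at h2
    exact h2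
  obtain ⟨e, heO, heE, hef⟩ := mem_closure_iff.mp hw O hO hwO
  obtain ⟨ze, rfl⟩ : e ∈ Set.range (f.fiberι (φ t)) := by
    rw [Scheme.Hom.range_fiberι]; exact hef
  have hze : ze ∈ q '' (((pullback.snd f φ).fiberι t) ⁻¹' U) := by rw [← hOeq]; exact heO
  obtain ⟨z'e, hz'eU, rfl⟩ := hze
  refine ⟨(pullback.snd f φ).fiberι t z'e, hz'eU, ?_, ?_⟩
  · change pullback.fst f φ ((pullback.snd f φ).fiberι t z'e) ∈ E
    rw [← hq1']; exact heE
  · have : (pullback.snd f φ).fiberι t z'e ∈ Set.range ((pullback.snd f φ).fiberι t) := ⟨_, rfl⟩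
    rw [Scheme.Hom.range_fiberι] at this
    exact this

end BaseChange

section Noeth

variable {P T : Scheme.{u}} (h : P ⟶ T) [LocallyOfFiniteType h] [QuasiCompact h]

theorem noetherianSpace_fiber (η : T) : NoetherianSpace ↥(h.fiber η) := by
  haveI : LocallyOfFiniteType (h.fiberToSpecResidueField η) :=
    inferInstanceAs (LocallyOfFiniteType (pullback.snd h (T.fromSpecResidueField η)))
  haveI : QuasiCompact (h.fiberToSpecResidueField η) :=
    inferInstanceAs (QuasiCompact (pullback.snd h (T.fromSpecResidueField η)))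
  haveI : IsLocallyNoetherian (h.fiber η) :=
    LocallyOfFiniteType.isLocallyNoetherian (h.fiberToSpecResidueField η)
  haveI : CompactSpace ↥(h.fiber η) :=
    QuasiCompact.compactSpace_of_compactSpace (h.fiberToSpecResidueField η)
  haveI : AlgebraicGeometry.IsNoetherian (h.fiber η) := AlgebraicGeometry.IsNoetherian.mk
  infer_instance

/-- a point in the closure of a subset `G` of the fibre over `η` is a specialization of a point of
the fibre lying in the closure of `G`. -/
theorem exists_specializes_of_mem_closure_of_fibre (η : T) (G : Set P) (hG : G ⊆ h ⁻¹' {η})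
    (w : P) (hw : w ∈ closure G) : ∃ ζ : P, ζ ⤳ w ∧ h ζ = η ∧ ζ ∈ closure G := by
  haveI := noetherianSpace_fiber h η
  set j := h.fiberι η with hj
  have hcl : IsClosed (closure (j ⁻¹' G)) := isClosed_closure
  obtain ⟨Sf, hfin, hScl, hSirr, hSeq⟩ :=
    NoetherianSpace.exists_finite_set_isClosed_irreducible hcl
  -- generic points
  have hgp : ∀ k ∈ Sf, ∃ z : h.fiber η, IsGenericPoint z k := fun k hk =>
    QuasiSober.sober (hSirr k hk) (hScl k hk)
  haveI hne : Nonempty (h.fiber η) := by
    have hGne : G.Nonempty := by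
      by_contra hcon
      rw [Set.not_nonempty_iff_eq_empty] at hcon
      rw [hcon, closure_empty] at hw
      exact hw
    obtain ⟨g, hg⟩ := hGne
    obtain ⟨g', -⟩ : g ∈ Set.range j := by rw [hj, Scheme.Hom.range_fiberι]; exact hG hg
    exact ⟨g'⟩
  -- the union is closed?  use a finite subfamily: choose one generic point per `k`.
  choose! gp hgp' using hgp
  have hGsub' : G ⊆ ⋃ k ∈ Sf, closure {j (gp k)} := by
    intro g hg
    obtain ⟨g', rfl⟩ : g ∈ Set.range j := by rw [hj, Scheme.Hom.range_fiberι]; exact hG hg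
    have hg' : g' ∈ closure (j ⁻¹' G) := subset_closure hg
    rw [hSeq] at hg'
    obtain ⟨k, hk, hgk⟩ := hg'
    refine Set.mem_iUnion₂.mpr ⟨k, hk, ?_⟩
    have hsp : gp k ⤳ g' := (hgp' k hk).specializes hgk
    exact (hsp.map j.continuous).mem_closure
  have hclosed : IsClosed (⋃ k ∈ Sf, closure {j (gp k)}) :=
    hfin.isClosed_biUnion fun k _ => isClosed_closure
  have hw' : w ∈ ⋃ k ∈ Sf, closure {j (gp k)} := closure_minimal hGsub' hclosed hw
  obtain ⟨k, hk, hwk⟩ := Set.mem_iUnion₂.mp hw'
  refine ⟨j (gp k), specializes_iff_mem_closure.mpr hwk, ?_, ?_⟩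
  · have : j (gp k) ∈ Set.range j := ⟨_, rfl⟩
    rw [hj, Scheme.Hom.range_fiberι] at this
    exact this
  · have hz : gp k ∈ closure (j ⁻¹' G) := by
      rw [hSeq]
      exact ⟨k, hk, (hgp' k hk).mem⟩
    have := image_closure_subset_closure_image j.continuous ⟨gp k, hz, rfl⟩
    refine closure_mono ?_ this
    rintro _ ⟨z, hz, rfl⟩
    exact hz

end Noeth

end Groth.Agent.Lib.Helper21.FibreClosureDim
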