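import Groth.Prelude.Def_CurvBase
import Mathlib

/-!
# `Curv2.resMap` is compatible with the structure morphism (helper21)
-/

universe u

open CategoryTheory CategoryTheory.Limits AlgebraicGeometry

namespace Groth.Agent.Lib.Helper21

theorem eq_toSpecΓ_comp {A : CommRingCat.{u}} {X : Scheme.{u}} (f : X ⟶ Spec A) :
    f = X.toSpecΓ ≫ Spec.map ((Scheme.ΓSpecIso A).inv ≫ f.appTop) := by
  have h1 := Scheme.toSpecΓ_naturality f
  calc f = (f ≫ (Spec A).toSpecΓ) ≫ Spec.map (Scheme.ΓSpecIso A).inv := by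
        rw [Category.assoc, toSpecΓ_SpecMap_ΓSpecIso_inv, Category.comp_id]
    _ = (X.toSpecΓ ≫ Spec.map f.appTop) ≫ Spec.map (Scheme.ΓSpecIso A).inv := by rw [h1]
    _ = X.toSpecΓ ≫ Spec.map ((Scheme.ΓSpecIso A).inv ≫ f.appTop) := by
        rw [Category.assoc, ← Spec.map_comp]

theorem SpecMap_resMap (k : Type u) [Field k] (X : Scheme.{u}) [X.Over (Spec (CommRingCat.of k))]
    (x : X) :
    Spec.map (CommRingCat.ofHom (Curv2.resMap k X x)) =
      X.fromSpecResidueField x ≫ (X ↘ Spec (CommRingCat.of k)) := by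
  have hf := eq_toSpecΓ_comp (X ↘ Spec (CommRingCat.of k))
  have h3 : X.fromSpecResidueField x ≫ X.toSpecΓ =
      Spec.map (X.presheaf.germ ⊤ x trivial ≫ X.residue x) := by
    rw [Scheme.fromSpecResidueField, Category.assoc, Scheme.fromSpecStalk_toSpecΓ, ← Spec.map_comp]
  conv_rhs => rw [hf, ← Category.assoc, h3, ← Spec.map_comp]
  rfl

end Groth.Agent.Lib.Helper21
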