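import Groth.Prelude.Def_CurvBase
import Groth.Agent.Lib.Helper21.ResMap
import Groth.Agent.Lib.Helper73.FibreClosure
import Groth.Agent.Lib.Helper73.LocalFibreDim
import Groth.Agent.Lib.Helper73.FieldCatenary
import Groth.Agent.Lib.Helper73.Equidim2
import Mathlib

/-!
# Dimension theory of schemes locally of finite type over a field (helper21)

Built on helper73's `SchemeDim` library.
* `trdegAt f x`: the residue transcendence degree `trdeg κ(x)/κ(f x)` (helper73's form).
* `trdegAt_eq_of_SpecMap_eq`: over `Spec k`, this is the transcendence degree over `k` for any ring map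
  `φ : k → κ(x)` inducing the structure morphism; `trdegAt_eq_resAlgebra` for `Curv2.resAlgebra`.
* `topologicalKrullDim_closure_singleton`: `dim closure {x} = trdeg_k κ(x)`.
-/

set_option linter.style.haveILetI false
universe u

open CategoryTheory CategoryTheory.Limits AlgebraicGeometry
open scoped Set.Notation

namespace Groth.Agent.Lib.Helper21.FieldDim

open Groth.Agent.Lib.Helper73 Groth.Agent.Lib.Helper73.SchemeDim

/-- the residue transcendence degree of `f` at `x`. -/
noncomputable def trdegAt {X S : Scheme.{u}} (f : X ⟶ S) (x : X) : Cardinal.{u} :=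
  @Algebra.trdeg (S.residueField (f.base x)) (X.residueField x) _ _ (f.residueFieldMap x).hom.toAlgebra

theorem exists_trdegAt_eq_nat {X S : Scheme.{u}} (f : X ⟶ S) [LocallyOfFiniteType f] (x : X) :
    ∃ n : ℕ, trdegAt f x = n :=
  exists_trdeg_residueField_eq_nat' f x

theorem surjective_of_isClosedImmersion_SpecMap {R S : CommRingCat.{u}} (φ : R ⟶ S)
    [IsClosedImmersion (Spec.map φ)] : Function.Surjective φ := by
  have h := (IsClosedImmersion.isAffine_surjective_of_isAffine (Spec.map φ)).2
  have h2 := Scheme.ΓSpecIso_naturality φ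
  have h3 : φ = (Scheme.ΓSpecIso R).inv ≫ (Spec.map φ).appTop ≫ (Scheme.ΓSpecIso S).hom := by
    rw [h2, Iso.inv_hom_id_assoc]
  rw [h3]
  simp only [CommRingCat.hom_comp, RingHom.coe_comp]
  exact (ConcreteCategory.bijective_of_isIso (Scheme.ΓSpecIso S).hom).2.comp
    (h.comp (ConcreteCategory.bijective_of_isIso (Scheme.ΓSpecIso R).inv).2)

section Field

variable {k : Type u} [Field k]

/-- the canonical map from `k` to the residue field of the point of `Spec k`. -/
noncomputable def toResidue (s : Spec (CommRingCat.of k)) :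
    k →+* (Spec (CommRingCat.of k)).residueField s :=
  (Spec.preimage ((Spec (CommRingCat.of k)).fromSpecResidueField s)).hom

theorem SpecMap_toResidue (s : Spec (CommRingCat.of k)) :
    Spec.map (CommRingCat.ofHom (toResidue s)) = (Spec (CommRingCat.of k)).fromSpecResidueField s := by
  rw [toResidue, CommRingCat.ofHom_hom, Spec.map_preimage]

theorem toResidue_bijective (s : Spec (CommRingCat.of k)) : Function.Bijective (toResidue s) := by
  refine ⟨(toResidue s).injective, ?_⟩
  have hcl : IsClosed ({s} : Set (Spec (CommRingCat.of k))) := by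
    have : ({s} : Set (Spec (CommRingCat.of k))) = Set.univ := by
      ext t
      simp only [Set.mem_singleton_iff, Set.mem_univ, iff_true]
      exact Subsingleton.elim (α := PrimeSpectrum k) t s
    rw [this]
    exact isClosed_univ
  have h1 : IsClosedImmersion ((Spec (CommRingCat.of k)).fromSpecResidueField s) :=
    (isClosed_singleton_iff_isClosedImmersion).mp hcl
  rw [← SpecMap_toResidue] at h1
  exact surjective_of_isClosedImmersion_SpecMap (CommRingCat.ofHom (toResidue s))

variable {X : Scheme.{u}} (f : X ⟶ Spec (CommRingCat.of k))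

/-- over `Spec k`, the residue transcendence degree is the transcendence degree over `k`. -/
theorem trdegAt_eq_of_SpecMap_eq (x : X) (φ : k →+* X.residueField x)
    (hφ : Spec.map (CommRingCat.ofHom φ) = X.fromSpecResidueField x ≫ f) :
    trdegAt f x = @Algebra.trdeg k (X.residueField x) _ _ φ.toAlgebra := by
  have h1 := Scheme.Hom.SpecMap_residueFieldMap_fromSpecResidueField f x
  have h2 : CommRingCat.ofHom φ =
      CommRingCat.ofHom (toResidue (f.base x)) ≫ f.residueFieldMap x := by
    apply Spec.map_injective
    rw [hφ, Spec.map_comp, SpecMap_toResidue, h1]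
  have h3 : ∀ c : k, φ c = (f.residueFieldMap x).hom (toResidue (f.base x) c) := by
    intro c
    have := congrArg (fun g => g.hom c) h2
    simpa using this
  letI := φ.toAlgebra
  letI := (f.residueFieldMap x).hom.toAlgebra
  symm
  refine DimFormula.trdeg_eq_of_ringEquiv
    (RingEquiv.ofBijective (toResidue (f.base x)) (toResidue_bijective _))
    (RingEquiv.refl _) ?_
  intro c
  exact h3 c

variable [LocallyOfFiniteType f]

/-- the (finite) transcendence degree of `κ(x)` over `k`, as a natural number. -/
noncomputable def td (x : X) : ℕ := (exists_trdegAt_eq_nat f x).choose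

theorem trdegAt_eq_td (x : X) : trdegAt f x = td f x := (exists_trdegAt_eq_nat f x).choose_spec

theorem td_eq_of_trdegAt_eq {x : X} {n : ℕ} (h : trdegAt f x = n) : td f x = n := by
  have := trdegAt_eq_td f x
  rw [h] at this
  exact_mod_cast this.symm

omit [LocallyOfFiniteType f] in
theorem base_eq (x y : X) : f.base x = f.base y := Subsingleton.elim (α := PrimeSpectrum k) _ _

theorem td_lt_of_specializes {x y : X} (h : x ⤳ y) (hne : x ≠ y) : td f y < td f x :=
  trdeg_lt_trdeg_of_specializes_of_fibre' f h hne (base_eq f x y) (td f x) (td f y)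
    (trdegAt_eq_td f x) (trdegAt_eq_td f y)

theorem td_le_of_specializes {x y : X} (h : x ⤳ y) : td f y ≤ td f x := by
  by_cases hxy : x = y
  · rw [hxy]
  · exact (td_lt_of_specializes f h hxy).le

/-- a chain of length `td f x` of specializations of `x`, inside a given open neighbourhood. -/
theorem exists_ltSeries_td (x : X) (W : X.Opens) (hxW : x ∈ W) :
    ∃ c : LTSeries X, c.length = td f x ∧ c.last = x ∧ ∀ i, c i ∈ W := by
  obtain ⟨c, h1, h2, -, h3⟩ := exists_ltSeries_fibre_mem f x W hxW (td f x) (trdegAt_eq_td f x)
  exact ⟨c, h1, h2, h3⟩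

theorem length_le_td (c : LTSeries X) : c.length ≤ td f c.last := by
  have key : ∀ i : Fin (c.length + 1), (i : ℕ) ≤ td f (c i) := by
    intro i
    induction i using Fin.induction with
    | zero => exact Nat.zero_le _
    | succ i ih =>
      have hlt : c i.castSucc < c i.succ := c.strictMono (Fin.castSucc_lt_succ)
      have hsp : c i.succ ⤳ c i.castSucc := hlt.le
      have hne : c i.succ ≠ c i.castSucc := fun h => (ne_of_lt hlt) h.symm
      have := td_lt_of_specializes f hsp hne
      simp only [Fin.val_succ, Fin.val_castSucc] at ih ⊢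
      omega
  have := key (Fin.last _)
  simpa [RelSeries.last] using this

/-- the dimension of a locally closed subset is the supremum of the transcendence degrees of its
points. -/
theorem dim_le_iff_of_isLocallyClosed (T : Set X) (hT : IsLocallyClosed T) (d : WithBot ℕ∞) :
    topologicalKrullDim ↥T ≤ d ↔ ∀ x ∈ T, ((td f x : ℕ) : WithBot ℕ∞) ≤ d := by
  obtain ⟨U, C, hU, hC, rfl⟩ := hT
  haveI : QuasiSober ↥U := hU.isOpenEmbedding_subtypeVal.quasiSober
  haveI : QuasiSober ↥(U ∩ C) := by
    have hcl : IsClosed (U ↓∩ (U ∩ C)) := by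
      have : (U ↓∩ (U ∩ C)) = Subtype.val ⁻¹' C := by
        ext a
        simp only [Set.mem_preimage, Set.mem_inter_iff]
        exact ⟨fun h => h.2, fun h => ⟨a.2, h⟩⟩
      rw [this]
      exact hC.preimage continuous_subtype_val
    exact (Topology.IsClosedEmbedding.inclusion Set.inter_subset_left hcl).quasiSober
  constructor
  · intro h x hx
    obtain ⟨c, hlen, hlast, hmem⟩ := exists_ltSeries_td f x ⟨U, hU⟩ hx.1
    have hc : ∀ i, c i ∈ U ∩ C := by
      intro i
      refine ⟨hmem i, ?_⟩
      have hsp : x ⤳ c i := by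
        rw [← hlast]
        exact c.monotone (Fin.le_last i)
      exact hsp.mem_closed hC hx.2
    have := length_le_topologicalKrullDim_subtype (U ∩ C) c hc
    rw [hlen] at this
    exact this.trans h
  · intro h
    refine topologicalKrullDim_subtype_le (U ∩ C) d (fun c hc => ?_)
    have h1 := length_le_td f c
    have h2 := h _ (hc (Fin.last _))
    refine le_trans ?_ h2
    exact_mod_cast h1

theorem dim_le_iff (d : WithBot ℕ∞) :
    topologicalKrullDim X ≤ d ↔ ∀ x : X, ((td f x : ℕ) : WithBot ℕ∞) ≤ d := by
  have h1 := dim_le_iff_of_isLocallyClosed f Set.univ isClosed_univ.isLocallyClosed d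
  have h2 : topologicalKrullDim ↥(Set.univ : Set X) = topologicalKrullDim X :=
    (Homeomorph.Set.univ X).isHomeomorph.topologicalKrullDim_eq
  rw [h2] at h1
  rw [h1]
  exact ⟨fun h x => h x trivial, fun h x _ => h x⟩

theorem dim_closure_singleton (x : X) :
    topologicalKrullDim ↥(closure ({x} : Set X)) = td f x := by
  apply le_antisymm
  · rw [dim_le_iff_of_isLocallyClosed f _ isClosed_closure.isLocallyClosed]
    intro y hy
    have : td f y ≤ td f x := td_le_of_specializes f (specializes_iff_mem_closure.mpr hy)
    exact_mod_cast this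
  · exact (dim_le_iff_of_isLocallyClosed f _ isClosed_closure.isLocallyClosed _).mp le_rfl x
      (subset_closure rfl)

theorem td_le_dim (x : X) : ((td f x : ℕ) : WithBot ℕ∞) ≤ topologicalKrullDim X :=
  (dim_le_iff f _).mp le_rfl x

theorem relHt_add_td {x y : X} (h : x ⤳ y) :
    (RelHt.relHt y x : ℕ∞) + td f y = td f x :=
  relHt_add_trdeg_eq_of_fibre f h (base_eq f x y) (td f x) (td f y) (trdegAt_eq_td f x)
    (trdegAt_eq_td f y)

theorem td_eq_succ_of_immediate {x y : X} (h : x ⤳ y) (hne : x ≠ y)
    (himm : ∀ z : X, x ⤳ z → z ⤳ y → z = x ∨ z = y) : td f x = td f y + 1 := by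
  have hlt : y < x := by
    rw [lt_iff_le_not_ge]
    refine ⟨h, fun h' => hne ?_⟩
    exact (Specializes.antisymm h' h).eq.symm
  have h1 : RelHt.relHt y x = 1 := by
    refine RelHt.relHt_eq_one hlt (fun z hyz hzx => ?_)
    rcases himm z hzx.le hyz.le with rfl | rfl
    · exact lt_irrefl _ hzx
    · exact lt_irrefl _ hyz
  have h2 := relHt_add_td f h
  rw [h1] at h2
  have : 1 + td f y = td f x := by exact_mod_cast h2
  omega

theorem dim_eq_td_of_forall_specializes (ξ : X) (hξ : ∀ x : X, ξ ⤳ x) :
    topologicalKrullDim X = td f ξ := by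
  apply le_antisymm
  · rw [dim_le_iff f]
    intro x
    have := td_le_of_specializes f (hξ x)
    exact_mod_cast this
  · exact td_le_dim f ξ

theorem dim_eq_td_genericPoint [IrreducibleSpace X] :
    topologicalKrullDim X = td f (genericPoint X) :=
  dim_eq_td_of_forall_specializes f _ (fun x => (genericPoint_spec X).specializes (by simp))

/-- the dimension of an irreducible closed subset is the transcendence degree of its generic
point. -/
theorem dim_eq_td_of_isGenericPoint {Z : Set X} {ξ : X} (hξ : IsGenericPoint ξ Z) :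
    topologicalKrullDim ↥Z = td f ξ := by
  have := dim_closure_singleton f ξ
  rwa [hξ.def] at this

end Field

section Over

variable (k : Type u) [Field k] (X : Scheme.{u}) [X.Over (Spec (CommRingCat.of k))]

theorem trdegAt_eq_resAlgebra (x : X) :
    trdegAt (X ↘ Spec (CommRingCat.of k)) x =
      @Algebra.trdeg k (X.residueField x) _ _ (Curv2.resAlgebra k X x) :=
  trdegAt_eq_of_SpecMap_eq _ x (Curv2.resMap k X x) (SpecMap_resMap k X x)

theorem td_eq_of_resAlgebra [LocallyOfFiniteType (X ↘ Spec (CommRingCat.of k))] (x : X) (n : ℕ)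
    (hn : @Algebra.trdeg k (X.residueField x) _ _ (Curv2.resAlgebra k X x) = n) :
    td (X ↘ Spec (CommRingCat.of k)) x = n :=
  td_eq_of_trdegAt_eq _ ((trdegAt_eq_resAlgebra k X x).trans hn)

theorem resAlgebra_trdeg_eq_td [LocallyOfFiniteType (X ↘ Spec (CommRingCat.of k))] (x : X) :
    @Algebra.trdeg k (X.residueField x) _ _ (Curv2.resAlgebra k X x) =
      td (X ↘ Spec (CommRingCat.of k)) x :=
  (trdegAt_eq_resAlgebra k X x).symm.trans (trdegAt_eq_td _ x)

end Over

end Groth.Agent.Lib.Helper21.FieldDim
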