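import Groth.Agent.Lib.Helper21.FGFieldFinite
import Groth.Agent.Lib.Helper21.ResMap

/-!
# Residue fields of schemes locally of finite type over a field (helper21)
-/

universe u

open CategoryTheory CategoryTheory.Limits AlgebraicGeometry

namespace Groth.Agent.Lib.Helper21

section

variable {k : Type u} [Field k] {X : Scheme.{u}} (f : X ⟶ Spec (CommRingCat.of k))

/-- The residue field of a point of a scheme locally of finite type over `k` is essentially of
finite type over `k`. -/
theorem essFiniteType_residueField [LocallyOfFiniteType f] (x : X) (φ : k →+* X.residueField x)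
    (hφ : Spec.map (CommRingCat.ofHom φ) = X.fromSpecResidueField x ≫ f) :
    φ.EssFiniteType := by
  have h1 : (f.residueFieldMap x).hom.EssFiniteType :=
    RingHom.EssFiniteType.residueFieldMap (LocallyOfFiniteType.stalkMap f x)
  let y : Spec (CommRingCat.of k) := f x
  have hyp : y.asIdeal.IsPrime := PrimeSpectrum.isPrime y
  let ψ : CommRingCat.of k ⟶ (Spec (CommRingCat.of k)).residueField y :=
    CommRingCat.ofHom (algebraMap k y.asIdeal.ResidueField) ≫
      (Scheme.Spec.residueFieldIso (CommRingCat.of k) y).inv
  have hψ : Spec.map ψ = (Spec (CommRingCat.of k)).fromSpecResidueField y := by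
    rw [Spec.map_comp]
    exact Scheme.Spec.map_residueFieldIso_inv_eq_fromSpecResidueField (CommRingCat.of k) y
  have hcomp : CommRingCat.ofHom φ = ψ ≫ f.residueFieldMap x := by
    apply Spec.map_injective
    rw [hφ, Spec.map_comp, hψ, Scheme.Hom.SpecMap_residueFieldMap_fromSpecResidueField]
  have hψe : ψ.hom.EssFiniteType := by
    have hs : Function.Surjective (algebraMap k y.asIdeal.ResidueField) := by
      have : y.asIdeal.IsMaximal := inferInstance
      exact Ideal.algebraMap_residueField_surjective y.asIdeal
    have hs' : Function.Surjective ψ.hom := by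
      intro b
      obtain ⟨a, ha⟩ := hs ((Scheme.Spec.residueFieldIso (CommRingCat.of k) y).hom b)
      refine ⟨a, ?_⟩
      change (Scheme.Spec.residueFieldIso (CommRingCat.of k) y).inv
        (algebraMap k y.asIdeal.ResidueField a) = b
      rw [ha]
      exact congrArg (fun g => g.hom b) (Scheme.Spec.residueFieldIso (CommRingCat.of k) y).hom_inv_id
    exact (RingHom.FiniteType.of_surjective _ hs').essFiniteType
  have : φ = (f.residueFieldMap x).hom.comp ψ.hom := by
    have := congrArg (fun g => g.hom) hcomp
    exact this
  rw [this]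
  exact hψe.comp h1

/-- For `X` locally of finite type over `k`, the separable closure of `k` in a residue field is
finite over `k`. -/
theorem finiteDimensional_separableClosure_residueField [LocallyOfFiniteType f] (x : X)
    (φ : k →+* X.residueField x)
    (hφ : Spec.map (CommRingCat.ofHom φ) = X.fromSpecResidueField x ≫ f) :
    letI := φ.toAlgebra
    FiniteDimensional k (separableClosure k (X.residueField x)) := by
  let _ := φ.toAlgebra
  have h := essFiniteType_residueField f x φ hφ
  have h' : Algebra.EssFiniteType k (X.residueField x) := by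
    rw [← RingHom.essFiniteType_algebraMap]
    exact h
  exact finiteDimensional_separableClosure_of_essFiniteType

end

/-- The source of an inducing map with irreducible range is irreducible. -/
theorem irreducibleSpace_of_isInducing_of_isIrreducible_range {P Y : Type*} [TopologicalSpace P]
    [TopologicalSpace Y] {e : P → Y} (he : Topology.IsInducing e)
    (hr : IsIrreducible (Set.range e)) : IrreducibleSpace P := by
  obtain ⟨⟨y, p, rfl⟩, hpre⟩ := hr
  refine { toNonempty := ⟨p⟩, isPreirreducible_univ := ?_ }
  intro U V hU hV hUne hVne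
  obtain ⟨u, -, hu⟩ := hUne
  obtain ⟨v, -, hv⟩ := hVne
  obtain ⟨U', hU', rfl⟩ := he.isOpen_iff.1 hU
  obtain ⟨V', hV', rfl⟩ := he.isOpen_iff.1 hV
  obtain ⟨z, ⟨w, rfl⟩, hzU, hzV⟩ := hpre U' V' hU' hV' ⟨e u, ⟨u, rfl⟩, hu⟩ ⟨e v, ⟨v, rfl⟩, hv⟩
  exact ⟨w, trivial, hzU, hzV⟩

end Groth.Agent.Lib.Helper21
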