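import Mathlib
import Groth.Agent.Lib.Helper21.FieldBC
import Groth.Agent.Lib.Helper21.ResFieldEFT

/-!
# Irreducible components of a product over a field (helper21)

`W` maximal irreducible in `p⁻¹ X' ∩ q⁻¹ Y'` contains a point whose projections are generic in `X'`
and `Y'` (flatness of the projections of `X'_red ×_k Y'_red`).
-/

universe u

open CategoryTheory CategoryTheory.Limits AlgebraicGeometry

namespace Groth.Agent.Lib.Helper21

section top

variable {P Y : Type*} [TopologicalSpace P] [TopologicalSpace Y]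

/-- Preimage of a preirreducible subset of the range under an inducing map. -/
theorem isPreirreducible_preimage_of_isInducing {e : P → Y} (he : Topology.IsInducing e)
    {W : Set Y} (hW : IsPreirreducible W) (hWr : W ⊆ Set.range e) : IsPreirreducible (e ⁻¹' W) := by
  intro U V hU hV ⟨u, huW, huU⟩ ⟨v, hvW, hvV⟩
  obtain ⟨U', hU', rfl⟩ := he.isOpen_iff.1 hU
  obtain ⟨V', hV', rfl⟩ := he.isOpen_iff.1 hV
  obtain ⟨z, hzW, hzU, hzV⟩ := hW U' V' hU' hV' ⟨e u, huW, huU⟩ ⟨e v, hvW, hvV⟩
  obtain ⟨w, rfl⟩ := hWr hzW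
  exact ⟨w, hzW, hzU, hzV⟩

/-- A maximal irreducible subset of a closed set is closed. -/
theorem isClosed_of_maximal_isIrreducible_subset {T W : Set Y} (hT : IsClosed T)
    (hW : Maximal (fun V : Set Y => IsIrreducible V ∧ V ⊆ T) W) : IsClosed W := by
  have h1 : closure W ⊆ W :=
    hW.2 ⟨hW.1.1.closure, closure_minimal hW.1.2 hT⟩ subset_closure
  exact closure_subset_iff_isClosed.1 h1

/-- A generalizing continuous map sends maximal points to maximal points. -/
theorem specializes_of_generalizingMap_of_maximal {p : P → Y} (hp : GeneralizingMap p)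
    (hpc : Continuous p) {ω : P} (hmax : ∀ z, z ⤳ ω → ω ⤳ z) {ξ : Y} (hξ : ξ ⤳ p ω) :
    p ω ⤳ ξ := by
  obtain ⟨z, hz, hpz⟩ := hp hξ
  rw [← hpz]
  exact (hmax z hz).map hpc

end top

section product

variable {k : Type u} [Field k] {X Y : Scheme.{u}}
  (f : X ⟶ Spec (CommRingCat.of k)) (g : Y ⟶ Spec (CommRingCat.of k))

set_option backward.isDefEq.respectTransparency.types false in
/-- Key lemma: a maximal irreducible subset `W` of `p⁻¹ X' ∩ q⁻¹ Y'` (`X'`, `Y'` closed irreducible)
contains a point `ω` with `p ω` specializing to every point of `X'` and `q ω` to every point of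
`Y'`. -/
theorem exists_mem_generic_of_maximal {X' : Set X} {Y' : Set Y} (hX' : IsIrreducible X')
    (hX'c : IsClosed X') (hY' : IsIrreducible Y') (hY'c : IsClosed Y')
    {W : Set ↥(pullback f g)}
    (hW : Maximal (fun V : Set ↥(pullback f g) => IsIrreducible V ∧
      V ⊆ ⇑(pullback.fst f g) ⁻¹' X' ∩ ⇑(pullback.snd f g) ⁻¹' Y') W) :
    ∃ ω ∈ W, (∀ x ∈ X', (pullback.fst f g) ω ⤳ x) ∧ (∀ y ∈ Y', (pullback.snd f g) ω ⤳ y) := by
  let IX := Scheme.IdealSheafData.vanishingIdeal (⟨X', hX'c⟩ : TopologicalSpace.Closeds X)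
  let IY := Scheme.IdealSheafData.vanishingIdeal (⟨Y', hY'c⟩ : TopologicalSpace.Closeds Y)
  have hrX : Set.range IX.subschemeι = X' := by
    rw [Scheme.IdealSheafData.range_subschemeι, Scheme.IdealSheafData.coe_support_vanishingIdeal]
    rfl
  have hrY : Set.range IY.subschemeι = Y' := by
    rw [Scheme.IdealSheafData.range_subschemeι, Scheme.IdealSheafData.coe_support_vanishingIdeal]
    rfl
  have hXirr : IrreducibleSpace IX.subscheme :=
    irreducibleSpace_of_isInducing_of_isIrreducible_range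
      IX.subschemeι.isClosedEmbedding.isInducing (hrX ▸ hX')
  have hYirr : IrreducibleSpace IY.subscheme :=
    irreducibleSpace_of_isInducing_of_isIrreducible_range
      IY.subschemeι.isClosedEmbedding.isInducing (hrY ▸ hY')
  let j : pullback (IX.subschemeι ≫ f) (IY.subschemeι ≫ g) ⟶ pullback f g :=
    pullback.map (IX.subschemeι ≫ f) (IY.subschemeι ≫ g) f g IX.subschemeι IY.subschemeι (𝟙 _)
      ((Category.comp_id _).trans rfl) ((Category.comp_id _).trans rfl)
  have hjci : IsClosedImmersion j :=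
    MorphismProperty.pullbackMap (P := @IsClosedImmersion.{u}) (f := IX.subschemeι ≫ f)
      (g := IY.subschemeι ≫ g) (f' := f) (g' := g)
      (inferInstanceAs (IsClosedImmersion IX.subschemeι))
      (inferInstanceAs (IsClosedImmersion IY.subschemeι)) rfl rfl
  have hrj : Set.range j = ⇑(pullback.fst f g) ⁻¹' X' ∩ ⇑(pullback.snd f g) ⁻¹' Y' := by
    rw [← hrX, ← hrY]
    exact Scheme.Pullback.range_map _ _ _ _ _ _ _ _ _
  have hjfst : ∀ z, (pullback.fst f g) (j z) = IX.subschemeι ((pullback.fst (IX.subschemeι ≫ f) (IY.subschemeι ≫ g)) z) := by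
    intro z
    have hj1 : j ≫ pullback.fst f g =
        pullback.fst (IX.subschemeι ≫ f) (IY.subschemeι ≫ g) ≫ IX.subschemeι :=
      pullback.lift_fst _ _ _
    rw [← Scheme.Hom.comp_apply, hj1, Scheme.Hom.comp_apply]
  have hjsnd : ∀ z, (pullback.snd f g) (j z) = IY.subschemeι ((pullback.snd (IX.subschemeι ≫ f) (IY.subschemeι ≫ g)) z) := by
    intro z
    have hj1 : j ≫ pullback.snd f g =
        pullback.snd (IX.subschemeι ≫ f) (IY.subschemeι ≫ g) ≫ IY.subschemeι :=
      pullback.lift_snd _ _ _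
    rw [← Scheme.Hom.comp_apply, hj1, Scheme.Hom.comp_apply]
  have hTcl : IsClosed (⇑(pullback.fst f g) ⁻¹' X' ∩ ⇑(pullback.snd f g) ⁻¹' Y') :=
    (hX'c.preimage (pullback.fst f g).continuous).inter (hY'c.preimage (pullback.snd f g).continuous)
  have hWcl : IsClosed W := isClosed_of_maximal_isIrreducible_subset hTcl hW
  have hWr : W ⊆ Set.range j := hrj ▸ hW.1.2
  -- `W' = j⁻¹ W`
  have hW'cl : IsClosed (j ⁻¹' W) := hWcl.preimage j.continuous
  have hW'irr : IsIrreducible (j ⁻¹' W) := by
    refine ⟨?_, isPreirreducible_preimage_of_isInducing j.isClosedEmbedding.isInducing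
      hW.1.1.isPreirreducible hWr⟩
    obtain ⟨w, hw⟩ := hW.1.1.nonempty
    obtain ⟨z, rfl⟩ := hWr hw
    exact ⟨z, hw⟩
  let ω' := hW'irr.genericPoint
  have hω' : IsGenericPoint ω' (j ⁻¹' W) := hW'irr.isGenericPoint_genericPoint hW'cl
  have hω'mem : ω' ∈ j ⁻¹' W := hω'.mem
  have hmax : ∀ z, z ⤳ ω' → ω' ⤳ z := by
    intro z hz
    have h1 : j ⁻¹' W ⊆ closure {z} := by
      rw [← hω'.def]
      exact (isClosed_closure.closure_subset_iff).2 (Set.singleton_subset_iff.2
        (specializes_iff_mem_closure.1 hz))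
    have h2 : IsIrreducible (j '' closure {z}) :=
      (isIrreducible_singleton.closure).image _ j.continuous.continuousOn
    have h3 : j '' closure {z} ⊆ ⇑(pullback.fst f g) ⁻¹' X' ∩ ⇑(pullback.snd f g) ⁻¹' Y' := by
      rw [← hrj]
      exact Set.image_subset_range _ _
    have h4 : W ⊆ j '' closure {z} := by
      intro w hw
      obtain ⟨t, rfl⟩ := hWr hw
      exact ⟨t, h1 hw, rfl⟩
    have h5 : j '' closure {z} ⊆ W := hW.2 ⟨h2, h3⟩ h4
    have h6 : z ∈ j ⁻¹' W := h5 ⟨z, subset_closure rfl, rfl⟩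
    rw [← hω'.def] at h6
    exact specializes_iff_mem_closure.2 h6
  have hflat1 : Flat (pullback.fst (IX.subschemeι ≫ f) (IY.subschemeι ≫ g)) := inferInstance
  have hflat2 : Flat (pullback.snd (IX.subschemeι ≫ f) (IY.subschemeι ≫ g)) := inferInstance
  refine ⟨j ω', hω'mem, ?_, ?_⟩
  · intro x hx
    rw [← hrX] at hx
    obtain ⟨x'', rfl⟩ := hx
    rw [hjfst]
    refine Specializes.map ?_ IX.subschemeι.continuous
    have h1 := specializes_of_generalizingMap_of_maximal
      (Flat.generalizingMap (pullback.fst (IX.subschemeι ≫ f) (IY.subschemeι ≫ g)))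
      (pullback.fst (IX.subschemeι ≫ f) (IY.subschemeι ≫ g)).continuous hmax
      (genericPoint_specializes _)
    exact h1.trans (genericPoint_specializes x'')
  · intro y hy
    rw [← hrY] at hy
    obtain ⟨y'', rfl⟩ := hy
    rw [hjsnd]
    refine Specializes.map ?_ IY.subschemeι.continuous
    have h1 := specializes_of_generalizingMap_of_maximal
      (Flat.generalizingMap (pullback.snd (IX.subschemeι ≫ f) (IY.subschemeι ≫ g)))
      (pullback.snd (IX.subschemeι ≫ f) (IY.subschemeι ≫ g)).continuous hmax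
      (genericPoint_specializes _)
    exact h1.trans (genericPoint_specializes y'')

end product

end Groth.Agent.Lib.Helper21
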