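import Groth.Agent.Lib.Helper21.FieldDimSq
import Groth.Agent.Lib.Helper21.IrrCompProduct
import Mathlib

/-!
# Local dimension of a product over a field (helper21)
-/

set_option linter.style.haveILetI false
universe u

open CategoryTheory CategoryTheory.Limits AlgebraicGeometry AlgebraicGeometry.Scheme.Pullback

namespace Groth.Agent.Lib.Helper21.FieldDim

open Groth.Agent.Lib.Helper73 Groth.Agent.Lib.Helper73.SchemeDim

section Product

variable {k : Type u} [Field k] {X Y : Scheme.{u}} (f : X ⟶ Spec (CommRingCat.of k))
  (g : Y ⟶ Spec (CommRingCat.of k)) [LocallyOfFiniteType f] [LocallyOfFiniteType g]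

/-- generizations of the two projections of a point `z` of a product lift to a generization of
`z` whose transcendence degree is the sum. -/
theorem exists_specializes_td_prod_eq (z : ↑(pullback f g)) (ξ : X) (η : Y)
    (hξ : ξ ⤳ (pullback.fst f g).base z) (hη : η ⤳ (pullback.snd f g).base z) :
    ∃ ζ : ↑(pullback f g), ζ ⤳ z ∧ (pullback.fst f g).base ζ = ξ ∧
      (pullback.snd f g).base ζ = η ∧ td (pullback.fst f g ≫ f) ζ = td f ξ + td g η := by
  set T : Set ↑(pullback f g) :=
    ⇑(pullback.fst f g) ⁻¹' closure {ξ} ∩ ⇑(pullback.snd f g) ⁻¹' closure {η} with hTdef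
  have hTcl : IsClosed T :=
    (isClosed_closure.preimage (pullback.fst f g).continuous).inter
      (isClosed_closure.preimage (pullback.snd f g).continuous)
  have hzT : z ∈ T := ⟨hξ.mem_closure, hη.mem_closure⟩
  obtain ⟨hWcl, hWirr, hWT, hWmax⟩ := image_irreducibleComponent_subtype T hTcl
    (irreducibleComponent (⟨z, hzT⟩ : ↥T)) (irreducibleComponent_mem_irreducibleComponents _)
  set W : Set ↑(pullback f g) := Subtype.val '' irreducibleComponent (⟨z, hzT⟩ : ↥T) with hWdef
  have hzW : z ∈ W := ⟨⟨z, hzT⟩, mem_irreducibleComponent, rfl⟩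
  have hWM : Maximal (fun V : Set ↥(pullback f g) => IsIrreducible V ∧
      V ⊆ ⇑(pullback.fst f g) ⁻¹' closure {ξ} ∩ ⇑(pullback.snd f g) ⁻¹' closure {η}) W := by
    refine ⟨⟨hWirr, hWT⟩, ?_⟩
    intro V hV hWV
    exact (hWmax V hV.1 hV.2 hWV).le
  obtain ⟨ω, hωW, hωX, hωY⟩ := Groth.Agent.Lib.Helper21.exists_mem_generic_of_maximal f g
    isIrreducible_singleton.closure isClosed_closure isIrreducible_singleton.closure
    isClosed_closure hWM
  -- the generic point of `W`
  set w := hWirr.genericPoint with hwdef
  have hw : IsGenericPoint w W := hWirr.isGenericPoint_genericPoint hWcl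
  have hwW : w ∈ W := hw.mem
  have hwz : w ⤳ z := hw.specializes hzW
  have hwω : w ⤳ ω := hw.specializes hωW
  have h1 : (pullback.fst f g).base w = ξ := by
    have ha : (pullback.fst f g).base w ⤳ ξ :=
      (hwω.map (pullback.fst f g).continuous).trans (hωX ξ (subset_closure rfl))
    have hb : ξ ⤳ (pullback.fst f g).base w := specializes_iff_mem_closure.mpr (hWT hwW).1
    exact (ha.antisymm hb).eq
  have h2 : (pullback.snd f g).base w = η := by
    have ha : (pullback.snd f g).base w ⤳ η :=
      (hwω.map (pullback.snd f g).continuous).trans (hωY η (subset_closure rfl))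
    have hb : η ⤳ (pullback.snd f g).base w := specializes_iff_mem_closure.mpr (hWT hwW).2
    exact (ha.antisymm hb).eq
  refine ⟨w, hwz, h1, h2, ?_⟩
  have hmax : ∀ t' : ↑(pullback f g), t' ⤳ w → pullback.fst f g t' = pullback.fst f g w →
      pullback.snd f g t' = pullback.snd f g w → t' = w := by
    intro t' ht' e1 e2
    have ht'T : t' ∈ T := by
      refine ⟨?_, ?_⟩
      · change (pullback.fst f g).base t' ∈ closure {ξ}
        rw [show (pullback.fst f g).base t' = (pullback.fst f g).base w from e1, h1]
        exact subset_closure rfl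
      · change (pullback.snd f g).base t' ∈ closure {η}
        rw [show (pullback.snd f g).base t' = (pullback.snd f g).base w from e2, h2]
        exact subset_closure rfl
    have hsub : closure {t'} ⊆ T :=
      hTcl.closure_subset_iff.mpr (Set.singleton_subset_iff.mpr ht'T)
    have hWsub : W ⊆ closure {t'} := by
      rw [← hw.def]
      exact isClosed_closure.closure_subset_iff.mpr
        (Set.singleton_subset_iff.mpr ht'.mem_closure)
    have heq := hWmax (closure {t'}) isIrreducible_singleton.closure hsub hWsub
    have ht'W : t' ∈ W := by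
      rw [← heq]
      exact subset_closure rfl
    have : w ⤳ t' := hw.specializes ht'W
    exact (ht'.antisymm this).eq
  rw [td_prod_eq, tdR_snd_eq_of_maximal f g w hmax, add_comm]
  rw [show (pullback.fst f g) w = ξ from h1, show (pullback.snd f g) w = η from h2]
  rfl

/-- **local dimension of a product over a field.** -/
theorem localDim_prod (z : ↑(pullback f g)) :
    FlatMor.localDim ↑(pullback f g) z =
      FlatMor.localDim X ((pullback.fst f g).base z) +
        FlatMor.localDim Y ((pullback.snd f g).base z) := by
  apply le_antisymm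
  · rw [localDim_le_iff (pullback.fst f g ≫ f)]
    intro ζ hζ
    have h1 := td_prod_le f g ζ
    have h2 := (localDim_le_iff f ((pullback.fst f g).base z) _).mp le_rfl
      ((pullback.fst f g).base ζ) (hζ.map (pullback.fst f g).continuous)
    have h3 := (localDim_le_iff g ((pullback.snd f g).base z) _).mp le_rfl
      ((pullback.snd f g).base ζ) (hζ.map (pullback.snd f g).continuous)
    have h4 : ((td (pullback.fst f g ≫ f) ζ : ℕ) : WithBot ℕ∞) ≤
        ((td f ((pullback.fst f g).base ζ) + td g ((pullback.snd f g).base ζ) : ℕ) :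
          WithBot ℕ∞) := by
      exact_mod_cast h1
    refine h4.trans ?_
    push_cast
    exact add_le_add h2 h3
  · refine add_le_of_forall_nat
      (fun ξ : {ξ : X // ξ ⤳ (pullback.fst f g).base z} => td f ξ.1)
      (fun η : {η : Y // η ⤳ (pullback.snd f g).base z} => td g η.1) _ _ _
      (fun d hd => (localDim_le_iff f _ d).mpr (fun ξ hξ => hd ⟨ξ, hξ⟩))
      (fun d hd => (localDim_le_iff g _ d).mpr (fun η hη => hd ⟨η, hη⟩)) ?_
    rintro ⟨ξ, hξ⟩ ⟨η, hη⟩
    obtain ⟨ζ, hζz, -, -, hζ⟩ := exists_specializes_td_prod_eq f g z ξ η hξ hη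
    have := (localDim_le_iff (pullback.fst f g ≫ f) z _).mp le_rfl ζ hζz
    rw [hζ] at this
    exact this

end Product

end Groth.Agent.Lib.Helper21.FieldDim
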