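import Mathlib

/-!
# Density in fibre products over a field (helper21)

Over a base `U` all of whose schemes are universally open (e.g. the spectrum of a field), the
closure of a product of two images contains the product of the closures.
-/

set_option linter.style.haveILetI false
set_option autoImplicit false
universe u
open CategoryTheory CategoryTheory.Limits AlgebraicGeometry

namespace Groth.Agent.Lib.Helper21.FieldProdDense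

variable {U X₁ X₂ W₁ W₂ Z₂ : Scheme.{u}} [IsIntegral U] [Subsingleton U]
  (f₁ : X₁ ⟶ U) (f₂ : X₂ ⟶ U) (a₁ : W₁ ⟶ X₁) (a₂ : W₂ ⟶ X₂)

theorem step1 :
    pullback.fst f₁ f₂ ⁻¹' Set.range a₁ ∩ pullback.snd f₁ f₂ ⁻¹' closure (Set.range a₂) ⊆
      closure (pullback.fst f₁ f₂ ⁻¹' Set.range a₁ ∩ pullback.snd f₁ f₂ ⁻¹' Set.range a₂) := by
  rintro x ⟨hx1, hx2⟩
  let m₁ : pullback (a₁ ≫ f₁) f₂ ⟶ pullback f₁ f₂ :=
    pullback.map (a₁ ≫ f₁) f₂ f₁ f₂ a₁ (𝟙 X₂) (𝟙 U) (by simp) (by simp)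
  have hm₁ : Set.range m₁ =
      pullback.fst f₁ f₂ ⁻¹' Set.range a₁ ∩ pullback.snd f₁ f₂ ⁻¹' Set.range (𝟙 X₂) :=
    Scheme.Pullback.range_map _ _ _ _ _ _ _ _ _
  let q₂ : pullback (a₁ ≫ f₁) f₂ ⟶ X₂ := pullback.snd (a₁ ≫ f₁) f₂
  have hq₂ : IsOpenMap q₂ := q₂.isOpenMap
  have e1 : m₁ ≫ pullback.snd f₁ f₂ = q₂ :=
    (pullback.lift_snd _ _ _).trans (Category.comp_id _)
  have e2 : m₁ ≫ pullback.fst f₁ f₂ = pullback.fst (a₁ ≫ f₁) f₂ ≫ a₁ := pullback.lift_fst _ _ _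
  have hxm : x ∈ Set.range m₁ := by
    rw [hm₁]
    exact ⟨hx1, ⟨pullback.snd f₁ f₂ x, rfl⟩⟩
  obtain ⟨y, rfl⟩ := hxm
  have hy : y ∈ q₂ ⁻¹' closure (Set.range a₂) := by
    rw [Set.mem_preimage]
    rw [← e1, Scheme.Hom.comp_apply]
    exact hx2
  rw [hq₂.preimage_closure_eq_closure_preimage q₂.continuous] at hy
  have hsub : q₂ ⁻¹' Set.range a₂ ⊆
      m₁ ⁻¹' (pullback.fst f₁ f₂ ⁻¹' Set.range a₁ ∩ pullback.snd f₁ f₂ ⁻¹' Set.range a₂) := by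
    intro y' hy'
    refine ⟨?_, ?_⟩
    · rw [Set.mem_preimage]
      rw [← Scheme.Hom.comp_apply, e2, Scheme.Hom.comp_apply]
      exact ⟨_, rfl⟩
    · rw [Set.mem_preimage]
      rw [← Scheme.Hom.comp_apply, e1]
      exact hy'
  exact (m₁.continuous.closure_preimage_subset _) (closure_mono hsub hy)

theorem fst_snd_closure_subset (b₂ : Z₂ ⟶ X₂) (hb₂ : Set.range b₂ = closure (Set.range a₂)) :
    pullback.fst f₁ f₂ ⁻¹' closure (Set.range a₁) ∩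
      pullback.snd f₁ f₂ ⁻¹' closure (Set.range a₂) ⊆
      closure (pullback.fst f₁ f₂ ⁻¹' Set.range a₁ ∩ pullback.snd f₁ f₂ ⁻¹' Set.range a₂) := by
  rintro x ⟨hx1, hx2⟩
  let m₂ : pullback f₁ (b₂ ≫ f₂) ⟶ pullback f₁ f₂ :=
    pullback.map f₁ (b₂ ≫ f₂) f₁ f₂ (𝟙 X₁) b₂ (𝟙 U) (by simp) (by simp)
  have hm₂ : Set.range m₂ =
      pullback.fst f₁ f₂ ⁻¹' Set.range (𝟙 X₁) ∩ pullback.snd f₁ f₂ ⁻¹' Set.range b₂ :=
    Scheme.Pullback.range_map _ _ _ _ _ _ _ _ _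
  let p₁ : pullback f₁ (b₂ ≫ f₂) ⟶ X₁ := pullback.fst f₁ (b₂ ≫ f₂)
  have hp₁ : IsOpenMap p₁ := p₁.isOpenMap
  have e1 : m₂ ≫ pullback.fst f₁ f₂ = p₁ :=
    (pullback.lift_fst _ _ _).trans (Category.comp_id _)
  have e2 : m₂ ≫ pullback.snd f₁ f₂ = pullback.snd f₁ (b₂ ≫ f₂) ≫ b₂ := pullback.lift_snd _ _ _
  have hxm : x ∈ Set.range m₂ := by
    rw [hm₂, hb₂]
    exact ⟨⟨pullback.fst f₁ f₂ x, rfl⟩, hx2⟩
  obtain ⟨y, rfl⟩ := hxm
  have hy : y ∈ p₁ ⁻¹' closure (Set.range a₁) := by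
    rw [Set.mem_preimage]
    rw [← e1, Scheme.Hom.comp_apply]
    exact hx1
  rw [hp₁.preimage_closure_eq_closure_preimage p₁.continuous] at hy
  have hsub : p₁ ⁻¹' Set.range a₁ ⊆ m₂ ⁻¹' closure
      (pullback.fst f₁ f₂ ⁻¹' Set.range a₁ ∩ pullback.snd f₁ f₂ ⁻¹' Set.range a₂) := by
    intro y' hy'
    apply step1 f₁ f₂ a₁ a₂
    refine ⟨?_, ?_⟩
    · rw [Set.mem_preimage]
      rw [← Scheme.Hom.comp_apply, e1]
      exact hy'
    · rw [Set.mem_preimage]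
      rw [← Scheme.Hom.comp_apply, e2, Scheme.Hom.comp_apply, ← hb₂]
      exact ⟨_, rfl⟩
  exact closure_minimal hsub (isClosed_closure.preimage m₂.continuous) hy

end Groth.Agent.Lib.Helper21.FieldProdDense
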