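import Mathlib
import Groth.Agent.S1386
import Groth.Agent.S3394
import Groth.Agent.S3395
import Groth.Agent.S0402
import Groth.Agent.Lib.Helper82.AffSpaceDim
import Groth.Agent.Lib.Helper21.Chevalley

/-!
# Fibre dimension of flat morphisms locally of finite presentation (helper21)

Mechanism: around a maximal point `x` of a fibre of a flat l.f.p. morphism `f : X ⟶ S`, a Noether
normalisation `g : U ⟶ 𝔸^d_S` (helper35's `S3394`) is flat at `x` by the fibrewise flatness criterion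
(helper31's `S1386`), hence flat on a neighbourhood, hence generalizing there; so the generic points
of the fibres of `𝔸^d_S` lift to generizations.
-/

set_option linter.style.haveILetI false
set_option autoImplicit false
universe u

open CategoryTheory CategoryTheory.Limits AlgebraicGeometry TopologicalSpace

namespace Groth.Agent.Lib.Helper21.FlatFibreDim

open Groth.Agent.Lib.Helper21 Groth.Agent.Lib.Helper21.FieldDim Groth.Agent.Lib.Helper21.Chevalley

theorem ringHom_flat_of_isField {K B : Type u} [CommRing K] [CommRing B] (φ : K →+* B)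
    (hK : IsField K) : φ.Flat := by
  letI := hK.toField
  letI := φ.toAlgebra
  show Module.Flat K B
  infer_instance

/-- every point of a fibre has a generization which is maximal in the fibre. -/
theorem exists_maximal_in_fibre {X Y : Scheme.{u}} (f : X ⟶ Y) (z : X) :
    ∃ z'' : X, z'' ⤳ z ∧ f z'' = f z ∧ (∀ z' : X, z' ⤳ z'' → f z' = f z'' → z' = z'') := by
  have hmem : z ∈ Set.range (f.fiberι (f z)) := by
    rw [Scheme.Hom.range_fiberι]; rfl
  obtain ⟨w, hw⟩ := hmem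
  obtain ⟨w'', hw''max, hw''⟩ := exists_maximal_specializes w
  have hfw'' : f (f.fiberι (f z) w'') = f z := by
    have : f.fiberι (f z) w'' ∈ Set.range (f.fiberι (f z)) := ⟨w'', rfl⟩
    rw [Scheme.Hom.range_fiberι] at this
    exact this
  refine ⟨f.fiberι (f z) w'', ?_, hfw'', ?_⟩
  · have h := hw''.map (f.fiberι (f z)).continuous
    rwa [hw] at h
  intro z' hz' hfz'
  have hmem' : z' ∈ Set.range (f.fiberι (f z)) := by
    rw [Scheme.Hom.range_fiberι]; exact hfz'.trans hfw''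
  obtain ⟨w', rfl⟩ := hmem'
  have hsp : w' ⤳ w'' := (f.fiberι (f z)).isEmbedding.isInducing.specializes_iff.mp hz'
  have heq : w' = w'' := (hsp.antisymm (hw''max w' hsp)).eq
  rw [heq]

section AffineSpace

variable (Y : Scheme.{u}) (d : ℕ)

/-- the generic point of the fibre of affine space over `y`. -/
theorem exists_generic_fibre_affineSpace (y : Y) :
    ∃ ζ : 𝔸(ULift.{u} (Fin d); Y), (𝔸(ULift.{u} (Fin d); Y) ↘ Y) ζ = y ∧
      tdR (𝔸(ULift.{u} (Fin d); Y) ↘ Y) ζ = d ∧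
      ∀ w : 𝔸(ULift.{u} (Fin d); Y), (𝔸(ULift.{u} (Fin d); Y) ↘ Y) w = y → ζ ⤳ w := by
  set π := 𝔸(ULift.{u} (Fin d); Y) ↘ Y with hπ
  haveI : IrreducibleSpace ↥(π.fiber y) := by rw [hπ]; infer_instance
  let ζF := genericPoint ↥(π.fiber y)
  have hζ : π (π.fiberι y ζF) = y := by
    have : π.fiberι y ζF ∈ Set.range (π.fiberι y) := ⟨ζF, rfl⟩
    rw [Scheme.Hom.range_fiberι] at this
    exact this
  have hsp : ∀ w, π w = y → π.fiberι y ζF ⤳ w := by
    intro w hw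
    have hmem : w ∈ Set.range (π.fiberι y) := by
      rw [Scheme.Hom.range_fiberι]; exact hw
    obtain ⟨w₀, rfl⟩ := hmem
    exact (genericPoint_specializes w₀).map (π.fiberι y).continuous
  refine ⟨π.fiberι y ζF, hζ, ?_, hsp⟩
  -- the dimension of the fibre is attained
  have hle0 : tdR π (π.fiberι y ζF) ≤ d := tdR_affineSpace_le Y d _
  apply le_antisymm hle0
  by_contra hlt
  rw [not_le] at hlt
  have hle : topologicalKrullDim ↥(π.fiber y) ≤ ((tdR π (π.fiberι y ζF) : ℕ) : WithBot ℕ∞) := by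
    rw [dim_fiber_le_iff]
    intro w hw
    have := tdR_le_of_specializes π (hsp w hw) (hζ.trans hw.symm)
    exact_mod_cast this
  rw [dim_fiber_affineSpace] at hle
  have : d ≤ tdR π (π.fiberι y ζF) := by exact_mod_cast hle
  omega

end AffineSpace

/-- **Mechanism, affine case.** -/
theorem exists_open_lift_affine {X Y : Scheme.{u}} [IsAffine X] [IsAffine Y] (f : X ⟶ Y) [Flat f]
    [LocallyOfFinitePresentation f] (x : X)
    (d : ℕ) (hd : tdR f x = d)
    (hdim : topologicalKrullDim ↥(f.fiber (f x)) = d) :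
    ∃ Ω : X.Opens, x ∈ Ω ∧ ∀ z ∈ Ω, ∃ x'' : X, x'' ⤳ z ∧ f x'' = f z ∧ d ≤ tdR f x'' := by
  obtain ⟨g, hg, hfin⟩ := Groth.Agent.S3394.result f (f x) ⟨x, rfl⟩ d hdim
  obtain ⟨-, U', hU', hqf⟩ := Groth.Agent.S3395.result f (f x) ⟨x, rfl⟩ d hdim g hg hfin
  subst hg
  set π := 𝔸(ULift.{u} (Fin d); Y) ↘ Y with hπ
  haveI : LocallyOfFiniteType g := locallyOfFiniteType_of_comp g π
  have hx' : x ∈ U' := hU' rfl
  have h0 : trdegAt g x = 0 := by
    have := trdegAt_eq_zero_of_locallyQuasiFinite (U'.ι ≫ g) ⟨x, hx'⟩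
    rwa [trdegAt_of_isOpenImmersion_left U'.ι g ⟨x, hx'⟩] at this
  have hπgx : tdR π (g x) = d := by
    apply tdR_eq_of_trdegAt_eq
    have := trdegAt_comp g π x
    rw [h0, add_zero, trdegAt_eq_tdR, hd] at this
    exact this.symm
  obtain ⟨hiff, hopen⟩ := Groth.Agent.S1386.result g π
  have hxflat : (π.stalkMap (g x)).hom.Flat ∧ (g.stalkMap x).hom.Flat := by
    rw [← hiff x]
    refine ⟨Flat.stalkMap (g ≫ π) x, ?_⟩
    apply ringHom_flat_of_isField
    set w₀ := (MoreMor.fiberMap g π (π (g x))) ((g ≫ π).asFiber x) with hw₀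
    have h1 : π.fiberι (π (g x)) w₀ = g x := by
      have hfm : MoreMor.fiberMap g π (π (g x)) ≫ π.fiberι (π (g x)) =
          (g ≫ π).fiberι (π (g x)) ≫ g := pullback.lift_fst _ _ _
      have h2 := congrArg (fun k : (g ≫ π).fiber (π (g x)) ⟶ 𝔸(ULift.{u} (Fin d); Y) =>
        k ((g ≫ π).asFiber x)) hfm
      have h3 : (g ≫ π).fiberι (π (g x)) ((g ≫ π).asFiber x) = x :=
        Scheme.Hom.fiberι_asFiber (g ≫ π) x
      change π.fiberι (π (g x)) w₀ = g ((g ≫ π).fiberι (π (g x)) ((g ≫ π).asFiber x)) at h2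
      rw [h3] at h2
      exact h2
    have h2 : w₀ = genericPoint ↥(π.fiber (π (g x))) := by
      have hsp : genericPoint ↥(π.fiber (π (g x))) ⤳ w₀ := genericPoint_specializes w₀
      have hsp' := hsp.map (π.fiberι (π (g x))).continuous
      rw [h1] at hsp'
      have hfib : π (π.fiberι (π (g x)) (genericPoint ↥(π.fiber (π (g x))))) = π (g x) := by
        have : π.fiberι (π (g x)) (genericPoint ↥(π.fiber (π (g x)))) ∈
            Set.range (π.fiberι (π (g x))) := ⟨_, rfl⟩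
        rw [Scheme.Hom.range_fiberι] at this
        exact this
      have heq : π.fiberι (π (g x)) (genericPoint ↥(π.fiber (π (g x)))) = g x := by
        by_contra hne
        have h4 := tdR_lt_of_specializes π hsp' hne hfib
        have h5 : tdR π (π.fiberι (π (g x)) (genericPoint ↥(π.fiber (π (g x))))) ≤ d :=
          tdR_affineSpace_le Y d _
        rw [hπgx] at h4
        omega
      apply (π.fiberι (π (g x))).isEmbedding.injective
      rw [h1, heq]
    rw [h2]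
    exact Field.toIsField (π.fiber (π (g x))).functionField
  let Ω₀ : X.Opens := ⟨{z | (π.stalkMap (g z)).hom.Flat ∧ (g.stalkMap z).hom.Flat}, hopen⟩
  refine ⟨Ω₀, hxflat, ?_⟩
  intro z hz
  haveI : Flat (Ω₀.ι ≫ g) := by
    apply Flat.of_stalkMap
    intro z'
    rw [Scheme.Hom.stalkMap_comp]
    exact RingHom.Flat.comp (z'.2 : _).2
      (RingHom.Flat.of_bijective (ConcreteCategory.bijective_of_isIso (Ω₀.ι.stalkMap z')))
  obtain ⟨ζ', hζ'π, hζ'd, hζ'sp⟩ := exists_generic_fibre_affineSpace Y d (π (g z))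
  have hgen := Flat.generalizingMap (Ω₀.ι ≫ g)
  obtain ⟨w, hw, hwζ⟩ := hgen (a := ⟨z, hz⟩) (b := ζ') (hζ'sp (g z) rfl)
  have hwζ' : g (Ω₀.ι w) = ζ' := hwζ
  refine ⟨Ω₀.ι w, hw.map Ω₀.ι.continuous, ?_, ?_⟩
  · change π (g (Ω₀.ι w)) = π (g z)
    rw [hwζ', hζ'π]
  · have h1 := trdegAt_comp g π (Ω₀.ι w)
    rw [hwζ', trdegAt_eq_tdR π ζ', hζ'd, trdegAt_eq_tdR] at h1
    have h2 : (d : Cardinal) ≤ (tdR (g ≫ π) (Ω₀.ι w) : Cardinal) := by
      rw [h1]; exact le_self_add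
    exact_mod_cast h2

/-- **Mechanism.** Around a maximal point `x` of a fibre of a flat morphism locally of finite
presentation there is an open neighbourhood `Ω` all of whose points `z` have a generization in their
fibre with residue transcendence degree at least that of `x`. -/
theorem exists_open_lift {X S : Scheme.{u}} (f : X ⟶ S) [Flat f] [LocallyOfFinitePresentation f]
    (x : X) (hmax : ∀ z : X, z ⤳ x → f z = f x → z = x) :
    ∃ Ω : X.Opens, x ∈ Ω ∧
      ∀ z ∈ Ω, ∃ x'' : X, x'' ⤳ z ∧ f x'' = f z ∧ tdR f x ≤ tdR f x'' := by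
  set d := tdR f x with hd
  have hfd : FlatMor.fibreDimAt f x ≤ d := by
    rw [fibreDimAt_le_iff]
    intro ξ hξ hfξ
    rw [hmax ξ hξ hfξ]
  have hO := Groth.Agent.S0402.result f d
  obtain ⟨_, ⟨(V : S.Opens), hV, rfl⟩, hfxV, -⟩ :=
    S.isBasis_affineOpens.exists_subset_of_mem_open (Set.mem_univ (f x)) isOpen_univ
  let O : X.Opens := ⟨{z | FlatMor.fibreDimAt f z ≤ d}, hO⟩
  obtain ⟨_, ⟨(X₀ : X.Opens), hX₀, rfl⟩, hxX₀, hX₀le⟩ :=
    X.isBasis_affineOpens.exists_subset_of_mem_open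
      (show x ∈ ((O ⊓ f ⁻¹ᵁ V : X.Opens) : Set X) from ⟨hfd, hfxV⟩) (O ⊓ f ⁻¹ᵁ V).isOpen
  have hle : X₀ ≤ f ⁻¹ᵁ V := fun z hz => (hX₀le hz).2
  have hleO : ∀ z ∈ X₀, FlatMor.fibreDimAt f z ≤ d := fun z hz => (hX₀le hz).1
  haveI : IsAffine ↑X₀ := hX₀
  haveI : IsAffine ↑V := hV
  let f₀ : (X₀ : Scheme) ⟶ V := f.resLE V X₀ hle
  have hf₀ : f₀ ≫ V.ι = X₀.ι ≫ f := Scheme.Hom.resLE_comp_ι f hle
  let x₀ : ↥(X₀ : Scheme) := ⟨x, hxX₀⟩
  have hpt : ∀ z : ↥(X₀ : Scheme), V.ι (f₀ z) = f (X₀.ι z) := fun z =>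
    congrArg (fun k : (X₀ : Scheme) ⟶ S => k z) hf₀
  have htr : ∀ z : ↥(X₀ : Scheme), tdR f₀ z = tdR f (X₀.ι z) := by
    intro z
    apply tdR_eq_of_trdegAt_eq
    rw [← trdegAt_of_isOpenImmersion_right f₀ V.ι z, trdegAt_congr hf₀,
      trdegAt_of_isOpenImmersion_left, trdegAt_eq_tdR]
  have hdim : topologicalKrullDim ↥(f₀.fiber (f₀ x₀)) = d := by
    apply le_antisymm
    · rw [dim_fiber_le_iff]
      intro z _
      rw [htr]
      exact (tdR_le_fibreDimAt f (X₀.ι z)).trans (hleO _ z.2)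
    · have := tdR_le_dim_fiber f₀ x₀
      rwa [htr] at this
  obtain ⟨Ω₁, hxΩ₁, hΩ₁⟩ := exists_open_lift_affine f₀ x₀ d (htr x₀) hdim
  refine ⟨X₀.ι ''ᵁ Ω₁, ⟨x₀, hxΩ₁, rfl⟩, ?_⟩
  rintro _ ⟨z₁, hz₁, rfl⟩
  obtain ⟨x₁, hx₁sp, hx₁f, hx₁d⟩ := hΩ₁ z₁ hz₁
  refine ⟨X₀.ι x₁, hx₁sp.map X₀.ι.continuous, ?_, ?_⟩
  · show f (X₀.ι x₁) = f (X₀.ι z₁)
    rw [← hpt, ← hpt, hx₁f]
  · rw [← htr]; exact hx₁d

/-- every point of the closure of a retrocompact open has a generization in it. -/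
theorem exists_specializes_of_retrocompact {S : Scheme.{u}} (U : S.Opens) (hU : Dense (U : Set S))
    (hr : IsRetrocompact (U : Set S)) (s : S) : ∃ s' ∈ U, s' ⤳ s := by
  obtain ⟨_, ⟨(W : S.Opens), hW, rfl⟩, hsW, -⟩ :=
    S.isBasis_affineOpens.exists_subset_of_mem_open (Set.mem_univ s) isOpen_univ
  have hW' : IsAffineOpen W := hW
  have hK : IsCompact ((U ⊓ W : S.Opens) : Set S) := hr hW'.isCompact W.isOpen
  have hscl : s ∈ closure ((U ⊓ W : S.Opens) : Set S) := by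
    rw [mem_closure_iff]
    intro N hN hsN
    obtain ⟨t, ⟨htN, htW⟩, htU⟩ := hU.inter_open_nonempty (N ∩ W) (hN.inter W.isOpen) ⟨s, hsN, hsW⟩
    exact ⟨t, htN, htU, htW⟩
  obtain ⟨R, p, hp⟩ := AlgebraicGeometry.isCompact_iff_exists.mp hK
  have hpW : Set.range p ⊆ Set.range hW'.fromSpec := by
    rw [hp, hW'.range_fromSpec]
    exact fun t ht => ht.2
  let q : Spec R ⟶ Spec Γ(S, W) := IsOpenImmersion.lift hW'.fromSpec p hpW
  have hq : q ≫ hW'.fromSpec = p := IsOpenImmersion.lift_fac _ _ _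
  obtain ⟨φ, hφ⟩ : ∃ φ : Γ(S, W) ⟶ R, Spec.map φ = q := ⟨Spec.preimage q, Spec.map_preimage q⟩
  let 𝔭 : Spec Γ(S, W) := hW'.primeIdealOf ⟨s, hsW⟩
  have h𝔭 : hW'.fromSpec 𝔭 = s := hW'.fromSpec_primeIdealOf ⟨s, hsW⟩
  have hcl : 𝔭 ∈ closure (Set.range q) := by
    rw [hW'.fromSpec.isOpenEmbedding.isInducing.closure_eq_preimage_closure_image]
    show hW'.fromSpec 𝔭 ∈ closure (hW'.fromSpec '' Set.range q)
    rw [h𝔭, ← Set.range_comp]
    have : (hW'.fromSpec ∘ q : _ → S) = p := by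
      rw [← hq]; rfl
    rw [this, hp]
    exact hscl
  rw [← hφ] at hcl
  have hker : RingHom.ker φ.hom ≤ 𝔭.asIdeal := by
    have : 𝔭 ∈ closure (Set.range (PrimeSpectrum.comap φ.hom)) := hcl
    rw [PrimeSpectrum.closure_range_comap] at this
    exact this
  obtain ⟨𝔮, h𝔮min, h𝔮le⟩ := Ideal.exists_minimalPrimes_le hker
  obtain ⟨𝔯, h𝔯prime, -, h𝔯⟩ := Ideal.exists_comap_eq_of_mem_minimalPrimes φ.hom (I := ⊥) 𝔮
    (by rw [← RingHom.ker_eq_comap_bot]; exact h𝔮min)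
  have h𝔮prime : 𝔮.IsPrime := h𝔮min.1.1
  let r : Spec R := ⟨𝔯, h𝔯prime⟩
  let t : Spec Γ(S, W) := ⟨𝔮, h𝔮prime⟩
  have hrt : q r = t := by
    rw [← hφ]
    exact PrimeSpectrum.ext h𝔯
  refine ⟨hW'.fromSpec t, ?_, ?_⟩
  · have : hW'.fromSpec t ∈ Set.range p := by
      refine ⟨r, ?_⟩
      rw [← hq, ← hrt]; rfl
    rw [hp] at this
    exact this.1
  · rw [← h𝔭]
    exact ((PrimeSpectrum.le_iff_specializes t 𝔭).mp h𝔮le).map hW'.fromSpec.continuous

end Groth.Agent.Lib.Helper21.FlatFibreDim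

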