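import Groth.Agent.Lib.Helper21.FlatFibreDimField
import Mathlib

/-!
# Dimension of the components of the preimage of an irreducible closed set under a flat morphism
of relative dimension `n` (helper21)
-/

set_option linter.style.haveILetI false
universe u

open CategoryTheory CategoryTheory.Limits AlgebraicGeometry

namespace Groth.Agent.Lib.Helper21.FieldDim

open Groth.Agent.Lib.Helper73 Groth.Agent.Lib.Helper73.SchemeDim

variable {k : Type u} [Field k] {X' Y' : Scheme.{u}} (qY' : Y' ⟶ Spec (CommRingCat.of k))
  [LocallyOfFiniteType qY'] (f' : X' ⟶ Y') [Flat f'] [LocallyOfFiniteType f']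

include qY' in
theorem dim_irreducibleComponent_preimage_of_hasRelDim (n : ℕ) (hrel' : Cyc.HasRelDim f' n)
    (V : Set ↥Y') (hV : IsClosed V) (hVirr : IsIrreducible V) (T : Set ↥X')
    (hT : T = f'.base ⁻¹' V) (W : Set ↥T) (hW : W ∈ irreducibleComponents ↥T) :
    topologicalKrullDim ↥W = topologicalKrullDim ↥V + (n : WithBot ℕ∞) := by
  have hY'N : IsLocallyNoetherian Y' := LocallyOfFiniteType.isLocallyNoetherian qY'
  have hqX'lft : LocallyOfFiniteType (f' ≫ qY') := inferInstance
  have hX'N : IsLocallyNoetherian X' := LocallyOfFiniteType.isLocallyNoetherian (f' ≫ qY')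
  have hTcl : IsClosed T := by rw [hT]; exact hV.preimage f'.continuous
  obtain ⟨hWcl, hWirr, hWT, hWmax⟩ := image_irreducibleComponent_subtype T hTcl W hW
  rw [dim_subtype_image T W]
  have hw : IsGenericPoint hWirr.genericPoint (Subtype.val '' W) :=
    hWirr.isGenericPoint_genericPoint hWcl
  have hv : IsGenericPoint hVirr.genericPoint V := hVirr.isGenericPoint_genericPoint hV
  have hmemT : ∀ t : ↥X', t ∈ T ↔ f'.base t ∈ V := by
    intro t
    rw [hT]
    rfl
  have hwT : f'.base hWirr.genericPoint ∈ V := (hmemT _).mp (hWT hw.mem)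
  -- any generization of `w` inside `T` is `w`
  have hgen : ∀ t : ↥X', t ⤳ hWirr.genericPoint → f'.base t ∈ V → t = hWirr.genericPoint := by
    intro t ht htV
    have htT : t ∈ T := (hmemT t).mpr htV
    have hsub : closure {t} ⊆ T :=
      hTcl.closure_subset_iff.mpr (Set.singleton_subset_iff.mpr htT)
    have hWsub : Subtype.val '' W ⊆ closure {t} := by
      rw [← hw.def]
      exact isClosed_closure.closure_subset_iff.mpr
        (Set.singleton_subset_iff.mpr ht.mem_closure)
    have heq := hWmax (closure {t}) isIrreducible_singleton.closure hsub hWsub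
    have htW : t ∈ Subtype.val '' W := by
      rw [← heq]
      exact subset_closure rfl
    exact (ht.antisymm (hw.specializes htW)).eq
  have hfw : f'.base hWirr.genericPoint = hVirr.genericPoint := by
    have h1 : hVirr.genericPoint ⤳ f'.base hWirr.genericPoint := hv.specializes hwT
    obtain ⟨w₁, hw₁, hfw₁⟩ := (Flat.generalizingMap f') h1
    have : w₁ = hWirr.genericPoint := hgen w₁ hw₁ (by rw [hfw₁]; exact hv.mem)
    rw [← this, hfw₁]
  have hmaxw : ∀ t : ↥X', t ⤳ hWirr.genericPoint →
      f'.base t = f'.base hWirr.genericPoint → t = hWirr.genericPoint := by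
    intro t ht hft
    exact hgen t ht (by rw [hft]; exact hwT)
  have htr := (FlatRelDim.hasRelDim_iff f' n).mp hrel' _ hmaxw
  have htdR : tdR f' hWirr.genericPoint = n := tdR_eq_of_trdegAt_eq f' htr
  have htd := td_eq_add_tdR (f' ≫ qY') qY' f' rfl hWirr.genericPoint
  rw [dim_eq_td_of_isGenericPoint (f' ≫ qY') hw, dim_eq_td_of_isGenericPoint qY' hv, htd, htdR,
    hfw]
  push_cast
  rfl

end Groth.Agent.Lib.Helper21.FieldDim
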