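import Mathlib
import Groth.Agent.Lib.Helper21.FlatFibreDim
import Groth.Agent.Lib.Helper21.FibreTd
import Groth.Agent.Lib.Helper73.QFAt

/-!
# Quasi-finiteness of flat morphisms spreads from a dense open of the base (helper21)

For `f : X ⟶ S` flat and locally of finite presentation, the residue transcendence degree of a maximal
point `x` of a fibre is attained, near `x`, in all nearby fibres (`FlatFibreDim.exists_open_lift`).
Hence: if `f` is quasi-finite at all points lying over a dense open of `S`, it is locally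
quasi-finite; and the fibre dimension function is lower semicontinuous at maximal points of fibres.
-/

set_option linter.style.haveILetI false
set_option autoImplicit false
universe u

open CategoryTheory CategoryTheory.Limits AlgebraicGeometry TopologicalSpace

namespace Groth.Agent.Lib.Helper21.FlatQF

open Groth.Agent.Lib.Helper21 Groth.Agent.Lib.Helper21.FieldDim
  Groth.Agent.Lib.Helper21.FlatFibreDim

theorem localDim_nonneg {Y : Type*} [TopologicalSpace Y] (y : Y) : 0 ≤ FlatMor.localDim Y y := by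
  refine le_iInf fun W => ?_
  haveI : Nonempty ↥(W.1 : Set Y) := ⟨⟨y, W.2⟩⟩
  unfold topologicalKrullDim
  haveI : Nonempty (IrreducibleCloseds ↥(W.1 : Set Y)) :=
    ⟨⟨closure {Classical.arbitrary _}, isIrreducible_singleton.closure, isClosed_closure⟩⟩
  exact Order.krullDim_nonneg

variable {X S : Scheme.{u}} (f : X ⟶ S)

/-- quasi-finite at `x` iff all generizations of `x` in its fibre have residue transcendence degree
zero. -/
theorem quasiFiniteAt_iff_forall_tdR [LocallyOfFiniteType f] (x : X) :
    f.QuasiFiniteAt x ↔ ∀ ξ : X, ξ ⤳ x → f ξ = f x → tdR f ξ = 0 := by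
  rw [Groth.Agent.Lib.Helper73.QFAt.quasiFiniteAt_iff_fibreDimAt_eq_zero]
  constructor
  · intro h ξ hξ hfξ
    have h1 := (fibreDimAt_le_iff f x 0).mp h.le ξ hξ hfξ
    have h2 : (tdR f ξ : ℕ) ≤ 0 := by exact_mod_cast h1
    omega
  · intro h
    refine le_antisymm ?_ (localDim_nonneg _)
    rw [fibreDimAt_le_iff]
    intro ξ hξ hfξ
    rw [h ξ hξ hfξ]
    rfl

/-- a maximal point of a fibre of a flat l.f.p. morphism that is quasi-finite over a dense subset of
the base has residue transcendence degree zero. -/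
theorem tdR_eq_zero_of_dense [Flat f] [LocallyOfFinitePresentation f] (U : Set S)
    (hU : Dense U) (hqf : ∀ x : X, f x ∈ U → f.QuasiFiniteAt x) (x : X)
    (hmax : ∀ z : X, z ⤳ x → f z = f x → z = x) : tdR f x = 0 := by
  obtain ⟨Ω, hxΩ, hΩ⟩ := exists_open_lift f x hmax
  have hopen : IsOpen (f '' (Ω : Set X)) := f.isOpenMap _ Ω.isOpen
  obtain ⟨s, hsΩ, hsU⟩ := hU.inter_open_nonempty _ hopen ⟨f x, x, hxΩ, rfl⟩
  obtain ⟨z, hzΩ, rfl⟩ := hsΩ
  obtain ⟨x'', hx''z, hfx'', hle⟩ := hΩ z hzΩ
  have hq := hqf x'' (by rw [hfx'']; exact hsU)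
  have h0 := (quasiFiniteAt_iff_forall_tdR f x'').mp hq x'' specializes_rfl rfl
  omega

/-- **spreading quasi-finiteness**. -/
theorem locallyQuasiFinite_of_dense [Flat f] [LocallyOfFinitePresentation f] (U : Set S)
    (hU : Dense U) (hqf : ∀ x : X, f x ∈ U → f.QuasiFiniteAt x) : LocallyQuasiFinite f := by
  rw [← Scheme.Hom.quasiFiniteLocus_eq_top_iff]
  ext x
  simp only [TopologicalSpace.Opens.coe_top, Set.mem_univ, iff_true]
  show f.QuasiFiniteAt x
  rw [quasiFiniteAt_iff_forall_tdR]
  intro ξ hξ hfξ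
  obtain ⟨ξ'', hξ''ξ, hfξ'', hmax⟩ := exists_maximal_in_fibre f ξ
  have h1 := tdR_eq_zero_of_dense f U hU hqf ξ'' hmax
  have h2 := tdR_le_of_specializes f hξ''ξ hfξ''
  omega

end Groth.Agent.Lib.Helper21.FlatQF
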