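import Mathlib
import Groth.Agent.Lib.Helper21.FlatQF
import Groth.Agent.Lib.Helper73.FibreDimGen2
import Groth.Agent.Lib.Helper29.TopDimZero

/-!
# The zero-dimensional fibre locus of a proper flat morphism (helper21)

For `f` proper, flat and locally of finite presentation the set of points of the base with
zero-dimensional (nonempty) fibre is open and closed, and `f` is finite over it.
-/

set_option linter.style.haveILetI false
set_option autoImplicit false
universe u

open CategoryTheory CategoryTheory.Limits AlgebraicGeometry TopologicalSpace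

namespace Groth.Agent.Lib.Helper21.FlatQF

open Groth.Agent.Lib.Helper21 Groth.Agent.Lib.Helper21.FieldDim
  Groth.Agent.Lib.Helper21.FlatFibreDim

variable {X S : Scheme.{u}} (f : X ⟶ S)

theorem not_quasiFiniteAt_iff [LocallyOfFiniteType f] (x : X) :
    ¬ f.QuasiFiniteAt x ↔ (1 : WithBot ℕ∞) ≤ FlatMor.fibreDimAt f x := by
  rw [Groth.Agent.Lib.Helper73.QFAt.quasiFiniteAt_iff_fibreDimAt_eq_zero]
  have h0 : 0 ≤ FlatMor.fibreDimAt f x := localDim_nonneg _
  constructor
  · intro h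
    by_contra h1
    exact h (le_antisymm
      (Groth.Agent.Lib.Helper29.withBot_enat_le_zero_of_lt_one _ (not_le.mp h1)) h0)
  · intro h h1
    rw [h1] at h
    exact absurd h (by decide)

/-- the fibre over `y` is zero-dimensional iff it is nonempty and `f` is quasi-finite at all its
points. -/
theorem dim_preimage_eq_zero_iff [LocallyOfFiniteType f] (y : S) :
    topologicalKrullDim ↥(f.base ⁻¹' {y}) = 0 ↔
      (∃ x, f x = y) ∧ ∀ x, f x = y → f.QuasiFiniteAt x := by
  have e : topologicalKrullDim ↥(f.base ⁻¹' {y}) = topologicalKrullDim ↥(f.fiber y) :=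
    ((f.fiberHomeo y).isHomeomorph.topologicalKrullDim_eq _).symm
  rw [e]
  have h0 := Groth.Agent.Lib.Helper73.SchemeDim.natCast_le_topologicalKrullDim_fiber_iff f y 0
  have h1 := Groth.Agent.Lib.Helper73.SchemeDim.natCast_le_topologicalKrullDim_fiber_iff f y 1
  simp only [Nat.cast_zero, Nat.cast_one] at h0 h1
  constructor
  · intro h
    refine ⟨?_, ?_⟩
    · obtain ⟨x, hx, -⟩ := h0.mp h.ge
      exact ⟨x, hx⟩
    · intro x hx
      by_contra hq
      have h2 := h1.mpr ⟨x, hx, (not_quasiFiniteAt_iff f x).mp hq⟩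
      rw [h] at h2
      exact absurd h2 (by decide)
  · rintro ⟨⟨x, hx⟩, hall⟩
    apply le_antisymm
    · apply Groth.Agent.Lib.Helper29.withBot_enat_le_zero_of_lt_one
      rw [lt_iff_not_ge]
      intro h2
      obtain ⟨x', hx', h3⟩ := h1.mp h2
      exact (not_quasiFiniteAt_iff f x').mpr h3 (hall x' hx')
    · exact h0.mpr ⟨x, hx, localDim_nonneg _⟩

/-- the image of the non-quasi-finite locus of a flat l.f.p. morphism is open. -/
theorem isOpen_image_not_quasiFiniteAt [Flat f] [LocallyOfFinitePresentation f] :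
    IsOpen (f '' {x : X | ¬ f.QuasiFiniteAt x}) := by
  rw [isOpen_iff_forall_mem_open]
  rintro _ ⟨x, hx, rfl⟩
  have hx' : ¬ ∀ ξ : X, ξ ⤳ x → f ξ = f x → tdR f ξ = 0 := by
    rwa [← quasiFiniteAt_iff_forall_tdR]
  push Not at hx'
  obtain ⟨ξ, hξx, hfξ, hξ0⟩ := hx'
  obtain ⟨ξ'', hξ''ξ, hfξ'', hmax⟩ := exists_maximal_in_fibre f ξ
  have h2 := tdR_le_of_specializes f hξ''ξ hfξ''
  obtain ⟨Ω, hξ''Ω, hΩ⟩ := exists_open_lift f ξ'' hmax
  refine ⟨f '' (Ω : Set X), ?_, f.isOpenMap _ Ω.isOpen, ⟨ξ'', hξ''Ω, hfξ''.trans hfξ⟩⟩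
  rintro _ ⟨z, hzΩ, rfl⟩
  obtain ⟨x'', hx''z, hfx'', hle⟩ := hΩ z hzΩ
  refine ⟨x'', ?_, hfx''⟩
  intro hq
  have h0 := (quasiFiniteAt_iff_forall_tdR f x'').mp hq x'' specializes_rfl rfl
  omega

/-- **the zero-dimensional fibre locus is clopen**, for `f` proper flat l.f.p. -/
theorem isClopen_dim_zero [IsProper f] [Flat f] [LocallyOfFinitePresentation f] :
    IsClopen {y : S | topologicalKrullDim ↥(f.base ⁻¹' {y}) = 0} := by
  have hset : {y : S | topologicalKrullDim ↥(f.base ⁻¹' {y}) = 0} =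
      Set.range f ∩ (f '' {x : X | ¬ f.QuasiFiniteAt x})ᶜ := by
    ext y
    show topologicalKrullDim ↥(f.base ⁻¹' {y}) = 0 ↔ _
    rw [dim_preimage_eq_zero_iff]
    constructor
    · rintro ⟨⟨x, hx⟩, hall⟩
      refine ⟨⟨x, hx⟩, ?_⟩
      rintro ⟨x', hx', hfx'⟩
      exact hx' (hall x' hfx')
    · rintro ⟨⟨x, hx⟩, hA⟩
      refine ⟨⟨x, hx⟩, ?_⟩
      intro x' hx'
      by_contra hq
      exact hA ⟨x', hq, hx'⟩
  rw [hset]
  have hclosedA : IsClosed {x : X | ¬ f.QuasiFiniteAt x} := by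
    have : {x : X | ¬ f.QuasiFiniteAt x} = ({x : X | f.QuasiFiniteAt x})ᶜ := rfl
    rw [this]
    exact f.isOpen_quasiFiniteAt.isClosed_compl
  have h1 : IsClopen (Set.range f) :=
    ⟨f.isClosedMap.isClosed_range, f.isOpenMap.isOpen_range⟩
  have h2 : IsClopen (f '' {x : X | ¬ f.QuasiFiniteAt x}) :=
    ⟨f.isClosedMap _ hclosedA, isOpen_image_not_quasiFiniteAt f⟩
  exact h1.inter h2.compl

end Groth.Agent.Lib.Helper21.FlatQF
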