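import Groth.Agent.Lib.Helper21.SepFibreIrr
import Groth.Agent.Lib.Helper21.FieldTower

/-!
# Images of irreducible components under `X_K ⟶ X` (helper21)
-/

universe u

open CategoryTheory CategoryTheory.Limits AlgebraicGeometry

namespace Groth.Agent.Lib.Helper21

section

variable {k : Type u} [Field k] {X : Scheme.{u}} (f : X ⟶ Spec (CommRingCat.of k))

/-- Algebraic case: the image of an irreducible component of `X_K` is an irreducible component. -/
theorem image_mem_irreducibleComponents_of_isAlgebraic (K : Type u) [Field K] [Algebra k K]
    [Algebra.IsAlgebraic k K]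
    (T : Set ↥(pullback f (Spec.map (CommRingCat.ofHom (algebraMap k K)))))
    (hT : T ∈ irreducibleComponents ↥(pullback f (Spec.map (CommRingCat.ofHom (algebraMap k K))))) :
    (bcπ' f K) '' T ∈ irreducibleComponents X := by
  have hTcl : IsClosed T := isClosed_of_mem_irreducibleComponents T hT
  have hζ : IsGenericPoint hT.1.genericPoint T := hT.1.isGenericPoint_genericPoint hTcl
  have hZ : irreducibleComponent (bcπ' f K hT.1.genericPoint) ∈ irreducibleComponents X :=
    irreducibleComponent_mem_irreducibleComponents _
  have hπ := map_genericPoint_irreducibleComponent f K T hT _ hZ mem_irreducibleComponent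
  have hZcl := isClosed_of_mem_irreducibleComponents _ hZ
  have hξ := hZ.1.isGenericPoint_genericPoint hZcl
  have h1 : (bcπ' f K) '' T = closure ((bcπ' f K) '' {hT.1.genericPoint}) := by
    rw [(isClosedMap_bcπ_of_isAlgebraic f K).closure_image_eq_of_continuous (bcπ' f K).continuous,
      hζ.def]
  rw [h1, Set.image_singleton, hπ, hξ.def]
  exact hZ

/-- Primary case: if `k'` is separably closed in `K`, the image of an irreducible component under a
base change of `Spec K ⟶ Spec k'` is an irreducible component. -/
theorem image_mem_irreducibleComponents_of_isPullback {k' K : Type u} [Field k'] [Field K]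
    [Algebra k' K] (hsep : separableClosure k' K = ⊥) {Y' Y : Scheme.{u}}
    {q : Y' ⟶ Y} {s' : Y' ⟶ Spec (CommRingCat.of K)} {s : Y ⟶ Spec (CommRingCat.of k')}
    (hpb : IsPullback q s' s (Spec.map (CommRingCat.ofHom (algebraMap k' K))))
    (T : Set Y') (hT : T ∈ irreducibleComponents Y') :
    q '' T ∈ irreducibleComponents Y := by
  have hgi := geometricallyIrreducible_SpecMap_of_separableClosure_eq_bot k' K hsep
  have hq : GeometricallyIrreducible q :=
    MorphismProperty.of_isPullback (P := @GeometricallyIrreducible) hpb.flip hgi
  have hqo : UniversallyOpen q :=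
    MorphismProperty.of_isPullback (P := @UniversallyOpen) hpb.flip inferInstance
  exact image_mem_irreducibleComponents_of_isPreirreducible_fiber q q.continuous q.isOpenMap
    (fun x => (q.isIrreducible_preimage q.isOpenMap isIrreducible_singleton).isPreirreducible)
    q.surjective hT

/-- The image of an irreducible component of `X_K` is an irreducible component of `X`. -/
theorem image_mem_irreducibleComponents (K : Type u) [Field K] [Algebra k K]
    (T : Set ↥(pullback f (Spec.map (CommRingCat.ofHom (algebraMap k K)))))
    (hT : T ∈ irreducibleComponents ↥(pullback f (Spec.map (CommRingCat.ofHom (algebraMap k K))))) :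
    (bcπ' f K) '' T ∈ irreducibleComponents X := by
  obtain ⟨q, hpb, hq⟩ := exists_tower_map f (separableClosure k K) K
  have h1 := image_mem_irreducibleComponents_of_isPullback
    (separableClosure.separableClosure_eq_bot k K) hpb T hT
  have h2 := image_mem_irreducibleComponents_of_isAlgebraic f (separableClosure k K) _ h1
  have h3 : (bcπ' f K) '' T = (bcπ' f (separableClosure k K)) '' (q '' T) := by
    rw [← Set.image_comp, ← hq]
    rfl
  rw [h3]
  exact h2

/-- Every irreducible component of `X` is the image of an irreducible component of `X_K`. -/
theorem exists_image_eq_irreducibleComponent (K : Type u) [Field K] [Algebra k K]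
    (Z : Set X) (hZ : Z ∈ irreducibleComponents X) :
    ∃ T ∈ irreducibleComponents ↥(pullback f (Spec.map (CommRingCat.ofHom (algebraMap k K)))),
      (bcπ' f K) '' T = Z := by
  have hZcl := isClosed_of_mem_irreducibleComponents _ hZ
  have hξ := hZ.1.isGenericPoint_genericPoint hZcl
  obtain ⟨z', hz'⟩ := surjective_bcπ f K hZ.1.genericPoint
  refine ⟨irreducibleComponent z', irreducibleComponent_mem_irreducibleComponents z', ?_⟩
  have hcomp := image_mem_irreducibleComponents f K (irreducibleComponent z')
    (irreducibleComponent_mem_irreducibleComponents z')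
  have hcl := isClosed_of_mem_irreducibleComponents _ hcomp
  have hmem : hZ.1.genericPoint ∈ (bcπ' f K) '' (irreducibleComponent z') :=
    ⟨z', mem_irreducibleComponent, hz'⟩
  have hsub : Z ⊆ (bcπ' f K) '' (irreducibleComponent z') := by
    rw [← hξ.def]
    exact closure_minimal (Set.singleton_subset_iff.2 hmem) hcl
  exact Set.Subset.antisymm (hZ.2 hcomp.1 hsub) hsub

end

end Groth.Agent.Lib.Helper21
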