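import Groth.Agent.Lib.Helper21.PrimaryGeom

/-!
# Base change from a separably closed field (helper21)

Over a separably closed field `k`, `Spec K ⟶ Spec k` is geometrically irreducible for every field
extension `K/k`; hence `X_K ⟶ X` is geometrically irreducible, geometrically connected, open and
surjective for every `k`-scheme `X`.
-/

universe u

open CategoryTheory CategoryTheory.Limits AlgebraicGeometry

namespace Groth.Agent.Lib.Helper21

theorem separableClosure_eq_bot_of_isSepClosed (k K : Type*) [Field k] [Field K] [Algebra k K]
    [IsSepClosed k] : separableClosure k K = ⊥ := by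
  have hsurj := IsSepClosed.algebraMap_surjective k (separableClosure k K)
  rw [eq_bot_iff]
  intro a ha
  obtain ⟨c, hc⟩ := hsurj ⟨a, ha⟩
  exact IntermediateField.mem_bot.2 ⟨c, congrArg Subtype.val hc⟩

variable {k : Type u} [Field k] [IsSepClosed k] {X : Scheme.{u}} (f : X ⟶ Spec (CommRingCat.of k))
  (K : Type u) [Field K] [Algebra k K]

set_option backward.isDefEq.respectTransparency.types false in
theorem geometricallyIrreducible_bcπ_of_isSepClosed :
    GeometricallyIrreducible (pullback.fst f (Spec.map (CommRingCat.ofHom (algebraMap k K)))) :=
  MorphismProperty.pullback_fst (P := @GeometricallyIrreducible) _ _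
    (geometricallyIrreducible_SpecMap_of_separableClosure_eq_bot k K
      (separableClosure_eq_bot_of_isSepClosed k K))

set_option backward.isDefEq.respectTransparency.types false in
theorem geometricallyConnected_bcπ_of_isSepClosed :
    GeometricallyConnected (pullback.fst f (Spec.map (CommRingCat.ofHom (algebraMap k K)))) :=
  MorphismProperty.pullback_fst (P := @GeometricallyConnected) _ _
    (geometricallyConnected_SpecMap_of_separableClosure_eq_bot k K
      (separableClosure_eq_bot_of_isSepClosed k K))

end Groth.Agent.Lib.Helper21
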