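import Groth.Agent.Lib.Helper21.SepFibreIrr
import Groth.Agent.Lib.Helper21.GenericFibre
import Groth.Agent.Lib.Helper21.FieldBC

/-!
# Preimages of irreducible components, rational points (helper21)
-/

universe u

open CategoryTheory CategoryTheory.Limits AlgebraicGeometry

namespace Groth.Agent.Lib.Helper21

section

variable {k : Type u} [Field k] {X : Scheme.{u}} (f : X ⟶ Spec (CommRingCat.of k))

/-- The inverse image of an irreducible component `T` of `X` in `X_K` is the union of the
irreducible components of `X_K` contained in it. -/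
theorem preimage_irreducibleComponent_eq_sUnion (K : Type u) [Field K] [Algebra k K]
    (T : Set X) (hT : T ∈ irreducibleComponents X) :
    (bcπ' f K) ⁻¹' T = ⋃₀ {Z : Set ↥(pullback f (Spec.map (CommRingCat.ofHom (algebraMap k K)))) |
      Z ∈ irreducibleComponents ↥(pullback f (Spec.map (CommRingCat.ofHom (algebraMap k K)))) ∧
        Z ⊆ (bcπ' f K) ⁻¹' T} := by
  apply Set.Subset.antisymm
  · intro z hz
    have hTcl := isClosed_of_mem_irreducibleComponents _ hT
    have hξ := hT.1.isGenericPoint_genericPoint hTcl
    have hspec : hT.1.genericPoint ⤳ bcπ' f K z := hξ.specializes hz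
    have hflat : Flat (bcπ' f K) := inferInstance
    obtain ⟨z', hz', hπz'⟩ := Flat.generalizingMap (bcπ' f K) hspec
    have hZ := irreducibleComponent_mem_irreducibleComponents z'
    have hZcl := isClosed_of_mem_irreducibleComponents _ hZ
    refine ⟨irreducibleComponent z', ⟨hZ, ?_⟩, ?_⟩
    · -- the component lies over `T`
      have hζ := hZ.1.isGenericPoint_genericPoint hZcl
      have hT₂ : irreducibleComponent (bcπ' f K hZ.1.genericPoint) ∈ irreducibleComponents X :=
        irreducibleComponent_mem_irreducibleComponents _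
      have hT₂cl := isClosed_of_mem_irreducibleComponents _ hT₂
      have hπζ := map_genericPoint_irreducibleComponent f K _ hZ _ hT₂ mem_irreducibleComponent
      have hξ₂ := hT₂.1.isGenericPoint_genericPoint hT₂cl
      have h1 : hZ.1.genericPoint ⤳ z' := hζ.specializes mem_irreducibleComponent
      have h2 : bcπ' f K hZ.1.genericPoint ⤳ hT.1.genericPoint := by
        rw [← hπz']
        exact h1.map (bcπ' f K).continuous
      have h3 : hT.1.genericPoint ∈ irreducibleComponent (bcπ' f K hZ.1.genericPoint) := by
        rw [← hξ₂.def, ← hπζ]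
        exact h2.mem_closure
      have h4 : T ⊆ irreducibleComponent (bcπ' f K hZ.1.genericPoint) := by
        rw [← hξ.def]
        exact closure_minimal (Set.singleton_subset_iff.2 h3) hT₂cl
      have h5 : irreducibleComponent (bcπ' f K hZ.1.genericPoint) ⊆ T := hT.2 hT₂.1 h4
      intro w hw
      apply h5
      rw [← hξ₂.def, ← hπζ]
      have hw' : w ∈ closure {hZ.1.genericPoint} := by rw [hζ.def]; exact hw
      exact ((specializes_iff_mem_closure.2 hw').map (bcπ' f K).continuous).mem_closure
    · exact hZcl.closure_subset_iff.2 (Set.singleton_subset_iff.2 mem_irreducibleComponent)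
        hz'.mem_closure
  · rintro z ⟨Z, ⟨-, hZT⟩, hzZ⟩
    exact hZT hzZ

/-- If the `k`-rational points of the irreducible `k`-scheme `X` are dense, then `X` is
geometrically irreducible. -/
theorem geometricallyIrreducible_of_dense_rational [IrreducibleSpace X]
    (hd : Dense {x : X | ∃ ρ : k →+* X.residueField x, Function.Surjective ρ ∧
      Spec.map (CommRingCat.ofHom ρ) = X.fromSpecResidueField x ≫ f}) :
    GeometricallyIrreducible f := by
  refine ⟨geometrically_iff_of_isClosedUnderIsomorphisms.mpr fun L _ x ↦ ?_⟩
  have hopen : IsOpenMap (pullback.fst f x) := (pullback.fst f x).isOpenMap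
  have hsurj : Function.Surjective (pullback.fst f x) := (pullback.fst f x).surjective
  -- fibres over rational points are subsingletons
  have hfib : ∀ r : X, (∃ ρ : k →+* X.residueField r, Function.Surjective ρ ∧
      Spec.map (CommRingCat.ofHom ρ) = X.fromSpecResidueField r ≫ f) →
      ((pullback.fst f x) ⁻¹' {r}).Subsingleton := by
    rintro r ⟨ρ, hρs, hρ⟩
    have hbij : Function.Bijective ρ := ⟨ρ.injective, hρs⟩
    have hiso : IsIso (CommRingCat.ofHom ρ) := by
      rw [ConcreteCategory.isIso_iff_bijective]
      exact hbij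
    have hiso' : IsIso (X.fromSpecResidueField r ≫ f) := by
      rw [← hρ]
      infer_instance
    have hsub : Subsingleton ↥(pullback (X.fromSpecResidueField r ≫ f) x) :=
      (pullback.snd (X.fromSpecResidueField r ≫ f) x).homeomorph.injective.subsingleton
    have hsub2 : Subsingleton ↥((pullback.fst f x).fiber r) :=
      (fiberFstIso f x r).hom.homeomorph.injective.subsingleton
    have hsub3 : Subsingleton ↥((pullback.fst f x) ⁻¹' {r}) :=
      ((pullback.fst f x).fiberHomeo r).symm.injective.subsingleton
    intro a ha b hb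
    exact congrArg Subtype.val (hsub3.elim ⟨a, ha⟩ ⟨b, hb⟩)
  have hne : Nonempty ↥(pullback f x) := by
    obtain ⟨x₀⟩ := (inferInstance : Nonempty X)
    obtain ⟨z, -⟩ := hsurj x₀
    exact ⟨z⟩
  refine { toNonempty := hne, isPreirreducible_univ := ?_ }
  rintro U V hU hV ⟨u, -, huU⟩ ⟨v, -, hvV⟩
  have hU' : IsOpen ((pullback.fst f x) '' U) := hopen U hU
  have hV' : IsOpen ((pullback.fst f x) '' V) := hopen V hV
  obtain ⟨w, hwU, hwV⟩ := nonempty_preirreducible_inter hU' hV' ⟨_, u, huU, rfl⟩ ⟨_, v, hvV, rfl⟩
  obtain ⟨r, hr, hrrat⟩ := hd.inter_open_nonempty _ (hU'.inter hV') ⟨w, hwU, hwV⟩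
  obtain ⟨a, haU, har⟩ := hr.1
  obtain ⟨b, hbV, hbr⟩ := hr.2
  have hab : a = b := hfib r hrrat har hbr
  exact ⟨a, trivial, haU, hab ▸ hbV⟩

end

end Groth.Agent.Lib.Helper21
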