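import Groth.Agent.Lib.Helper21.GalComponents
import Groth.Agent.Lib.Helper21.IrrCompPreimage
import Groth.Agent.Lib.Helper21.FiniteSepLevel

/-!
# Irreducible components of `X_K` over a component of `X`: finiteness and Galois orbits (helper21)
-/

universe u

open CategoryTheory CategoryTheory.Limits AlgebraicGeometry TensorProduct

namespace Groth.Agent.Lib.Helper21

section

variable {k : Type u} [Field k] {X : Scheme.{u}} (f : X ⟶ Spec (CommRingCat.of k))

/-- An affine chart of a scheme locally of finite type over `k` is of finite type. -/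
theorem finiteType_of_chart [LocallyOfFiniteType f] {A : Type u} [CommRing A] [Algebra k A]
    (j : Spec (CommRingCat.of A) ⟶ X) [IsOpenImmersion j]
    (hj : j ≫ f = Spec.map (CommRingCat.ofHom (algebraMap k A))) : Algebra.FiniteType k A := by
  have h1 : LocallyOfFiniteType (j ≫ f) := inferInstance
  rw [hj, HasRingHomProperty.Spec_iff (P := @LocallyOfFiniteType)] at h1
  exact RingHom.finiteType_algebraMap.1 h1

/-- For `X` locally of finite type over `k`, only finitely many irreducible components of `X_K`
map into a given irreducible component of `X`. -/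
theorem finite_irreducibleComponents_over [LocallyOfFiniteType f] (K : Type u) [Field K]
    [Algebra k K] (T : Set X) (hT : T ∈ irreducibleComponents X) :
    {T' : Set ↥(pullback f (Spec.map (CommRingCat.ofHom (algebraMap k K)))) |
      T' ∈ irreducibleComponents ↥(pullback f (Spec.map (CommRingCat.ofHom (algebraMap k K)))) ∧
        (bcπ' f K) '' T' ⊆ T}.Finite := by
  have hTcl := isClosed_of_mem_irreducibleComponents _ hT
  obtain ⟨A, _, _, j, hjo, hj, hξj⟩ := exists_affine_chart f hT.1.genericPoint
  have hft : Algebra.FiniteType k A := finiteType_of_chart f j hj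
  have hft' : Algebra.FiniteType K (K ⊗[k] A) := inferInstance
  have hN : IsNoetherianRing (K ⊗[k] A) := Algebra.FiniteType.isNoetherianRing K _
  have hN' : IsNoetherianRing (A ⊗[k] K) :=
    isNoetherianRing_of_ringEquiv _ (Algebra.TensorProduct.comm k K A).toRingEquiv
  have hNS : TopologicalSpace.NoetherianSpace (PrimeSpectrum (A ⊗[k] K)) := inferInstance
  have hfin : (irreducibleComponents (PrimeSpectrum (A ⊗[k] K))).Finite :=
    TopologicalSpace.NoetherianSpace.finite_irreducibleComponents
  have hcko := isOpenImmersion_chart f j hj K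
  have hemb : Topology.IsOpenEmbedding (chart f j hj K) := (chart f j hj K).isOpenEmbedding
  -- every component over `T` meets the chart
  have hmeet : ∀ T' : Set ↥(pullback f (Spec.map (CommRingCat.ofHom (algebraMap k K)))),
      T' ∈ irreducibleComponents ↥(pullback f (Spec.map (CommRingCat.ofHom (algebraMap k K)))) →
      (bcπ' f K) '' T' ⊆ T → (T' ∩ Set.range (chart f j hj K)).Nonempty := by
    intro T' hT' hsub
    have hT'cl := isClosed_of_mem_irreducibleComponents _ hT'
    have hζ := hT'.1.isGenericPoint_genericPoint hT'cl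
    have hmem : bcπ' f K hT'.1.genericPoint ∈ T := hsub ⟨_, hζ.mem, rfl⟩
    have hπ := map_genericPoint_irreducibleComponent f K T' hT' T hT hmem
    refine ⟨hT'.1.genericPoint, hζ.mem, ?_⟩
    rw [range_chart, Set.mem_preimage, hπ]
    exact hξj
  refine Set.Finite.of_finite_image (f := fun T' => (chart f j hj K) ⁻¹' T')
    (hfin.subset ?_) ?_
  · rintro _ ⟨T', ⟨hT', hsub⟩, rfl⟩
    exact preimage_mem_irreducibleComponents hT' hemb (hmeet T' hT' hsub)
  · rintro T' ⟨hT', hsub⟩ T'' ⟨hT'', hsub'⟩ heq
    simp only at heq
    have hne' : ((chart f j hj K) ⁻¹' T').Nonempty := by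
      obtain ⟨z, hz, s, rfl⟩ := hmeet T' hT' hsub
      exact ⟨s, hz⟩
    have hne'' : ((chart f j hj K) ⁻¹' T'').Nonempty := by
      obtain ⟨z, hz, s, rfl⟩ := hmeet T'' hT'' hsub'
      exact ⟨s, hz⟩
    have h1 := closure_image_preimage_of_isPreirreducible (chart f j hj K) hemb.isOpenMap T' hne'
      hT'.1.2 (isClosed_of_mem_irreducibleComponents _ hT')
    have h2 := closure_image_preimage_of_isPreirreducible (chart f j hj K) hemb.isOpenMap T'' hne''
      hT''.1.2 (isClosed_of_mem_irreducibleComponents _ hT'')
    rw [← h1, ← h2, heq]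

/-- A component of `X_K` mapping into the component `T` of `X` maps onto it (`K/k` algebraic). -/
theorem image_eq_of_image_subset (K : Type u) [Field K] [Algebra k K] [Algebra.IsAlgebraic k K]
    (T : Set X) (hT : T ∈ irreducibleComponents X)
    (T' : Set ↥(pullback f (Spec.map (CommRingCat.ofHom (algebraMap k K)))))
    (hT' : T' ∈ irreducibleComponents ↥(pullback f (Spec.map (CommRingCat.ofHom (algebraMap k K)))))
    (hsub : (bcπ' f K) '' T' ⊆ T) : (bcπ' f K) '' T' = T := by
  have h := image_mem_irreducibleComponents_of_isAlgebraic f K T' hT'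
  exact Set.Subset.antisymm hsub (h.2 hT.1 hsub)

end

end Groth.Agent.Lib.Helper21
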