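import Groth.Agent.Lib.Helper21.GalAct
import Groth.Agent.Lib.Helper21.ConnCompImage

/-!
# Quasi-compact opens of `X_K` are stabilised by an open subgroup of the Galois group (helper21)
-/

universe u

open CategoryTheory CategoryTheory.Limits AlgebraicGeometry

namespace Groth.Agent.Lib.Helper21

section

variable {k : Type u} [Field k] {X : Scheme.{u}} (f : X ⟶ Spec (CommRingCat.of k))
  (K : Type u) [Field K] [Algebra k K]

/-- An automorphism fixing `k'` commutes with the projection to `X_{k'}`. -/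
theorem galAct'_levelProj (k' : IntermediateField k K) (σ : K ≃ₐ[k] K)
    (hσ : ∀ a : K, a ∈ k' → σ a = a) :
    galAct' f K σ ≫ levelProj f K k' = levelProj f K k' := by
  apply pullback.hom_ext
  · rw [Category.assoc]
    change galAct' f K σ ≫ levelProj f K k' ≫ bcπ' f ↥k' = levelProj f K k' ≫ bcπ' f ↥k'
    rw [levelProj_fst, galAct'_fst]
  · rw [Category.assoc, levelProj_snd, galAct'_snd_assoc, ← Spec.map_comp,
      ← CommRingCat.ofHom_comp]
    congr 3
    ext a
    exact hσ a.1 a.2

theorem image_galAct'_preimage_levelProj (k' : IntermediateField k K) (σ : K ≃ₐ[k] K)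
    (hσ : ∀ a : K, a ∈ k' → σ a = a)
    (O' : Set ↥(pullback f (Spec.map (CommRingCat.ofHom (algebraMap k ↥k'))))) :
    galAct' f K σ '' ((levelProj f K k') ⁻¹' O') = (levelProj f K k') ⁻¹' O' := by
  have hσ' : ∀ a : K, a ∈ k' → σ⁻¹ a = a := by
    intro a ha
    have := hσ a ha
    calc σ⁻¹ a = σ⁻¹ (σ a) := by rw [this]
      _ = a := by rw [← AlgEquiv.mul_apply, inv_mul_cancel]; rfl
  have h1 : ∀ (τ : K ≃ₐ[k] K), (∀ a : K, a ∈ k' → τ a = a) → ∀ z,
      levelProj f K k' (galAct' f K τ z) = levelProj f K k' z := by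
    intro τ hτ z
    rw [← Scheme.Hom.comp_apply, galAct'_levelProj f K k' τ hτ]
  ext z
  constructor
  · rintro ⟨w, hw, rfl⟩
    rw [Set.mem_preimage, h1 σ hσ]
    exact hw
  · intro hz
    refine ⟨galAct' f K σ⁻¹ z, ?_, galAct'_apply_inv f K σ z⟩
    rw [Set.mem_preimage, h1 σ⁻¹ hσ']
    exact hz

/-- A quasi-compact open of `X_K` is stable under the automorphisms fixing a suitable finite
subextension. -/
theorem exists_finite_level_stabilising [Algebra.IsAlgebraic k K]
    (V : Set ↥(pullback f (Spec.map (CommRingCat.ofHom (algebraMap k K))))) (hV : IsOpen V)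
    (hVc : IsCompact V) :
    ∃ E : IntermediateField k K, FiniteDimensional k ↥E ∧
      ∀ σ : K ≃ₐ[k] K, (∀ a : K, a ∈ E → σ a = a) → galAct' f K σ '' V = V := by
  classical
  -- local finite-level description
  choose! kx hkx Ox hOx hmem hsub using fun y (hy : y ∈ V) => exists_level_open f K y V hV hy
  obtain ⟨t, htV, htfin, hcov⟩ := hVc.elim_finite_subcover_image
    (b := V) (c := fun y => (levelProj f K (kx y)) ⁻¹' (Ox y))
    (fun y hy => (hOx y hy).preimage (levelProj f K (kx y)).continuous)
    (fun y hy => Set.mem_biUnion hy (hmem y hy))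
  have hVeq : V = ⋃ y ∈ t, (levelProj f K (kx y)) ⁻¹' (Ox y) := by
    apply Set.Subset.antisymm hcov
    exact Set.iUnion₂_subset (fun y hy => hsub y (htV hy))
  have hfd : ∀ y ∈ t, FiniteDimensional k ↥(kx y) := fun y hy => hkx y (htV hy)
  let E : IntermediateField k K := ⨆ y : t, kx y.1
  have hE : FiniteDimensional k ↥E := by
    have : Finite ↥t := htfin.to_subtype
    have : ∀ y : t, FiniteDimensional k ↥(kx y.1) := fun y => hfd y.1 y.2
    exact IntermediateField.finiteDimensional_iSup_of_finite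
  refine ⟨E, hE, fun σ hσ => ?_⟩
  rw [hVeq, Set.image_iUnion₂]
  refine Set.iUnion₂_congr (fun y hy => ?_)
  apply image_galAct'_preimage_levelProj f K (kx y) σ
  intro a ha
  apply hσ a
  exact (le_iSup (fun y : t => kx y.1) ⟨y, hy⟩) ha

end

end Groth.Agent.Lib.Helper21
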