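import Mathlib

/-!
# A finite Galois extension splitting finitely many finite separable extensions (helper21)
-/

universe u

open Polynomial IntermediateField

namespace Groth.Agent.Lib.Helper21

instance isSeparable_normalClosure (k : Type u) [Field k] (E : Type u) [Field E] [Algebra k E]
    [Algebra.IsSeparable k E] (Ω : Type u) [Field Ω] [Algebra k Ω] :
    Algebra.IsSeparable k (normalClosure k E Ω) := by
  rw [normalClosure_def]
  have : ∀ f : E →ₐ[k] Ω, Algebra.IsSeparable k f.fieldRange := fun f =>
    AlgEquiv.Algebra.isSeparable (AlgEquiv.ofInjectiveField f)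
  exact IntermediateField.isSeparable_iSup k Ω

/-- Given finitely many finite separable extensions `E i` of `k`, there is a finite separable
(in fact Galois) extension `k''` of `k` in which all minimal polynomials of elements of the `E i`
split. -/
theorem exists_finite_separable_splitting (k : Type u) [Field k] {ι : Type*} [Finite ι]
    (E : ι → Type u) [∀ i, Field (E i)] [∀ i, Algebra k (E i)]
    [∀ i, FiniteDimensional k (E i)] [∀ i, Algebra.IsSeparable k (E i)] :
    ∃ (k'' : Type u) (_ : Field k'') (_ : Algebra k k''), FiniteDimensional k k'' ∧
      Algebra.IsSeparable k k'' ∧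
      ∀ (i : ι) (a : E i), ((minpoly k a).map (algebraMap k k'')).Splits := by
  let Ω := AlgebraicClosure k
  let K : IntermediateField k Ω := ⨆ i, normalClosure k (E i) Ω
  have hfd : FiniteDimensional k K := IntermediateField.finiteDimensional_iSup_of_finite
  have hsep : Algebra.IsSeparable k K := IntermediateField.isSeparable_iSup k Ω
  have hnorm : Normal k K := IntermediateField.normal_iSup k Ω _
  refine ⟨K, inferInstance, inferInstance, hfd, hsep, fun i a => ?_⟩
  have halg : Algebra.IsAlgebraic k (E i) := Algebra.IsAlgebraic.of_finite k (E i)
  let j : E i →ₐ[k] Ω := IsAlgClosed.lift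
  have hja : j a ∈ K := by
    have h1 : j.fieldRange ≤ normalClosure k (E i) Ω := j.fieldRange_le_normalClosure
    have h2 : normalClosure k (E i) Ω ≤ K := le_iSup (fun i => normalClosure k (E i) Ω) i
    exact h2 (h1 ⟨a, rfl⟩)
  have h3 : minpoly k a = minpoly k (⟨j a, hja⟩ : K) := by
    rw [IntermediateField.minpoly_eq]
    exact (minpoly.algHom_eq j j.injective a).symm
  rw [h3]
  exact Normal.splits hnorm _

end Groth.Agent.Lib.Helper21
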