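import Mathlib

/-!
# Irreducibility from the generic fibre along a generalizing (e.g. flat) morphism (helper21)
-/

universe u

open CategoryTheory CategoryTheory.Limits AlgebraicGeometry

namespace Groth.Agent.Lib.Helper21

/-- If `p` is generalizing, `ξ` is a generic point of the target and the fibre `p⁻¹ ξ` lies in the
closure of a point `ζ`, then the source is irreducible. -/
theorem irreducibleSpace_of_generalizingMap {Z X : Type*} [TopologicalSpace Z] [TopologicalSpace X]
    {p : Z → X} (hp : GeneralizingMap p) {ξ : X} (hξ : ∀ x, ξ ⤳ x) {ζ : Z}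
    (hζ : p ⁻¹' {ξ} ⊆ closure {ζ}) : IrreducibleSpace Z := by
  have hall : ∀ z, ζ ⤳ z := by
    intro z
    obtain ⟨z', hz', hpz'⟩ := hp (hξ (p z))
    have h1 : z' ∈ closure {ζ} := hζ hpz'
    exact (specializes_iff_mem_closure.2 h1).trans hz'
  have huniv : closure ({ζ} : Set Z) = Set.univ :=
    Set.eq_univ_of_forall fun z => specializes_iff_mem_closure.1 (hall z)
  have hirr : IsIrreducible (Set.univ : Set Z) := by
    rw [← huniv]
    exact isIrreducible_singleton.closure
  exact (irreducibleSpace_def Z).2 hirr

/-- If `p : Z ⟶ X` is flat, `X` is irreducible and the fibre over the generic point of `X` is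
irreducible, then `Z` is irreducible. -/
theorem irreducibleSpace_of_flat_of_irreducibleSpace_fiber {Z X : Scheme.{u}} (p : Z ⟶ X) [Flat p]
    [IrreducibleSpace X] [hfib : IrreducibleSpace ↥(p.fiber (genericPoint X))] :
    IrreducibleSpace Z := by
  refine irreducibleSpace_of_generalizingMap (p := p) (Flat.generalizingMap p)
    (ξ := genericPoint X) (fun x => genericPoint_specializes x)
    (ζ := p.fiberι (genericPoint X) (genericPoint ↥(p.fiber (genericPoint X)))) ?_
  intro z hz
  rw [← p.range_fiberι] at hz
  obtain ⟨w, rfl⟩ := hz
  exact specializes_iff_mem_closure.1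
    ((genericPoint_specializes w).map (p.fiberι (genericPoint X)).continuous)

end Groth.Agent.Lib.Helper21

namespace Groth.Agent.Lib.Helper21

open CategoryTheory CategoryTheory.Limits AlgebraicGeometry

/-- Base change form: if `f : X ⟶ C` is flat, `C'` is irreducible with a map `π : C' ⟶ C` and the
fibre of `f` over the image of the generic point of `C'` is geometrically irreducible, then
`X ×_C C'` is irreducible. -/
theorem irreducibleSpace_pullback_of_flat {X C C' : Scheme.{u}} (f : X ⟶ C) (π : C' ⟶ C) [Flat f]
    [IrreducibleSpace C']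
    [hgen : GeometricallyIrreducible (f.fiberToSpecResidueField (π (genericPoint C')))] :
    IrreducibleSpace ↥(pullback f π) := by
  have hflat : Flat (pullback.snd f π) := inferInstance
  let η' := genericPoint C'
  let φ := π.residueFieldMap η'
  have hfac : Spec.map φ ≫ C.fromSpecResidueField (π η') = C'.fromSpecResidueField η' ≫ π :=
    Scheme.Hom.SpecMap_residueFieldMap_fromSpecResidueField π η'
  have h1 : IrreducibleSpace ↥(pullback (f.fiberToSpecResidueField (π η')) (Spec.map φ)) :=
    inferInstance
  let e1 : pullback (f.fiberToSpecResidueField (π η')) (Spec.map φ) ≅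
      pullback f (Spec.map φ ≫ C.fromSpecResidueField (π η')) :=
    pullbackLeftPullbackSndIso f (C.fromSpecResidueField (π η')) (Spec.map φ)
  let e2 : pullback f (Spec.map φ ≫ C.fromSpecResidueField (π η')) ≅
      pullback f (C'.fromSpecResidueField η' ≫ π) :=
    pullback.congrHom rfl hfac
  let e3 : (pullback.snd f π).fiber η' ≅ pullback f (C'.fromSpecResidueField η' ≫ π) :=
    pullbackLeftPullbackSndIso f π (C'.fromSpecResidueField η')
  have h2 : IrreducibleSpace ↥((pullback.snd f π).fiber (genericPoint C')) :=
    ((e1 ≪≫ e2 ≪≫ e3.symm).hom.homeomorph.irreducibleSpace_iff).1 h1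
  exact irreducibleSpace_of_flat_of_irreducibleSpace_fiber (pullback.snd f π)

end Groth.Agent.Lib.Helper21
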