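import Groth.Agent.Lib.Helper21.GenericSpread
import Mathlib

/-!
# Spreading out irreducible components of the generic fibre (helper21)

* `exists_open_forall_tdR_lt`: (upper bound spreading) for a closed `B ⊆ X` whose points over a maximal
  point `η` all have `tdR < d`, the same holds over an open neighbourhood of `η`.
* `exists_open_forall_exists_good`: for a maximal point `ξ` of the fibre over `η` and finitely many
  closed sets not containing `ξ`, over an open neighbourhood of `η` every fibre contains a point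
  `t ∈ closure {ξ}` outside these closed sets with `d ≤ tdR f t` and `fibreDimAt f t ≤ d`,
  `d = tdR f ξ`.
-/

set_option linter.style.haveILetI false
universe u

open CategoryTheory CategoryTheory.Limits AlgebraicGeometry TopologicalSpace Topology

namespace Groth.Agent.Lib.Helper21.GenericSpread

open Groth.Agent.Lib.Helper21.FieldDim Groth.Agent.Lib.Helper21.IrrFibres

variable {X Y : Scheme.{u}} (f : X ⟶ Y) [LocallyOfFiniteType f] [QuasiCompact f]

theorem exists_open_forall_tdR_lt {η : Y} (hη : ∀ z : Y, z ⤳ η → η ⤳ z) {B : Set X}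
    (hB : IsClosed B) (d : ℕ) (h : ∀ b ∈ B, f b = η → tdR f b < d) :
    ∃ V : Set Y, IsOpen V ∧ η ∈ V ∧ ∀ b ∈ B, f b ∈ V → tdR f b < d := by
  rcases Nat.eq_zero_or_pos d with hd | hd
  · subst hd
    have hηB : η ∉ closure (f '' B) := by
      intro hcl
      obtain ⟨b, hbB, hb⟩ := exists_mem_of_maximal_of_mem_closure_image f hB hη hcl
      exact absurd (h b hbB hb) (Nat.not_lt_zero _)
    refine ⟨(closure (f '' B))ᶜ, isClosed_closure.isOpen_compl, hηB, ?_⟩
    intro b hbB hbV
    exact absurd (subset_closure (Set.mem_image_of_mem f hbB)) hbV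
  · obtain ⟨e, rfl⟩ : ∃ e, d = e + 1 := ⟨d - 1, by omega⟩
    let Zc : Closeds X := ⟨B, hB⟩
    let I := Scheme.IdealSheafData.vanishingIdeal Zc
    let ι : I.subscheme ⟶ X := I.subschemeι
    have hrange : Set.range ι = B := RedSubscheme.range_subschemeι_vanishingIdeal Zc
    let g : I.subscheme ⟶ Y := ι ≫ f
    have htd : ∀ z, tdR g z = tdR f (ι z) := fun z => tdR_closedImmersion_comp f ι z
    have hWo : IsOpen {z : I.subscheme | FlatMor.fibreDimAt g z ≤ (e : WithBot ℕ∞)} :=
      Groth.Agent.S0402.result g e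
    set C : Set I.subscheme := {z : I.subscheme | FlatMor.fibreDimAt g z ≤ (e : WithBot ℕ∞)}ᶜ
      with hC
    have hCc : IsClosed C := hWo.isClosed_compl
    have hηC : η ∉ closure (g '' C) := by
      intro hcl
      obtain ⟨z, hzC, hz⟩ := exists_mem_of_maximal_of_mem_closure_image g hCc hη hcl
      apply hzC
      change FlatMor.fibreDimAt g z ≤ (e : WithBot ℕ∞)
      rw [fibreDimAt_le_iff]
      intro z' _ hz'
      have hb : ι z' ∈ B := by rw [← hrange]; exact ⟨z', rfl⟩
      have h1 : f (ι z') = η := by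
        change g z' = η
        rw [hz', hz]
      have := h (ι z') hb h1
      rw [htd]
      have h2 : tdR f (ι z') ≤ e := by omega
      exact_mod_cast h2
    refine ⟨(closure (g '' C))ᶜ, isClosed_closure.isOpen_compl, hηC, ?_⟩
    intro b hbB hbV
    obtain ⟨z, rfl⟩ : b ∈ Set.range ι := by rw [hrange]; exact hbB
    have hzC : z ∉ C := fun hzC => hbV (subset_closure ⟨z, hzC, rfl⟩)
    have hzU : FlatMor.fibreDimAt g z ≤ (e : WithBot ℕ∞) := by
      by_contra hcon
      exact hzC hcon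
    have h3 := (tdR_le_fibreDimAt g z).trans hzU
    rw [htd] at h3
    have h4 : tdR f (ι z) ≤ e := by exact_mod_cast h3
    omega

/-- spreading out a maximal point of the generic fibre. -/
theorem exists_open_forall_exists_good {η : Y} (hη : ∀ z : Y, z ⤳ η → η ⤳ z) (hηgen : ∀ y : Y, η ⤳ y)
    {ξ : X} (hξη : f ξ = η) (hξmax : ∀ ξ' : X, ξ' ⤳ ξ → f ξ' = η → ξ' = ξ)
    (D : Set X) (hD : IsClosed D) (hξD : ξ ∉ D) :
    ∃ V : Set Y, IsOpen V ∧ η ∈ V ∧ ∀ y ∈ V, ∃ t : X, f t = y ∧ ξ ⤳ t ∧ t ∉ D ∧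
      tdR f ξ ≤ tdR f t ∧ FlatMor.fibreDimAt f t ≤ ((tdR f ξ : ℕ) : WithBot ℕ∞) := by
  set d := tdR f ξ with hd
  have hUo : IsOpen {x : X | FlatMor.fibreDimAt f x ≤ (d : WithBot ℕ∞)} := Groth.Agent.S0402.result f d
  have hξU : FlatMor.fibreDimAt f ξ ≤ (d : WithBot ℕ∞) := by
    rw [fibreDimAt_le_iff]
    intro ξ' hsp hf
    rw [hξmax ξ' hsp (hf.trans hξη)]
  set B : Set X := closure {ξ} ∩ ({x : X | FlatMor.fibreDimAt f x ≤ (d : WithBot ℕ∞)}ᶜ ∪ D) with hB
  have hBc : IsClosed B := isClosed_closure.inter (hUo.isClosed_compl.union hD)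
  have hBlt : ∀ b ∈ B, f b = η → tdR f b < d := by
    intro b hb hbη
    have hsp : ξ ⤳ b := specializes_iff_mem_closure.mpr hb.1
    have hne : ξ ≠ b := by
      rintro rfl
      rcases hb.2 with h1 | h1
      · exact h1 hξU
      · exact hξD h1
    exact tdR_lt_of_specializes f hsp hne (hξη.trans hbη.symm)
  obtain ⟨V₁, hV₁o, hηV₁, hV₁⟩ := exists_open_forall_tdR_lt f hη hBc d hBlt
  obtain ⟨U₂, hU₂o, hU₂d, hU₂i⟩ := exists_open_subset_image_closure f ξ
  have hclη : closure ({f ξ} : Set Y) = Set.univ := by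
    rw [hξη]
    ext y
    simp only [Set.mem_univ, iff_true]
    exact (hηgen y).mem_closure
  rw [hclη, Set.inter_univ] at hU₂d hU₂i
  have hηU₂ : η ∈ U₂ := by
    have hne : U₂.Nonempty := by
      by_contra hne
      rw [Set.not_nonempty_iff_eq_empty] at hne
      rw [hne, closure_empty] at hU₂d
      exact hU₂d (Set.mem_univ η)
    obtain ⟨u, hu⟩ := hne
    exact (hηgen u).mem_open hU₂o hu
  refine ⟨V₁ ∩ U₂, hV₁o.inter hU₂o, ⟨hηV₁, hηU₂⟩, ?_⟩
  rintro y ⟨hy1, hy2⟩
  obtain ⟨x, hxcl, hx⟩ := hU₂i hy2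
  have hsp : ξ ⤳ x := specializes_iff_mem_closure.mpr hxcl
  obtain ⟨t, hξt, -, hft, hle⟩ := exists_between_tdR_le f hsp
  have hty : f t = y := hft.trans hx
  have htB : t ∉ B := by
    intro htB
    have := hV₁ t htB (by rw [hty]; exact hy1)
    omega
  refine ⟨t, hty, hξt, ?_, hle, ?_⟩
  · intro htD
    exact htB ⟨hξt.mem_closure, Or.inr htD⟩
  · by_contra hcon
    exact htB ⟨hξt.mem_closure, Or.inl hcon⟩

end Groth.Agent.Lib.Helper21.GenericSpread
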