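import Groth.Agent.Lib.Helper21.IrrFibres
import Groth.Agent.Lib.Helper21.RedSubscheme
import Groth.Agent.S9651
import Mathlib

/-!
# Spreading out from the generic fibre, arbitrary (non-Noetherian) base (helper21)

* `mem_range_of_maximal_of_mem_closure_range`: a quasi-compact morphism hits every maximal point in the
  closure of its range.
* `exists_mem_of_maximal_of_mem_closure_image`: same for the image of a closed subset.
* `exists_open_subset_image_closure`: for `f` locally of finite type and `ξ : X`, the image of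
  `closure {ξ}` contains a dense open subset of `closure {f ξ}`.
-/

set_option linter.style.haveILetI false
universe u

open CategoryTheory CategoryTheory.Limits AlgebraicGeometry TopologicalSpace Topology

namespace Groth.Agent.Lib.Helper21.GenericSpread

variable {X Y : Scheme.{u}} (f : X ⟶ Y)

/-- a quasi-compact morphism hits every maximal point lying in the closure of its range. -/
theorem mem_range_of_maximal_of_mem_closure_range [QuasiCompact f]
    {η : Y} (hη : ∀ z : Y, z ⤳ η → η ⤳ z) (hcl : η ∈ closure (Set.range f)) :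
    η ∈ Set.range f := by
  obtain ⟨_, ⟨W, hW, rfl⟩, hηW, -⟩ :=
    Y.isBasis_affineOpens.exists_subset_of_mem_open (Set.mem_univ η) isOpen_univ
  have hW' : IsAffineOpen W := hW
  have hVc : IsCompact ((f ⁻¹ᵁ W : X.Opens) : Set X) :=
    QuasiCompact.isCompact_preimage (f := f) _ W.2 hW'.isCompact
  obtain ⟨s, hs, hcov⟩ :=
    isCompact_and_isOpen_iff_finite_and_eq_biUnion_affineOpens.mp ⟨hVc, (f ⁻¹ᵁ W).2⟩
  -- some affine piece has `η` in the closure of its image
  have hex : ∃ V ∈ s, η ∈ closure (f '' (V : Set X)) := by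
    by_contra hne
    push Not at hne
    let O : Set Y := (W : Set Y) ∩ ⋂ V ∈ s, (closure (f '' ((V : X.affineOpens) : Set X)))ᶜ
    have hO : IsOpen O :=
      W.2.inter (hs.isOpen_biInter fun V _ => isClosed_closure.isOpen_compl)
    have hηO : η ∈ O := ⟨hηW, Set.mem_iInter₂.mpr fun V hV => hne V hV⟩
    obtain ⟨_, ⟨hyW, hyC⟩, x, rfl⟩ := mem_closure_iff.mp hcl O hO hηO
    have hx : x ∈ ((f ⁻¹ᵁ W : X.Opens) : Set X) := hyW
    rw [hcov] at hx
    obtain ⟨V, hV, hxV⟩ := Set.mem_iUnion₂.mp hx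
    exact (Set.mem_iInter₂.mp hyC V hV) (subset_closure ⟨x, hxV, rfl⟩)
  obtain ⟨V, hVs, hηV⟩ := hex
  have hV : IsAffineOpen (V : X.Opens) := V.2
  have e : (V : X.Opens) ≤ f ⁻¹ᵁ W := by
    intro x hx
    have : x ∈ ((f ⁻¹ᵁ W : X.Opens) : Set X) := by
      rw [hcov]; exact Set.mem_iUnion₂.mpr ⟨V, hVs, hx⟩
    exact this
  let φ := f.appLE W V e
  have sq : Spec.map φ ≫ hW'.fromSpec = hV.fromSpec ≫ f :=
    IsAffineOpen.SpecMap_appLE_fromSpec f hW' hV e
  have hηr : η ∈ Set.range hW'.fromSpec := by rw [hW'.range_fromSpec]; exact hηW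
  obtain ⟨ηR, rfl⟩ := hηr
  have hemb : IsOpenEmbedding hW'.fromSpec := hW'.fromSpec.isOpenEmbedding
  -- `ηR` is in the closure of the range of `Spec.map φ`
  have hηR : ηR ∈ closure (Set.range (Spec.map φ)) := by
    rw [hemb.isEmbedding.closure_eq_preimage_closure_image, Set.mem_preimage]
    have himg : hW'.fromSpec '' Set.range (Spec.map φ) = f '' (V : Set X) := by
      rw [← Set.range_comp]
      have : (hW'.fromSpec : _ → _) ∘ (Spec.map φ : _ → _) = (f : _ → _) ∘ (hV.fromSpec : _ → _) := by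
        funext z
        change (Spec.map φ ≫ hW'.fromSpec) z = (hV.fromSpec ≫ f) z
        rw [sq]
      rw [this, Set.range_comp, hV.range_fromSpec]
    rw [himg]
    exact hηV
  have hker : RingHom.ker φ.hom ≤ ηR.asIdeal := by
    have := PrimeSpectrum.closure_range_comap φ.hom
    have h2 : ηR ∈ PrimeSpectrum.zeroLocus (RingHom.ker φ.hom : Set _) := by
      rw [← this]; exact hηR
    exact (PrimeSpectrum.mem_zeroLocus _ _).mp h2
  have hmin : ηR.asIdeal ∈ ((⊥ : Ideal Γ(X, V)).comap φ.hom).minimalPrimes := by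
    refine ⟨⟨ηR.isPrime, hker⟩, ?_⟩
    rintro q ⟨hq, -⟩ hle
    have hsp : (⟨q, hq⟩ : PrimeSpectrum Γ(Y, W)) ⤳ ηR :=
      (PrimeSpectrum.le_iff_specializes _ _).mp hle
    have hsp' := hη _ (hsp.map hW'.fromSpec.continuous)
    have hsp'' : ηR ⤳ (⟨q, hq⟩ : PrimeSpectrum Γ(Y, W)) :=
      hemb.isEmbedding.toIsInducing.specializes_iff.mp hsp'
    exact (PrimeSpectrum.le_iff_specializes _ _).mpr hsp''
  obtain ⟨q', hq', -, hcomap⟩ := Ideal.exists_comap_eq_of_mem_minimalPrimes φ.hom _ hmin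
  refine ⟨hV.fromSpec ⟨q', hq'⟩, ?_⟩
  change (hV.fromSpec ≫ f) ⟨q', hq'⟩ = _
  rw [← sq]
  change hW'.fromSpec (Spec.map φ ⟨q', hq'⟩) = _
  congr 1
  exact PrimeSpectrum.ext hcomap

/-- a quasi-compact morphism: a maximal point in the closure of the image of a closed set is in the
image. -/
theorem exists_mem_of_maximal_of_mem_closure_image [QuasiCompact f] {C : Set X} (hC : IsClosed C)
    {η : Y} (hη : ∀ z : Y, z ⤳ η → η ⤳ z) (hcl : η ∈ closure (f '' C)) :
    ∃ x ∈ C, f x = η := by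
  let Zc : Closeds X := ⟨C, hC⟩
  let I := Scheme.IdealSheafData.vanishingIdeal Zc
  let ι : I.subscheme ⟶ X := I.subschemeι
  have hrange : Set.range ι = C := RedSubscheme.range_subschemeι_vanishingIdeal Zc
  have hr2 : Set.range (ι ≫ f) = f '' C := by
    rw [Scheme.Hom.comp_base, TopCat.coe_comp, Set.range_comp, hrange]
  have := mem_range_of_maximal_of_mem_closure_range (ι ≫ f) hη (by rw [hr2]; exact hcl)
  rw [hr2] at this
  exact this

/-- **Generic image**: for `f` locally of finite type, the image of `closure {ξ}` contains a dense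
open subset of `closure {f ξ}` (no Noetherian hypothesis). -/
theorem exists_open_subset_image_closure [LocallyOfFiniteType f] (ξ : X) :
    ∃ U : Set Y, IsOpen U ∧ closure {f ξ} ⊆ closure (U ∩ closure {f ξ}) ∧
      U ∩ closure {f ξ} ⊆ f '' closure {ξ} := by
  let Zc : Closeds X := ⟨closure {ξ}, isClosed_closure⟩
  let I := Scheme.IdealSheafData.vanishingIdeal Zc
  let ι : I.subscheme ⟶ X := I.subschemeι
  have hrange : Set.range ι = closure {ξ} := RedSubscheme.range_subschemeι_vanishingIdeal Zc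
  obtain ⟨z, hz⟩ : ξ ∈ Set.range ι := by rw [hrange]; exact subset_closure rfl
  obtain ⟨_, ⟨W, hW, rfl⟩, hηW, -⟩ :=
    Y.isBasis_affineOpens.exists_subset_of_mem_open (Set.mem_univ (f ξ)) isOpen_univ
  have hW' : IsAffineOpen W := hW
  let g : I.subscheme ⟶ Y := ι ≫ f
  have hgz : g z = f ξ := by
    change f (ι z) = f ξ
    rw [hz]
  have hzW : z ∈ ((g ⁻¹ᵁ W : I.subscheme.Opens) : Set I.subscheme) := by
    change g z ∈ W
    rw [hgz]; exact hηW
  obtain ⟨_, ⟨V, hV, rfl⟩, hzV, hVW⟩ :=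
    I.subscheme.isBasis_affineOpens.exists_subset_of_mem_open hzW (g ⁻¹ᵁ W).2
  have hV' : IsAffineOpen V := hV
  have e : V ≤ g ⁻¹ᵁ W := hVW
  let φ := g.appLE W V e
  have hft : φ.hom.FiniteType := LocallyOfFiniteType.finiteType_appLE g hW' hV' e
  letI : Algebra Γ(Y, W) Γ(I.subscheme, V) := φ.hom.toAlgebra
  haveI : Algebra.FiniteType Γ(Y, W) Γ(I.subscheme, V) := hft
  have sq : Spec.map φ ≫ hW'.fromSpec = hV'.fromSpec ≫ g :=
    IsAffineOpen.SpecMap_appLE_fromSpec g hW' hV' e
  have sq' : ∀ v, hW'.fromSpec (Spec.map φ v) = g (hV'.fromSpec v) := by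
    intro v
    change (Spec.map φ ≫ hW'.fromSpec) v = (hV'.fromSpec ≫ g) v
    rw [sq]
  obtain ⟨zR, hzR⟩ : z ∈ Set.range hV'.fromSpec := by rw [hV'.range_fromSpec]; exact hzV
  obtain ⟨UR, hUo, hUd, hUi⟩ := Groth.Agent.S9651.result (R := Γ(Y, W)) (S := Γ(I.subscheme, V))
    Set.univ Topology.IsConstructible.univ
    (PrimeSpectrum.comap (algebraMap Γ(Y, W) Γ(I.subscheme, V)) zR) ⟨zR, trivial, rfl⟩
  set ξR : PrimeSpectrum Γ(Y, W) := PrimeSpectrum.comap (algebraMap Γ(Y, W) Γ(I.subscheme, V)) zR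
    with hξR
  have hξR' : hW'.fromSpec ξR = f ξ := by
    have := sq' zR
    rw [hzR, hgz] at this
    exact this
  have hemb : IsOpenEmbedding hW'.fromSpec := hW'.fromSpec.isOpenEmbedding
  have hspec : ∀ u : PrimeSpectrum Γ(Y, W), u ∈ closure {ξR} ↔ hW'.fromSpec u ∈ closure {f ξ} := by
    intro u
    rw [← specializes_iff_mem_closure, ← specializes_iff_mem_closure, ← hξR']
    exact hemb.isEmbedding.toIsInducing.specializes_iff.symm
  refine ⟨hW'.fromSpec '' UR, hemb.isOpenMap _ hUo, ?_, ?_⟩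
  · refine closure_minimal (Set.singleton_subset_iff.mpr ?_) isClosed_closure
    have h1 : ξR ∈ closure (UR ∩ closure {ξR}) := hUd (subset_closure rfl)
    have h2 := image_closure_subset_closure_image hW'.fromSpec.continuous ⟨ξR, h1, rfl⟩
    rw [hξR'] at h2
    refine closure_mono ?_ h2
    rintro _ ⟨u, ⟨huU, huc⟩, rfl⟩
    exact ⟨⟨u, huU, rfl⟩, (hspec u).mp huc⟩
  · rintro _ ⟨⟨u, huU, rfl⟩, hy⟩
    have huc : u ∈ closure {ξR} := (hspec u).mpr hy
    obtain ⟨v, -, hv⟩ := hUi ⟨huU, huc⟩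
    refine ⟨ι (hV'.fromSpec v), ?_, ?_⟩
    · rw [← hrange]; exact ⟨_, rfl⟩
    · have := sq' v
      change f (ι (hV'.fromSpec v)) = _
      change _ = (ι ≫ f) (hV'.fromSpec v) at this
      rw [← hv]
      exact this.symm

end Groth.Agent.Lib.Helper21.GenericSpread
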