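import Groth.Agent.Lib.Helper21.AlgClosedGeom
import Groth.Agent.Lib.Helper21.ConnPreimage

/-!
# Geometric connectedness of subsets of a scheme over a field (helper21)

For `f : X ⟶ Spec k` and a field extension `K/k` write `π_K : X_K ⟶ X` for the projection
`pullback.fst f (Spec.map (k → K))`.

* `isClosedMap_bcπ_of_isAlgebraic`: `π_K` is a closed map for `K/k` algebraic.
* `isOpenMap_bcπ`: `π_K` is an open map.
* `isConnected_preimage_of_algebraicClosure`: if `π_{k̄}⁻¹ C` is connected for the algebraic closure
  `k̄`, then `π_K⁻¹ C` is connected for every `K`.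
* `isConnected_preimage_algebraicClosure`: criterion for `π_{k̄}⁻¹ C` connected.
-/

universe u

open CategoryTheory CategoryTheory.Limits AlgebraicGeometry

namespace Groth.Agent.Lib.Helper21

variable {k : Type u} [Field k] {X : Scheme.{u}} (f : X ⟶ Spec (CommRingCat.of k))

/-- the projection `X_K → X`. -/
noncomputable abbrev bcπ' (K : Type u) [Field K] [Algebra k K] :
    pullback f (Spec.map (CommRingCat.ofHom (algebraMap k K))) ⟶ X :=
  pullback.fst f (Spec.map (CommRingCat.ofHom (algebraMap k K)))

theorem isOpenMap_bcπ (K : Type u) [Field K] [Algebra k K] : IsOpenMap (bcπ' f K) := by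
  have : UniversallyOpen (bcπ' f K) := inferInstance
  exact Scheme.Hom.isOpenMap _

theorem surjective_bcπ (K : Type u) [Field K] [Algebra k K] : Function.Surjective (bcπ' f K) := by
  have : Surjective (bcπ' f K) := inferInstance
  exact Scheme.Hom.surjective _

theorem isClosedMap_bcπ_of_isAlgebraic (K : Type u) [Field K] [Algebra k K]
    [Algebra.IsAlgebraic k K] : IsClosedMap (bcπ' f K) := by
  have h1 : IsIntegralHom (Spec.map (CommRingCat.ofHom (algebraMap k K))) := by
    rw [IsIntegralHom.SpecMap_iff]
    have : Algebra.IsIntegral k K := Algebra.IsAlgebraic.isIntegral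
    exact algebraMap_isIntegral_iff.mpr this
  have h2 : IsIntegralHom (bcπ' f K) := inferInstance
  exact Scheme.Hom.isClosedMap _

/-- If the preimage of `C` in `X_{k̄}` is connected, then so is the preimage in `X_K` for every
field extension `K/k`. -/
theorem isConnected_preimage_of_algebraicClosure (C : Set X) (hCcl : IsClosed C)
    (hC : _root_.IsConnected ((bcπ' f (AlgebraicClosure k)) ⁻¹' C))
    (K : Type u) [Field K] [Algebra k K] :
    _root_.IsConnected ((bcπ' f K) ⁻¹' C) := by
  -- Ω = algebraic closure of K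
  let i : AlgebraicClosure k →ₐ[k] AlgebraicClosure K := IsAlgClosed.lift
  let j : K →+* AlgebraicClosure K := algebraMap K (AlgebraicClosure K)
  have hij : i.toRingHom.comp (algebraMap k (AlgebraicClosure k)) = j.comp (algebraMap k K) := by
    ext x
    simp only [RingHom.comp_apply]
    change i (algebraMap k _ x) = _
    rw [i.commutes]
    exact IsScalarTower.algebraMap_apply k K (AlgebraicClosure K) x
  obtain ⟨p, hp, hpπ⟩ := exists_compare' f i.toRingHom j hij
    (IsPullback.of_hasPullback f (Spec.map (CommRingCat.ofHom (algebraMap k K))))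
  have hgi : GeometricallyIrreducible (Spec.map (CommRingCat.ofHom i.toRingHom)) :=
    geometricallyIrreducible_SpecMap_of_isAlgClosed' i.toRingHom
  let q := pullback.fst (pullback.snd f (Spec.map (CommRingCat.ofHom (algebraMap k (AlgebraicClosure k)))))
        (Spec.map (CommRingCat.ofHom i.toRingHom))
  have hq : GeometricallyIrreducible q := geometricallyIrreducible_pullback_fst _ _ hgi
  have hqc : GeometricallyConnected q := geometricallyConnected_of_geometricallyIrreducible q
  have hqo : IsOpenMap q := by
    have : UniversallyOpen q := inferInstance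
    exact Scheme.Hom.isOpenMap _
  have h1 : _root_.IsConnected (q ⁻¹' ((bcπ' f (AlgebraicClosure k)) ⁻¹' C)) :=
    Scheme.Hom.isConnected_preimage q hqo hC (hCcl.preimage (bcπ' f (AlgebraicClosure k)).continuous)
  have hps : Surjective p := MorphismProperty.of_isPullback (P := @Surjective) hp.flip inferInstance
  have himg : (bcπ' f K) ⁻¹' C = p '' (q ⁻¹' ((bcπ' f (AlgebraicClosure k)) ⁻¹' C)) := by
    have hcomm : ∀ w, (bcπ' f K) (p w) = (bcπ' f (AlgebraicClosure k)) (q w) := by
      intro w
      have h3 : (p ≫ pullback.fst f (Spec.map (CommRingCat.ofHom (algebraMap k K)))) w =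
          (q ≫ pullback.fst f (Spec.map (CommRingCat.ofHom (algebraMap k (AlgebraicClosure k))))) w := by
        rw [hpπ]
      rw [Scheme.Hom.comp_apply, Scheme.Hom.comp_apply] at h3
      exact h3
    ext z
    constructor
    · intro hz
      obtain ⟨w, rfl⟩ := p.surjective z
      refine ⟨w, ?_, rfl⟩
      change (bcπ' f (AlgebraicClosure k)) (q w) ∈ C
      rw [← hcomm]
      exact hz
    · rintro ⟨w, hw, rfl⟩
      change (bcπ' f K) (p w) ∈ C
      rw [hcomm]
      exact hw
  rw [himg]
  exact h1.image _ p.continuous.continuousOn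

/-- Criterion for connectedness of the preimage in `X_{k̄}`. -/
theorem isConnected_preimage_algebraicClosure {C : Set X} (hC : _root_.IsPreconnected C)
    {T : Set ↥(pullback f (Spec.map (CommRingCat.ofHom (algebraMap k (AlgebraicClosure k)))))}
    (hT : _root_.IsPreconnected T) (hTC : T ⊆ (bcπ' f (AlgebraicClosure k)) ⁻¹' C) {w₀ : X} (hw₀ : w₀ ∈ C)
    (hfib : (bcπ' f (AlgebraicClosure k)) ⁻¹' {w₀} ⊆ T) :
    _root_.IsConnected ((bcπ' f (AlgebraicClosure k)) ⁻¹' C) := by
  refine ⟨?_, isPreconnected_preimage_of_isOpenMap_of_isClosedMap (isOpenMap_bcπ f _)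
    (isClosedMap_bcπ_of_isAlgebraic f _) hC hT hTC hw₀ hfib⟩
  obtain ⟨z, hz⟩ := surjective_bcπ f (AlgebraicClosure k) w₀
  exact ⟨z, by change (bcπ' f (AlgebraicClosure k)) z ∈ C; rw [hz]; exact hw₀⟩

/-- Combined statement. -/
theorem isConnected_preimage_of_fibre {C : Set X} (hC : _root_.IsPreconnected C) (hCcl : IsClosed C)
    {T : Set ↥(pullback f (Spec.map (CommRingCat.ofHom (algebraMap k (AlgebraicClosure k)))))}
    (hT : _root_.IsPreconnected T) (hTC : T ⊆ (bcπ' f (AlgebraicClosure k)) ⁻¹' C) {w₀ : X} (hw₀ : w₀ ∈ C)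
    (hfib : (bcπ' f (AlgebraicClosure k)) ⁻¹' {w₀} ⊆ T)
    (K : Type u) [Field K] [Algebra k K] :
    _root_.IsConnected ((bcπ' f K) ⁻¹' C) :=
  isConnected_preimage_of_algebraicClosure f C hCcl
    (isConnected_preimage_algebraicClosure f hC hT hTC hw₀ hfib) K

end Groth.Agent.Lib.Helper21
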