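import Groth.Agent.Lib.Helper21.GrpShear
import Groth.Agent.Lib.Helper21.FieldDimProd
import Mathlib

/-!
# Group schemes locally of finite type over a field are equidimensional (helper21)
-/

set_option linter.style.haveILetI false
universe u

open CategoryTheory CategoryTheory.Limits MonoidalCategory CartesianMonoidalCategory MonObj GrpObj
  AlgebraicGeometry

namespace Groth.Agent.Lib.Helper21.FieldDim

open Groth.Agent.Lib.Helper73 Groth.Agent.Lib.Helper73.SchemeDim

section Finite

/-- (after helper79 / helper23) an algebra of finite type over a Noetherian ring of finite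
dimension has finite dimension. -/
theorem ringKrullDim_lt_top_of_finiteType' (R A : Type u) [CommRing R] [IsNoetherianRing R]
    (hR : ringKrullDim R < ⊤) [CommRing A] [Algebra R A] [Algebra.FiniteType R A] :
    ringKrullDim A < ⊤ := by
  obtain ⟨n, f, hf⟩ := Algebra.FiniteType.iff_quotient_mvPolynomial''.mp
    (inferInstance : Algebra.FiniteType R A)
  have h1 := ringKrullDim_le_of_surjective f.toRingHom hf
  have h2 : ringKrullDim (MvPolynomial (Fin n) R) = ringKrullDim R + Nat.card (Fin n) :=
    MvPolynomial.ringKrullDim_of_isNoetherianRing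
  rw [h2] at h1
  refine lt_of_le_of_lt h1 ?_
  rcases hd : ringKrullDim R with _ | d
  · rw [WithBot.none_eq_bot, WithBot.bot_add]; exact bot_lt_top
  · rw [hd] at hR
    have hd' : d ≠ ⊤ := by rintro rfl; exact lt_irrefl _ hR
    lift d to ℕ using hd'
    have : ((d + Nat.card (Fin n) : ℕ) : WithBot ℕ∞) < ⊤ := compareOfLessAndEq_eq_lt.mp rfl
    exact_mod_cast this

variable {k : Type u} [Field k] {Z : Scheme.{u}} (h : Z ⟶ Spec (CommRingCat.of k))
  [LocallyOfFiniteType h]

include h in
theorem localDim_lt_top (z : Z) : FlatMor.localDim Z z < ⊤ := by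
  obtain ⟨_, ⟨V, hV : IsAffineOpen V, rfl⟩, hzV, -⟩ :=
    Z.isBasis_affineOpens.exists_subset_of_mem_open (Set.mem_univ z) isOpen_univ
  refine lt_of_le_of_lt (iInf_le _ (⟨V, hzV⟩ : {U : TopologicalSpace.Opens Z // z ∈ U})) ?_
  change topologicalKrullDim ↥V < ⊤
  have h1 : topologicalKrullDim ↥V = topologicalKrullDim ↥(Spec Γ(Z, V)) :=
    (Scheme.homeoOfIso hV.isoSpec).isHomeomorph.topologicalKrullDim_eq
  rw [h1]
  change topologicalKrullDim (PrimeSpectrum Γ(Z, V)) < ⊤
  rw [PrimeSpectrum.topologicalKrullDim_eq_ringKrullDim]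
  let e0 : Γ(Spec (CommRingCat.of k), ⊤) ≃+* k :=
    (Scheme.ΓSpecIso (CommRingCat.of k)).commRingCatIsoToRingEquiv
  have hN : IsNoetherianRing Γ(Spec (CommRingCat.of k), ⊤) :=
    isNoetherianRing_of_ringEquiv k e0.symm
  have h0 : ringKrullDim Γ(Spec (CommRingCat.of k), ⊤) < ⊤ := by
    rw [ringKrullDim_eq_of_ringEquiv e0, ringKrullDim_eq_zero_of_field]
    exact compareOfLessAndEq_eq_lt.mp rfl
  have e : V ≤ h ⁻¹ᵁ ⊤ := le_top
  let _ : Algebra Γ(Spec (CommRingCat.of k), ⊤) Γ(Z, V) := (h.appLE ⊤ V e).hom.toAlgebra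
  have : Algebra.FiniteType Γ(Spec (CommRingCat.of k), ⊤) Γ(Z, V) :=
    h.finiteType_appLE (isAffineOpen_top _) hV e
  exact ringKrullDim_lt_top_of_finiteType' Γ(Spec (CommRingCat.of k), ⊤) _ h0

theorem td_le_localDim (z : Z) : ((td h z : ℕ) : WithBot ℕ∞) ≤ FlatMor.localDim Z z :=
  (localDim_le_iff h z _).mp le_rfl z specializes_rfl

include h in
theorem exists_localDim_eq_nat (z : Z) : ∃ n : ℕ, FlatMor.localDim Z z = n := by
  have h1 := localDim_lt_top h z
  have h2 := td_le_localDim h z
  induction hd : FlatMor.localDim Z z with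
  | bot =>
    rw [hd] at h2
    exact absurd h2 (by simp)
  | coe d =>
    rw [hd] at h1
    have hd' : d ≠ ⊤ := by rintro rfl; exact lt_irrefl _ h1
    lift d to ℕ using hd'
    exact ⟨d, rfl⟩

include h in
theorem localDim_le_dim (z : Z) : FlatMor.localDim Z z ≤ topologicalKrullDim Z :=
  (localDim_le_iff h z _).mpr (fun ξ _ => td_le_dim h ξ)

theorem localDim_eq_td_of_maximal {ξ : Z} (hξ : ∀ t, t ⤳ ξ → ξ ⤳ t) :
    FlatMor.localDim Z ξ = td h ξ := by
  apply le_antisymm
  · rw [localDim_le_iff h]
    intro t ht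
    exact_mod_cast td_le_of_specializes h (hξ t ht)
  · exact td_le_localDim h ξ

include h in
/-- if the local dimension is constant then the scheme is equidimensional. -/
theorem equidim_of_localDim_const (D : WithBot ℕ∞) (hD : ∀ z : Z, FlatMor.localDim Z z = D)
    [Nonempty Z] :
    (∀ T ∈ irreducibleComponents ↥Z, topologicalKrullDim ↥T = topologicalKrullDim ↥Z) ∧
    (∀ z : Z, FlatMor.localDim ↥Z z = topologicalKrullDim ↥Z) := by
  have hdim : topologicalKrullDim Z = D := by
    apply le_antisymm
    · rw [dim_le_iff h]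
      intro x
      rw [← hD x]
      exact td_le_localDim h x
    · obtain ⟨z⟩ := ‹Nonempty Z›
      rw [← hD z]
      exact localDim_le_dim h z
  refine ⟨?_, fun z => (hD z).trans hdim.symm⟩
  intro T hT
  have hcl := isClosed_of_mem_irreducibleComponents T hT
  have hgen : IsGenericPoint hT.1.genericPoint T := hT.1.isGenericPoint_genericPoint hcl
  have hmax : ∀ t, t ⤳ hT.1.genericPoint → hT.1.genericPoint ⤳ t := by
    apply maximal_of_closure_singleton_mem_irreducibleComponents
    rw [hgen.def]
    exact hT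
  rw [dim_eq_td_of_isGenericPoint h hgen, ← localDim_eq_td_of_maximal h hmax, hD, hdim]

end Finite

section Group

variable {k : Type u} [Field k] (G : Over (Spec (CommRingCat.of k))) [GrpObj G]
  [LocallyOfFiniteType G.hom]

theorem add_left_cancel_nat {n : ℕ} {b c : WithBot ℕ∞} (h : (n : WithBot ℕ∞) + b = n + c) :
    b = c := by
  induction b with
  | bot =>
    induction c with
    | bot => rfl
    | coe c =>
      rw [WithBot.add_bot] at h
      exact absurd h.symm (by
        rw [← WithBot.coe_natCast, ← WithBot.coe_add]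
        exact WithBot.coe_ne_bot)
  | coe b =>
    induction c with
    | bot =>
      rw [WithBot.add_bot] at h
      exact absurd h (by
        rw [← WithBot.coe_natCast, ← WithBot.coe_add]
        exact WithBot.coe_ne_bot)
    | coe c =>
      rw [← WithBot.coe_natCast, ← WithBot.coe_add, ← WithBot.coe_add, WithBot.coe_inj] at h
      have hn : (n : ℕ∞) ≠ ⊤ := ENat.natCast_ne_top n
      rw [(ENat.add_right_injective_of_ne_top hn) h]

theorem localDim_grp_eq (a : G.left) :
    FlatMor.localDim G.left a =
      FlatMor.localDim G.left (η[G].left.base ((toUnit G).left.base a)) := by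
  let j : G ⟶ G ⊗ G := lift (𝟙 G) (toUnit G ≫ η[G])
  let z : ↑(pullback G.hom G.hom) := j.left.base a
  let σ := GrpShear.shear G
  let φ : (G ⊗ G).left ≅ (G ⊗ G).left := (Over.forget _).mapIso σ
  have h1 : FlatMor.localDim ↑(pullback G.hom G.hom) z =
      FlatMor.localDim ↑(pullback G.hom G.hom) (σ.hom.left.base z) :=
    localDim_eq_of_isHomeomorph (Scheme.homeoOfIso φ) (Scheme.homeoOfIso φ).isHomeomorph z
  have h2 := localDim_prod G.hom G.hom z
  have h3 := localDim_prod G.hom G.hom (σ.hom.left.base z)
  have e1 : (pullback.fst G.hom G.hom).base z = a := by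
    change (j ≫ fst G G).left.base a = a
    rw [lift_fst]
    rfl
  have e2 : (pullback.snd G.hom G.hom).base z = η[G].left.base ((toUnit G).left.base a) := by
    change (j ≫ snd G G).left.base a = _
    rw [lift_snd]
    rfl
  have e3 : (pullback.fst G.hom G.hom).base (σ.hom.left.base z) = a := by
    change (j ≫ σ.hom ≫ fst G G).left.base a = a
    rw [GrpShear.shear_hom_fst, lift_fst]
    rfl
  have e4 : (pullback.snd G.hom G.hom).base (σ.hom.left.base z) = a := by
    change (j ≫ σ.hom ≫ snd G G).left.base a = a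
    rw [GrpShear.shear_hom_snd, lift_comp_one_right]
    rfl
  rw [e1, e2] at h2
  rw [e3, e4] at h3
  obtain ⟨n, hn⟩ := exists_localDim_eq_nat G.hom a
  rw [h2, h3, hn] at h1
  rw [hn]
  exact (add_left_cancel_nat h1).symm

/-- **a group scheme locally of finite type over a field is equidimensional.** -/
theorem grp_equidim :
    (∀ T ∈ irreducibleComponents ↥G.left, topologicalKrullDim ↥T = topologicalKrullDim ↥G.left) ∧
    (∀ g : G.left, FlatMor.localDim ↥G.left g = topologicalKrullDim ↥G.left) := by
  have hne : Nonempty ↑(𝟙_ (Over (Spec (CommRingCat.of k)))).left := by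
    change Nonempty ↑(Spec (CommRingCat.of k))
    infer_instance
  obtain ⟨pt⟩ := hne
  have hsub : ∀ p q : ↑(𝟙_ (Over (Spec (CommRingCat.of k)))).left, p = q :=
    fun p q => Subsingleton.elim (α := PrimeSpectrum k) p q
  haveI : Nonempty ↥G.left := ⟨η[G].left.base pt⟩
  refine equidim_of_localDim_const G.hom (FlatMor.localDim G.left (η[G].left.base pt)) ?_
  intro a
  rw [localDim_grp_eq G a, hsub ((toUnit G).left.base a) pt]

end Group

end Groth.Agent.Lib.Helper21.FieldDim
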