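import Mathlib

/-!
# The shear isomorphism of a group object (helper21)
-/

universe u v

open CategoryTheory MonoidalCategory CartesianMonoidalCategory MonObj GrpObj

namespace Groth.Agent.Lib.Helper21.GrpShear

variable {C : Type u} [Category.{v} C] [CartesianMonoidalCategory C] (G : C) [GrpObj G]

/-- the shear map `(a, b) ↦ (a, a b)`. -/
def shear : G ⊗ G ≅ G ⊗ G where
  hom := lift (fst G G) (fst G G * snd G G)
  inv := lift (fst G G) ((fst G G)⁻¹ * snd G G)
  hom_inv_id := by
    apply CartesianMonoidalCategory.hom_ext
    · simp
    · simp only [Category.assoc, lift_snd, Category.id_comp]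
      rw [MonObj.comp_mul, GrpObj.comp_inv, lift_fst, lift_snd]
      group
  inv_hom_id := by
    apply CartesianMonoidalCategory.hom_ext
    · simp
    · simp only [Category.assoc, lift_snd, Category.id_comp]
      rw [MonObj.comp_mul, lift_fst, lift_snd]
      group

@[simp] theorem shear_hom_fst : (shear G).hom ≫ fst G G = fst G G := by simp [shear]

theorem shear_hom_snd : (shear G).hom ≫ snd G G = μ[G] := by
  simp only [shear, lift_snd]
  exact (MonObj.mul_eq_mul (M := G)).symm

end Groth.Agent.Lib.Helper21.GrpShear
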