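import Groth.Agent.Lib.Helper21.GrpdShear
import Groth.Agent.Lib.Helper21.GrpDim
import Mathlib

/-!
# Groupoid schemes on a field are equidimensional (helper21)
-/

set_option linter.style.haveILetI false
universe u

open CategoryTheory CategoryTheory.Limits AlgebraicGeometry

namespace Groth.Agent.Lib.Helper21.FieldDim

open Groth.Agent.Lib.Helper73 Groth.Agent.Lib.Helper73.SchemeDim

section Sq

variable {k : Type u} [Field k] {P X Y : Scheme.{u}} {f : X ⟶ Spec (CommRingCat.of k)}
  {g : Y ⟶ Spec (CommRingCat.of k)} [LocallyOfFiniteType f] [LocallyOfFiniteType g]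
  {p₁ : P ⟶ X} {p₂ : P ⟶ Y}

theorem localDim_prod_of_isPullback (sq : IsPullback p₁ p₂ f g) (z : P) :
    FlatMor.localDim P z = FlatMor.localDim X (p₁.base z) + FlatMor.localDim Y (p₂.base z) := by
  have h1 := localDim_eq_of_isHomeomorph (Scheme.homeoOfIso sq.isoPullback)
    (Scheme.homeoOfIso sq.isoPullback).isHomeomorph z
  rw [h1, localDim_prod]
  congr 2
  · change (sq.isoPullback.hom ≫ pullback.fst f g).base z = _
    rw [sq.isoPullback_hom_fst]
  · change (sq.isoPullback.hom ≫ pullback.snd f g).base z = _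
    rw [sq.isoPullback_hom_snd]

end Sq

section Groupoid

variable {S : Scheme.{u}} (G : Grpd.GroupoidScheme S) {k : Type u} [Field k]
  (eU : G.U ≅ Spec (CommRingCat.of k)) [LocallyOfFiniteType G.s] [LocallyOfFiniteType G.t]

include eU in
theorem localDim_grpd_eq (a : G.R) :
    FlatMor.localDim G.R a = FlatMor.localDim G.R (G.e.base (G.s.base a)) := by
  have sq1 : IsPullback (pullback.fst G.s G.t) (pullback.snd G.s G.t) (G.s ≫ eU.hom)
      (G.t ≫ eU.hom) := IsPullback.of_isLimit (pullbackIsPullbackOfCompMono G.s G.t eU.hom)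
  have sq2 : IsPullback (pullback.fst G.t G.t) (pullback.snd G.t G.t) (G.t ≫ eU.hom)
      (G.t ≫ eU.hom) := IsPullback.of_isLimit (pullbackIsPullbackOfCompMono G.t G.t eU.hom)
  let z : ↑(pullback G.s G.t) := (GrpdShear.unitSection G).base a
  let σ := GrpdShear.shear G
  have h1 : FlatMor.localDim ↑(pullback G.s G.t) z =
      FlatMor.localDim ↑(pullback G.t G.t) (σ.hom.base z) :=
    localDim_eq_of_isHomeomorph (Scheme.homeoOfIso σ) (Scheme.homeoOfIso σ).isHomeomorph z
  have h2 := localDim_prod_of_isPullback sq1 z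
  have h3 := localDim_prod_of_isPullback sq2 (σ.hom.base z)
  have e1 : (pullback.fst G.s G.t).base z = a := by
    change (GrpdShear.unitSection G ≫ pullback.fst G.s G.t).base a = a
    rw [GrpdShear.unitSection_fst]
    rfl
  have e2 : (pullback.snd G.s G.t).base z = G.e.base (G.s.base a) := by
    change (GrpdShear.unitSection G ≫ pullback.snd G.s G.t).base a = _
    rw [GrpdShear.unitSection_snd]
    rfl
  have e3 : (pullback.fst G.t G.t).base (σ.hom.base z) = a := by
    change (GrpdShear.unitSection G ≫ σ.hom ≫ pullback.fst G.t G.t).base a = a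
    rw [GrpdShear.shear_hom_fst, GrpdShear.unitSection_fst]
    rfl
  have e4 : (pullback.snd G.t G.t).base (σ.hom.base z) = a := by
    change (GrpdShear.unitSection G ≫ σ.hom ≫ pullback.snd G.t G.t).base a = a
    rw [GrpdShear.shear_hom_snd, GrpdShear.unitSection_c]
    rfl
  rw [e1, e2] at h2
  rw [e3, e4] at h3
  obtain ⟨n, hn⟩ := exists_localDim_eq_nat (G.s ≫ eU.hom) a
  rw [h2, h3, hn] at h1
  rw [hn]
  exact (add_left_cancel_nat h1).symm

include eU in
/-- **a groupoid scheme on the spectrum of a field, with `s`, `t` locally of finite type, is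
equidimensional.** -/
theorem grpd_equidim :
    (∀ T ∈ irreducibleComponents ↥G.R, topologicalKrullDim ↥T = topologicalKrullDim ↥G.R) ∧
    (∀ r : G.R, FlatMor.localDim ↥G.R r = topologicalKrullDim ↥G.R) := by
  have hne : Nonempty ↑(Spec (CommRingCat.of k)) := inferInstance
  obtain ⟨pt⟩ := hne
  let u₀ : G.U := eU.inv.base pt
  have hsub : ∀ p q : G.U, p = q := by
    intro p q
    have h1 : eU.hom.base p = eU.hom.base q := Subsingleton.elim (α := PrimeSpectrum k) _ _
    exact (Scheme.homeoOfIso eU).injective h1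
  haveI : Nonempty ↥G.R := ⟨G.e.base u₀⟩
  refine equidim_of_localDim_const (G.s ≫ eU.hom) (FlatMor.localDim G.R (G.e.base u₀)) ?_
  intro a
  rw [localDim_grpd_eq G eU a, hsub (G.s.base a) u₀]

end Groupoid

end Groth.Agent.Lib.Helper21.FieldDim
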