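import Groth.Prelude.Def_Grpd
import Mathlib

/-!
# The shear isomorphism of a groupoid scheme (helper21)

`(α, β) ↦ (α, α ∘ β) : R ×_{s,U,t} R ≅ R ×_{t,U,t} R`.
-/

universe u

open CategoryTheory CategoryTheory.Limits AlgebraicGeometry

namespace Groth.Agent.Lib.Helper21.GrpdShear

variable {S : Scheme.{u}} (G : Grpd.GroupoidScheme S)

/-- composition of `T`-points. -/
noncomputable def comp {T : Scheme.{u}} (α β : T ⟶ G.R) (h : α ≫ G.s = β ≫ G.t) : T ⟶ G.R :=
  pullback.lift α β h ≫ G.c

theorem comp_congr {T : Scheme.{u}} {α α' β β' : T ⟶ G.R} (hα : α = α') (hβ : β = β')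
    (h : α ≫ G.s = β ≫ G.t) (h' : α' ≫ G.s = β' ≫ G.t) : comp G α β h = comp G α' β' h' := by
  subst hα hβ
  rfl

theorem precomp {T T' : Scheme.{u}} (u : T' ⟶ T) (α β : T ⟶ G.R) (h : α ≫ G.s = β ≫ G.t) :
    u ≫ comp G α β h = comp G (u ≫ α) (u ≫ β) (by rw [Category.assoc, Category.assoc, h]) := by
  unfold comp
  rw [← Category.assoc]
  congr 1
  apply pullback.hom_ext
  · rw [Category.assoc, pullback.lift_fst, pullback.lift_fst]
  · rw [Category.assoc, pullback.lift_snd, pullback.lift_snd]

theorem c_eq : G.c = comp G (pullback.fst G.s G.t) (pullback.snd G.s G.t) pullback.condition := by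
  unfold comp
  have : pullback.lift (pullback.fst G.s G.t) (pullback.snd G.s G.t) pullback.condition = 𝟙 _ := by
    apply pullback.hom_ext <;> simp
  rw [this, Category.id_comp]

theorem comp_s {T : Scheme.{u}} (α β : T ⟶ G.R) (h : α ≫ G.s = β ≫ G.t) :
    comp G α β h ≫ G.s = β ≫ G.s := G.comp_s α β h

theorem comp_t {T : Scheme.{u}} (α β : T ⟶ G.R) (h : α ≫ G.s = β ≫ G.t) :
    comp G α β h ≫ G.t = α ≫ G.t := G.comp_t α β h

theorem comp_assoc {T : Scheme.{u}} (α β γ : T ⟶ G.R) (h₁ : α ≫ G.s = β ≫ G.t)
    (h₂ : β ≫ G.s = γ ≫ G.t) :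
    comp G (comp G α β h₁) γ ((comp_s G α β h₁).trans h₂) =
      comp G α (comp G β γ h₂) (h₁.trans (comp_t G β γ h₂).symm) := G.assoc α β γ h₁ h₂

/-- the shear map. -/
noncomputable def shearHom : pullback G.s G.t ⟶ pullback G.t G.t :=
  pullback.lift (pullback.fst G.s G.t) G.c (by
    rw [c_eq G, comp_t])

/-- the inverse shear map `(α, γ) ↦ (α, α⁻¹ ∘ γ)`. -/
noncomputable def shearInv : pullback G.t G.t ⟶ pullback G.s G.t :=
  pullback.lift (pullback.fst G.t G.t)
    (comp G (pullback.fst G.t G.t ≫ G.i) (pullback.snd G.t G.t) (by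
      rw [Category.assoc, G.i_s, pullback.condition]))
    (by rw [comp_t, Category.assoc, G.i_t])

theorem shearHom_shearInv : shearHom G ≫ shearInv G = 𝟙 _ := by
  apply pullback.hom_ext
  · simp only [shearHom, shearInv, Category.assoc, Category.id_comp]
    rw [pullback.lift_fst, pullback.lift_fst]
  · simp only [shearInv, shearHom, Category.assoc, pullback.lift_snd, Category.id_comp]
    rw [precomp]
    have e1 : pullback.lift (pullback.fst G.s G.t) G.c (by rw [c_eq G, comp_t]) ≫
        pullback.fst G.t G.t ≫ G.i = pullback.fst G.s G.t ≫ G.i := by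
      rw [← Category.assoc, pullback.lift_fst]
    have e2 : pullback.lift (pullback.fst G.s G.t) G.c (by rw [c_eq G, comp_t]) ≫
        pullback.snd G.t G.t =
        comp G (pullback.fst G.s G.t) (pullback.snd G.s G.t) pullback.condition := by
      rw [pullback.lift_snd]
      exact c_eq G
    rw [comp_congr G e1 e2 _ (by
      rw [Category.assoc, G.i_s, comp_t])]
    rw [← comp_assoc G (pullback.fst G.s G.t ≫ G.i) (pullback.fst G.s G.t) (pullback.snd G.s G.t)
      (by rw [Category.assoc, G.i_s]) pullback.condition]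
    have e3 : comp G (pullback.fst G.s G.t ≫ G.i) (pullback.fst G.s G.t)
        (by rw [Category.assoc, G.i_s]) = pullback.snd G.s G.t ≫ G.t ≫ G.e := by
      have := G.i_comp (pullback.fst G.s G.t)
      unfold comp
      rw [this, ← Category.assoc, pullback.condition, Category.assoc]
    rw [comp_congr G e3 rfl _ (by
      rw [Category.assoc, Category.assoc, G.e_s, Category.comp_id])]
    exact G.e_comp (pullback.snd G.s G.t)

theorem shearInv_shearHom : shearInv G ≫ shearHom G = 𝟙 _ := by
  apply pullback.hom_ext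
  · simp only [shearHom, shearInv, Category.assoc, Category.id_comp]
    rw [pullback.lift_fst, pullback.lift_fst]
  · simp only [shearInv, shearHom, Category.assoc, pullback.lift_snd, Category.id_comp]
    rw [c_eq G, precomp]
    have e1 : pullback.lift (pullback.fst G.t G.t)
        (comp G (pullback.fst G.t G.t ≫ G.i) (pullback.snd G.t G.t) (by
          rw [Category.assoc, G.i_s, pullback.condition]))
        (by rw [comp_t, Category.assoc, G.i_t]) ≫ pullback.fst G.s G.t = pullback.fst G.t G.t :=
      pullback.lift_fst _ _ _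
    have e2 : pullback.lift (pullback.fst G.t G.t)
        (comp G (pullback.fst G.t G.t ≫ G.i) (pullback.snd G.t G.t) (by
          rw [Category.assoc, G.i_s, pullback.condition]))
        (by rw [comp_t, Category.assoc, G.i_t]) ≫ pullback.snd G.s G.t =
        comp G (pullback.fst G.t G.t ≫ G.i) (pullback.snd G.t G.t) (by
          rw [Category.assoc, G.i_s, pullback.condition]) :=
      pullback.lift_snd _ _ _
    rw [comp_congr G e1 e2 _ (by rw [comp_t, Category.assoc, G.i_t])]
    rw [← comp_assoc G (pullback.fst G.t G.t) (pullback.fst G.t G.t ≫ G.i) (pullback.snd G.t G.t)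
      (by rw [Category.assoc, G.i_t]) (by rw [Category.assoc, G.i_s, pullback.condition])]
    have e3 : comp G (pullback.fst G.t G.t) (pullback.fst G.t G.t ≫ G.i)
        (by rw [Category.assoc, G.i_t]) = pullback.snd G.t G.t ≫ G.t ≫ G.e := by
      have := G.comp_i (pullback.fst G.t G.t)
      unfold comp
      rw [this, ← Category.assoc, pullback.condition, Category.assoc]
    rw [comp_congr G e3 rfl _ (by
      rw [Category.assoc, Category.assoc, G.e_s, Category.comp_id])]
    exact G.e_comp (pullback.snd G.t G.t)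

/-- the shear isomorphism. -/
noncomputable def shear : pullback G.s G.t ≅ pullback G.t G.t where
  hom := shearHom G
  inv := shearInv G
  hom_inv_id := shearHom_shearInv G
  inv_hom_id := shearInv_shearHom G

@[simp] theorem shear_hom_fst : (shear G).hom ≫ pullback.fst G.t G.t = pullback.fst G.s G.t :=
  pullback.lift_fst _ _ _

@[simp] theorem shear_hom_snd : (shear G).hom ≫ pullback.snd G.t G.t = G.c :=
  pullback.lift_snd _ _ _

/-- the section `α ↦ (α, e (s α))`. -/
noncomputable def unitSection : G.R ⟶ pullback G.s G.t :=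
  pullback.lift (𝟙 G.R) (G.s ≫ G.e) (by rw [Category.id_comp, Category.assoc, G.e_t, Category.comp_id])

@[simp] theorem unitSection_fst : unitSection G ≫ pullback.fst G.s G.t = 𝟙 _ :=
  pullback.lift_fst _ _ _

@[simp] theorem unitSection_snd : unitSection G ≫ pullback.snd G.s G.t = G.s ≫ G.e :=
  pullback.lift_snd _ _ _

theorem unitSection_c : unitSection G ≫ G.c = 𝟙 _ := by
  have := G.comp_e (𝟙 G.R)
  simp only [Category.id_comp] at this
  exact this

end Groth.Agent.Lib.Helper21.GrpdShear
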