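import Mathlib
import Groth.Agent.Lib.Helper21.SliceRing
import Groth.Agent.Lib.Helper21.PullbackSliceStalk
import Groth.Agent.Lib.Helper35.RegSlice8
import Groth.Prelude.Def_Grpd

/-!
# Slicing a Cohen–Macaulay morphism by a hypersurface of the base pulled back along another
morphism (helper21)

`s t : R ⟶ U`, `s` locally of finite presentation and Cohen–Macaulay at `x = pr₂ p`, where `p` is a
point of `U' ×_{g,U,t} R` and `g : U' = Spec (Γ(V)/(f₀)) ⟶ U`.  If `t^♯ f₀` is regular on the fibre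
ring of `s` at `x`, then `s ∘ pr₂` is Cohen–Macaulay at `p` with fibre ring of dimension one less.
-/

set_option linter.style.haveILetI false
set_option autoImplicit false
universe u

open CategoryTheory CategoryTheory.Limits AlgebraicGeometry TopologicalSpace IsLocalRing

namespace Groth.Agent.Lib.Helper21.SliceCM

open Groth.Agent.Lib.Helper21.PullbackSliceStalk Groth.Agent.Lib.Helper35

variable {R U : Scheme.{u}} (s t : R ⟶ U) [LocallyOfFinitePresentation s]
  {V : U.Opens} (hV : IsAffineOpen V) (f₀ : Γ(U, V))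

/-- flatness of the sliced stalk map. -/
theorem flat_slice (x : R) (hx : t x ∈ V) (hflat : (s.stalkMap x).hom.Flat)
    (hreg : IsSMulRegular (R.presheaf.stalk x ⧸
        (maximalIdeal (U.presheaf.stalk (s x))).map (s.stalkMap x).hom)
      (Ideal.Quotient.mk ((maximalIdeal (U.presheaf.stalk (s x))).map (s.stalkMap x).hom)
        ((glV t V x hx).hom f₀))) :
    ((Ideal.Quotient.mk (Ideal.span {(glV t V x hx).hom f₀})).comp (s.stalkMap x).hom).Flat := by
  obtain ⟨_, ⟨(Vs : U.Opens), hVs, rfl⟩, hsxVs, -⟩ :=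
    U.isBasis_affineOpens.exists_subset_of_mem_open (Set.mem_univ (s x)) isOpen_univ
  have hxO : x ∈ s ⁻¹ᵁ Vs ⊓ t ⁻¹ᵁ V := ⟨hsxVs, hx⟩
  obtain ⟨_, ⟨(W : R.Opens), hW, rfl⟩, hxW, hWO⟩ :=
    R.isBasis_affineOpens.exists_subset_of_mem_open hxO (s ⁻¹ᵁ Vs ⊓ t ⁻¹ᵁ V).isOpen
  have hsle : W ≤ s ⁻¹ᵁ Vs := fun y hy => (hWO hy).1
  have htle : W ≤ t ⁻¹ᵁ V := fun y hy => (hWO hy).2
  have hfp := s.finitePresentation_appLE hVs hW hsle
  letI algAB : Algebra Γ(U, Vs) Γ(R, W) := (s.appLE Vs W hsle).hom.toAlgebra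
  haveI : Algebra.FinitePresentation Γ(U, Vs) Γ(R, W) := hfp
  let p₀ := (hVs.primeIdealOf ⟨s x, hsle hxW⟩).asIdeal
  let q₀ := (hW.primeIdealOf ⟨x, hxW⟩).asIdeal
  haveI : q₀.LiesOver p₀ :=
    ⟨congr($(IsAffineOpen.comap_primeIdealOf_appLE Vs hVs W hW hsle hxW).1).symm⟩
  letI := U.presheaf.algebra_section_stalk ⟨s x, hsle hxW⟩
  haveI := hVs.isLocalization_stalk ⟨s x, hsle hxW⟩
  letI := R.presheaf.algebra_section_stalk ⟨x, hxW⟩
  haveI := hW.isLocalization_stalk ⟨x, hxW⟩
  have hσ : (s.stalkMap x).hom.comp (algebraMap Γ(U, Vs) (U.presheaf.stalk (s x))) =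
      (algebraMap Γ(R, W) (R.presheaf.stalk x)).comp (algebraMap Γ(U, Vs) Γ(R, W)) := by
    ext a
    simp only [RingHom.algebraMap_toAlgebra, Scheme.Hom.germ_stalkMap_apply, Scheme.Hom.appLE,
      homOfLE_leOfHom, CommRingCat.hom_comp, RingHom.coe_comp, Function.comp_apply,
      R.presheaf.germ_res_apply]
  let g : Γ(R, W) := (t.appLE V W htle).hom f₀
  have hg : algebraMap Γ(R, W) (R.presheaf.stalk x) g = (glV t V x hx).hom f₀ := by
    show (R.presheaf.germ W x hxW).hom ((t.appLE V W htle).hom f₀) = _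
    unfold glV
    simp only [Scheme.Hom.appLE, CommRingCat.hom_comp, RingHom.coe_comp, Function.comp_apply,
      R.presheaf.germ_res_apply, Scheme.Hom.germ_stalkMap_apply]
  have hreg' : Ideal.Quotient.mk ((maximalIdeal (U.presheaf.stalk (s x))).map (s.stalkMap x).hom)
      (algebraMap Γ(R, W) (R.presheaf.stalk x) g) ∈
      nonZeroDivisors (R.presheaf.stalk x ⧸
        (maximalIdeal (U.presheaf.stalk (s x))).map (s.stalkMap x).hom) := by
    rw [hg, mem_nonZeroDivisors_iff_right]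
    intro y hy
    apply hreg
    simp only [smul_zero]
    rw [← hy, mul_comm]
    rfl
  obtain ⟨w, hwq, -, hΩ⟩ := RegSlice7.exists_slice_stalk_intrinsic p₀ q₀
    (U.presheaf.stalk (s x)) (R.presheaf.stalk x) (s.stalkMap x).hom hσ hflat g hreg'
  have hΩq := hΩ ⟨q₀, inferInstance⟩ hwq
  have h := RegSlice8.flat_quot_stalk p₀ q₀ (U.presheaf.stalk (s x)) (R.presheaf.stalk x)
    (s.stalkMap x).hom hσ g hΩq
  rw [hg] at h
  exact h

omit [LocallyOfFinitePresentation s] in
/-- abstract form: `j : P ⟶ R` with surjective stalk map at `p` with kernel `(b)`. -/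
theorem isCMAt_comp_of_ker {P : Scheme.{u}} (j : P ⟶ R) (p : P) (b : R.presheaf.stalk (j p))
    (hπ : Function.Surjective (j.stalkMap p).hom)
    (hker : RingHom.ker (j.stalkMap p).hom = Ideal.span {b})
    (hcm : Grpd.IsCMAt s (j p))
    (hreg : IsSMulRegular (R.presheaf.stalk (j p) ⧸
        (maximalIdeal (U.presheaf.stalk (s (j p)))).map (s.stalkMap (j p)).hom)
      (Ideal.Quotient.mk ((maximalIdeal (U.presheaf.stalk (s (j p)))).map
          (s.stalkMap (j p)).hom) b))
    (hfl : ((Ideal.Quotient.mk (Ideal.span {b})).comp (s.stalkMap (j p)).hom).Flat) :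
    Grpd.IsCMAt (j ≫ s) p ∧
    ringKrullDim (P.presheaf.stalk p ⧸
        (maximalIdeal (U.presheaf.stalk ((j ≫ s) p))).map ((j ≫ s).stalkMap p).hom) + 1 =
      ringKrullDim (R.presheaf.stalk (j p) ⧸
        (maximalIdeal (U.presheaf.stalk (s (j p)))).map (s.stalkMap (j p)).hom) := by
  have hbm : b ∈ maximalIdeal (R.presheaf.stalk (j p)) := by
    rw [mem_maximalIdeal, mem_nonunits_iff]
    intro hu
    have h1 : IsUnit ((j.stalkMap p).hom b) := hu.map (j.stalkMap p).hom
    have hb0 : (j.stalkMap p).hom b = 0 := by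
      have : b ∈ RingHom.ker (j.stalkMap p).hom := by rw [hker]; exact Ideal.subset_span rfl
      exact this
    rw [hb0] at h1
    exact not_isUnit_zero h1
  obtain ⟨h1, h2⟩ := Groth.Agent.Lib.Helper21.SliceRing.slice_ring (s.stalkMap (j p)).hom
    (j.stalkMap p).hom hπ b hker hbm hcm.2 hreg
  have hcomp : ((j ≫ s).stalkMap p).hom = (j.stalkMap p).hom.comp (s.stalkMap (j p)).hom := by
    rw [Scheme.Hom.stalkMap_comp]
    rfl
  have hflat : ((j.stalkMap p).hom.comp (s.stalkMap (j p)).hom).Flat := by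
    let ē : (R.presheaf.stalk (j p) ⧸ Ideal.span {b}) ≃+* P.presheaf.stalk p :=
      (Ideal.quotEquivOfEq hker.symm).trans (RingHom.quotientKerEquivOfSurjective hπ)
    have h3 : (j.stalkMap p).hom.comp (s.stalkMap (j p)).hom =
        (ē : (R.presheaf.stalk (j p) ⧸ Ideal.span {b}) →+* _).comp
        ((Ideal.Quotient.mk (Ideal.span {b})).comp (s.stalkMap (j p)).hom) := by
      ext a
      rfl
    rw [h3]
    exact hfl.comp (RingHom.Flat.of_bijective ē.bijective)
  have key : ∀ (φ : U.presheaf.stalk (s (j p)) →+* P.presheaf.stalk p)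
      (_ : φ = (j.stalkMap p).hom.comp (s.stalkMap (j p)).hom),
      (φ.Flat ∧ LocCoh.IsCohenMacaulayLocalRing (P.presheaf.stalk p ⧸
        (maximalIdeal (U.presheaf.stalk (s (j p)))).map φ)) ∧
      ringKrullDim (P.presheaf.stalk p ⧸
        (maximalIdeal (U.presheaf.stalk (s (j p)))).map φ) + 1 =
      ringKrullDim (R.presheaf.stalk (j p) ⧸
        (maximalIdeal (U.presheaf.stalk (s (j p)))).map (s.stalkMap (j p)).hom) := by
    intro φ hφ
    subst hφ
    exact ⟨⟨hflat, h1⟩, h2⟩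
  exact key _ hcomp

/-- **slicing**: `s ∘ pr₂ : U' ×_{g,U,t} R ⟶ U` is Cohen–Macaulay at `p`, with fibre ring of dimension
one less than that of `s` at `pr₂ p`. -/
theorem isCMAt_slice (p : ↑(pullback (sliceHom hV f₀) t))
    (hcm : Grpd.IsCMAt s (pullback.snd (sliceHom hV f₀) t p))
    (hreg : IsSMulRegular (R.presheaf.stalk (pullback.snd (sliceHom hV f₀) t p) ⧸
        (maximalIdeal (U.presheaf.stalk (s (pullback.snd (sliceHom hV f₀) t p)))).map
          (s.stalkMap (pullback.snd (sliceHom hV f₀) t p)).hom)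
      (Ideal.Quotient.mk ((maximalIdeal (U.presheaf.stalk
          (s (pullback.snd (sliceHom hV f₀) t p)))).map
          (s.stalkMap (pullback.snd (sliceHom hV f₀) t p)).hom)
        ((glV t V (pullback.snd (sliceHom hV f₀) t p) (snd_mem t hV f₀ p)).hom f₀))) :
    Grpd.IsCMAt (pullback.snd (sliceHom hV f₀) t ≫ s) p ∧
    ringKrullDim ((pullback (sliceHom hV f₀) t).presheaf.stalk p ⧸
        (maximalIdeal (U.presheaf.stalk ((pullback.snd (sliceHom hV f₀) t ≫ s) p))).map
          ((pullback.snd (sliceHom hV f₀) t ≫ s).stalkMap p).hom) + 1 =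
      ringKrullDim (R.presheaf.stalk (pullback.snd (sliceHom hV f₀) t p) ⧸
        (maximalIdeal (U.presheaf.stalk (s (pullback.snd (sliceHom hV f₀) t p)))).map
          (s.stalkMap (pullback.snd (sliceHom hV f₀) t p)).hom) :=
  isCMAt_comp_of_ker s (pullback.snd (sliceHom hV f₀) t) p _
    (stalkMap_snd_surjective t hV f₀ p) (ker_stalkMap_snd t hV f₀ p) hcm hreg
    (flat_slice s t f₀ _ (snd_mem t hV f₀ p) hcm.1 hreg)

end Groth.Agent.Lib.Helper21.SliceCM
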