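import Mathlib
import Groth.Agent.Lib.Helper21.GrpdDiagPt
import Groth.Agent.Lib.Helper21.SliceCM
import Groth.Agent.Lib.Helper21.FibreDimFormula
import Groth.Agent.Lib.Helper29.CM

/-!
# Slicing groupoids (helper21)

Stacks, More on Groupoids, Lemma 40.12.1: for a groupoid scheme `(U, R, s, t, c, e, i)` with `s`
Cohen–Macaulay and locally of finite presentation, `u` a finite type point of `U` with
`dim G_u < dim_{e(u)} s⁻¹(u)`, there is an affine scheme `U'` with an immersion `g : U' ⟶ U` locally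
of finite presentation through `u` such that `s ∘ pr₂ : U' ×_{g,U,t} R ⟶ U` is Cohen–Macaulay at
`(u, e(u))` with fibre of dimension one less.
-/

set_option linter.style.haveILetI false
set_option autoImplicit false
universe u

open CategoryTheory CategoryTheory.Limits AlgebraicGeometry TopologicalSpace IsLocalRing

namespace Groth.Agent.Lib.Helper21.GrpdSlice

open Groth.Agent.Lib.Helper21.GrpdDiagPt Groth.Agent.Lib.Helper21.PullbackSliceStalk
  Groth.Agent.Lib.Helper21.SliceCM Groth.Agent.Lib.Helper21.FieldDim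
  Groth.Agent.Lib.Helper29

set_option maxHeartbeats 800000 in
theorem exists_slice (S : Scheme.{u}) (G : Grpd.GroupoidScheme S)
    [LocallyOfFinitePresentation G.s] [LocallyOfFinitePresentation G.t]
    (hs : ∀ r : G.R, Grpd.IsCMAt G.s r) (u : G.U)
    (hu : LocallyOfFiniteType (G.U.fromSpecResidueField u))
    (hd : topologicalKrullDim ↥(G.stabilizerToU.fiber u) < FlatMor.fibreDimAt G.s (G.e u)) :
    ∃ (U' : Scheme.{u}) (_ : IsAffine U') (g : U' ⟶ G.U) (u' : U') (p : ↑(pullback g G.t)),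
      IsImmersion g ∧ LocallyOfFinitePresentation g ∧ g u' = u ∧ pullback.fst g G.t p = u' ∧
      pullback.snd g G.t p = G.e u ∧ Grpd.IsCMAt (pullback.snd g G.t ≫ G.s) p ∧
      FlatMor.fibreDimAt (pullback.snd g G.t ≫ G.s) p + 1 = FlatMor.fibreDimAt G.s (G.e u) := by
  haveI := hu
  have htx : G.t (G.e u) = u := t_e_apply G u
  let B₀ := G.R.presheaf.stalk (G.e u)
  let σ₀ : G.U.presheaf.stalk (G.s (G.e u)) →+* B₀ := (G.s.stalkMap (G.e u)).hom
  let τ₀ : G.U.presheaf.stalk (G.t (G.e u)) →+* B₀ := (G.t.stalkMap (G.e u)).hom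
  let I₀ : Ideal B₀ := (maximalIdeal (G.U.presheaf.stalk (G.s (G.e u)))).map σ₀
  have hcm₀ : LocCoh.IsCohenMacaulayLocalRing (B₀ ⧸ I₀) := (hs (G.e u)).2
  haveI : IsLocalRing (B₀ ⧸ I₀) := hcm₀.toIsLocalRing
  haveI : IsNoetherianRing (B₀ ⧸ I₀) := by haveI := hcm₀; infer_instance
  have hdim₀ : FlatMor.fibreDimAt G.s (G.e u) = ringKrullDim (B₀ ⧸ I₀) := by
    rw [fibreDimAt_eq_ringKrullDim_add, tdR_eq_zero_of_section G.s G.e G.e_s u]
    simp only [Nat.cast_zero, add_zero]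
    rfl
  -- key claim
  have hkey : ∀ 𝔫 ∈ associatedPrimes (B₀ ⧸ I₀) (B₀ ⧸ I₀),
      (𝔫.comap (Ideal.Quotient.mk I₀)).comap τ₀ ≠
        maximalIdeal (G.U.presheaf.stalk (G.t (G.e u))) := by
    intro 𝔫 h𝔫 h2
    haveI h𝔫p : 𝔫.IsPrime := IsAssociatedPrime.isPrime h𝔫
    let 𝔓 : Ideal B₀ := 𝔫.comap (Ideal.Quotient.mk I₀)
    haveI : 𝔓.IsPrime := Ideal.IsPrime.comap _
    have hI𝔓 : I₀ ≤ 𝔓 := by
      intro a ha
      show Ideal.Quotient.mk I₀ a ∈ 𝔫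
      rw [Ideal.Quotient.eq_zero_iff_mem.mpr ha]
      exact zero_mem _
    have h1 : 𝔓.comap σ₀ = maximalIdeal (G.U.presheaf.stalk (G.s (G.e u))) := by
      symm
      apply (maximalIdeal.isMaximal _).eq_of_le
      · exact (Ideal.IsPrime.comap σ₀).ne_top
      · intro a ha
        exact hI𝔓 (Ideal.mem_map_of_mem σ₀ ha)
    have hle := ringKrullDim_quotient_le G u 𝔓 h1 h2
    have hdim𝔫 : ringKrullDim ((B₀ ⧸ I₀) ⧸ 𝔫) = ringKrullDim (B₀ ⧸ I₀) := by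
      rw [CMLib.ringKrullDim_quotient_eq_of_isCM (B₀ ⧸ I₀) (B₀ ⧸ I₀) hcm₀.supportDim_eq_depth h𝔫,
        Module.supportDim_self_eq_ringKrullDim]
    have hsurj : ringKrullDim ((B₀ ⧸ I₀) ⧸ 𝔫) ≤ ringKrullDim (B₀ ⧸ 𝔓) := by
      let θ : B₀ ⧸ 𝔓 →+* (B₀ ⧸ I₀) ⧸ 𝔫 :=
        Ideal.Quotient.lift 𝔓 ((Ideal.Quotient.mk 𝔫).comp (Ideal.Quotient.mk I₀)) (fun a ha => by
          show Ideal.Quotient.mk 𝔫 (Ideal.Quotient.mk I₀ a) = 0
          exact Ideal.Quotient.eq_zero_iff_mem.mpr ha)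
      refine ringKrullDim_le_of_surjective θ ?_
      intro y
      obtain ⟨y', rfl⟩ := Ideal.Quotient.mk_surjective y
      obtain ⟨a, rfl⟩ := Ideal.Quotient.mk_surjective y'
      exact ⟨Ideal.Quotient.mk 𝔓 a, rfl⟩
    have : ringKrullDim (B₀ ⧸ I₀) < ringKrullDim (B₀ ⧸ I₀) :=
      calc ringKrullDim (B₀ ⧸ I₀) = ringKrullDim ((B₀ ⧸ I₀) ⧸ 𝔫) := hdim𝔫.symm
        _ ≤ ringKrullDim (B₀ ⧸ 𝔓) := hsurj
        _ ≤ topologicalKrullDim ↥(G.stabilizerToU.fiber u) := hle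
        _ < FlatMor.fibreDimAt G.s (G.e u) := hd
        _ = ringKrullDim (B₀ ⧸ I₀) := hdim₀
    exact lt_irrefl _ this
  -- prime avoidance
  have hfin : (associatedPrimes (B₀ ⧸ I₀) (B₀ ⧸ I₀)).Finite := associatedPrimes.finite _ _
  have hav : ¬ ((maximalIdeal (G.U.presheaf.stalk (G.t (G.e u))) :
        Set (G.U.presheaf.stalk (G.t (G.e u)))) ⊆
      ⋃ 𝔫 ∈ (hfin.toFinset : Set (Ideal (B₀ ⧸ I₀))),
        (((𝔫.comap (Ideal.Quotient.mk I₀)).comap τ₀ : Ideal (G.U.presheaf.stalk (G.t (G.e u)))) :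
          Set (G.U.presheaf.stalk (G.t (G.e u))))) := by
    intro hsub
    rw [Ideal.subset_union_prime (⊥ : Ideal (B₀ ⧸ I₀)) ⊥ (fun 𝔫 h𝔫 _ _ => by
      haveI := IsAssociatedPrime.isPrime (hfin.mem_toFinset.mp h𝔫)
      exact Ideal.IsPrime.comap _)] at hsub
    obtain ⟨𝔫, h𝔫, hle⟩ := hsub
    have h𝔫' : 𝔫 ∈ associatedPrimes (B₀ ⧸ I₀) (B₀ ⧸ I₀) := hfin.mem_toFinset.mp h𝔫
    haveI := IsAssociatedPrime.isPrime h𝔫'
    apply hkey 𝔫 h𝔫'
    symm
    exact (maximalIdeal.isMaximal _).eq_of_le (Ideal.IsPrime.comap _).ne_top hle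
  obtain ⟨f, hfm, hf⟩ := Set.not_subset.mp hav
  have hreg₀ : IsSMulRegular (B₀ ⧸ I₀) (Ideal.Quotient.mk I₀ (τ₀ f)) := by
    by_contra hnr
    have h1 : Ideal.Quotient.mk I₀ (τ₀ f) ∈
        ({r | IsSMulRegular (B₀ ⧸ I₀) r}ᶜ : Set (B₀ ⧸ I₀)) := hnr
    rw [← biUnion_associatedPrimes_eq_compl_regular (B₀ ⧸ I₀) (B₀ ⧸ I₀)] at h1
    simp only [Set.mem_iUnion] at h1
    obtain ⟨𝔫, h𝔫, hmem⟩ := h1
    apply hf
    simp only [Set.mem_iUnion]
    exact ⟨𝔫, hfin.mem_toFinset.mpr h𝔫, hmem⟩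
  -- spread out
  obtain ⟨V₁, hV₁, f₁, hf₁⟩ := G.U.presheaf.exists_germ_eq f
  obtain ⟨_, ⟨(V : G.U.Opens), hV, rfl⟩, htxV, hVV₁⟩ :=
    G.U.isBasis_affineOpens.exists_subset_of_mem_open hV₁ V₁.isOpen
  replace hV : IsAffineOpen V := hV
  let f₀ : Γ(G.U, V) := G.U.presheaf.map (homOfLE hVV₁).op f₁
  have hf₀ : G.U.presheaf.germ V (G.t (G.e u)) htxV f₀ = f := by
    rw [← hf₁]
    exact G.U.presheaf.germ_res_apply (homOfLE hVV₁) (G.t (G.e u)) htxV f₁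
  let g := sliceHom hV f₀
  let w : Spec Γ(G.U, V) := hV.primeIdealOf ⟨G.t (G.e u), htxV⟩
  have hw : hV.fromSpec w = G.t (G.e u) := hV.fromSpec_primeIdealOf ⟨_, htxV⟩
  have hf₀w : f₀ ∈ w.asIdeal := by
    have h1 : w = Spec.map (G.U.presheaf.germ V (G.t (G.e u)) htxV)
        (closedPoint (G.U.presheaf.stalk (G.t (G.e u)))) :=
      hV.primeIdealOf_eq_map_closedPoint ⟨_, htxV⟩
    rw [h1]
    show (G.U.presheaf.germ V (G.t (G.e u)) htxV).hom f₀ ∈ maximalIdeal _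
    rw [hf₀]
    exact hfm
  obtain ⟨u', hu'⟩ : ∃ u', Spec.map (CommRingCat.ofHom (Ideal.Quotient.mk (Ideal.span {f₀}))) u' =
      w := by
    have h1 : w ∈ Set.range (PrimeSpectrum.comap (Ideal.Quotient.mk (Ideal.span {f₀}))) := by
      rw [_root_.range_comap_of_surjective _ _ Ideal.Quotient.mk_surjective, Ideal.mk_ker]
      have hz : ((Ideal.span {f₀} : Ideal Γ(G.U, V)) : Set Γ(G.U, V)) ⊆ w.asIdeal := by
        rw [SetLike.coe_subset_coe, Ideal.span_le, Set.singleton_subset_iff]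
        exact hf₀w
      exact hz
    exact h1
  have hgu' : g u' = G.t (G.e u) := by
    show (Spec.map (CommRingCat.ofHom (Ideal.Quotient.mk (Ideal.span {f₀}))) ≫ hV.fromSpec) u' = _
    rw [Scheme.Hom.comp_apply, hu', hw]
  obtain ⟨p, hp1, hp2⟩ := Scheme.Pullback.exists_preimage_pullback u' (G.e u) hgu'
  have hregx : ∀ (x : G.R) (_ : x = G.e u) (hm : G.t x ∈ V),
      IsSMulRegular (G.R.presheaf.stalk x ⧸
        (maximalIdeal (G.U.presheaf.stalk (G.s x))).map (G.s.stalkMap x).hom)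
      (Ideal.Quotient.mk ((maximalIdeal (G.U.presheaf.stalk (G.s x))).map (G.s.stalkMap x).hom)
        ((glV G.t V x hm).hom f₀)) := by
    rintro x rfl hm
    have h1 : (glV G.t V (G.e u) hm).hom f₀ = τ₀ f := by
      rw [← hf₀]
      rfl
    rw [h1]
    exact hreg₀
  obtain ⟨hcmp, hdimp⟩ := isCMAt_slice G.s G.t hV f₀ p (hs _) (hregx _ hp2 _)
  haveI hgi : IsImmersion g := inferInstanceAs (IsImmersion (sliceHom hV f₀))
  haveI hgfp : LocallyOfFinitePresentation g :=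
    inferInstanceAs (LocallyOfFinitePresentation (sliceHom hV f₀))
  refine ⟨Spec (CommRingCat.of (Γ(G.U, V) ⧸ Ideal.span {f₀})), inferInstance, g, u', p,
    hgi, hgfp, hgu'.trans htx, hp1, hp2, hcmp, ?_⟩
  haveI : IsImmersion (pullback.snd g G.t) := inferInstance
  haveI : LocallyOfFiniteType (pullback.snd g G.t ≫ G.s) := inferInstance
  have htd : tdR G.s (pullback.snd g G.t p) = 0 := by
    rw [hp2]
    exact tdR_eq_zero_of_section G.s G.e G.e_s u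
  rw [fibreDimAt_eq_ringKrullDim_add (pullback.snd g G.t ≫ G.s) p,
    tdR_comp_of_surjectiveOnStalks G.s (pullback.snd g G.t) p, htd, ← hp2,
    fibreDimAt_eq_ringKrullDim_add G.s (pullback.snd g G.t p), htd, ← hdimp]
  simp only [Nat.cast_zero, add_zero]
  rfl

end Groth.Agent.Lib.Helper21.GrpdSlice
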