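import Mathlib
import Groth.Agent.Lib.Helper21.TwoFields
import Groth.Agent.Lib.Helper21.GrpdDim

/-!
# Dimension of the stabilizer of a groupoid scheme on a field (helper21)

Stacks, More on Groupoids, Lemma 40.10.10: for a groupoid scheme `(U, R, s, t, c)` with `U` the
spectrum of a field and `s`, `t` locally of finite type, `dim R = dim G` for the stabilizer `G`.
-/

set_option linter.style.haveILetI false
set_option autoImplicit false
universe u

open CategoryTheory CategoryTheory.Limits AlgebraicGeometry TopologicalSpace Topology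

namespace Groth.Agent.Lib.Helper21.GrpdStabDim

variable {S : Scheme.{u}} (G : Grpd.GroupoidScheme S) {k : Type u} [Field k]
  (eU : G.U ≅ Spec (CommRingCat.of k))

include eU in
theorem eq_of_points (p q : G.U) : p = q := by
  have h1 : eU.hom p = eU.hom q := Subsingleton.elim (α := PrimeSpectrum k) _ _
  exact (Scheme.homeoOfIso eU).injective h1

include eU in
theorem isSeparated_pU : IsSeparated G.pU := by
  have h1 : IsSeparated (eU.inv ≫ G.pU) := by
    rw [← Scheme.Spec_stalkClosedPointTo_fromSpecStalk (eU.inv ≫ G.pU)]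
    infer_instance
  have h2 : G.pU = eU.hom ≫ (eU.inv ≫ G.pU) := by simp
  rw [h2]
  infer_instance

include eU in
/-- at every generization `ζ` of the unit point, `s` and `t` induce the same `κ(ζ)`-point of `U`. -/
theorem fromSpecResidueField_comp_s_eq [LocallyOfFiniteType G.s] (u₀ : G.U) (ζ : G.R)
    (hζ : ζ ⤳ G.e u₀) :
    G.R.fromSpecResidueField ζ ≫ G.s = G.R.fromSpecResidueField ζ ≫ G.t := by
  haveI : IsAffine G.U := IsAffine.of_isIso eU.hom
  haveI : IsReduced G.U := isReduced_of_isOpenImmersion eU.hom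
  obtain ⟨_, ⟨(W : G.R.Opens), hW, rfl⟩, hz₀W, -⟩ :=
    G.R.isBasis_affineOpens.exists_subset_of_mem_open (Set.mem_univ (G.e u₀)) isOpen_univ
  have hζW : ζ ∈ W := hζ.mem_open W.isOpen hz₀W
  let evζ : Γ(G.R, W) →+* G.R.residueField ζ := (G.R.evaluation W ζ hζW).hom
  let 𝔭 : Ideal Γ(G.R, W) := RingHom.ker evζ
  haveI h𝔭 : 𝔭.IsPrime := RingHom.ker_isPrime evζ
  have hsle : W ≤ G.s ⁻¹ᵁ ⊤ := le_top
  have htle : W ≤ G.t ⁻¹ᵁ ⊤ := le_top
  let σB : Γ(G.U, ⊤) →+* Γ(G.R, W) := (G.s.appLE ⊤ W hsle).hom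
  let τB : Γ(G.U, ⊤) →+* Γ(G.R, W) := (G.t.appLE ⊤ W htle).hom
  have hele : (⊤ : G.U.Opens) ≤ G.e ⁻¹ᵁ W := by
    intro u _
    show G.e u ∈ W
    rw [eq_of_points G eU u u₀]
    exact hz₀W
  let ε : Γ(G.R, W) →+* Γ(G.U, ⊤) := (G.e.appLE W ⊤ hele).hom
  have hεσ : ∀ a, ε (σB a) = a := by
    intro a
    have h1 := Scheme.Hom.appLE_comp_appLE G.e G.s ⊤ W ⊤ hsle hele
    have h2 : (G.e ≫ G.s).appLE ⊤ ⊤ (hele.trans ((Opens.map G.e.base).map (homOfLE hsle)).le) =
        𝟙 _ := by
      have : ∀ (f : G.U ⟶ G.U) (hf : f = 𝟙 G.U) (h : (⊤ : G.U.Opens) ≤ f ⁻¹ᵁ ⊤),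
          f.appLE ⊤ ⊤ h = 𝟙 _ := by
        intro f hf h
        subst hf
        simp only [Scheme.Hom.appLE, Scheme.Hom.id_app]
        have h0 : (homOfLE h).op = 𝟙 (Opposite.op (⊤ : G.U.Opens)) := Subsingleton.elim _ _
        rw [h0]
        exact G.U.presheaf.map_id _
      exact this _ G.e_s _
    rw [h2] at h1
    exact congrArg (fun φ : Γ(G.U, ⊤) ⟶ Γ(G.U, ⊤) => φ.hom a) h1
  have hετ : ∀ a, ε (τB a) = a := by
    intro a
    have h1 := Scheme.Hom.appLE_comp_appLE G.e G.t ⊤ W ⊤ htle hele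
    have h2 : (G.e ≫ G.t).appLE ⊤ ⊤ (hele.trans ((Opens.map G.e.base).map (homOfLE htle)).le) =
        𝟙 _ := by
      have : ∀ (f : G.U ⟶ G.U) (hf : f = 𝟙 G.U) (h : (⊤ : G.U.Opens) ≤ f ⁻¹ᵁ ⊤),
          f.appLE ⊤ ⊤ h = 𝟙 _ := by
        intro f hf h
        subst hf
        simp only [Scheme.Hom.appLE, Scheme.Hom.id_app]
        have h0 : (homOfLE h).op = 𝟙 (Opposite.op (⊤ : G.U.Opens)) := Subsingleton.elim _ _
        rw [h0]
        exact G.U.presheaf.map_id _
      exact this _ G.e_t _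
    rw [h2] at h1
    exact congrArg (fun φ : Γ(G.U, ⊤) ⟶ Γ(G.U, ⊤) => φ.hom a) h1
  have h𝔭ε : 𝔭 ≤ RingHom.ker ε := by
    intro f hf
    have hf' : G.R.evaluation W ζ hζW f = 0 := hf
    rw [Scheme.evaluation_eq_zero_iff_notMem_basicOpen] at hf'
    have hz₀ : G.e u₀ ∉ G.R.basicOpen f := fun h => hf' (hζ.mem_open (G.R.basicOpen f).isOpen h)
    rw [RingHom.mem_ker]
    have hb : G.U.basicOpen (G.e.appLE W ⊤ hele f) = ⊥ := by
      rw [Scheme.basicOpen_appLE]
      ext u
      simp only [Opens.coe_inf, Opens.coe_top, Set.univ_inter, Opens.coe_bot, Set.mem_empty_iff_false,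
        iff_false]
      intro hu
      apply hz₀
      rw [eq_of_points G eU u₀ u]
      exact hu
    exact (basicOpen_eq_bot_iff _).mp hb
  -- the quotient domain
  let A := Γ(G.R, W) ⧸ 𝔭
  let εA : A →+* Γ(G.U, ⊤) := Ideal.Quotient.lift 𝔭 ε h𝔭ε
  let φ : k →+* Γ(G.U, ⊤) :=
    ((Scheme.ΓSpecIso (CommRingCat.of k)).inv ≫ eU.hom.appTop).hom
  haveI : IsIso eU.hom.appTop := by
    change IsIso (Scheme.Γ.map eU.hom.op)
    infer_instance
  have hφbij : Function.Bijective φ :=
    ConcreteCategory.bijective_of_isIso ((Scheme.ΓSpecIso (CommRingCat.of k)).inv ≫ eU.hom.appTop)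
  haveI : Nontrivial Γ(G.U, ⊤) := hφbij.1.nontrivial
  let σ' : k →+* A := (Ideal.Quotient.mk 𝔭).comp (σB.comp φ)
  let τ' : k →+* A := (Ideal.Quotient.mk 𝔭).comp (τB.comp φ)
  have hσft : σ'.FiniteType := by
    have h1 : σB.FiniteType :=
      HasRingHomProperty.appLE (P := @LocallyOfFiniteType) G.s inferInstance
        ⟨⊤, isAffineOpen_top G.U⟩ ⟨W, hW⟩ hsle
    have h2 : φ.FiniteType := RingHom.FiniteType.of_surjective φ hφbij.2
    have h3 : (Ideal.Quotient.mk 𝔭).FiniteType :=
      RingHom.FiniteType.of_surjective _ Ideal.Quotient.mk_surjective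
    exact h3.comp (h1.comp h2)
  have hmem : ∀ a, σ' a - τ' a ∈ RingHom.ker εA := by
    intro a
    rw [RingHom.mem_ker, map_sub]
    change ε (σB (φ a)) - ε (τB (φ a)) = 0
    rw [hεσ, hετ, sub_self]
  have hkey : σ' = τ' :=
    Groth.Agent.Lib.Helper21.TwoFields.eq_of_sub_mem σ' τ' hσft (RingHom.ker εA)
      (RingHom.ker_ne_top εA) hmem
  have hev : ∀ a' : Γ(G.U, ⊤), evζ (σB a') = evζ (τB a') := by
    intro a'
    obtain ⟨a, rfl⟩ := hφbij.2 a'
    have h1 : σ' a = τ' a := by rw [hkey]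
    have h2 : σB (φ a) - τB (φ a) ∈ 𝔭 := by
      rw [← Ideal.Quotient.eq]
      exact h1
    have h3 : evζ (σB (φ a) - τB (φ a)) = 0 := h2
    rw [map_sub, sub_eq_zero] at h3
    exact h3
  -- conclude
  apply ext_of_isAffine
  rw [Scheme.Hom.comp_appTop, Scheme.Hom.comp_appTop]
  ext a'
  let α := G.R.fromSpecResidueField ζ
  show α.appTop.hom (G.s.appTop.hom a') = α.appTop.hom (G.t.appTop.hom a')
  let c : Γ(G.R, ⊤) := G.s.appTop.hom a' - G.t.appTop.hom a'
  have hc : α.appTop.hom c = 0 := by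
    have hζc : ζ ∉ G.R.basicOpen c := by
      intro hmem
      have h1 : ζ ∈ G.R.basicOpen (G.R.presheaf.map (homOfLE (le_top : W ≤ ⊤)).op c) := by
        rw [Scheme.basicOpen_res]
        exact ⟨hζW, hmem⟩
      rw [← Scheme.evaluation_ne_zero_iff_mem_basicOpen (hx := hζW)] at h1
      apply h1
      have h2 : (G.R.presheaf.map (homOfLE (le_top : W ≤ ⊤)).op).hom c = σB a' - τB a' := by
        show (G.R.presheaf.map (homOfLE (le_top : W ≤ ⊤)).op).hom
          (G.s.appTop.hom a' - G.t.appTop.hom a') = _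
        rw [map_sub]
        rfl
      show evζ ((G.R.presheaf.map (homOfLE (le_top : W ≤ ⊤)).op).hom c) = 0
      rw [h2, map_sub, hev, sub_self]
    have hb : (Spec (G.R.residueField ζ)).basicOpen (α.appTop.hom c) = ⊥ := by
      rw [← Scheme.preimage_basicOpen_top]
      ext p
      simp only [Opens.coe_bot, Set.mem_empty_iff_false, iff_false]
      intro hp
      apply hζc
      have : α p = ζ := Scheme.fromSpecResidueField_apply ζ p
      rw [← this]
      exact hp
    exact (basicOpen_eq_bot_iff _).mp hb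
  have : α.appTop.hom c = α.appTop.hom (G.s.appTop.hom a') - α.appTop.hom (G.t.appTop.hom a') :=
    map_sub _ _ _
  rw [this, sub_eq_zero] at hc
  exact hc

include eU in
theorem isClosedImmersion_diag : IsClosedImmersion G.diag := by
  haveI := isSeparated_pU G eU
  exact (inferInstance : IsClosedImmersion (pullback.diagonal G.pU))

include eU in
theorem j_mem_range_diag [LocallyOfFiniteType G.s] (u₀ : G.U) (ζ z : G.R) (hζ : ζ ⤳ G.e u₀)
    (hz : ζ ⤳ z) : G.j z ∈ Set.range G.diag := by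
  haveI := isClosedImmersion_diag G eU
  have hcl : IsClosed (Set.range G.diag) := G.diag.isClosedEmbedding.isClosed_range
  have hζΔ : G.j ζ ∈ Set.range G.diag := by
    let α := G.R.fromSpecResidueField ζ
    have hα : α ≫ G.s = α ≫ G.t := fromSpecResidueField_comp_s_eq G eU u₀ ζ hζ
    have hj : α ≫ G.j = (α ≫ G.s) ≫ G.diag := by
      apply pullback.hom_ext
      · simp only [Grpd.GroupoidScheme.j, Grpd.GroupoidScheme.diag, Category.assoc,
          pullback.lift_fst, Category.comp_id]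
        exact hα.symm
      · simp only [Grpd.GroupoidScheme.j, Grpd.GroupoidScheme.diag, Category.assoc,
          pullback.lift_snd, Category.comp_id]
    obtain ⟨p⟩ : Nonempty (Spec (G.R.residueField ζ)) := inferInstance
    have hp : α p = ζ := Scheme.fromSpecResidueField_apply ζ p
    refine ⟨G.s ζ, ?_⟩
    have h1 : G.j ζ = (α ≫ G.j) p := by rw [Scheme.Hom.comp_apply, hp]
    have h2 : G.diag (G.s ζ) = ((α ≫ G.s) ≫ G.diag) p := by
      rw [Scheme.Hom.comp_apply, Scheme.Hom.comp_apply, hp]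
    rw [h1, h2, hj]
  exact (hz.map G.j.continuous).mem_closed hcl hζΔ

include eU in
/-- **Stacks 40.10.10**: a groupoid scheme on a field with `s`, `t` locally of finite type has the
same dimension as its stabilizer. -/
theorem dim_eq_dim_stabilizer [LocallyOfFiniteType G.s] [LocallyOfFiniteType G.t] :
    topologicalKrullDim G.R = topologicalKrullDim G.stabilizer := by
  haveI := isClosedImmersion_diag G eU
  let π : G.stabilizer ⟶ G.R := pullback.fst G.j G.diag
  haveI : IsClosedImmersion π := inferInstanceAs (IsClosedImmersion (pullback.fst G.j G.diag))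
  have hπemb : IsEmbedding π := π.isClosedEmbedding.isEmbedding
  apply le_antisymm
  · obtain ⟨pt⟩ : Nonempty (Spec (CommRingCat.of k)) := inferInstance
    let u₀ : G.U := eU.inv pt
    let z₀ : G.R := G.e u₀
    have hZ : irreducibleComponent z₀ ∈ irreducibleComponents G.R :=
      irreducibleComponent_mem_irreducibleComponents z₀
    have hdimZ := (Groth.Agent.Lib.Helper21.FieldDim.grpd_equidim G eU).1 _ hZ
    rw [← hdimZ]
    obtain ⟨ζ, hζ⟩ := QuasiSober.sober (isIrreducible_irreducibleComponent (x := z₀))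
      (isClosed_irreducibleComponent (x := z₀))
    have hζz₀ : ζ ⤳ z₀ := hζ.specializes mem_irreducibleComponent
    have hZsub : irreducibleComponent z₀ ⊆ Set.range π := by
      intro z hz
      have hr : Set.range π = G.j ⁻¹' Set.range G.diag := Scheme.Pullback.range_fst G.j G.diag
      rw [hr]
      exact j_mem_range_diag G eU u₀ ζ z hζz₀ (hζ.specializes hz)
    let e := hπemb.toHomeomorph
    let g : irreducibleComponent z₀ → G.stabilizer := fun z => e.symm ⟨z.1, hZsub z.2⟩
    have hg : IsInducing g :=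
      e.symm.isInducing.comp (IsEmbedding.inclusion hZsub).isInducing
    exact hg.topologicalKrullDim_le
  · exact hπemb.isInducing.topologicalKrullDim_le

end Groth.Agent.Lib.Helper21.GrpdStabDim
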