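import Groth.Agent.Lib.Helper21.FieldDimSq
import Groth.Agent.Lib.Helper73.HypersurfaceDim
import Groth.Agent.Lib.Helper73.StalkQuot2
import Groth.Agent.Lib.Helper73.PrimeAvoidKrull
import Mathlib

/-!
# Dimension of a hypersurface in a scheme locally of finite type over a field (helper21)
-/

set_option linter.style.haveILetI false
universe u

open CategoryTheory CategoryTheory.Limits AlgebraicGeometry

namespace Groth.Agent.Lib.Helper21.FieldDim

open Groth.Agent.Lib.Helper73 Groth.Agent.Lib.Helper73.SchemeDim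

variable {k : Type u} [Field k] {X : Scheme.{u}} (p : X ⟶ Spec (CommRingCat.of k))
  [LocallyOfFiniteType p] (g : Γ(X, ⊤))

include p in
/-- maximal points avoid a nowhere dense zero locus. -/
theorem not_mem_zeroLocus_of_maximal (hY : interior (X.zeroLocus (U := ⊤) {g}) = ∅) {ξ : X}
    (hξ : ∀ z, z ⤳ ξ → ξ ⤳ z) : ξ ∉ X.zeroLocus (U := ⊤) {g} := by
  haveI : IsLocallyNoetherian X := LocallyOfFiniteType.isLocallyNoetherian p
  have hcl : IsClosed (X.zeroLocus (U := ⊤) {g}) := X.zeroLocus_isClosed _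
  let U : X.Opens := ⟨(X.zeroLocus (U := ⊤) {g})ᶜ, hcl.isOpen_compl⟩
  have hU : Dense (U : Set X) := interior_eq_empty_iff_dense_compl.mp hY
  exact mem_of_dense_of_maximal U hU hξ

/-- Krull: below a point `ξ ∉ V(g)` specializing to `y ∈ V(g)` there is an immediate
specialization `w ∈ V(g)` of `ξ`. -/
theorem exists_immediate_mem_zeroLocus {ξ y : X} (hξy : ξ ⤳ y)
    (hξ : ξ ∉ X.zeroLocus (U := ⊤) {g}) (hy : y ∈ X.zeroLocus (U := ⊤) {g}) :
    ∃ w : X, w ∈ X.zeroLocus (U := ⊤) {g} ∧ ξ ⤳ w ∧ td p ξ = td p w + 1 := by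
  haveI : IsLocallyNoetherian X := LocallyOfFiniteType.isLocallyNoetherian p
  obtain ⟨P', hP'⟩ := exists_fromSpecStalk_eq hξy
  set a : X.presheaf.stalk y := X.presheaf.germ ⊤ y trivial g with ha
  have ham : a ∈ IsLocalRing.maximalIdeal (X.presheaf.stalk y) := by
    have h1 := (fromSpecStalk_mem_zeroLocus_iff g y
      (IsLocalRing.closedPoint (X.presheaf.stalk y))).mp (by
      rw [Scheme.fromSpecStalk_closedPoint]
      exact hy)
    exact h1
  have hIle : P'.asIdeal ⊔ Ideal.span {a} ≤ IsLocalRing.maximalIdeal (X.presheaf.stalk y) := by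
    refine sup_le (IsLocalRing.le_maximalIdeal P'.2.ne_top) ?_
    rw [Ideal.span_le]
    exact Set.singleton_subset_iff.mpr ham
  obtain ⟨Q, hQ, -⟩ := Ideal.exists_minimalPrimes_le hIle
  haveI hQp : Q.IsPrime := hQ.1.1
  let Q' : PrimeSpectrum (X.presheaf.stalk y) := ⟨Q, hQp⟩
  have haQ : a ∈ Q := hQ.1.2 (Ideal.mem_sup_right (Ideal.subset_span rfl))
  have hP'Q : P' ≤ Q' := fun r hr => hQ.1.2 (Ideal.mem_sup_left hr)
  set w : X := (X.fromSpecStalk y).base Q' with hw
  have hwY : w ∈ X.zeroLocus (U := ⊤) {g} := (fromSpecStalk_mem_zeroLocus_iff g y Q').mpr haQ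
  have hξw : ξ ⤳ w := by
    rw [← hP']
    exact (fromSpecStalk_specializes_iff y P' Q').mpr hP'Q
  have hne : ξ ≠ w := fun h => hξ (h ▸ hwY)
  refine ⟨w, hwY, hξw, td_eq_succ_of_immediate p hξw hne ?_⟩
  intro z hξz hzw
  obtain ⟨P, hP⟩ := exists_fromSpecStalk_eq (hzw.trans (fromSpecStalk_specializes y Q'))
  have h1 : P' ≤ P := by
    rw [← fromSpecStalk_specializes_iff y, hP', hP]
    exact hξz
  have h2 : P ≤ Q' := by
    rw [← fromSpecStalk_specializes_iff y, hP]
    exact hzw
  by_cases e1 : P' = P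
  · left
    rw [← hP, ← e1, hP']
  · by_cases e2 : P = Q'
    · right
      rw [← hP, e2]
    · exfalso
      have h1' : P'.asIdeal < P.asIdeal := lt_of_le_of_ne h1 (fun h => e1 (PrimeSpectrum.ext h))
      have h2' : P.asIdeal < Q := lt_of_le_of_ne h2 (fun h => e2 (PrimeSpectrum.ext h))
      haveI := P'.2
      haveI := P.2
      exact Groth.Agent.Lib.Helper73.DimFormula.not_lt_lt_of_mem_minimalPrimes_sup_span P'.asIdeal a Q hQ P.asIdeal h1' h2'

/-- points of a nowhere dense zero locus have `td + 1 ≤ td` of a maximal generization. -/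
theorem exists_maximal_td_succ_le (hY : interior (X.zeroLocus (U := ⊤) {g}) = ∅) {y : X}
    (hy : y ∈ X.zeroLocus (U := ⊤) {g}) :
    ∃ ξ : X, (∀ z, z ⤳ ξ → ξ ⤳ z) ∧ ξ ⤳ y ∧ td p y + 1 ≤ td p ξ := by
  haveI : IsLocallyNoetherian X := LocallyOfFiniteType.isLocallyNoetherian p
  obtain ⟨ξ, hξ, hξy⟩ := exists_maximal_specializes y
  refine ⟨ξ, hξ, hξy, ?_⟩
  have hne : ξ ≠ y := fun h => not_mem_zeroLocus_of_maximal p g hY hξ (h ▸ hy)
  exact td_lt_of_specializes p hξy hne

include p in
theorem dim_zeroLocus_add_one_le (hY : interior (X.zeroLocus (U := ⊤) {g}) = ∅) :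
    topologicalKrullDim ↥(X.zeroLocus (U := ⊤) {g}) + 1 ≤ topologicalKrullDim X := by
  have hcl : IsClosed (X.zeroLocus (U := ⊤) {g}) := X.zeroLocus_isClosed _
  have key : ∀ y ∈ X.zeroLocus (U := ⊤) {g},
      ((td p y + 1 : ℕ) : WithBot ℕ∞) ≤ topologicalKrullDim X := by
    intro y hy
    obtain ⟨ξ, -, -, hle⟩ := exists_maximal_td_succ_le p g hY hy
    refine le_trans ?_ (td_le_dim p ξ)
    exact_mod_cast hle
  induction hD : topologicalKrullDim X with
  | bot =>
    have : topologicalKrullDim ↥(X.zeroLocus (U := ⊤) {g}) ≤ ⊥ := by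
      rw [dim_le_iff_of_isLocallyClosed p _ hcl.isLocallyClosed]
      intro y hy
      have := key y hy
      rw [hD] at this
      exact absurd this (by simp)
    rw [le_bot_iff.mp this]
    simp
  | coe D' =>
    induction D' with
    | top => exact le_top
    | coe n =>
      rw [hD] at key
      have key' : ∀ y ∈ X.zeroLocus (U := ⊤) {g}, td p y + 1 ≤ n := by
        intro y hy
        have := key y hy
        exact_mod_cast this
      by_cases hne : (X.zeroLocus (U := ⊤) {g}).Nonempty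
      · obtain ⟨y₀, hy₀⟩ := hne
        have hn : 1 ≤ n := le_trans (Nat.le_add_left 1 _) (key' y₀ hy₀)
        have h1 : topologicalKrullDim ↥(X.zeroLocus (U := ⊤) {g}) ≤ ((n - 1 : ℕ) : WithBot ℕ∞) := by
          rw [dim_le_iff_of_isLocallyClosed p _ hcl.isLocallyClosed]
          intro y hy
          have := key' y hy
          have h2 : td p y ≤ n - 1 := by omega
          exact_mod_cast h2
        refine (add_le_add_left h1 1).trans ?_
        have : ((n - 1 : ℕ) : WithBot ℕ∞) + 1 = ((n - 1 + 1 : ℕ) : WithBot ℕ∞) := by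
          push_cast
          rfl
        rw [this, Nat.sub_add_cancel hn]
        rfl
      · have : topologicalKrullDim ↥(X.zeroLocus (U := ⊤) {g}) ≤ ⊥ := by
          rw [dim_le_iff_of_isLocallyClosed p _ hcl.isLocallyClosed]
          intro y hy
          exact absurd ⟨y, hy⟩ hne
        rw [le_bot_iff.mp this]
        simp

include p in
/-- **dimension of a hypersurface.** -/
theorem dim_zeroLocus (hY : interior (X.zeroLocus (U := ⊤) {g}) = ∅) :
    topologicalKrullDim ↥(X.zeroLocus (U := ⊤) {g}) + 1 ≤ topologicalKrullDim X ∧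
      ((∃ Z ∈ irreducibleComponents (X : Type u), topologicalKrullDim ↥Z = topologicalKrullDim X) →
        (∀ Z ∈ irreducibleComponents (X : Type u), topologicalKrullDim ↥Z = topologicalKrullDim X →
          (Z ∩ X.zeroLocus (U := ⊤) {g}).Nonempty) →
        topologicalKrullDim ↥(X.zeroLocus (U := ⊤) {g}) + 1 = topologicalKrullDim X) := by
  refine ⟨dim_zeroLocus_add_one_le p g hY, ?_⟩
  rintro ⟨Z, hZ, hZdim⟩ hmeet
  refine le_antisymm (dim_zeroLocus_add_one_le p g hY) ?_
  have hcl : IsClosed (X.zeroLocus (U := ⊤) {g}) := X.zeroLocus_isClosed _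
  obtain ⟨y, hyZ, hyY⟩ := hmeet Z hZ hZdim
  have hZcl := isClosed_of_mem_irreducibleComponents Z hZ
  have hgen : IsGenericPoint hZ.1.genericPoint Z := hZ.1.isGenericPoint_genericPoint hZcl
  have hmax : ∀ t, t ⤳ hZ.1.genericPoint → hZ.1.genericPoint ⤳ t := by
    apply maximal_of_closure_singleton_mem_irreducibleComponents
    rw [hgen.def]
    exact hZ
  have hξY := not_mem_zeroLocus_of_maximal p g hY hmax
  obtain ⟨w, hwY, -, htd⟩ := exists_immediate_mem_zeroLocus p g (hgen.specializes hyZ) hξY hyY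
  rw [← hZdim, dim_eq_td_of_isGenericPoint p hgen, htd]
  have h1 := (dim_le_iff_of_isLocallyClosed p _ hcl.isLocallyClosed _).mp le_rfl w hwY
  push_cast
  exact add_le_add_left h1 1

end Groth.Agent.Lib.Helper21.FieldDim
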