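import Mathlib

/-!
# Fibres of integral morphisms are T1 (helper21)
-/

universe u

open CategoryTheory CategoryTheory.Limits AlgebraicGeometry

namespace Groth.Agent.Lib.Helper21

set_option backward.isDefEq.respectTransparency.types false in
/-- Every point of a fibre of an integral morphism is closed in the fibre. -/
theorem isClosed_singleton_fiber_of_isIntegralHom {X S : Scheme.{u}} (f : X ⟶ S) [IsIntegralHom f]
    (s : S) (z : ↥(f.fiber s)) : IsClosed ({z} : Set ↥(f.fiber s)) := by
  have hint : IsIntegralHom (f.fiberToSpecResidueField s) :=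
    MorphismProperty.pullback_snd (P := @IsIntegralHom) f _ inferInstance
  have haffhom : IsAffineHom (f.fiberToSpecResidueField s) := inferInstance
  have haff : IsAffine (f.fiber s) := isAffine_of_isAffineHom (f.fiberToSpecResidueField s)
  obtain ⟨ψ, hψ⟩ := Spec.map_surjective ((f.fiber s).isoSpec.inv ≫ f.fiberToSpecResidueField s)
  have hint' : IsIntegralHom (Spec.map ψ) := by
    rw [hψ]; infer_instance
  have hψint : ψ.hom.IsIntegral := IsIntegralHom.SpecMap_iff.1 hint'
  let P : PrimeSpectrum Γ(f.fiber s, ⊤) := (f.fiber s).isoSpec.hom z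
  have hPmax : P.asIdeal.IsMaximal := by
    refine Ideal.isMaximal_of_isIntegral_of_isMaximal_comap' ψ.hom hψint P.asIdeal ?_
    have : (P.asIdeal.comap ψ.hom).IsPrime := inferInstance
    have hbot : P.asIdeal.comap ψ.hom = ⊥ := Ideal.eq_bot_of_prime _
    rw [hbot]
    exact Ideal.bot_isMaximal
  have hcl : IsClosed ({P} : Set (PrimeSpectrum Γ(f.fiber s, ⊤))) :=
    (PrimeSpectrum.isClosed_singleton_iff_isMaximal P).2 hPmax
  have hpre : ({z} : Set ↥(f.fiber s)) = (f.fiber s).isoSpec.hom ⁻¹' {P} := by
    ext w
    simp only [Set.mem_singleton_iff, Set.mem_preimage]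
    constructor
    · rintro rfl; rfl
    · intro h
      exact (f.fiber s).isoSpec.hom.homeomorph.injective h
  rw [hpre]
  exact hcl.preimage (f.fiber s).isoSpec.hom.continuous

end Groth.Agent.Lib.Helper21
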