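import Mathlib

/-!
# A space covered by pairwise-meeting irreducible opens is irreducible (helper21)
-/

namespace Groth.Agent.Lib.Helper21

theorem isPreirreducible_univ_of_open_cover {X : Type*} [TopologicalSpace X] {ι : Type*}
    (U : ι → Set X) (hU : ∀ i, IsOpen (U i)) (hirr : ∀ i, IsPreirreducible (U i))
    (hcov : ∀ x, ∃ i, x ∈ U i) (hne : ∀ i j, (U i ∩ U j).Nonempty) :
    IsPreirreducible (Set.univ : Set X) := by
  intro A B hA hB ⟨a, _, ha⟩ ⟨b, _, hb⟩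
  obtain ⟨i, hai⟩ := hcov a
  obtain ⟨j, hbj⟩ := hcov b
  obtain ⟨c, hci, hcA, hcj⟩ := hirr i A (U j) hA (hU j) ⟨a, hai, ha⟩ (hne i j)
  obtain ⟨d, _, hdA, hdB⟩ := hirr j A B hA hB ⟨c, hcj, hcA⟩ ⟨b, hbj, hb⟩
  exact ⟨d, Set.mem_univ _, hdA, hdB⟩

theorem irreducibleSpace_of_open_cover {X : Type*} [TopologicalSpace X] [Nonempty X] {ι : Type*}
    (U : ι → Set X) (hU : ∀ i, IsOpen (U i)) (hirr : ∀ i, IsPreirreducible (U i))
    (hcov : ∀ x, ∃ i, x ∈ U i) (hne : ∀ i j, (U i ∩ U j).Nonempty) :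
    IrreducibleSpace X :=
  { isPreirreducible_univ := isPreirreducible_univ_of_open_cover U hU hirr hcov hne
    toNonempty := inferInstance }

end Groth.Agent.Lib.Helper21
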