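import Groth.Agent.Lib.Helper21.FibreTd
import Groth.Agent.Lib.Helper21.FlatFibreDimField
import Groth.Agent.Lib.Helper21.DominantMaximal
import Groth.Agent.Lib.Helper21.ConstrDim
import Groth.Agent.Lib.Helper21.FieldDimPts
import Groth.Agent.Lib.Helper21.EtaleTrdeg
import Groth.Agent.Lib.Helper73.LocalFibreDim
import Groth.Agent.S0402
import Mathlib

/-!
# Morphisms with irreducible equidimensional closed fibres (helper21)

`f : X ⟶ Y` a morphism of schemes of finite type over a field, `Y` irreducible, the fibres over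
closed points irreducible of dimension `d`.  Then exactly one irreducible component of `X`
dominates `Y`, each component is a union of closed fibres and has dimension `d + dim f(Z)‾`;
if moreover `f` is closed or `X` is pure dimensional then `X` is irreducible of dimension
`d + dim Y`.
-/

set_option linter.style.haveILetI false
universe u

open CategoryTheory CategoryTheory.Limits AlgebraicGeometry TopologicalSpace Topology

namespace Groth.Agent.Lib.Helper21.IrrFibres

open Groth.Agent.Lib.Helper21.FieldDim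

section LB

variable {X Y : Scheme.{u}} (f : X ⟶ Y) [LocallyOfFiniteType f]

theorem tdR_closedImmersion_comp {Z : Scheme.{u}} (ι : Z ⟶ X) [IsClosedImmersion ι] (z : Z) :
    tdR (ι ≫ f) z = tdR f (ι z) := by
  apply tdR_eq_of_trdegAt_eq
  rw [trdegAt_comp, trdegAt_eq_zero_of_locallyQuasiFinite ι z, add_zero, trdegAt_eq_tdR]

/-- lower bound for the fibre dimension along a specialization: if `ζ ⤳ x` then the fibre through
`x` contains a point `ξ` between `ζ` and `x` with `trdeg κ(ξ)/κ(f x) ≥ trdeg κ(ζ)/κ(f ζ)`. -/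
theorem exists_between_tdR_le {ζ x : X} (h : ζ ⤳ x) :
    ∃ ξ : X, ζ ⤳ ξ ∧ ξ ⤳ x ∧ f ξ = f x ∧ tdR f ζ ≤ tdR f ξ := by
  let Zc : Closeds X := ⟨closure {ζ}, isClosed_closure⟩
  let I := Scheme.IdealSheafData.vanishingIdeal Zc
  let ι : I.subscheme ⟶ X := I.subschemeι
  have hrange : Set.range ι = closure {ζ} := by
    rw [Scheme.IdealSheafData.range_subschemeι,
      Scheme.IdealSheafData.coe_support_vanishingIdeal]
    rfl
  have hζ : ζ ∈ Set.range ι := by rw [hrange]; exact subset_closure rfl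
  have hx : x ∈ Set.range ι := by rw [hrange]; exact h.mem_closure
  obtain ⟨zζ, hzζ⟩ := hζ
  obtain ⟨zx, hzx⟩ := hx
  have hsp : zζ ⤳ zx := by
    rw [← ι.isEmbedding.toIsInducing.specializes_iff, hzζ, hzx]
    exact h
  by_contra hcon
  push Not at hcon
  have key : ∀ ξ' : I.subscheme, ξ' ⤳ zx → (ι ≫ f) ξ' = (ι ≫ f) zx →
      tdR (ι ≫ f) ξ' < tdR (ι ≫ f) zζ := by
    intro ξ' hξ' hfξ'
    rw [tdR_closedImmersion_comp, tdR_closedImmersion_comp, hzζ]
    refine hcon (ι ξ') ?_ ?_ ?_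
    · have : ι ξ' ∈ closure {ζ} := by rw [← hrange]; exact ⟨ξ', rfl⟩
      exact specializes_iff_mem_closure.mpr this
    · rw [← hzx]
      exact hξ'.map ι.continuous
    · rw [← hzx]
      exact hfξ'
  have hpos : 0 < tdR (ι ≫ f) zζ := lt_of_le_of_lt (Nat.zero_le _) (key zx specializes_rfl rfl)
  have h1 : FlatMor.fibreDimAt (ι ≫ f) zx ≤ ((tdR (ι ≫ f) zζ - 1 : ℕ) : WithBot ℕ∞) := by
    rw [fibreDimAt_le_iff]
    intro ξ' hξ' hfξ'
    have := key ξ' hξ' hfξ'
    exact_mod_cast Nat.le_sub_one_of_lt this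
  have hopen := Groth.Agent.S0402.result (ι ≫ f) (tdR (ι ≫ f) zζ - 1)
  have h2 : FlatMor.fibreDimAt (ι ≫ f) zζ ≤ ((tdR (ι ≫ f) zζ - 1 : ℕ) : WithBot ℕ∞) :=
    hsp.mem_open hopen h1
  have h3 := (tdR_le_fibreDimAt (ι ≫ f) zζ).trans h2
  have h4 : tdR (ι ≫ f) zζ ≤ tdR (ι ≫ f) zζ - 1 := by exact_mod_cast h3
  omega

end LB

section Main

variable {k : Type u} [Field k] {X Y : Scheme.{u}} (qX : X ⟶ Spec (CommRingCat.of k))
  (qY : Y ⟶ Spec (CommRingCat.of k)) [LocallyOfFiniteType qX] [QuasiCompact qX]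
  [LocallyOfFiniteType qY] [QuasiCompact qY] (f : X ⟶ Y) (hf : f ≫ qY = qX)
  [LocallyOfFiniteType f] (d : ℕ)
  (H : ∀ y : Y, IsClosed ({y} : Set Y) →
    ∃ φ : X, f φ = y ∧ tdR f φ = d ∧ ∀ x : X, f x = y → φ ⤳ x)

omit [QuasiCompact qX] [QuasiCompact qY] in
include hf in
theorem isClosed_map_singleton {x : X} (hx : IsClosed ({x} : Set X)) :
    IsClosed ({f x} : Set Y) := by
  apply isClosed_singleton_of_td_eq_zero qY
  have h1 := td_eq_add_tdR qX qY f hf x
  rw [td_eq_zero_of_isClosed_singleton qX hx] at h1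
  omega

include qX qY hf H in
theorem tdR_le (ζ : X) : tdR f ζ ≤ d := by
  have : CompactSpace X := QuasiCompact.compactSpace_of_compactSpace qX
  obtain ⟨x, hζx, hx⟩ := exists_isClosed_specializes qX ζ
  obtain ⟨ξ, -, -, hfξ, hle⟩ := exists_between_tdR_le f hζx
  obtain ⟨φ, hφ1, hφ2, hφ3⟩ := H (f x) (isClosed_map_singleton qX qY f hf hx)
  have := tdR_le_of_specializes f (hφ3 ξ hfξ) (hφ1.trans hfξ.symm)
  omega

include qX qY hf H in
/-- the key step: generic points of components have the full relative dimension. -/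
theorem le_tdR_of_maximal {ζ : X} (hζ : ∀ t : X, t ⤳ ζ → ζ ⤳ t) : d ≤ tdR f ζ := by
  have hlnX : IsLocallyNoetherian X := LocallyOfFiniteType.isLocallyNoetherian qX
  have hlnY : IsLocallyNoetherian Y := LocallyOfFiniteType.isLocallyNoetherian qY
  have hcX : CompactSpace X := QuasiCompact.compactSpace_of_compactSpace qX
  have hcY : CompactSpace Y := QuasiCompact.compactSpace_of_compactSpace qY
  have hNX : AlgebraicGeometry.IsNoetherian X := AlgebraicGeometry.IsNoetherian.mk
  have hNSX : NoetherianSpace X := inferInstance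
  have hJY : JacobsonSpace Y := LocallyOfFiniteType.jacobsonSpace qY
  have hqc : QuasiCompact f := by
    have : QuasiCompact (f ≫ qY) := by rw [hf]; infer_instance
    exact QuasiCompact.of_comp f qY
  obtain ⟨U, hζU, hU⟩ :=
    Groth.Agent.Lib.Helper73.SchemeDim.exists_open_forall_exists_specializes X ζ
  have hU' : ∀ u ∈ U, ζ ⤳ u := by
    intro u hu
    obtain ⟨ξ, hξu, hξζ⟩ := hU u hu
    have : ξ = ζ := (hξζ.antisymm (hζ ξ hξζ)).eq
    rwa [this] at hξu
  have hOpen := Groth.Agent.S0402.result f (tdR f ζ)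
  set O : Set X := {x : X | FlatMor.fibreDimAt f x ≤ ((tdR f ζ : ℕ) : WithBot ℕ∞)} with hO
  have hUc : IsConstructible (U : Set X) :=
    (NoetherianSpace.isCompact (U : Set X)).isConstructible U.2
  have hOc : IsConstructible O := (NoetherianSpace.isCompact O).isConstructible hOpen
  have hTc : IsConstructible ((U : Set X) \ O) := hUc.sdiff hOc
  have hfT : IsConstructible (f '' ((U : Set X) \ O)) := f.isConstructible_image hTc
  have hfU : IsConstructible (f '' (U : Set X)) := f.isConstructible_image hUc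
  have hw : f ζ ∉ f '' ((U : Set X) \ O) := by
    rintro ⟨x, ⟨hxU, hxO⟩, hfx⟩
    apply hxO
    show FlatMor.fibreDimAt f x ≤ _
    rw [fibreDimAt_le_iff]
    intro ξ hξ hfξ
    have hξU : ξ ∈ U := hξ.mem_open U.2 hxU
    have := tdR_le_of_specializes f (hU' ξ hξU) (by rw [hfξ, hfx])
    exact_mod_cast this
  obtain ⟨U1, hU1, hwU1, h1⟩ := exists_open_inter_closure_subset_or hfT (f ζ)
  have h1' : closure {f ζ} ∩ U1 ⊆ (f '' ((U : Set X) \ O))ᶜ := by
    rcases h1 with h1 | h1
    · exact absurd (h1 ⟨subset_closure rfl, hwU1⟩) hw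
    · exact h1
  obtain ⟨U2, hU2, hwU2, h2⟩ := exists_open_inter_closure_subset hfU ⟨ζ, hζU, rfl⟩
  have hlc : IsLocallyClosed (closure {f ζ} ∩ (U1 ∩ U2)) := by
    rw [Set.inter_comm]
    exact (hU1.inter hU2).isLocallyClosed.inter isClosed_closure.isLocallyClosed
  obtain ⟨y', ⟨hy'cl, hy'1, hy'2⟩, hy'c⟩ := nonempty_inter_closedPoints
    (Z := closure {f ζ} ∩ (U1 ∩ U2)) ⟨f ζ, subset_closure rfl, hwU1, hwU2⟩ hlc
  obtain ⟨u, huU, hfu⟩ := h2 ⟨hy'cl, hy'2⟩
  obtain ⟨φ, hφ1, hφ2, hφ3⟩ := H y' hy'c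
  have hφU : φ ∈ U := (hφ3 u hfu).mem_open U.2 huU
  have hφO : φ ∈ O := by
    by_contra hφO
    exact h1' ⟨hy'cl, hy'1⟩ ⟨φ, ⟨hφU, hφO⟩, hφ1⟩
  have h3 := (tdR_le_fibreDimAt f φ).trans hφO
  rw [hφ2] at h3
  exact_mod_cast h3

include qX qY hf H in
theorem tdR_eq_of_maximal {ζ : X} (hζ : ∀ t : X, t ⤳ ζ → ζ ⤳ t) : tdR f ζ = d :=
  le_antisymm (tdR_le qX qY f hf d H ζ) (le_tdR_of_maximal qX qY f hf d H hζ)

include qX qY hf H in
/-- a component meeting a closed fibre contains it. -/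
theorem specializes_of_mem_fibre {ζ : X} (hζ : ∀ t : X, t ⤳ ζ → ζ ⤳ t) {x : X} (hx : ζ ⤳ x)
    (hy : IsClosed ({f x} : Set Y)) {x' : X} (hx' : f x' = f x) : ζ ⤳ x' := by
  obtain ⟨ξ, hζξ, -, hfξ, hle⟩ := exists_between_tdR_le f hx
  obtain ⟨φ, hφ1, hφ2, hφ3⟩ := H (f x) hy
  rw [tdR_eq_of_maximal qX qY f hf d H hζ] at hle
  have hφξ : φ ⤳ ξ := hφ3 ξ hfξ
  have hξφ : ξ = φ := by
    by_contra hne
    have := tdR_lt_of_specializes f hφξ (Ne.symm hne) (hφ1.trans hfξ.symm)
    omega
  rw [hξφ] at hζξ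
  exact hζξ.trans (hφ3 x' hx')

include qX qY hf H in
theorem td_of_maximal {ζ : X} (hζ : ∀ t : X, t ⤳ ζ → ζ ⤳ t) :
    td qX ζ = td qY (f ζ) + d := by
  rw [td_eq_add_tdR qX qY f hf ζ, tdR_eq_of_maximal qX qY f hf d H hζ]

variable [IrreducibleSpace Y]

include qX qY hf H in
theorem exists_maximal_dominant :
    ∃ ζ : X, (∀ t : X, t ⤳ ζ → ζ ⤳ t) ∧ f ζ = genericPoint Y := by
  have hlnX : IsLocallyNoetherian X := LocallyOfFiniteType.isLocallyNoetherian qX
  have hlnY : IsLocallyNoetherian Y := LocallyOfFiniteType.isLocallyNoetherian qY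
  have hJY : JacobsonSpace Y := LocallyOfFiniteType.jacobsonSpace qY
  have hqc : QuasiCompact f := by
    have : QuasiCompact (f ≫ qY) := by rw [hf]; infer_instance
    exact QuasiCompact.of_comp f qY
  have hdense : DenseRange f := by
    have h1 : closedPoints Y ⊆ Set.range f := by
      intro y hy
      obtain ⟨φ, hφ1, -, -⟩ := H y hy
      exact ⟨φ, hφ1⟩
    have h2 : closure (closedPoints Y) = Set.univ := closure_closedPoints
    rw [DenseRange, dense_iff_closure_eq, Set.eq_univ_iff_forall]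
    intro y
    have : y ∈ closure (closedPoints Y) := by rw [h2]; trivial
    exact closure_mono h1 this
  have hmax : ∀ z : Y, z ⤳ genericPoint Y → genericPoint Y ⤳ z :=
    fun z _ => genericPoint_specializes z
  obtain ⟨x, hx⟩ := mem_range_of_maximal_of_denseRange f hdense hmax
  obtain ⟨ζ, hζ, hζx⟩ := exists_maximal_specializes x
  refine ⟨ζ, hζ, ?_⟩
  have h1 : f ζ ⤳ genericPoint Y := hx ▸ hζx.map f.continuous
  exact (h1.antisymm (genericPoint_specializes _)).eq

include qX qY hf H in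
theorem maximal_dominant_unique {ζ₁ ζ₂ : X} (h₁ : ∀ t : X, t ⤳ ζ₁ → ζ₁ ⤳ t)
    (h₂ : ∀ t : X, t ⤳ ζ₂ → ζ₂ ⤳ t) (e₁ : f ζ₁ = genericPoint Y) (e₂ : f ζ₂ = genericPoint Y) :
    ζ₁ = ζ₂ := by
  have hlnX : IsLocallyNoetherian X := LocallyOfFiniteType.isLocallyNoetherian qX
  have hlnY : IsLocallyNoetherian Y := LocallyOfFiniteType.isLocallyNoetherian qY
  have hcX : CompactSpace X := QuasiCompact.compactSpace_of_compactSpace qX
  have hcY : CompactSpace Y := QuasiCompact.compactSpace_of_compactSpace qY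
  have hNX : AlgebraicGeometry.IsNoetherian X := AlgebraicGeometry.IsNoetherian.mk
  have hNSX : NoetherianSpace X := inferInstance
  have hJY : JacobsonSpace Y := LocallyOfFiniteType.jacobsonSpace qY
  have hqc : QuasiCompact f := by
    have : QuasiCompact (f ≫ qY) := by rw [hf]; infer_instance
    exact QuasiCompact.of_comp f qY
  have aux : ∀ ζ : X, (∀ t : X, t ⤳ ζ → ζ ⤳ t) → f ζ = genericPoint Y →
      ∃ (U : X.Opens) (V : Set Y), ζ ∈ U ∧ (∀ u ∈ U, ζ ⤳ u) ∧ IsOpen V ∧ genericPoint Y ∈ V ∧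
        V ⊆ f '' (U : Set X) := by
    intro ζ hζ e
    obtain ⟨U, hζU, hU⟩ :=
      Groth.Agent.Lib.Helper73.SchemeDim.exists_open_forall_exists_specializes X ζ
    have hU' : ∀ u ∈ U, ζ ⤳ u := by
      intro u hu
      obtain ⟨ξ, hξu, hξζ⟩ := hU u hu
      have : ξ = ζ := (hξζ.antisymm (hζ ξ hξζ)).eq
      rwa [this] at hξu
    have hUc : IsConstructible (U : Set X) :=
      (NoetherianSpace.isCompact (U : Set X)).isConstructible U.2
    have hfU : IsConstructible (f '' (U : Set X)) := f.isConstructible_image hUc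
    obtain ⟨V, hV, hwV, hsub⟩ := exists_open_inter_closure_subset hfU ⟨ζ, hζU, rfl⟩
    rw [e] at hwV hsub
    refine ⟨U, V, hζU, hU', hV, hwV, ?_⟩
    intro y hy
    exact hsub ⟨(genericPoint_specializes y).mem_closure, hy⟩
  obtain ⟨U₁, V₁, hζU₁, hU₁, hV₁, hηV₁, hsub₁⟩ := aux ζ₁ h₁ e₁
  obtain ⟨U₂, V₂, hζU₂, hU₂, hV₂, hηV₂, hsub₂⟩ := aux ζ₂ h₂ e₂
  obtain ⟨y', ⟨hy'1, hy'2⟩, hy'c⟩ := nonempty_inter_closedPoints
    (Z := V₁ ∩ V₂) ⟨genericPoint Y, hηV₁, hηV₂⟩ (hV₁.inter hV₂).isLocallyClosed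
  obtain ⟨u₁, hu₁, hfu₁⟩ := hsub₁ hy'1
  obtain ⟨u₂, hu₂, hfu₂⟩ := hsub₂ hy'2
  have hcl : IsClosed ({f u₂} : Set Y) := by rw [hfu₂]; exact hy'c
  have h3 : ζ₂ ⤳ u₁ := specializes_of_mem_fibre qX qY f hf d H h₂ (hU₂ u₂ hu₂) hcl
    (hfu₁.trans hfu₂.symm)
  have h4 : ζ₂ ∈ U₁ := h3.mem_open U₁.2 hu₁
  have h5 : ζ₁ ⤳ ζ₂ := hU₁ ζ₂ h4
  exact (h5.antisymm (h₂ ζ₁ h5)).eq

end Main

section Final

variable {k : Type u} [Field k] {X Y : Scheme.{u}} (qX : X ⟶ Spec (CommRingCat.of k))
  (qY : Y ⟶ Spec (CommRingCat.of k)) [LocallyOfFiniteType qX] [QuasiCompact qX]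
  [LocallyOfFiniteType qY] [QuasiCompact qY] (f : X ⟶ Y) (hf : f ≫ qY = qX)
  [LocallyOfFiniteType f] (d : ℕ)
  (H : ∀ y : Y, IsClosed ({y} : Set Y) →
    ∃ φ : X, f φ = y ∧ tdR f φ = d ∧ ∀ x : X, f x = y → φ ⤳ x)

omit [LocallyOfFiniteType f] in
theorem exists_maximal_of_mem_irreducibleComponents {Z : Set X}
    (hZ : Z ∈ irreducibleComponents X) :
    ∃ ζ : X, (∀ t : X, t ⤳ ζ → ζ ⤳ t) ∧ closure {ζ} = Z := by
  have hZcl := isClosed_of_mem_irreducibleComponents Z hZ
  have hξ : IsGenericPoint hZ.1.genericPoint Z := hZ.1.isGenericPoint_genericPoint hZcl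
  refine ⟨hZ.1.genericPoint, ?_, hξ.def⟩
  apply maximal_of_closure_singleton_mem_irreducibleComponents
  rw [hξ.def]
  exact hZ

omit [LocallyOfFiniteType f] in
theorem closure_image_closure_singleton (ζ : X) :
    closure (f '' closure {ζ}) = closure {f ζ} := by
  apply subset_antisymm
  · refine closure_minimal ?_ isClosed_closure
    rintro _ ⟨x, hx, rfl⟩
    have : ζ ⤳ x := specializes_iff_mem_closure.mpr hx
    exact (this.map f.continuous).mem_closure
  · refine closure_mono ?_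
    rintro _ rfl
    exact ⟨ζ, subset_closure rfl, rfl⟩

variable [IrreducibleSpace Y]

omit [LocallyOfFiniteType f] in
theorem map_eq_genericPoint_of_dense {ζ : X} (h : Dense (f '' closure {ζ})) :
    f ζ = genericPoint Y := by
  have h1 : closure {f ζ} = Set.univ := by
    rw [← closure_image_closure_singleton, h.closure_eq]
  have h2 : f ζ ⤳ genericPoint Y := by
    rw [specializes_iff_mem_closure, h1]; trivial
  exact (h2.antisymm (genericPoint_specializes _)).eq

include qX qY hf H in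
theorem components :
    (∃! Z : Set X, Z ∈ irreducibleComponents X ∧ Dense (f '' Z)) ∧
      ∀ Z ∈ irreducibleComponents X,
        (∀ y : Y, IsClosed ({y} : Set Y) → (f ⁻¹' {y} ∩ Z).Nonempty → f ⁻¹' {y} ⊆ Z) ∧
        topologicalKrullDim ↥Z = d + topologicalKrullDim ↥(closure (f '' Z)) := by
  constructor
  · obtain ⟨ζ₀, hζ₀, e₀⟩ := exists_maximal_dominant qX qY f hf d H
    refine ⟨closure {ζ₀}, ⟨closure_singleton_mem_irreducibleComponents_of_maximal hζ₀, ?_⟩, ?_⟩
    · rw [dense_iff_closure_eq, closure_image_closure_singleton, e₀]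
      exact genericPoint_closure _
    · rintro Z' ⟨hZ', hd'⟩
      obtain ⟨ζ', hζ', rfl⟩ := exists_maximal_of_mem_irreducibleComponents hZ'
      have e' := map_eq_genericPoint_of_dense f hd'
      rw [maximal_dominant_unique qX qY f hf d H hζ' hζ₀ e' e₀]
  · intro Z hZ
    obtain ⟨ζ, hζ, rfl⟩ := exists_maximal_of_mem_irreducibleComponents hZ
    constructor
    · rintro y hy ⟨x, hxy, hxZ⟩ x' hx'
      have hxy' : f x = y := hxy
      have hx'y : f x' = y := hx'
      have h1 : ζ ⤳ x := specializes_iff_mem_closure.mpr hxZ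
      have := specializes_of_mem_fibre qX qY f hf d H hζ h1 (by rw [hxy']; exact hy)
        (hx'y.trans hxy'.symm)
      exact this.mem_closure
    · rw [closure_image_closure_singleton, dim_closure_singleton qX, dim_closure_singleton qY,
        td_of_maximal qX qY f hf d H hζ]
      push_cast
      rw [add_comm]

omit [QuasiCompact qX] [QuasiCompact qY] [LocallyOfFiniteType f] in
include qX qY in
theorem conclusion_of_forall_specializes {ζ : X} (hζ : ∀ x : X, ζ ⤳ x)
    (e : f ζ = genericPoint Y) (htd : td qX ζ = td qY (f ζ) + d) :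
    IrreducibleSpace X ∧ topologicalKrullDim X = d + topologicalKrullDim Y := by
  constructor
  · rw [irreducibleSpace_def]
    have : (⊤ : Set X) = closure {ζ} := by
      symm
      rw [Set.top_eq_univ, Set.eq_univ_iff_forall]
      exact fun x => (hζ x).mem_closure
    rw [this]
    exact isIrreducible_singleton.closure
  · rw [dim_eq_td_of_forall_specializes qX ζ hζ, dim_eq_td_genericPoint qY, htd, e]
    push_cast
    rw [add_comm]

include qX qY hf H in
theorem irreducible_of_isClosedMap (hcl : IsClosedMap f) :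
    IrreducibleSpace X ∧ topologicalKrullDim X = d + topologicalKrullDim Y := by
  have hJX : JacobsonSpace X := LocallyOfFiniteType.jacobsonSpace qX
  obtain ⟨ζ₀, hζ₀, e₀⟩ := exists_maximal_dominant qX qY f hf d H
  refine conclusion_of_forall_specializes qX qY f d ?_ e₀ (td_of_maximal qX qY f hf d H hζ₀)
  have himg : f '' closure {ζ₀} = Set.univ := by
    have h1 : IsClosed (f '' closure {ζ₀}) := hcl _ isClosed_closure
    rw [← h1.closure_eq, closure_image_closure_singleton, e₀]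
    exact genericPoint_closure _
  have hclosed : closedPoints X ⊆ closure {ζ₀} := by
    intro x' hx'
    have hy : IsClosed ({f x'} : Set Y) := isClosed_map_singleton qX qY f hf hx'
    have : f x' ∈ f '' closure {ζ₀} := by rw [himg]; trivial
    obtain ⟨x, hx, hfx⟩ := this
    have h1 : ζ₀ ⤳ x := specializes_iff_mem_closure.mpr hx
    have := specializes_of_mem_fibre qX qY f hf d H hζ₀ h1 (by rw [hfx]; exact hy) hfx.symm
    exact this.mem_closure
  intro x
  have h2 : closure (closedPoints X) = Set.univ := closure_closedPoints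
  have h3 : x ∈ closure (closedPoints X) := by rw [h2]; trivial
  exact specializes_iff_mem_closure.mpr (closure_minimal hclosed isClosed_closure h3)

include qX qY hf H in
theorem irreducible_of_pure
    (hpure : ∀ Z ∈ irreducibleComponents X, topologicalKrullDim ↥Z = topologicalKrullDim X) :
    IrreducibleSpace X ∧ topologicalKrullDim X = d + topologicalKrullDim Y := by
  obtain ⟨ζ₀, hζ₀, e₀⟩ := exists_maximal_dominant qX qY f hf d H
  refine conclusion_of_forall_specializes qX qY f d ?_ e₀ (td_of_maximal qX qY f hf d H hζ₀)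
  have htd : ∀ ζ : X, (∀ t : X, t ⤳ ζ → ζ ⤳ t) →
      ((td qX ζ : ℕ) : WithBot ℕ∞) = topologicalKrullDim X := by
    intro ζ hζ
    rw [← hpure _ (closure_singleton_mem_irreducibleComponents_of_maximal hζ),
      dim_closure_singleton qX]
  intro x
  obtain ⟨ξ, hξ, hξx⟩ := exists_maximal_specializes x
  have h1 : td qX ξ = td qX ζ₀ := by
    have := (htd ξ hξ).trans (htd ζ₀ hζ₀).symm
    exact_mod_cast this
  have h2 := td_of_maximal qX qY f hf d H hξ
  have h3 := td_of_maximal qX qY f hf d H hζ₀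
  have h4 : f ξ = genericPoint Y := by
    by_contra hne
    have := td_lt_of_specializes qY (genericPoint_specializes (f ξ)) (Ne.symm hne)
    rw [e₀] at h3
    omega
  rw [maximal_dominant_unique qX qY f hf d H hξ hζ₀ h4 e₀] at hξx
  exact hξx

end Final

section Hyp

variable {X Y : Scheme.{u}} (f : X ⟶ Y) [LocallyOfFiniteType f]

/-- the generic point of an irreducible fibre. -/
theorem exists_generic_of_irreducible_fiber (y : Y) [IrreducibleSpace ↥(f.fiber y)] (d : ℕ)
    (hd : topologicalKrullDim ↥(f.fiber y) = d) :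
    ∃ φ : X, f φ = y ∧ tdR f φ = d ∧ ∀ x : X, f x = y → φ ⤳ x := by
  refine ⟨f.fiberι y (genericPoint ↥(f.fiber y)), ?_, ?_, ?_⟩
  · have : f.fiberι y (genericPoint ↥(f.fiber y)) ∈ Set.range (f.fiberι y) := ⟨_, rfl⟩
    rw [Scheme.Hom.range_fiberι] at this
    exact this
  · rw [← td_fibStr]
    have h1 := dim_eq_td_genericPoint (fibStr f y)
    rw [hd] at h1
    exact_mod_cast h1.symm
  · intro x hx
    have hmem : x ∈ Set.range (f.fiberι y) := by
      rw [Scheme.Hom.range_fiberι]; exact hx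
    obtain ⟨z, rfl⟩ := hmem
    exact (genericPoint_specializes z).map (f.fiberι y).continuous

theorem exists_generic_of_irreducible_preimage (y : Y) (hirr : IsIrreducible (f ⁻¹' {y})) (d : ℕ)
    (hd : topologicalKrullDim ↥(f ⁻¹' {y}) = d) :
    ∃ φ : X, f φ = y ∧ tdR f φ = d ∧ ∀ x : X, f x = y → φ ⤳ x := by
  have h1 : IrreducibleSpace ↥(f ⁻¹' {y}) := Subtype.irreducibleSpace hirr
  have h2 : IrreducibleSpace ↥(f.fiber y) := by
    rw [irreducibleSpace_def]
    have h3 := (IrreducibleSpace.isIrreducible_univ ↥(f ⁻¹' {y})).image (f.fiberHomeo y).symm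
      (f.fiberHomeo y).symm.continuous.continuousOn
    rwa [Set.image_univ_of_surjective (f.fiberHomeo y).symm.surjective] at h3
  exact exists_generic_of_irreducible_fiber f y d (by rw [← dim_preimage_singleton]; exact hd)

end Hyp

end Groth.Agent.Lib.Helper21.IrrFibres
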