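import Mathlib

/-!
# A one-point affine scheme with a rational point, faithfully flat under a Noetherian ring,
is finite over the field (helper21)
-/

set_option linter.style.haveILetI false
set_option autoImplicit false
universe u

namespace Groth.Agent.Lib.Helper21.OnePtFinite

theorem finite_of_retraction_of_unique_prime (k A B : Type u) [Field k] [CommRing A] [Algebra k A]
    [CommRing B] [Algebra A B] [IsNoetherianRing B] [Module.FaithfullyFlat A B]
    (ρ : A →ₐ[k] k) (huniq : ∀ p q : Ideal A, p.IsPrime → q.IsPrime → p = q) :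
    Module.Finite k A := by
  haveI hN : IsNoetherianRing A := by
    rw [isNoetherianRing_iff_ideal_fg]
    intro I
    exact Ideal.FG.of_FG_map_of_faithfullyFlat (S := B) (IsNoetherian.noetherian _)
  have hρ : Function.Surjective ρ := fun c => ⟨algebraMap k A c, by simp⟩
  haveI hm : (RingHom.ker (ρ : A →+* k)).IsMaximal := RingHom.ker_isMaximal_of_surjective _ hρ
  haveI hdim : Ring.KrullDimLE 0 A := by
    rw [Ring.krullDimLE_zero_iff]
    intro p hp
    rw [huniq p (RingHom.ker (ρ : A →+* k)) hp hm.isPrime]
    exact hm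
  haveI hArt : IsArtinianRing A := isArtinianRing_iff_isNoetherianRing_krullDimLE_zero.mpr ⟨hN, hdim⟩
  have hle : RingHom.ker (ρ : A →+* k) ≤ Ring.jacobson A := by
    rw [Ring.jacobson_eq_sInf_isMaximal]
    intro x hx
    rw [Ideal.mem_sInf]
    intro J hJ
    have hJm : J.IsMaximal := hJ
    rw [huniq J (RingHom.ker (ρ : A →+* k)) hJm.isPrime hm.isPrime]
    exact hx
  haveI : Module.Finite k (A ⧸ Ring.jacobson A) := by
    apply Module.Finite.of_surjective (Algebra.linearMap k (A ⧸ Ring.jacobson A))
    intro y
    obtain ⟨a, rfl⟩ := Ideal.Quotient.mk_surjective y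
    refine ⟨ρ a, ?_⟩
    rw [Algebra.linearMap_apply, IsScalarTower.algebraMap_apply k A (A ⧸ Ring.jacobson A),
      Ideal.Quotient.algebraMap_eq]
    rw [Ideal.Quotient.eq]
    apply hle
    rw [RingHom.mem_ker, map_sub]
    simp
  exact IsSemiprimaryRing.finite_of_isArtinian k A A

end Groth.Agent.Lib.Helper21.OnePtFinite
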