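import Groth.Agent.Lib.Helper59.OpenGoingDown
import Mathlib

/-!
# Open morphisms of schemes are generalizing; valuation rings along a specialization (helper21)
-/

set_option linter.style.haveILetI false
universe u

open CategoryTheory CategoryTheory.Limits AlgebraicGeometry TopologicalSpace Topology

namespace Groth.Agent.Lib.Helper21.OpenGeneralizing

/-- a morphism of schemes which is an open map lifts generizations. -/
theorem generalizingMap_of_isOpenMap {X Y : Scheme.{u}} (f : X ⟶ Y) (hf : IsOpenMap f) :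
    GeneralizingMap f := by
  intro x y' hy
  obtain ⟨_, ⟨W, hW, rfl⟩, hxW, -⟩ :=
    Y.isBasis_affineOpens.exists_subset_of_mem_open (Set.mem_univ (f x)) isOpen_univ
  have hW' : IsAffineOpen W := hW
  have hxW' : x ∈ ((f ⁻¹ᵁ W : X.Opens) : Set X) := hxW
  obtain ⟨_, ⟨V, hV, rfl⟩, hxV, hVW⟩ :=
    X.isBasis_affineOpens.exists_subset_of_mem_open hxW' (f ⁻¹ᵁ W).2
  have hV' : IsAffineOpen V := hV
  have e : V ≤ f ⁻¹ᵁ W := hVW
  let φ := f.appLE W V e
  have sq : Spec.map φ ≫ hW'.fromSpec = hV'.fromSpec ≫ f :=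
    IsAffineOpen.SpecMap_appLE_fromSpec f hW' hV' e
  have sq' : ∀ v, hW'.fromSpec (Spec.map φ v) = f (hV'.fromSpec v) := by
    intro v
    change (Spec.map φ ≫ hW'.fromSpec) v = (hV'.fromSpec ≫ f) v
    rw [sq]
  have hembW : IsOpenEmbedding hW'.fromSpec := hW'.fromSpec.isOpenEmbedding
  have hembV : IsOpenEmbedding hV'.fromSpec := hV'.fromSpec.isOpenEmbedding
  -- `Spec.map φ` is an open map
  have hopen : IsOpenMap (Spec.map φ) := by
    intro O hO
    have h1 : IsOpen (f '' (hV'.fromSpec '' O)) := hf _ (hembV.isOpenMap _ hO)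
    have h2 : (Spec.map φ) '' O = hW'.fromSpec ⁻¹' (f '' (hV'.fromSpec '' O)) := by
      ext u
      constructor
      · rintro ⟨v, hv, rfl⟩
        exact ⟨hV'.fromSpec v, ⟨v, hv, rfl⟩, (sq' v).symm⟩
      · rintro ⟨_, ⟨v, hv, rfl⟩, hu⟩
        refine ⟨v, hv, ?_⟩
        apply hembW.injective
        rw [sq' v]
        exact hu
    rw [h2]
    exact h1.preimage hW'.fromSpec.continuous
  letI : Algebra Γ(Y, W) Γ(X, V) := φ.hom.toAlgebra
  have hgen : GeneralizingMap (PrimeSpectrum.comap (algebraMap Γ(Y, W) Γ(X, V))) :=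
    Groth.Agent.Lib.Helper59.OpenGoingDown.generalizingMap_of_isOpenMap hopen
  obtain ⟨xR, rfl⟩ : x ∈ Set.range hV'.fromSpec := by rw [hV'.range_fromSpec]; exact hxV
  have hy'W : y' ∈ (W : Set Y) := hy.mem_open W.2 hxW
  obtain ⟨yR, rfl⟩ : y' ∈ Set.range hW'.fromSpec := by rw [hW'.range_fromSpec]; exact hy'W
  have hsp : yR ⤳ PrimeSpectrum.comap (algebraMap Γ(Y, W) Γ(X, V)) xR := by
    have h3 : hW'.fromSpec yR ⤳ hW'.fromSpec (Spec.map φ xR) := by
      rw [sq' xR]; exact hy
    exact hembW.isEmbedding.toIsInducing.specializes_iff.mp h3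
  obtain ⟨x'R, hx', hx'y⟩ := hgen hsp
  refine ⟨hV'.fromSpec x'R, hx'.map hV'.fromSpec.continuous, ?_⟩
  rw [← sq' x'R]
  congr 1

/-- for a specialization `s' ⤳ s` there is a valuation ring `A` and `Spec A ⟶ S` mapping the closed
point to `s` and the generic point to `s'`. -/
theorem exists_valuationRing_of_specializes {S : Scheme.{u}} {s' s : S} (h : s' ⤳ s) :
    ∃ (A : Type u) (_ : CommRing A) (_ : IsDomain A) (_ : ValuationRing A)
      (φ : Spec (CommRingCat.of A) ⟶ S),
      φ (IsLocalRing.closedPoint A) = s ∧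
        ∀ t : Spec (CommRingCat.of A), t.asIdeal = ⊥ → φ t = s' := by
  let ψ : S.presheaf.stalk s ⟶ S.residueField s' := S.presheaf.stalkSpecializes h ≫ S.residue s'
  obtain ⟨A, hA, hA_local⟩ := IsLocalRing.exists_factor_valuationRing ψ.hom
  let ψA : S.presheaf.stalk s ⟶ CommRingCat.of A :=
    CommRingCat.ofHom (ψ.hom.codRestrict _ hA)
  refine ⟨A, inferInstance, inferInstance, inferInstance, Spec.map ψA ≫ S.fromSpecStalk s, ?_, ?_⟩
  · have : Spec.map ψA (IsLocalRing.closedPoint A) = IsLocalRing.closedPoint (S.presheaf.stalk s) :=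
      IsLocalRing.comap_closedPoint (S := A) (ψ.hom.codRestrict A.toSubring hA)
    change S.fromSpecStalk s (Spec.map ψA (IsLocalRing.closedPoint A)) = s
    rw [this, S.fromSpecStalk_closedPoint]
  · intro t ht
    have w : Spec.map (CommRingCat.ofHom (algebraMap A (S.residueField s'))) ≫
        Spec.map ψA ≫ S.fromSpecStalk s = S.fromSpecResidueField s' := by
      rw [Scheme.fromSpecResidueField, ← Scheme.SpecMap_stalkSpecializes_fromSpecStalk h,
        ← Spec.map_comp_assoc, ← Spec.map_comp_assoc]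
      rfl
    let pt : Spec (S.residueField s') := default
    have hpt : Spec.map (CommRingCat.ofHom (algebraMap A (S.residueField s'))) pt = t := by
      apply PrimeSpectrum.ext
      rw [ht]
      change Ideal.comap (algebraMap A (S.residueField s')) pt.asIdeal = ⊥
      have hbot : pt.asIdeal = ⊥ := by
        have := Ideal.eq_bot_or_top pt.asIdeal
        rcases this with h1 | h1
        · exact h1
        · exact absurd h1 pt.isPrime.ne_top
      rw [hbot]
      rw [← RingHom.ker_eq_comap_bot]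
      exact (RingHom.injective_iff_ker_eq_bot _).mp (IsFractionRing.injective A (S.residueField s'))
    rw [← hpt]
    change (Spec.map (CommRingCat.ofHom (algebraMap A (S.residueField s'))) ≫
        Spec.map ψA ≫ S.fromSpecStalk s) pt = s'
    rw [w, Scheme.fromSpecResidueField_apply]

end Groth.Agent.Lib.Helper21.OpenGeneralizing
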