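import Groth.Prelude.Def_AnCl
import Mathlib.CategoryTheory.Sites.DenseSubsite.SheafEquiv

/-!
# The opens of a space form a dense subsite of the site of local homeomorphisms over it
-/

set_option autoImplicit false
universe u

open CategoryTheory TopologicalSpace Topology Opposite

namespace Groth.Agent.Lib.Helper21

variable (T : Type u) [TopologicalSpace T]

lemma opensToCl_hom_val {U V : Opens T} (f : (An.opensToCl T).obj U ⟶ (An.opensToCl T).obj V)
    (a : U) : Subtype.val (p := (· ∈ V)) (f.toFun a) = (a : T) := f.over a

instance opensToCl_full : (An.opensToCl T).Full where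
  map_surjective {U V} f := by
    have hle : U ≤ V := fun x hx => by
      have h := opensToCl_hom_val T f ⟨x, hx⟩
      have h2 : Subtype.val (p := (· ∈ V)) (f.toFun ⟨x, hx⟩) ∈ V :=
        Subtype.property (p := (· ∈ V)) (f.toFun ⟨x, hx⟩)
      rw [h] at h2
      exact h2
    refine ⟨homOfLE hle, ?_⟩
    apply An.Cl.hom_ext
    funext a
    apply Subtype.ext
    exact (opensToCl_hom_val T f a).symm

instance opensToCl_faithful : (An.opensToCl T).Faithful where
  map_injective _ := Subsingleton.elim _ _

instance opensToCl_isCoverDense : (An.opensToCl T).IsCoverDense (An.Cl.topology T) where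
  is_cover A := by
    intro a
    obtain ⟨e, hae, hpe⟩ := A.lh a
    let U : Opens T := ⟨e.target, e.open_target⟩
    let g : (An.opensToCl T).obj U ⟶ A :=
      { toFun := e.symm.source.domRestrict e.symm
        continuous := e.symm.isOpenEmbedding_restrict.continuous
        over := fun t => by
          change A.p (e.symm t.1) = t.1
          rw [hpe]
          exact e.right_inv t.2 }
    refine ⟨_, g, Presieve.in_coverByImage _ g, e.symm.isOpenEmbedding_restrict, ?_⟩
    refine ⟨⟨e a, e.map_source hae⟩, ?_⟩
    change e.symm (e a) = a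
    exact e.left_inv hae

lemma opensToCl_functorPushforward_mem_iff {U : Opens T} {S : Sieve U} :
    S.functorPushforward (An.opensToCl T) ∈ An.Cl.topology T ((An.opensToCl T).obj U) ↔
      S ∈ Opens.grothendieckTopology T U := by
  constructor
  · intro h x hx
    obtain ⟨B, g, ⟨V, f, k, hSf, hfac⟩, _, b, hb⟩ := h ⟨x, hx⟩
    refine ⟨V, f, hSf, ?_⟩
    have h1 : g.toFun b = ((An.opensToCl T).map f).toFun (k.toFun b) := by
      rw [hfac]; rfl
    have h2 : Subtype.val (p := (· ∈ U)) (((An.opensToCl T).map f).toFun (k.toFun b)) =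
        Subtype.val (p := (· ∈ V)) (k.toFun b) := rfl
    have h3 : Subtype.val (p := (· ∈ U)) (g.toFun b) = x := by rw [hb]
    have h4 : Subtype.val (p := (· ∈ V)) (k.toFun b) ∈ V :=
      Subtype.property (p := (· ∈ V)) (k.toFun b)
    rw [← h2, ← h1, h3] at h4
    exact h4
  · intro h a
    obtain ⟨V, f, hSf, hxV⟩ := h a.1 a.2
    refine ⟨(An.opensToCl T).obj V, (An.opensToCl T).map f, ?_, ?_, ?_⟩
    · exact ⟨V, f, 𝟙 _, hSf, (Category.id_comp _).symm⟩
    · exact IsOpenEmbedding.inclusion f.le (V.2.preimage continuous_subtype_val)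
    · exact ⟨⟨a.1, hxV⟩, Subtype.ext rfl⟩

instance opensToCl_isDenseSubsite :
    (An.opensToCl T).IsDenseSubsite (Opens.grothendieckTopology T) (An.Cl.topology T) where
  functorPushforward_mem_iff := opensToCl_functorPushforward_mem_iff T

theorem opCont : An.OpCont T := inferInstance

end Groth.Agent.Lib.Helper21
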