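import Mathlib
import Groth.Agent.S9407

/-!
# Tensor products of reduced algebras over a perfect field are reduced (helper21)

`isReduced_tensor`: `k` perfect, `A`, `B` reduced `k`-algebras ⇒ `A ⊗[k] B` reduced.
-/

set_option linter.style.haveILetI false
set_option autoImplicit false
universe u
open TensorProduct

namespace Groth.Agent.Lib.Helper21.PerfTensorRed

variable (k : Type u) [Field k] [PerfectField k]

/-- A finitely generated domain over a perfect field is smooth over a nonempty basic open. -/
theorem exists_smooth_away (B : Type u) [CommRing B] [IsDomain B] [Algebra k B]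
    [Algebra.FiniteType k B] : ∃ f : B, f ≠ 0 ∧ Algebra.Smooth k (Localization.Away f) := by
  haveI : Algebra.FinitePresentation k B := Algebra.FinitePresentation.of_finiteType.mp inferInstance
  haveI hp : (⊥ : Ideal B).IsPrime := Ideal.isPrime_bot
  have hcompl : (⊥ : Ideal B).primeCompl = nonZeroDivisors B := by
    ext x
    simp [Ideal.primeCompl, mem_nonZeroDivisors_iff_ne_zero]
  haveI hloc : IsLocalization (nonZeroDivisors B) (Localization.AtPrime (⊥ : Ideal B)) := by
    rw [← hcompl]; infer_instance
  haveI : IsFractionRing B (Localization.AtPrime (⊥ : Ideal B)) := hloc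
  let e : FractionRing B ≃ₐ[B] Localization.AtPrime (⊥ : Ideal B) :=
    IsLocalization.algEquiv (nonZeroDivisors B) _ _
  haveI : Algebra.EssFiniteType k (FractionRing B) :=
    Algebra.EssFiniteType.comp k B (FractionRing B)
  haveI : Algebra.FormallySmooth k (FractionRing B) := Algebra.FormallySmooth.of_perfectField
  haveI : Algebra.IsSmoothAt k (⊥ : Ideal B) :=
    Algebra.FormallySmooth.of_equiv (e.restrictScalars k)
  obtain ⟨f, hf, hsm⟩ := Algebra.IsSmoothAt.exists_notMem_smooth k (⊥ : Ideal B)
  exact ⟨f, fun h => hf (by rw [h]; exact Ideal.zero_mem _), hsm⟩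

/-- `A` reduced, `B` a finitely generated domain over a perfect field ⇒ `A ⊗ B` reduced. -/
theorem isReduced_tensor_of_isDomain (A B : Type u) [CommRing A] [Algebra k A] [IsReduced A]
    [CommRing B] [IsDomain B] [Algebra k B] [Algebra.FiniteType k B] : IsReduced (A ⊗[k] B) := by
  obtain ⟨f, hf, hsm⟩ := exists_smooth_away k B
  haveI : Algebra.Smooth A (A ⊗[k] Localization.Away f) := inferInstance
  haveI : IsReduced (A ⊗[k] Localization.Away f) :=
    Groth.Agent.S9407.result A (A ⊗[k] Localization.Away f)
  have hinj : Function.Injective (algebraMap B (Localization.Away f)) :=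
    IsLocalization.injective (Localization.Away f)
      (powers_le_nonZeroDivisors_of_noZeroDivisors hf)
  let φ : B →ₐ[k] Localization.Away f := IsScalarTower.toAlgHom k B (Localization.Away f)
  have hφ : Function.Injective φ := hinj
  exact isReduced_of_injective (Algebra.TensorProduct.map (AlgHom.id k A) φ)
    (Module.Flat.lTensor_preserves_injective_linearMap _ hφ)

/-- naturality of the coordinates of `A ⊗ B` with respect to a basis of `A`. -/
theorem equivFinsupp_map {A B B' : Type u} [CommRing A] [Algebra k A] [CommRing B] [Algebra k B]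
    [CommRing B'] [Algebra k B'] {ι : Type*} [DecidableEq ι] (ℬ : Module.Basis ι k A) (π : B →ₐ[k] B')
    (z : A ⊗[k] B) (i : ι) :
    TensorProduct.equivFinsuppOfBasisLeft ℬ (Algebra.TensorProduct.map (AlgHom.id k A) π z) i =
      π (TensorProduct.equivFinsuppOfBasisLeft ℬ z i) := by
  induction z using TensorProduct.induction_on with
  | zero => simp
  | tmul a b =>
    simp only [Algebra.TensorProduct.map_tmul, AlgHom.coe_id, id_eq,
      TensorProduct.equivFinsuppOfBasisLeft_apply_tmul_apply, map_smul]
  | add x y hx hy =>
    simp only [map_add, Finsupp.add_apply, hx, hy]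

/-- `A` reduced, `B` reduced of finite type over a perfect field ⇒ `A ⊗ B` reduced. -/
theorem isReduced_tensor_of_finiteType (A B : Type u) [CommRing A] [Algebra k A] [IsReduced A]
    [CommRing B] [IsReduced B] [Algebra k B] [Algebra.FiniteType k B] : IsReduced (A ⊗[k] B) := by
  classical
  constructor
  intro z hz
  let ℬ := Module.Basis.ofVectorSpace k A
  have hcoord : ∀ i, TensorProduct.equivFinsuppOfBasisLeft ℬ z i = 0 := by
    intro i
    have hnil : TensorProduct.equivFinsuppOfBasisLeft ℬ z i ∈ nilradical B := by
      rw [nilradical_eq_sInf, Ideal.mem_sInf]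
      intro q hq
      haveI : q.IsPrime := hq
      haveI : IsReduced (A ⊗[k] (B ⧸ q)) := isReduced_tensor_of_isDomain k A (B ⧸ q)
      let π : B →ₐ[k] B ⧸ q := Ideal.Quotient.mkₐ k q
      have h0 : Algebra.TensorProduct.map (AlgHom.id k A) π z = 0 :=
        (hz.map (Algebra.TensorProduct.map (AlgHom.id k A) π)).eq_zero
      have h1 := equivFinsupp_map k ℬ π z i
      rw [h0, map_zero, Finsupp.zero_apply] at h1
      exact Ideal.Quotient.eq_zero_iff_mem.mp h1.symm
    rwa [nilradical_eq_zero, Ideal.zero_eq_bot, Ideal.mem_bot] at hnil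
  have : TensorProduct.equivFinsuppOfBasisLeft ℬ z = 0 := Finsupp.ext hcoord
  exact (LinearEquiv.map_eq_zero_iff _).mp this

/-- **Main theorem**: reduced algebras over a perfect field have reduced tensor product. -/
theorem isReduced_tensor (A B : Type u) [CommRing A] [Algebra k A] [IsReduced A]
    [CommRing B] [IsReduced B] [Algebra k B] : IsReduced (A ⊗[k] B) := by
  apply IsReduced.tensorProduct_of_flat_of_forall_fg
  intro B' hB'
  haveI : Algebra.FiniteType k B' := (Subalgebra.fg_iff_finiteType B').mp hB'
  haveI : IsReduced B' := isReduced_of_injective B'.val Subtype.val_injective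
  exact isReduced_tensor_of_finiteType k A B'

end Groth.Agent.Lib.Helper21.PerfTensorRed
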