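import Mathlib
import Groth.Agent.Lib.Helper21.PerfTensorRed

/-!
# Fibre products of reduced schemes over a perfect field are reduced (helper21)
-/

set_option linter.style.haveILetI false
set_option autoImplicit false
universe u
open CategoryTheory CategoryTheory.Limits AlgebraicGeometry TensorProduct

namespace Groth.Agent.Lib.Helper21.PerfProdRed

variable (k : Type u) [Field k] [PerfectField k]

theorem isReduced_pullback_Spec (R S : CommRingCat.{u})
    (f : Spec R ⟶ Spec (CommRingCat.of k)) (g : Spec S ⟶ Spec (CommRingCat.of k))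
    [IsReduced (Spec R)] [IsReduced (Spec S)] : IsReduced (pullback f g) := by
  obtain ⟨φ, rfl⟩ := Spec.map_surjective f
  obtain ⟨ψ, rfl⟩ := Spec.map_surjective g
  letI := φ.hom.toAlgebra
  letI := ψ.hom.toAlgebra
  haveI hR : _root_.IsReduced R := (affine_isReduced_iff R).mp inferInstance
  haveI hS : _root_.IsReduced S := (affine_isReduced_iff S).mp inferInstance
  haveI : _root_.IsReduced (R ⊗[k] S) :=
    Groth.Agent.Lib.Helper21.PerfTensorRed.isReduced_tensor k R S
  have e : pullback (Spec.map φ) (Spec.map ψ) ≅ Spec (CommRingCat.of (R ⊗[k] S)) :=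
    pullbackSpecIso k R S
  exact isReduced_of_isOpenImmersion e.hom

theorem isReduced_pullback_field {X Y : Scheme.{u}} [IsReduced X] [IsReduced Y]
    (f : X ⟶ Spec (CommRingCat.of k)) (g : Y ⟶ Spec (CommRingCat.of k)) :
    IsReduced (pullback f g) := by
  let 𝒰 := Scheme.Pullback.openCoverOfLeftRight X.affineCover Y.affineCover f g
  haveI : ∀ i, IsReduced (𝒰.X i) := by
    rintro ⟨i, j⟩
    have h1 : IsReduced (X.affineCover.X i) := isReduced_of_isOpenImmersion (X.affineCover.f i)
    have h2 : IsReduced (Y.affineCover.X j) := isReduced_of_isOpenImmersion (Y.affineCover.f j)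
    exact @isReduced_pullback_Spec k _ _ _ _ (X.affineCover.f i ≫ f) (Y.affineCover.f j ≫ g) h1 h2
  exact IsReduced.of_openCover _ 𝒰

/-- Fibre products of reduced schemes over (a scheme isomorphic to) the spectrum of a perfect
field are reduced. -/
theorem isReduced_pullback {U X Y : Scheme.{u}} (eU : U ≅ Spec (CommRingCat.of k))
    [IsReduced X] [IsReduced Y] (f : X ⟶ U) (g : Y ⟶ U) : IsReduced (pullback f g) := by
  haveI := isReduced_pullback_field k (f ≫ eU.hom) (g ≫ eU.hom)
  let m : pullback f g ⟶ pullback (f ≫ eU.hom) (g ≫ eU.hom) :=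
    pullback.map f g (f ≫ eU.hom) (g ≫ eU.hom) (𝟙 _) (𝟙 _) eU.hom (by simp) (by simp)
  haveI : IsIso m := by dsimp only [m]; infer_instance
  exact isReduced_of_isOpenImmersion m

end Groth.Agent.Lib.Helper21.PerfProdRed
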