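import Mathlib
import Groth.Agent.Lib.Helper21.IsolatedPoints

/-!
# Quasi-finiteness from pointwise criteria
-/

set_option autoImplicit false
open CategoryTheory AlgebraicGeometry Limits
universe u

namespace Groth.Agent.Lib.Helper21

/-- If all residue field extensions of `g` are algebraic and `g` is locally of finite type,
then `g` is quasi-finite at every point. -/
theorem quasiFiniteAt_of_forall_isAlgebraic {Y S : Scheme.{u}} (g : Y ⟶ S) [LocallyOfFiniteType g]
    (halg : ∀ y : Y, @Algebra.IsAlgebraic (S.residueField (g y)) (Y.residueField y) _ _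
      (g.residueFieldMap y).hom.toAlgebra) (y : Y) : g.QuasiFiniteAt y := by
  have hcl : ∀ y : Y, IsClosed ({g.asFiber y} : Set (g.fiber (g y))) := fun y =>
    isClosed_asFiber_of_isAlgebraic g y (halg y)
  have key : ∀ (s : S) (y : Y) (_ : g y = s) (z : g.fiber s), g.fiberι s z = y →
      IsClosed ({z} : Set (g.fiber s)) := by
    intro s y hy
    subst hy
    intro z hz
    have : z = g.asFiber y :=
      (g.fiberι (g y)).isEmbedding.injective (hz.trans (g.fiberι_asFiber y).symm)
    rw [this]
    exact hcl y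
  have hall : ∀ (s : S) (z : g.fiber s), IsClosed ({z} : Set (g.fiber s)) := by
    intro s z
    refine key s (g.fiberι s z) ?_ z rfl
    have h1 : g.fiberι s z ∈ Set.range (g.fiberι s) := ⟨z, rfl⟩
    rw [g.range_fiberι] at h1
    exact h1
  rw [quasiFiniteAt_iff_isClosed_and_maximal]
  refine ⟨hcl y, fun z' hz' => ?_⟩
  have h1 : g.asFiber y ∈ closure ({z'} : Set (g.fiber (g y))) := specializes_iff_mem_closure.1 hz'
  rw [(hall _ z').closure_eq] at h1
  exact h1.symm

/-- A morphism locally of finite type which is quasi-finite at every point is locally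
quasi-finite. -/
theorem locallyQuasiFinite_of_forall_quasiFiniteAt {Y S : Scheme.{u}} (g : Y ⟶ S)
    [LocallyOfFiniteType g] (h : ∀ y : Y, g.QuasiFiniteAt y) : LocallyQuasiFinite g := by
  rw [locallyQuasiFinite_iff_isDiscrete_preimage_singleton]
  intro s
  rw [isDiscrete_iff_forall_mem_exists_isOpen]
  rintro y (rfl : g y = _)
  have hopen : IsOpen ({g.asFiber y} : Set (g.fiber (g y))) :=
    Scheme.Hom.quasiFiniteAt_iff_isOpen_singleton_asFiber.1 (h y)
  have h1 : IsOpen ((g.fiberHomeo (g y)) '' {g.asFiber y}) :=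
    (g.fiberHomeo (g y)).isOpenMap _ hopen
  obtain ⟨u, hu, hu'⟩ := isOpen_induced_iff.1 h1
  refine ⟨u, hu, ?_⟩
  ext w
  constructor
  · rintro ⟨hwu, hws⟩
    have : (⟨w, hws⟩ : g ⁻¹' {g y}) ∈ Subtype.val ⁻¹' u := hwu
    rw [hu'] at this
    obtain ⟨_, rfl, h3⟩ := this
    have := congrArg Subtype.val h3
    rw [Scheme.Hom.fiberHomeo_apply, g.fiberι_asFiber] at this
    exact this.symm
  · rintro rfl
    refine ⟨?_, rfl⟩
    have : (⟨w, rfl⟩ : g ⁻¹' {g w}) ∈ (g.fiberHomeo (g w)) '' {g.asFiber w} := by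
      refine ⟨_, rfl, Subtype.ext ?_⟩
      rw [Scheme.Hom.fiberHomeo_apply, g.fiberι_asFiber]
    rw [← hu'] at this
    exact this

end Groth.Agent.Lib.Helper21
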