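import Mathlib

/-!
# Morphisms from reduced schemes factor through reduced induced closed subschemes (helper21)
-/

set_option linter.style.haveILetI false
set_option autoImplicit false
universe u
open CategoryTheory AlgebraicGeometry TopologicalSpace

namespace Groth.Agent.Lib.Helper21.RedLift

/-- a morphism from a reduced scheme with set-theoretic image in a closed set factors through the
reduced induced closed subscheme. -/
theorem exists_lift {X T : Scheme.{u}} [IsReduced T] (Z : Closeds X) (g : T ⟶ X)
    (hg : Set.range g ⊆ (Z : Set X)) :
    ∃ g' : T ⟶ (Scheme.IdealSheafData.vanishingIdeal Z).subscheme,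
      g' ≫ (Scheme.IdealSheafData.vanishingIdeal Z).subschemeι = g := by
  have hker : (Scheme.IdealSheafData.vanishingIdeal Z).subschemeι.ker ≤ g.ker := by
    rw [Scheme.IdealSheafData.ker_subschemeι, ← Scheme.IdealSheafData.map_bot,
      ← Scheme.nilradical_eq_bot (X := T), ← Scheme.IdealSheafData.vanishingIdeal_top,
      Scheme.IdealSheafData.map_vanishingIdeal]
    apply Scheme.IdealSheafData.vanishingIdeal_antimono
    rw [TopologicalSpace.Closeds.closure_le]
    rintro _ ⟨t, -, rfl⟩
    exact hg ⟨t, rfl⟩
  exact ⟨IsClosedImmersion.lift _ g hker, IsClosedImmersion.lift_fac _ _ _⟩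

end Groth.Agent.Lib.Helper21.RedLift
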