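import Groth.Agent.Lib.Helper21.WellIntersect
import Groth.Agent.Lib.Helper21.FibreTd
import Mathlib

/-!
# Morphisms of constant relative dimension: base change and dimension of preimages (helper21)

`HasTdR h d`: every point of the source has residue transcendence degree `≤ d` over its image and
every fibre contains a point of residue transcendence degree exactly `d` (so every fibre is
non-empty of dimension `d`).  This is stable under base change and, over a field, implies
`dim h⁻¹(T) = dim T + d` for locally closed `T`.
-/

set_option linter.style.haveILetI false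
universe u

open CategoryTheory CategoryTheory.Limits AlgebraicGeometry

namespace Groth.Agent.Lib.Helper21.RelDimBC

open Groth.Agent.Lib.Helper21.FieldDim Groth.Agent.Lib.Helper21.WellIntersect

/-- every point has relative transcendence degree at most `d`, and every fibre has a point of
relative transcendence degree exactly `d`. -/
def HasTdR {W' W : Scheme.{u}} (h : W' ⟶ W) [LocallyOfFiniteType h] (d : ℕ) : Prop :=
  (∀ w' : W', tdR h w' ≤ d) ∧ ∀ w : W, ∃ w' : W', h w' = w ∧ tdR h w' = d

theorem hasTdR_of_dim_fiber {S' S : Scheme.{u}} (g : S' ⟶ S) [LocallyOfFiniteType g] (d : ℕ)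
    (hd : ∀ s : S, topologicalKrullDim (g.fiber s) = d) : HasTdR g d := by
  have h1 : ∀ w' : S', tdR g w' ≤ d := by
    intro w'
    have := tdR_le_dim_fiber g w'
    rw [hd] at this
    exact_mod_cast this
  refine ⟨h1, fun s => ?_⟩
  by_contra hne
  push Not at hne
  rcases Nat.eq_zero_or_pos d with hd0 | hdpos
  · subst hd0
    have : topologicalKrullDim (g.fiber s) ≤ ⊥ := by
      rw [dim_fiber_le_iff]
      intro x hx
      exact absurd (Nat.le_zero.mp (h1 x)) (hne x hx)
    rw [hd s] at this
    simp at this
  · have : topologicalKrullDim (g.fiber s) ≤ ((d - 1 : ℕ) : WithBot ℕ∞) := by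
      rw [dim_fiber_le_iff]
      intro x hx
      have h2 := h1 x
      have h3 := hne x hx
      exact_mod_cast (by omega : tdR g x ≤ d - 1)
    rw [hd s] at this
    have : d ≤ d - 1 := by exact_mod_cast this
    omega

theorem tdR_iso_comp {P P' Y : Scheme.{u}} (e : P' ⟶ P) [IsIso e] (p : P ⟶ Y)
    [LocallyOfFiniteType p] (z : P') : tdR (e ≫ p) z = tdR p (e z) := by
  have h := trdegAt_comp e p z
  rw [trdegAt_eq_zero_of_locallyQuasiFinite e z, add_zero, trdegAt_eq_tdR, trdegAt_eq_tdR] at h
  exact_mod_cast h

theorem hasTdR_of_isPullback {W' W S' S : Scheme.{u}} {h : W' ⟶ W} {f' : W' ⟶ S'} {f : W ⟶ S}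
    {g : S' ⟶ S} (sq : IsPullback h f' f g) [LocallyOfFiniteType g] [LocallyOfFiniteType h]
    (d : ℕ) (hg : HasTdR g d) : HasTdR h d := by
  let e := sq.flip.isoPullback
  have he2 : e.hom ≫ pullback.snd g f = h := sq.flip.isoPullback_hom_snd
  have key : ∀ z : W', tdR h z = tdR (pullback.snd g f) (e.hom z) := by
    intro z
    rw [← tdR_iso_comp e.hom (pullback.snd g f) z]
    exact tdR_congr he2.symm z
  refine ⟨fun z => ?_, fun w => ?_⟩
  · rw [key]
    exact (tdR_snd_le g f _).trans (hg.1 _)
  · obtain ⟨s', hs', hs'd⟩ := hg.2 (f w)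
    obtain ⟨z, hz1, hz2, hz3⟩ := exists_tdR_snd_eq g f s' w hs'
    have hez : e.hom (e.inv z) = z := by
      rw [← Scheme.Hom.comp_apply, Iso.inv_hom_id]
      rfl
    refine ⟨e.inv z, ?_, ?_⟩
    · have h1 : h (e.inv z) = (pullback.snd g f) (e.hom (e.inv z)) := by
        rw [← he2]
        rfl
      rw [h1, hez, hz2]
    · rw [key, hez, hz3, hs'd]

theorem dim_preimage {k : Type u} [Field k] {W' W : Scheme.{u}}
    (qW : W ⟶ Spec (CommRingCat.of k)) [LocallyOfFiniteType qW]
    (h : W' ⟶ W) [LocallyOfFiniteType h] (d : ℕ) (hh : HasTdR h d) (T : Set W)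
    (hT : IsLocallyClosed T) :
    topologicalKrullDim ↥(h ⁻¹' T) = topologicalKrullDim ↥T + (d : WithBot ℕ∞) := by
  have hT' : IsLocallyClosed (h ⁻¹' T) := hT.preimage h.continuous
  have htd : ∀ w' : W', td (h ≫ qW) w' = td qW (h w') + tdR h w' :=
    fun w' => td_eq_add_tdR (h ≫ qW) qW h rfl w'
  apply le_antisymm
  · rw [dim_le_iff_of_isLocallyClosed (h ≫ qW) _ hT']
    intro w' hw'
    rw [htd]
    have h1 := (dim_le_iff_of_isLocallyClosed qW T hT _).mp le_rfl (h w') hw'
    have h2 : ((tdR h w' : ℕ) : WithBot ℕ∞) ≤ d := by exact_mod_cast hh.1 w'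
    push_cast
    exact add_le_add h1 h2
  · suffices H : ∀ n : WithBot ℕ∞, topologicalKrullDim ↥(h ⁻¹' T) ≤ n →
        topologicalKrullDim ↥T + (d : WithBot ℕ∞) ≤ n from H _ le_rfl
    intro n hn
    by_cases hTe : T = ∅
    · subst hTe
      have : topologicalKrullDim ↥(∅ : Set W) = ⊥ := by
        unfold topologicalKrullDim
        rw [Order.krullDim_eq_bot_iff]
        constructor
        intro Z
        obtain ⟨x, -⟩ := Z.isIrreducible.nonempty
        exact x.2.elim
      rw [this, WithBot.bot_add]
      exact bot_le
    · obtain ⟨t₀, ht₀⟩ := Set.nonempty_iff_ne_empty.mpr hTe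
      rw [dim_le_iff_of_isLocallyClosed (h ≫ qW) _ hT'] at hn
      induction n with
      | bot =>
        obtain ⟨w', hw', -⟩ := hh.2 t₀
        have := hn w' (by rw [Set.mem_preimage, hw']; exact ht₀)
        simp at this
      | coe n =>
        induction n with
        | top => exact le_top
        | coe m =>
          have key : ∀ t ∈ T, td qW t + d ≤ m := by
            intro t ht
            obtain ⟨w', hw', hw'd⟩ := hh.2 t
            have := hn w' (by rw [Set.mem_preimage, hw']; exact ht)
            rw [htd, hw', hw'd] at this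
            exact_mod_cast this
          have hdm : d ≤ m := by have := key t₀ ht₀; omega
          have h3 : topologicalKrullDim ↥T ≤ ((m - d : ℕ) : WithBot ℕ∞) := by
            rw [dim_le_iff_of_isLocallyClosed qW T hT]
            intro t ht
            have := key t ht
            exact_mod_cast (by omega : td qW t ≤ m - d)
          calc topologicalKrullDim ↥T + (d : WithBot ℕ∞)
              ≤ ((m - d : ℕ) : WithBot ℕ∞) + (d : WithBot ℕ∞) := add_le_add h3 le_rfl
            _ = ((m : ℕ∞) : WithBot ℕ∞) := by
                have : ((m - d : ℕ) : WithBot ℕ∞) + (d : WithBot ℕ∞) = ((m : ℕ) : WithBot ℕ∞) := by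
                  norm_cast
                  omega
                rw [this]
                rfl

section Cat

variable {C : Type*} [Category C] [HasPullbacks C] {X S S' X' : C} (f : X ⟶ S) (g : S' ⟶ S)
  (pX : X' ⟶ X) (f' : X' ⟶ S') (sq : IsPullback pX f' f g)

/-- the canonical map `X' ×_{S'} X' ⟶ X ×_S X` for a base change `X' = X ×_S S'`. -/
noncomputable def prodMap : pullback f' f' ⟶ pullback f f :=
  pullback.lift (pullback.fst f' f' ≫ pX) (pullback.snd f' f' ≫ pX) (by
    rw [Category.assoc, Category.assoc, sq.w, ← Category.assoc, ← Category.assoc,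
      pullback.condition])

@[reassoc]
theorem prodMap_fst : prodMap f g pX f' sq ≫ pullback.fst f f = pullback.fst f' f' ≫ pX :=
  pullback.lift_fst _ _ _

@[reassoc]
theorem prodMap_snd : prodMap f g pX f' sq ≫ pullback.snd f f = pullback.snd f' f' ≫ pX :=
  pullback.lift_snd _ _ _

theorem isPullback_prodMap_fst :
    IsPullback (prodMap f g pX f' sq) (pullback.fst f' f') (pullback.fst f f) pX := by
  have outer : IsPullback (prodMap f g pX f' sq ≫ pullback.snd f f) (pullback.fst f' f') f
      (pX ≫ f) := by
    rw [prodMap_snd, sq.w]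
    exact (IsPullback.of_hasPullback f' f').flip.paste_horiz sq
  exact IsPullback.of_right outer (prodMap_fst f g pX f' sq) (IsPullback.of_hasPullback f f).flip

theorem isPullback_prodMap :
    IsPullback (prodMap f g pX f' sq) (pullback.fst f' f' ≫ f') (pullback.fst f f ≫ f) g :=
  (isPullback_prodMap_fst f g pX f' sq).paste_vert sq

theorem diagonal_prodMap :
    pullback.diagonal f' ≫ prodMap f g pX f' sq = pX ≫ pullback.diagonal f := by
  apply pullback.hom_ext
  · rw [Category.assoc, prodMap_fst, pullback.diagonal_fst_assoc, Category.assoc,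
      pullback.diagonal_fst, Category.comp_id]
  · rw [Category.assoc, prodMap_snd, pullback.diagonal_snd_assoc, Category.assoc,
      pullback.diagonal_snd, Category.comp_id]

theorem isPullback_diagonal :
    IsPullback (pullback.diagonal f') pX (prodMap f g pX f' sq) (pullback.diagonal f) := by
  have outer : IsPullback (pullback.diagonal f' ≫ pullback.fst f' f') pX pX
      (pullback.diagonal f ≫ pullback.fst f f) := by
    rw [pullback.diagonal_fst, pullback.diagonal_fst]
    exact IsPullback.id_horiz pX
  exact IsPullback.of_right outer (diagonal_prodMap f g pX f' sq)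
    (isPullback_prodMap_fst f g pX f' sq).flip

end Cat

end Groth.Agent.Lib.Helper21.RelDimBC
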