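import Mathlib

/-!
# Scheme-theoretically dominant morphisms: images, lifting, products over a field (helper21)
-/

set_option linter.style.haveILetI false
set_option autoImplicit false
universe u
open CategoryTheory CategoryTheory.Limits AlgebraicGeometry

namespace Groth.Agent.Lib.Helper21.SchImDom

/-- the canonical map to the scheme-theoretic image is scheme-theoretically dominant. -/
theorem ker_toImage {X Y : Scheme.{u}} (f : X ⟶ Y) [QuasiCompact f] : f.toImage.ker = ⊥ := by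
  refine Scheme.IdealSheafData.ext_of_iSup_eq_top (ι := Y.affineOpens)
    (fun U' => ⟨f.imageι ⁻¹ᵁ U'.1, U'.2.preimage f.imageι⟩) ?_ (fun U' => ?_)
  · rw [eq_top_iff]
    intro z _
    obtain ⟨_, ⟨U', hU', rfl⟩, hz, -⟩ :=
      Y.isBasis_affineOpens.exists_subset_of_mem_open (Set.mem_univ (f.imageι z)) isOpen_univ
    exact TopologicalSpace.Opens.mem_iSup.mpr ⟨⟨U', hU'⟩, hz⟩
  · rw [Scheme.Hom.ker_apply, Scheme.IdealSheafData.ideal_bot, Pi.bot_apply,
      ← RingHom.injective_iff_ker_eq_bot]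
    exact f.toImage_app_injective U'

instance {X Y : Scheme.{u}} (f : X ⟶ Y) [QuasiCompact f] :
    IsSchemeTheoreticallyDominant f.toImage := ⟨ker_toImage f⟩

/-- a morphism whose restriction along a scheme-theoretically dominant morphism factors through a
closed subscheme factors through it. -/
theorem exists_lift {A B Y Z : Scheme.{u}} (φ : A ⟶ B) [IsSchemeTheoreticallyDominant φ]
    (ν : B ⟶ Y) (ι : Z ⟶ Y) [IsClosedImmersion ι] (ψ : A ⟶ Z) (h : φ ≫ ν = ψ ≫ ι) :
    ∃ ν' : B ⟶ Z, ν' ≫ ι = ν := by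
  have hker : ι.ker ≤ ν.ker := by
    have h1 : ι.ker ≤ (ψ ≫ ι).ker := ψ.le_ker_comp ι
    rw [← h, Scheme.Hom.ker_comp, φ.ker_eq_bot, Scheme.IdealSheafData.map_bot] at h1
    exact h1
  exact ⟨IsClosedImmersion.lift ι ν hker, IsClosedImmersion.lift_fac _ _ _⟩

variable {U X₁ X₂ W₁ W₂ : Scheme.{u}} [IsIntegral U] [Subsingleton U]
  (f₁ : X₁ ⟶ U) (f₂ : X₂ ⟶ U) (a₁ : W₁ ⟶ X₁) (a₂ : W₂ ⟶ X₂)

theorem dominant_map_left [IsSchemeTheoreticallyDominant a₁] [QuasiCompact a₁] :
    IsSchemeTheoreticallyDominant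
      (pullback.map (a₁ ≫ f₁) f₂ f₁ f₂ a₁ (𝟙 X₂) (𝟙 U)
        (by rw [Category.comp_id]) (by rw [Category.comp_id, Category.id_comp])) := by
  have H : IsPullback (pullback.fst (a₁ ≫ f₁) f₂)
      (pullback.map (a₁ ≫ f₁) f₂ f₁ f₂ a₁ (𝟙 X₂) (𝟙 U)
        (by rw [Category.comp_id]) (by rw [Category.comp_id, Category.id_comp]))
      a₁ (pullback.fst f₁ f₂) := by
    refine IsPullback.of_bot ?_ (pullback.lift_fst _ _ _).symm (IsPullback.of_hasPullback f₁ f₂)
    have e : pullback.map (a₁ ≫ f₁) f₂ f₁ f₂ a₁ (𝟙 X₂) (𝟙 U)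
        (by rw [Category.comp_id]) (by rw [Category.comp_id, Category.id_comp]) ≫
        pullback.snd f₁ f₂ = pullback.snd (a₁ ≫ f₁) f₂ :=
      (pullback.lift_snd _ _ _).trans (Category.comp_id _)
    rw [e]
    exact IsPullback.of_hasPullback (a₁ ≫ f₁) f₂
  exact IsSchemeTheoreticallyDominant.of_isPullback H

theorem dominant_map_right [IsSchemeTheoreticallyDominant a₂] [QuasiCompact a₂] :
    IsSchemeTheoreticallyDominant
      (pullback.map f₁ (a₂ ≫ f₂) f₁ f₂ (𝟙 X₁) a₂ (𝟙 U)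
        (by rw [Category.comp_id, Category.id_comp]) (by rw [Category.comp_id])) := by
  have H : IsPullback (pullback.snd f₁ (a₂ ≫ f₂))
      (pullback.map f₁ (a₂ ≫ f₂) f₁ f₂ (𝟙 X₁) a₂ (𝟙 U)
        (by rw [Category.comp_id, Category.id_comp]) (by rw [Category.comp_id]))
      a₂ (pullback.snd f₁ f₂) := by
    refine IsPullback.of_bot ?_ (pullback.lift_snd _ _ _).symm
      (IsPullback.of_hasPullback f₁ f₂).flip
    have e : pullback.map f₁ (a₂ ≫ f₂) f₁ f₂ (𝟙 X₁) a₂ (𝟙 U)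
        (by rw [Category.comp_id, Category.id_comp]) (by rw [Category.comp_id]) ≫
        pullback.fst f₁ f₂ = pullback.fst f₁ (a₂ ≫ f₂) :=
      (pullback.lift_fst _ _ _).trans (Category.comp_id _)
    rw [e]
    exact (IsPullback.of_hasPullback f₁ (a₂ ≫ f₂)).flip
  exact IsSchemeTheoreticallyDominant.of_isPullback H

theorem dominant_map [IsSchemeTheoreticallyDominant a₁] [QuasiCompact a₁]
    [IsSchemeTheoreticallyDominant a₂] [QuasiCompact a₂] :
    IsSchemeTheoreticallyDominant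
      (pullback.map (a₁ ≫ f₁) (a₂ ≫ f₂) f₁ f₂ a₁ a₂ (𝟙 U)
        (by rw [Category.comp_id]) (by rw [Category.comp_id])) := by
  haveI := dominant_map_left f₁ (a₂ ≫ f₂) a₁
  haveI := dominant_map_right f₁ f₂ a₂
  have e : pullback.map (a₁ ≫ f₁) (a₂ ≫ f₂) f₁ f₂ a₁ a₂ (𝟙 U)
        (by rw [Category.comp_id]) (by rw [Category.comp_id]) =
      pullback.map (a₁ ≫ f₁) (a₂ ≫ f₂) f₁ (a₂ ≫ f₂) a₁ (𝟙 W₂) (𝟙 U)
        (by rw [Category.comp_id]) (by rw [Category.comp_id, Category.id_comp]) ≫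
      pullback.map f₁ (a₂ ≫ f₂) f₁ f₂ (𝟙 X₁) a₂ (𝟙 U)
        (by rw [Category.comp_id, Category.id_comp]) (by rw [Category.comp_id]) := by
    apply pullback.hom_ext
    · simp only [pullback.map, Category.assoc, pullback.lift_fst, pullback.lift_fst_assoc,
        Category.comp_id]
    · simp only [pullback.map, Category.assoc, pullback.lift_snd, pullback.lift_snd_assoc,
        Category.comp_id]
  rw [e]
  infer_instance

end Groth.Agent.Lib.Helper21.SchImDom
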