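import Groth.Agent.Lib.Helper38.GrpdLib

/-!
# The groupoid scheme structure induced on a monomorphism `Z ⟶ R` stable under `e`, `i`, `c`
(helper21)
-/

set_option linter.style.haveILetI false
set_option autoImplicit false
universe u
open CategoryTheory CategoryTheory.Limits AlgebraicGeometry Grpd

namespace Groth.Agent.Lib.Helper21.SubGrpd

open Groth.Agent.Lib.Helper38.GrpdLib

variable {S : Scheme.{u}} (G : Grpd.GroupoidScheme S) {Z : Scheme.{u}} (ι : Z ⟶ G.R) [Mono ι]
  (e' : G.U ⟶ Z) (he : e' ≫ ι = G.e)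
  (i' : Z ⟶ Z) (hi : i' ≫ ι = ι ≫ G.i)
  (c' : pullback (ι ≫ G.s) (ι ≫ G.t) ⟶ Z)
  (hc : c' ≫ ι = pullback.map (ι ≫ G.s) (ι ≫ G.t) G.s G.t ι ι (𝟙 _)
    (by rw [Category.comp_id]) (by rw [Category.comp_id]) ≫ G.c)

include hc in
theorem key {T : Scheme.{u}} (α β : T ⟶ Z) (h : α ≫ (ι ≫ G.s) = β ≫ (ι ≫ G.t)) :
    (pullback.lift α β h ≫ c') ≫ ι =
      mul (α ≫ ι) (β ≫ ι) (by simpa only [Category.assoc] using h) := by
  rw [Category.assoc, hc, ← Category.assoc]
  unfold mul
  congr 1
  apply pullback.hom_ext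
  · rw [Category.assoc]
    erw [pullback.lift_fst]
    rw [← Category.assoc, pullback.lift_fst, pullback.lift_fst]
  · rw [Category.assoc]
    erw [pullback.lift_snd]
    rw [← Category.assoc, pullback.lift_snd, pullback.lift_snd]

/-- The induced groupoid scheme on `Z`. -/
noncomputable def sub : Grpd.GroupoidScheme S where
  U := G.U
  R := Z
  pU := G.pU
  pR := ι ≫ G.pR
  s := ι ≫ G.s
  t := ι ≫ G.t
  e := e'
  i := i'
  c := c'
  s_over := by rw [Category.assoc, G.s_over]
  t_over := by rw [Category.assoc, G.t_over]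
  comp_s := fun α β h => by
    rw [← Category.assoc, key G ι c' hc α β h, mul_s, Category.assoc]
  comp_t := fun α β h => by
    rw [← Category.assoc, key G ι c' hc α β h, mul_t, Category.assoc]
  assoc := fun α β γ h₁ h₂ => by
    rw [← cancel_mono ι]
    refine (key G ι c' hc _ γ _).trans (Eq.trans ?_ (key G ι c' hc α _ _).symm)
    have e1 := key G ι c' hc α β h₁
    have e2 := key G ι c' hc β γ h₂
    refine (mul_congr e1 rfl _).trans (Eq.trans ?_ (mul_congr rfl e2 _).symm)
    exact mul_assoc _ _ _ _ _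
  e_s := by rw [← Category.assoc, he, G.e_s]
  e_t := by rw [← Category.assoc, he, G.e_t]
  comp_e := fun α => by
    rw [← cancel_mono ι, key G ι c' hc]
    exact mul_e (α ≫ ι) _ (by simp only [Category.assoc, he])
  e_comp := fun α => by
    rw [← cancel_mono ι, key G ι c' hc]
    exact e_mul (α ≫ ι) _ (by simp only [Category.assoc, he])
  i_s := by rw [← Category.assoc, hi, Category.assoc, G.i_s]
  i_t := by rw [← Category.assoc, hi, Category.assoc, G.i_t]
  comp_i := fun α => by
    rw [← cancel_mono ι, key G ι c' hc]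
    have e1 : (α ≫ i') ≫ ι = (α ≫ ι) ≫ G.i := by simp only [Category.assoc, hi]
    refine (mul_congr rfl e1 _).trans ((mul_i _).trans ?_)
    simp only [Category.assoc, he]
  i_comp := fun α => by
    rw [← cancel_mono ι, key G ι c' hc]
    have e1 : (α ≫ i') ≫ ι = (α ≫ ι) ≫ G.i := by simp only [Category.assoc, hi]
    refine (mul_congr e1 rfl _).trans ((i_mul _).trans ?_)
    simp only [Category.assoc, he]

/-- The inclusion as a morphism of groupoid schemes. -/
noncomputable def subHom : Grpd.GroupoidScheme.Hom (sub G ι e' he i' hi c' hc) G where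
  fU := 𝟙 _
  fR := ι
  fU_over := Category.id_comp _
  comm_s := (Category.comp_id _).symm
  comm_t := (Category.comp_id _).symm
  comm_c := fun α β h => key G ι c' hc α β h

end Groth.Agent.Lib.Helper21.SubGrpd
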