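import Mathlib
import Groth.Agent.Lib.Helper21.SchImDom
import Groth.Agent.Lib.Helper21.SubGrpd
import Groth.Agent.Lib.Helper38.GrpdClosure

/-!
# Lifting the groupoid structure to the scheme-theoretic image of a morphism of groupoid schemes
over a field (helper21)
-/

set_option linter.style.haveILetI false
set_option autoImplicit false
universe u
open CategoryTheory CategoryTheory.Limits AlgebraicGeometry Grpd
open Groth.Agent.Lib.Helper21 Groth.Agent.Lib.Helper38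

namespace Groth.Agent.Lib.Helper21.SchImGrpd

theorem exists_lifts {S : Scheme.{u}} {G₁ G₂ : Grpd.GroupoidScheme S}
    (f : Grpd.GroupoidScheme.Hom G₁ G₂) [IsIso f.fU] [QuasiCompact f.fR] (k : Type u) [Field k]
    (eU : G₂.U ≅ Spec (CommRingCat.of k)) :
    ∃ (e' : G₂.U ⟶ f.fR.image) (i' : f.fR.image ⟶ f.fR.image)
      (c' : pullback (f.fR.imageι ≫ G₂.s) (f.fR.imageι ≫ G₂.t) ⟶ f.fR.image),
      e' ≫ f.fR.imageι = G₂.e ∧ i' ≫ f.fR.imageι = f.fR.imageι ≫ G₂.i ∧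
      c' ≫ f.fR.imageι = pullback.map (f.fR.imageι ≫ G₂.s) (f.fR.imageι ≫ G₂.t) G₂.s G₂.t
        f.fR.imageι f.fR.imageι (𝟙 _)
        (by rw [Category.comp_id]) (by rw [Category.comp_id]) ≫ G₂.c := by
  classical
  haveI : Subsingleton (Spec (CommRingCat.of k)) :=
    inferInstanceAs (Subsingleton (PrimeSpectrum k))
  haveI hUss : Subsingleton G₂.U := eU.hom.homeomorph.subsingleton
  haveI : Nonempty G₂.U := ⟨eU.inv (IsLocalRing.closedPoint k)⟩
  haveI hUint : IsIntegral G₂.U := isIntegral_of_isOpenImmersion eU.hom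
  suffices H : ∀ (ι : f.fR.image ⟶ G₂.R) (a' : G₁.R ⟶ f.fR.image), IsClosedImmersion ι →
      QuasiCompact a' → IsSchemeTheoreticallyDominant a' → a' ≫ ι = f.fR →
      ∃ (e' : G₂.U ⟶ f.fR.image) (i' : f.fR.image ⟶ f.fR.image)
        (c' : pullback (ι ≫ G₂.s) (ι ≫ G₂.t) ⟶ f.fR.image),
        e' ≫ ι = G₂.e ∧ i' ≫ ι = ι ≫ G₂.i ∧
        c' ≫ ι = pullback.map (ι ≫ G₂.s) (ι ≫ G₂.t) G₂.s G₂.t ι ι (𝟙 _)
          (by rw [Category.comp_id]) (by rw [Category.comp_id]) ≫ G₂.c from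
    H f.fR.imageι f.fR.toImage inferInstance inferInstance inferInstance f.fR.toImage_imageι
  intro ι a' hcl hqc hdom ha
  -- the identity
  have he' : (inv f.fU ≫ G₁.e ≫ a') ≫ ι = G₂.e := by
    rw [Category.assoc, Category.assoc, ha, GrpdHom.comm_e f, IsIso.inv_hom_id_assoc]
  -- the inverse
  obtain ⟨i', hi'⟩ := SchImDom.exists_lift a' (ι ≫ G₂.i) ι (G₁.i ≫ a') (by
    rw [← Category.assoc, ha, Category.assoc, ha]
    exact (GrpdClosure.comm_i f).symm)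
  -- the composition
  let mι : pullback (ι ≫ G₂.s) (ι ≫ G₂.t) ⟶ pullback G₂.s G₂.t :=
    pullback.map (ι ≫ G₂.s) (ι ≫ G₂.t) G₂.s G₂.t ι ι (𝟙 _)
      (by rw [Category.comp_id]) (by rw [Category.comp_id])
  let φ : pullback (a' ≫ (ι ≫ G₂.s)) (a' ≫ (ι ≫ G₂.t)) ⟶ pullback (ι ≫ G₂.s) (ι ≫ G₂.t) :=
    pullback.map (a' ≫ (ι ≫ G₂.s)) (a' ≫ (ι ≫ G₂.t)) (ι ≫ G₂.s) (ι ≫ G₂.t) a' a' (𝟙 _)
      (by rw [Category.comp_id]) (by rw [Category.comp_id])
  haveI hφ : IsSchemeTheoreticallyDominant φ :=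
    SchImDom.dominant_map (ι ≫ G₂.s) (ι ≫ G₂.t) a' a'
  have hcond : pullback.fst (a' ≫ (ι ≫ G₂.s)) (a' ≫ (ι ≫ G₂.t)) ≫ G₁.s =
      pullback.snd (a' ≫ (ι ≫ G₂.s)) (a' ≫ (ι ≫ G₂.t)) ≫ G₁.t := by
    have hs : a' ≫ (ι ≫ G₂.s) = G₁.s ≫ f.fU := by rw [← Category.assoc, ha, f.comm_s]
    have ht : a' ≫ (ι ≫ G₂.t) = G₁.t ≫ f.fU := by rw [← Category.assoc, ha, f.comm_t]
    rw [← cancel_mono f.fU, Category.assoc, Category.assoc, ← hs, ← ht]
    exact pullback.condition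
  obtain ⟨c', hc'⟩ := SchImDom.exists_lift φ (mι ≫ G₂.c) ι
    ((pullback.lift _ _ hcond ≫ G₁.c) ≫ a') (by
    rw [Category.assoc _ a' ι, ha, f.comm_c _ _ hcond, ← Category.assoc φ mι G₂.c]
    congr 1
    apply pullback.hom_ext
    · simp only [φ, mι, pullback.map, Category.assoc, pullback.lift_fst, pullback.lift_fst_assoc,
        ha]
    · simp only [φ, mι, pullback.map, Category.assoc, pullback.lift_snd, pullback.lift_snd_assoc,
        ha])
  exact ⟨_, i', c', he', hi', hc'⟩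

end Groth.Agent.Lib.Helper21.SchImGrpd
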