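import Mathlib

/-!
# Fields in which the base field is separably closed (helper21)

Let `K/k` be a field extension with `separableClosure k K = ⊥` ("`k` is separably closed in `K`",
`K/k` primary) and `Ω ⊇ K` algebraically closed.

* `natDegree_minpoly_eq_of_separableClosure_eq_bot`: for `α : Ω` separable over `k`, the minimal
  polynomials of `α` over `k` and over `K` have the same degree.
* `linearDisjoint_separableClosure_of_separableClosure_eq_bot`: `separableClosure k Ω` and `K` are
  linearly disjoint over `k`.
* `isDomain_separableClosure_tensor`: `separableClosure k Ω ⊗[k] K` is a domain.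
-/

open Polynomial IntermediateField
open scoped TensorProduct

namespace Groth.Agent.Lib.Helper21

variable {k K Ω : Type*} [Field k] [Field K] [Field Ω] [Algebra k K] [Algebra k Ω] [Algebra K Ω]
  [IsScalarTower k K Ω]

theorem natDegree_minpoly_eq_of_separableClosure_eq_bot [IsAlgClosed Ω]
    (h : separableClosure k K = ⊥) {α : Ω} (hα : IsSeparable k α) :
    (minpoly K α).natDegree = (minpoly k α).natDegree := by
  have hint : IsIntegral k α := hα.isIntegral
  have hintK : IsIntegral K α := hint.tower_top
  have hQm : (minpoly K α).Monic := minpoly.monic hintK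
  have hdvd : minpoly K α ∣ (minpoly k α).map (algebraMap k K) :=
    minpoly.dvd_map_of_isScalarTower k K α
  have hsplit : ((minpoly K α).map (algebraMap K Ω)).Splits := IsAlgClosed.splits _
  have hroots : ∀ r ∈ ((minpoly K α).map (algebraMap K Ω)).roots,
      r ∈ (algebraMap (separableClosure k Ω) Ω).range := by
    intro r hr
    have hr0 : aeval r (minpoly K α) = 0 := by
      have := (mem_roots'.1 hr).2
      rwa [IsRoot.def, eval_map_algebraMap] at this
    have hr1 : aeval r (minpoly k α) = 0 := by
      obtain ⟨R, hR⟩ := hdvd
      have h2 : aeval r ((minpoly k α).map (algebraMap k K)) = aeval r (minpoly k α) :=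
        aeval_map_algebraMap K r (minpoly k α)
      rw [← h2, hR, map_mul, hr0, zero_mul]
    have hrsep : IsSeparable k r := by
      have hd : minpoly k r ∣ minpoly k α := minpoly.dvd k r hr1
      exact Polynomial.Separable.of_dvd hα hd
    exact ⟨⟨r, hrsep⟩, rfl⟩
  have hlift : (minpoly K α).map (algebraMap K Ω) ∈
      lifts (algebraMap (separableClosure k Ω) Ω) :=
    hsplit.mem_lift_of_roots_mem_range (hQm.map _) _ hroots
  have hcoeff : ∀ n, (minpoly K α).coeff n ∈ Set.range (algebraMap k K) := by
    intro n
    rw [lifts_iff_coeff_lifts] at hlift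
    obtain ⟨s, hs⟩ := hlift n
    rw [coeff_map] at hs
    have hsep : IsSeparable k (algebraMap K Ω ((minpoly K α).coeff n)) := by
      rw [← hs]; exact s.2
    have hsep' : IsSeparable k ((minpoly K α).coeff n) := by
      rwa [IsSeparable, minpoly.algebraMap_eq (algebraMap K Ω).injective] at hsep
    have hmem : (minpoly K α).coeff n ∈ separableClosure k K := hsep'
    rw [h] at hmem
    exact IntermediateField.mem_bot.1 hmem
  have hQlift : minpoly K α ∈ lifts (algebraMap k K) := (lifts_iff_coeff_lifts _).2 hcoeff
  obtain ⟨Q₀, hQ₀, hdeg, hQ₀m⟩ := lifts_and_degree_eq_and_monic hQlift hQm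
  have h0 : aeval α Q₀ = 0 := by
    rw [← aeval_map_algebraMap K, hQ₀]; exact minpoly.aeval K α
  have hle1 : (minpoly k α).natDegree ≤ Q₀.natDegree :=
    natDegree_le_of_dvd (minpoly.dvd k α h0) hQ₀m.ne_zero
  have hle2 : (minpoly K α).natDegree ≤ (minpoly k α).natDegree := by
    have := natDegree_le_of_dvd hdvd ((minpoly.monic hint).map _).ne_zero
    rwa [natDegree_map] at this
  have h3 : Q₀.natDegree = (minpoly K α).natDegree := natDegree_eq_of_degree_eq hdeg
  omega


theorem linearDisjoint_adjoin_simple_of_separableClosure_eq_bot [IsAlgClosed Ω]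
    (h : separableClosure k K = ⊥) {α : Ω} (hα : IsSeparable k α) :
    (k⟮α⟯ : IntermediateField k Ω).LinearDisjoint K := by
  have hint : IsIntegral k α := hα.isIntegral
  refine IntermediateField.LinearDisjoint.of_basis_left (adjoin.powerBasis hint).basis ?_
  have hfun : ((k⟮α⟯ : IntermediateField k Ω).val ∘ (adjoin.powerBasis hint).basis) =
      fun i : Fin (minpoly k α).natDegree => α ^ (i : ℕ) := by
    funext i
    simp only [Function.comp_apply, PowerBasis.basis_eq_pow, map_pow]
    rfl
  rw [hfun]
  have hli := linearIndependent_pow (K := K) α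
  have hdeg := natDegree_minpoly_eq_of_separableClosure_eq_bot h hα
  have h2 := hli.comp (Fin.cast hdeg.symm) (Fin.cast_injective _)
  exact h2

theorem linearDisjoint_separableClosure_of_separableClosure_eq_bot [IsAlgClosed Ω]
    (h : separableClosure k K = ⊥) :
    (separableClosure k Ω).LinearDisjoint K := by
  rw [IntermediateField.linearDisjoint_iff]
  have hintg : Algebra.IsIntegral k ↥(separableClosure k Ω).toSubalgebra :=
    inferInstanceAs (Algebra.IsIntegral k ↥(separableClosure k Ω))
  refine Subalgebra.LinearDisjoint.of_linearDisjoint_finite_left _ _ ?_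
  intro A' hA' hfin
  -- the intermediate field generated by A'
  have halg : ∀ x ∈ (A' : Set Ω), IsAlgebraic k x := by
    intro x hx
    have : IsSeparable k x := hA' hx
    exact this.isIntegral.isAlgebraic
  have hE' : (IntermediateField.adjoin k (A' : Set Ω)).toSubalgebra = A' := by
    rw [IntermediateField.adjoin_toSubalgebra_of_isAlgebraic halg, Algebra.adjoin_eq]
  have hle : IntermediateField.adjoin k (A' : Set Ω) ≤ separableClosure k Ω := by
    rw [IntermediateField.adjoin_le_iff]
    exact hA'
  have hsep : Algebra.IsSeparable k (IntermediateField.adjoin k (A' : Set Ω)) :=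
    (le_separableClosure_iff k Ω _).1 hle
  have hfd : FiniteDimensional k (IntermediateField.adjoin k (A' : Set Ω)) := by
    have e : (IntermediateField.adjoin k (A' : Set Ω)).toSubalgebra ≃ₗ[k] A' :=
      (Subalgebra.equivOfEq _ _ hE').toLinearEquiv
    exact Module.Finite.of_surjective e.symm.toLinearMap e.symm.surjective
  obtain ⟨α', hα'⟩ := Field.exists_primitive_element k (IntermediateField.adjoin k (A' : Set Ω))
  have hα : IsSeparable k (α' : Ω) := hle α'.2
  have hEq : (k⟮(α' : Ω)⟯ : IntermediateField k Ω) = IntermediateField.adjoin k (A' : Set Ω) := by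
    have h1 := congrArg (IntermediateField.map (IntermediateField.adjoin k (A' : Set Ω)).val) hα'
    rw [IntermediateField.adjoin_map, Set.image_singleton, ← AlgHom.fieldRange_eq_map,
      IntermediateField.fieldRange_val] at h1
    exact h1
  have hLD := linearDisjoint_adjoin_simple_of_separableClosure_eq_bot (K := K) h hα
  rw [IntermediateField.linearDisjoint_iff, hEq, hE'] at hLD
  exact hLD

/-- `separableClosure k Ω ⊗[k] K` is a domain when `k` is separably closed in `K ⊆ Ω`. -/
theorem isDomain_separableClosure_tensor [IsAlgClosed Ω] (h : separableClosure k K = ⊥) :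
    IsDomain ((separableClosure k Ω) ⊗[k] K) :=
  (linearDisjoint_separableClosure_of_separableClosure_eq_bot (Ω := Ω) h).isDomain

end Groth.Agent.Lib.Helper21
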