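import Groth.Agent.Lib.Helper21.PrimaryGeom

/-!
# The fibre of `X_{K'} ⟶ X` over a point, split along the separable closure (helper21)

Let `x : X` be a point of a `k`-scheme, `L = κ(x)`, `k₁` the separable closure of `k` in `L` and
`K'/k` a field extension.  For each `k`-embedding `σ : k₁ → K'` we construct the `K'`-scheme
`Y_σ = Spec L ×_{Spec k₁} Spec K'` (geometrically irreducible over `K'`) and a `K'`-morphism
`h_σ : Y_σ ⟶ X_{K'}` landing in the fibre over `x`.  If all minimal polynomials of elements of
`k₁` split in `K'`, the images of the `h_σ` cover the fibre.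
-/

universe u

open CategoryTheory CategoryTheory.Limits AlgebraicGeometry

namespace Groth.Agent.Lib.Helper21

section piece

variable {k : Type u} [Field k] {X : Scheme.{u}} (f : X ⟶ Spec (CommRingCat.of k)) (x : X)
  [Algebra k (X.residueField x)]
  (hφ : Spec.map (CommRingCat.ofHom (algebraMap k (X.residueField x))) =
    X.fromSpecResidueField x ≫ f)
  (K' : Type u) [Field K'] [Algebra k K']
  (σ : separableClosure k (X.residueField x) →ₐ[k] K')

/-- The scheme `Y_σ = Spec κ(x) ×_{Spec k₁} Spec K'`. -/
noncomputable abbrev sepPiece : Scheme.{u} :=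
  pullback (Spec.map (CommRingCat.ofHom
      (algebraMap (separableClosure k (X.residueField x)) (X.residueField x))))
    (Spec.map (CommRingCat.ofHom σ.toRingHom))

theorem geometricallyIrreducible_sepBase :
    GeometricallyIrreducible (Spec.map (CommRingCat.ofHom
      (algebraMap (separableClosure k (X.residueField x)) (X.residueField x)))) :=
  geometricallyIrreducible_SpecMap_of_separableClosure_eq_bot _ _
    (separableClosure.separableClosure_eq_bot k (X.residueField x))

include hφ in
theorem sepPiece_condition :
    (pullback.fst (Spec.map (CommRingCat.ofHom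
        (algebraMap (separableClosure k (X.residueField x)) (X.residueField x))))
      (Spec.map (CommRingCat.ofHom σ.toRingHom)) ≫ X.fromSpecResidueField x) ≫ f =
    pullback.snd _ _ ≫ Spec.map (CommRingCat.ofHom (algebraMap k K')) := by
  have h1 : Spec.map (CommRingCat.ofHom (algebraMap k (X.residueField x))) =
      Spec.map (CommRingCat.ofHom
        (algebraMap (separableClosure k (X.residueField x)) (X.residueField x))) ≫
      Spec.map (CommRingCat.ofHom
        (algebraMap k (separableClosure k (X.residueField x)))) := by
    rw [← Spec.map_comp, ← CommRingCat.ofHom_comp, ← IsScalarTower.algebraMap_eq]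
  have h2 : Spec.map (CommRingCat.ofHom σ.toRingHom) ≫ Spec.map (CommRingCat.ofHom
        (algebraMap k (separableClosure k (X.residueField x)))) =
      Spec.map (CommRingCat.ofHom (algebraMap k K')) := by
    rw [← Spec.map_comp, ← CommRingCat.ofHom_comp]
    congr 2
    ext a
    simp
  rw [Category.assoc, ← hφ, h1, pullback.condition_assoc, h2]

/-- The morphism `h_σ : Y_σ ⟶ X_{K'}`. -/
noncomputable def sepMap :
    sepPiece x K' σ ⟶ pullback f (Spec.map (CommRingCat.ofHom (algebraMap k K'))) :=
  pullback.lift (pullback.fst _ _ ≫ X.fromSpecResidueField x) (pullback.snd _ _)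
    (sepPiece_condition f x hφ K' σ)

@[reassoc]
theorem sepMap_fst : sepMap f x hφ K' σ ≫ pullback.fst f _ =
    pullback.fst _ _ ≫ X.fromSpecResidueField x :=
  pullback.lift_fst _ _ _

@[reassoc]
theorem sepMap_snd : sepMap f x hφ K' σ ≫ pullback.snd f _ = pullback.snd _ _ :=
  pullback.lift_snd _ _ _

theorem irreducibleSpace_sepPiece : IrreducibleSpace ↥(sepPiece x K' σ) := by
  have := geometricallyIrreducible_sepBase (k := k) x
  exact GeometricallyIrreducible.geometrically_irreducibleSpace _ _ _ (.of_hasPullback _ _)

set_option backward.isDefEq.respectTransparency.types false in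
theorem geometricallyIrreducible_sepMap_snd :
    GeometricallyIrreducible (sepMap f x hφ K' σ ≫ pullback.snd f _) := by
  rw [sepMap_snd]
  have := geometricallyIrreducible_sepBase (k := k) x
  exact MorphismProperty.pullback_snd (P := @GeometricallyIrreducible) _ _ inferInstance

theorem sepMap_mem_fibre (y : ↥(sepPiece x K' σ)) :
    pullback.fst f (Spec.map (CommRingCat.ofHom (algebraMap k K'))) (sepMap f x hφ K' σ y) = x := by
  rw [← Scheme.Hom.comp_apply, sepMap_fst, Scheme.Hom.comp_apply]
  exact Scheme.fromSpecResidueField_apply _ _

end piece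

section cover

variable {k : Type u} [Field k] {X : Scheme.{u}} (f : X ⟶ Spec (CommRingCat.of k))
  (K' : Type u) [Field K'] [Algebra k K']

local notation "g" => Spec.map (CommRingCat.ofHom (algebraMap k K'))
local notation "XK" => pullback f (Spec.map (CommRingCat.ofHom (algebraMap k K')))

/-- If all minimal polynomials of elements of `k₁` split in `K'`, every point `z` of `X_{K'}` lies
in the image of some `h_σ` (for the point `x = π z`). -/
theorem exists_sepMap_eq_aux
    (z : ↥(pullback f (Spec.map (CommRingCat.ofHom (algebraMap k K')))))
    [Algebra k (X.residueField (pullback.fst f (Spec.map (CommRingCat.ofHom (algebraMap k K'))) z))]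
    (hφ : Spec.map (CommRingCat.ofHom (algebraMap k (X.residueField
        (pullback.fst f (Spec.map (CommRingCat.ofHom (algebraMap k K'))) z)))) =
      X.fromSpecResidueField _ ≫ f)
    (hN : ∀ a : separableClosure k (X.residueField
        (pullback.fst f (Spec.map (CommRingCat.ofHom (algebraMap k K'))) z)),
      ((minpoly k (a : X.residueField
        (pullback.fst f (Spec.map (CommRingCat.ofHom (algebraMap k K'))) z))).map
          (algebraMap k K')).Splits) :
    ∃ σ : separableClosure k (X.residueField
        (pullback.fst f (Spec.map (CommRingCat.ofHom (algebraMap k K'))) z)) →ₐ[k] K',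
      z ∈ Set.range (sepMap f _ hφ K' σ) := by
  -- the two residue field maps
  let α : X.residueField (pullback.fst f g z) ⟶ (XK).residueField z :=
    (pullback.fst f g).residueFieldMap z
  obtain ⟨β, hβ⟩ := Spec.map_surjective ((XK).fromSpecResidueField z ≫ pullback.snd f g)
  have hα : Spec.map α ≫ X.fromSpecResidueField _ = (XK).fromSpecResidueField z ≫ pullback.fst f g :=
    Scheme.Hom.SpecMap_residueFieldMap_fromSpecResidueField _ _
  have hcompat : CommRingCat.ofHom (algebraMap k (X.residueField (pullback.fst f g z))) ≫ α =
      CommRingCat.ofHom (algebraMap k K') ≫ β := by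
    apply Spec.map_injective
    rw [Spec.map_comp, Spec.map_comp, hφ, ← Category.assoc, hα, hβ, Category.assoc, Category.assoc,
      pullback.condition]
  have hcompat' : ∀ r : k, α.hom (algebraMap k _ r) = β.hom (algebraMap k K' r) := fun r =>
    congr($(hcompat).hom r)
  let _ : Algebra k ((XK).residueField z) := (β.hom.comp (algebraMap k K')).toAlgebra
  let αₐ : X.residueField (pullback.fst f g z) →ₐ[k] (XK).residueField z :=
    { α.hom with commutes' := hcompat' }
  let βₐ : K' →ₐ[k] (XK).residueField z := { β.hom with commutes' := fun r => rfl }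
  -- the separable closure maps into the image of `K'`
  have hrange : ∀ a : separableClosure k (X.residueField (pullback.fst f g z)),
      αₐ (a : X.residueField (pullback.fst f g z)) ∈ βₐ.range := by
    intro a
    have hsp := hN a
    have hne : (minpoly k (a : X.residueField (pullback.fst f g z))).map (algebraMap k K') ≠ 0 := by
      rw [Polynomial.map_ne_zero_iff (algebraMap k K').injective]
      exact minpoly.ne_zero (mem_separableClosure_iff.1 a.2).isIntegral
    have hroot : (((minpoly k (a : X.residueField (pullback.fst f g z))).map
        (algebraMap k K')).map β.hom).IsRoot (αₐ (a : X.residueField (pullback.fst f g z))) := by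
      rw [Polynomial.map_map, Polynomial.IsRoot.def, Polynomial.eval_map]
      change Polynomial.aeval (αₐ (a : X.residueField (pullback.fst f g z)))
        (minpoly k (a : X.residueField (pullback.fst f g z))) = 0
      rw [Polynomial.aeval_algHom_apply, minpoly.aeval, map_zero]
    obtain ⟨b, hb⟩ := hsp.mem_range_of_isRoot hne hroot
    exact ⟨b, hb⟩
  let γ : separableClosure k (X.residueField (pullback.fst f g z)) →ₐ[k] (XK).residueField z :=
    αₐ.comp (IntermediateField.val _)
  let σ : separableClosure k (X.residueField (pullback.fst f g z)) →ₐ[k] K' :=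
    ((AlgEquiv.ofInjectiveField βₐ).symm : βₐ.range →ₐ[k] K').comp (γ.codRestrict βₐ.range hrange)
  have hσ : ∀ a, βₐ (σ a) = αₐ (a : X.residueField (pullback.fst f g z)) := by
    intro a
    have h1 : (AlgEquiv.ofInjectiveField βₐ (σ a) : (XK).residueField z) = βₐ (σ a) := rfl
    rw [← h1]
    change ((AlgEquiv.ofInjectiveField βₐ) ((AlgEquiv.ofInjectiveField βₐ).symm
      (γ.codRestrict βₐ.range hrange a)) : (XK).residueField z) = _
    rw [AlgEquiv.apply_symm_apply]
    rfl
  refine ⟨σ, ?_⟩
  -- the point of `Y_σ`
  have hcond : Spec.map α ≫ Spec.map (CommRingCat.ofHom (algebraMap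
      (separableClosure k (X.residueField (pullback.fst f g z)))
        (X.residueField (pullback.fst f g z)))) =
      Spec.map β ≫ Spec.map (CommRingCat.ofHom σ.toRingHom) := by
    have e : CommRingCat.ofHom (algebraMap
        (separableClosure k (X.residueField (pullback.fst f g z)))
          (X.residueField (pullback.fst f g z))) ≫ α = CommRingCat.ofHom σ.toRingHom ≫ β := by
      ext a
      exact (hσ a).symm
    calc Spec.map α ≫ Spec.map (CommRingCat.ofHom (algebraMap
          (separableClosure k (X.residueField (pullback.fst f g z)))
            (X.residueField (pullback.fst f g z))))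
        = Spec.map (CommRingCat.ofHom (algebraMap
          (separableClosure k (X.residueField (pullback.fst f g z)))
            (X.residueField (pullback.fst f g z))) ≫ α) := (Spec.map_comp _ _).symm
      _ = Spec.map (CommRingCat.ofHom σ.toRingHom ≫ β) := by rw [e]
      _ = _ := Spec.map_comp _ _
  have ht : (pullback.lift (Spec.map α) (Spec.map β) hcond : Spec ((XK).residueField z) ⟶
      sepPiece _ K' σ) ≫ sepMap f _ hφ K' σ = (XK).fromSpecResidueField z := by
    apply pullback.hom_ext
    · rw [Category.assoc, sepMap_fst, ← hα]
      have h1 := pullback.lift_fst (Spec.map α) (Spec.map β) hcond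
      exact (Category.assoc _ _ _).symm.trans
        (congrArg (fun m => m ≫ X.fromSpecResidueField (pullback.fst f g z)) h1)
    · rw [Category.assoc, sepMap_snd, ← hβ]
      exact pullback.lift_snd (Spec.map α) (Spec.map β) hcond
  have hne : Nonempty ↥(Spec ((XK).residueField z)) := by
    change Nonempty (PrimeSpectrum ((XK).residueField z))
    infer_instance
  obtain ⟨pt⟩ := hne
  refine ⟨(pullback.lift (Spec.map α) (Spec.map β) hcond : Spec ((XK).residueField z) ⟶
      sepPiece _ K' σ) pt, ?_⟩
  rw [← Scheme.Hom.comp_apply, ht]
  exact Scheme.fromSpecResidueField_apply _ _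

/-- Version of `exists_sepMap_eq_aux` for a point `z` over a given point `x`. -/
theorem exists_sepMap_eq (x : X) [Algebra k (X.residueField x)]
    (hφ : Spec.map (CommRingCat.ofHom (algebraMap k (X.residueField x))) =
      X.fromSpecResidueField x ≫ f)
    (hN : ∀ a : separableClosure k (X.residueField x),
      ((minpoly k (a : X.residueField x)).map (algebraMap k K')).Splits)
    (z : ↥(pullback f (Spec.map (CommRingCat.ofHom (algebraMap k K')))))
    (hz : pullback.fst f (Spec.map (CommRingCat.ofHom (algebraMap k K'))) z = x) :
    ∃ σ : separableClosure k (X.residueField x) →ₐ[k] K',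
      z ∈ Set.range (sepMap f x hφ K' σ) := by
  subst hz
  exact exists_sepMap_eq_aux f K' z hφ hN

end cover

end Groth.Agent.Lib.Helper21
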