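import Groth.Agent.Lib.Helper21.SepFibre
import Groth.Agent.Lib.Helper21.ClopenCount
import Groth.Agent.Lib.Helper21.FieldTower

/-!
# Connected components of `X_{K'}` and the separable fibre pieces (helper21)
-/

universe u

open CategoryTheory CategoryTheory.Limits AlgebraicGeometry

namespace Groth.Agent.Lib.Helper21

section

variable {k : Type u} [Field k] {X : Scheme.{u}} (f : X ⟶ Spec (CommRingCat.of k)) (x : X)
  [Algebra k (X.residueField x)]
  (hφ : Spec.map (CommRingCat.ofHom (algebraMap k (X.residueField x))) =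
    X.fromSpecResidueField x ≫ f)
  (K' : Type u) [Field K'] [Algebra k K']

theorem isPreconnected_range_sepMap (σ : separableClosure k (X.residueField x) →ₐ[k] K') :
    _root_.IsPreconnected (Set.range (sepMap f x hφ K' σ)) := by
  have := irreducibleSpace_sepPiece (k := k) x K' σ
  exact (isPreconnected_range (sepMap f x hφ K' σ).continuous)

theorem nonempty_range_sepMap (σ : separableClosure k (X.residueField x) →ₐ[k] K') :
    (Set.range (sepMap f x hφ K' σ)).Nonempty := by
  have := irreducibleSpace_sepPiece (k := k) x K' σ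
  exact Set.range_nonempty _

/-- Let `C` be a clopen preconnected subset of `X` containing `x`, and `K'/k` algebraic such that
the minimal polynomials of elements of `k₁` split in `K'`.  Then every nonempty clopen subset of
`π⁻¹ C` contains the image of some `h_σ`. -/
theorem exists_range_sepMap_subset [Algebra.IsAlgebraic k K']
    (hN : ∀ a : separableClosure k (X.residueField x),
      ((minpoly k (a : X.residueField x)).map (algebraMap k K')).Splits)
    (C : Set X) (hC : _root_.IsPreconnected C) (hxC : x ∈ C)
    (U : Set ↥(pullback f (Spec.map (CommRingCat.ofHom (algebraMap k K')))))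
    (hU : IsClopen U) (hUC : U ⊆ (bcπ' f K') ⁻¹' C) (hUne : U.Nonempty) :
    ∃ σ : separableClosure k (X.residueField x) →ₐ[k] K',
      Set.range (sepMap f x hφ K' σ) ⊆ U := by
  have hcl : IsClopen ((bcπ' f K') '' U) :=
    ⟨isClosedMap_bcπ_of_isAlgebraic f K' _ hU.1, isOpenMap_bcπ f K' _ hU.2⟩
  have hsub : C ⊆ (bcπ' f K') '' U := by
    obtain ⟨u, hu⟩ := hUne
    exact hC.subset_isClopen hcl ⟨bcπ' f K' u, hUC hu, u, hu, rfl⟩
  obtain ⟨z, hzU, hzx⟩ := hsub hxC
  obtain ⟨σ, hσ⟩ := exists_sepMap_eq f K' x hφ hN z hzx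
  exact ⟨σ, (isPreconnected_range_sepMap f x hφ K' σ).subset_isClopen hU ⟨z, hσ, hzU⟩⟩

end

end Groth.Agent.Lib.Helper21
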