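import Groth.Agent.Lib.Helper21.SepFibreConn

/-!
# Irreducible components of `X_L` and the separable fibre pieces (helper21)
-/

universe u

open CategoryTheory CategoryTheory.Limits AlgebraicGeometry

namespace Groth.Agent.Lib.Helper21

/-- A generization of the generic point of an irreducible component is that generic point. -/
theorem eq_of_specializes_of_isGenericPoint {Y : Type*} [TopologicalSpace Y] [T0Space Y]
    {Z : Set Y} (hZ : Z ∈ irreducibleComponents Y) {ζ ζ' : Y} (hζ : IsGenericPoint ζ Z)
    (h : ζ' ⤳ ζ) : ζ' = ζ := by
  have h1 : Z ⊆ closure {ζ'} := by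
    rw [← hζ.def]
    exact closure_minimal (Set.singleton_subset_iff.2 h.mem_closure) isClosed_closure
  have h2 : closure {ζ'} ⊆ Z := hZ.2 isIrreducible_singleton.closure h1
  have h3 : IsGenericPoint ζ' Z := Set.Subset.antisymm h2 h1
  exact h3.eq hζ

section

variable {k : Type u} [Field k] {X : Scheme.{u}} (f : X ⟶ Spec (CommRingCat.of k))

/-- The generic point of an irreducible component of `X_L` lies over the generic point of an
irreducible component of `X`. -/
theorem map_genericPoint_irreducibleComponent (L : Type u) [Field L] [Algebra k L]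
    (Z' : Set ↥(pullback f (Spec.map (CommRingCat.ofHom (algebraMap k L)))))
    (hZ' : Z' ∈ irreducibleComponents ↥(pullback f (Spec.map (CommRingCat.ofHom (algebraMap k L)))))
    (Z : Set X) (hZ : Z ∈ irreducibleComponents X)
    (hmem : bcπ' f L hZ'.1.genericPoint ∈ Z) :
    bcπ' f L hZ'.1.genericPoint = hZ.1.genericPoint := by
  have hZcl : IsClosed Z := isClosed_of_mem_irreducibleComponents Z hZ
  have hZ'cl : IsClosed Z' := isClosed_of_mem_irreducibleComponents Z' hZ'
  have hξ : IsGenericPoint hZ.1.genericPoint Z := hZ.1.isGenericPoint_genericPoint hZcl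
  have hζ : IsGenericPoint hZ'.1.genericPoint Z' := hZ'.1.isGenericPoint_genericPoint hZ'cl
  have hspec : hZ.1.genericPoint ⤳ bcπ' f L hZ'.1.genericPoint := hξ.specializes hmem
  have hflat : Flat (bcπ' f L) := inferInstance
  obtain ⟨ζ'', hζ'', hπ⟩ := Flat.generalizingMap (bcπ' f L) hspec
  have := eq_of_specializes_of_isGenericPoint hZ' hζ hζ''
  rw [← this]
  exact hπ

variable (x : X) [Algebra k (X.residueField x)]
  (hφ : Spec.map (CommRingCat.ofHom (algebraMap k (X.residueField x))) =
    X.fromSpecResidueField x ≫ f)
  (L : Type u) [Field L] [Algebra k L]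

include hφ in
/-- If the generic point of the irreducible component `Z'` of `X_L` lies over `x` and the minimal
polynomials of the elements of `k₁(x)` split in `L`, then `Z'` is geometrically irreducible. -/
theorem isIrreducible_preimage_irreducibleComponent
    (hN : ∀ a : separableClosure k (X.residueField x),
      ((minpoly k (a : X.residueField x)).map (algebraMap k L)).Splits)
    (Z' : Set ↥(pullback f (Spec.map (CommRingCat.ofHom (algebraMap k L)))))
    (hZ' : Z' ∈ irreducibleComponents ↥(pullback f (Spec.map (CommRingCat.ofHom (algebraMap k L)))))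
    (hπ : bcπ' f L hZ'.1.genericPoint = x)
    (K : Type u) [Field K] [Algebra L K] :
    IsIrreducible ((pullback.fst (pullback.snd f (Spec.map (CommRingCat.ofHom (algebraMap k L))))
      (Spec.map (CommRingCat.ofHom (algebraMap L K)))) ⁻¹' Z') := by
  have hZ'cl : IsClosed Z' := isClosed_of_mem_irreducibleComponents Z' hZ'
  have hζ : IsGenericPoint hZ'.1.genericPoint Z' := hZ'.1.isGenericPoint_genericPoint hZ'cl
  obtain ⟨σ, hσ⟩ := exists_sepMap_eq f L x hφ hN _ hπ
  have hirrY := irreducibleSpace_sepPiece (k := k) x L σ
  -- `Z'` is the closure of the image of `h_σ`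
  have hrange_irr : IsIrreducible (Set.range (sepMap f x hφ L σ)) := by
    rw [← Set.image_univ]
    exact (IrreducibleSpace.isIrreducible_univ _).image _ (sepMap f x hφ L σ).continuous.continuousOn
  have hZ'eq : Z' = closure (Set.range (sepMap f x hφ L σ)) := by
    have h1 : Z' ⊆ closure (Set.range (sepMap f x hφ L σ)) := by
      rw [← hζ.def]
      exact closure_mono (Set.singleton_subset_iff.2 hσ)
    exact Set.Subset.antisymm h1 (hZ'.2 hrange_irr.closure h1)
  -- the preimage
  set πK := pullback.fst (pullback.snd f (Spec.map (CommRingCat.ofHom (algebraMap k L))))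
      (Spec.map (CommRingCat.ofHom (algebraMap L K))) with hπK
  have hopen : IsOpenMap πK := by
    have : UniversallyOpen πK := inferInstance
    exact Scheme.Hom.isOpenMap _
  rw [hZ'eq, hopen.preimage_closure_eq_closure_preimage πK.continuous,
    ← Scheme.Pullback.range_snd (sepMap f x hφ L σ) πK]
  have hgi := geometricallyIrreducible_sepMap_snd f x hφ L σ
  have hirrP : IrreducibleSpace ↥(pullback (sepMap f x hφ L σ) πK) := by
    rw [(pullbackRightPullbackFstIso (pullback.snd f (Spec.map (CommRingCat.ofHom (algebraMap k L))))
      (Spec.map (CommRingCat.ofHom (algebraMap L K))) (sepMap f x hφ L σ)).hom.homeomorph.irreducibleSpace_iff]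
    exact GeometricallyIrreducible.geometrically_irreducibleSpace _ _ _ (.of_hasPullback _ _)
  refine IsIrreducible.closure ?_
  rw [← Set.image_univ]
  exact (IrreducibleSpace.isIrreducible_univ _).image _
    (pullback.snd (sepMap f x hφ L σ) πK).continuous.continuousOn

end

end Groth.Agent.Lib.Helper21
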