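import Mathlib
import Groth.Agent.S2155
import Groth.Agent.S2156
import Groth.Agent.Lib.Helper21.FibreBaseChange
import Groth.Agent.Lib.Helper21.FibLocusCons

/-!
# The locus where the fibres are smooth (helper21)

`smFib f` is the set of points `x` such that the fibre of `f` through `x` is smooth at `x` over
the residue field.  It commutes with base change (helper35's S2155 for the flat base change
`Spec κ(s') ⟶ Spec κ(s)`), with open immersions on the source, and is the smooth locus of `f` for
`f` flat (helper35's S2156).  Hence it is locally constructible (EGA IV 9.9.4-type statement).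
-/

set_option linter.style.haveILetI false
set_option autoImplicit false
universe u

open CategoryTheory CategoryTheory.Limits AlgebraicGeometry TopologicalSpace Topology

namespace Groth.Agent.Lib.Helper21.SmFibLocus

open Groth.Agent.Lib.Helper21

/-- the set of points `x` such that the fibre through `x` is smooth at `x`. -/
def smFib {X S : Scheme.{u}} (f : X ⟶ S) : Set X :=
  {x | ((f.fiberToSpecResidueField (f x)).stalkMap (f.asFiber x)).hom.FormallySmooth}

theorem mem_smFib_fiberι_iff {X S : Scheme.{u}} (f : X ⟶ S) (s : S)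
    (z : (f.fiber s : Scheme.{u})) :
    (f.fiberι s) z ∈ smFib f ↔ ((f.fiberToSpecResidueField s).stalkMap z).hom.FormallySmooth := by
  have key : ∀ (x : X) (s : S) (_ : f x = s) (z : (f.fiber s : Scheme.{u}))
      (_ : (f.fiberι s) z = x),
      ((f.fiberToSpecResidueField (f x)).stalkMap (f.asFiber x)).hom.FormallySmooth ↔
      ((f.fiberToSpecResidueField s).stalkMap z).hom.FormallySmooth := by
    intro x s hs z hz
    subst hs
    have : f.asFiber x = z := by
      apply (f.fiberι _).isEmbedding.injective
      rw [Scheme.Hom.fiberι_asFiber, hz]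
    rw [this]
  exact key _ s (map_fiberι f z) z rfl

/-- the smooth fibre locus commutes with base change. -/
theorem smFib_of_isPullback {X Y X' Y' : Scheme.{u}} (f : X ⟶ Y) (g : Y' ⟶ Y) (f' : X' ⟶ Y')
    (g' : X' ⟶ X) (hsq : IsPullback g' f' f g) [LocallyOfFinitePresentation f] :
    smFib f' = g' ⁻¹' smFib f := by
  ext x'
  have sq := isPullback_fiberMapOfIsPullback hsq (f' x')
  haveI : LocallyOfFinitePresentation (f.fiberToSpecResidueField (g (f' x'))) :=
    inferInstanceAs (LocallyOfFinitePresentation (pullback.snd f _))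
  haveI : LocallyOfFinitePresentation (f'.fiberToSpecResidueField (f' x')) :=
    MorphismProperty.of_isPullback (P := @LocallyOfFinitePresentation) sq inferInstance
  haveI : Flat (Spec.map (g.residueFieldMap (f' x'))) := Groth.Agent.S2155.flat_specMap_of_field _
  have h1 := Groth.Agent.S2155.result _ _ _ _ sq (Or.inr inferInstance)
  have h2 : g' x' = f.fiberι (g (f' x')) (fiberMapOfIsPullback hsq (f' x') (f'.asFiber x')) := by
    rw [fiberι_fiberMapOfIsPullback_apply, f'.fiberι_asFiber]
  show _ ↔ g' x' ∈ smFib f
  rw [h2, mem_smFib_fiberι_iff]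
  have h3 : f'.asFiber x' ∈ (f'.fiberToSpecResidueField (f' x')).smoothLocus ↔
      f'.asFiber x' ∈ (fiberMapOfIsPullback hsq (f' x')) ⁻¹ᵁ
        (f.fiberToSpecResidueField (g (f' x'))).smoothLocus := by rw [h1]
  exact h3

/-- for a flat morphism the smooth fibre locus is the smooth locus. -/
theorem smFib_eq_of_flat {X S : Scheme.{u}} (f : X ⟶ S) [Flat f]
    [LocallyOfFinitePresentation f] : smFib f = (f.smoothLocus : Set X) := by
  ext x
  haveI : LocallyOfFinitePresentation (f.fiberToSpecResidueField (f x)) :=
    inferInstanceAs (LocallyOfFinitePresentation (pullback.snd f _))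
  have := Groth.Agent.S2156.result f x
  exact ⟨fun h => this.2 ⟨Flat.stalkMap f x, h⟩, fun h => (this.1 h).2⟩

/-- pre-composition with an open immersion restricts the smooth fibre locus. -/
theorem smFib_comp_of_isOpenImmersion {U X S : Scheme.{u}} (j : U ⟶ X) [IsOpenImmersion j]
    (f : X ⟶ S) [LocallyOfFinitePresentation f] : smFib (j ≫ f) = j ⁻¹' smFib f := by
  ext x
  let s : S := (j ≫ f) x
  let ψ : (j ≫ f).fiber s ⟶ f.fiber s :=
    pullback.map (j ≫ f) (S.fromSpecResidueField s) f (S.fromSpecResidueField s) j (𝟙 _) (𝟙 _)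
      (by simp) (by simp)
  have hψ1 : ψ ≫ f.fiberι s = (j ≫ f).fiberι s ≫ j := pullback.lift_fst _ _ _
  have hψ2 : ψ ≫ f.fiberToSpecResidueField s = (j ≫ f).fiberToSpecResidueField s := by
    have : ψ ≫ pullback.snd f (S.fromSpecResidueField s) =
        pullback.snd (j ≫ f) (S.fromSpecResidueField s) ≫ 𝟙 _ := pullback.lift_snd _ _ _
    rw [Category.comp_id] at this
    exact this
  haveI : IsOpenImmersion ψ := Scheme.pullback_map_isOpenImmersion _ _ _ _ _ _ _ _ _
  haveI : LocallyOfFinitePresentation (f.fiberToSpecResidueField s) :=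
    inferInstanceAs (LocallyOfFinitePresentation (pullback.snd f _))
  have h2 : j x = f.fiberι s (ψ ((j ≫ f).asFiber x)) := by
    rw [← Scheme.Hom.comp_apply, hψ1, Scheme.Hom.comp_apply, (j ≫ f).fiberι_asFiber]
  show _ ↔ j x ∈ smFib f
  rw [h2, mem_smFib_fiberι_iff]
  refine Iff.trans ?_ (RingHom.FormallySmooth.respectsIso.cancel_right_isIso _
    (ψ.stalkMap ((j ≫ f).asFiber x)))
  rw [← CommRingCat.hom_comp, ← Scheme.Hom.stalkMap_comp]
  have key : ∀ (q : (j ≫ f).fiber s ⟶ Spec (S.residueField s))
      (_ : q = (j ≫ f).fiberToSpecResidueField s),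
      (((j ≫ f).fiberToSpecResidueField s).stalkMap ((j ≫ f).asFiber x)).hom.FormallySmooth ↔
      (q.stalkMap ((j ≫ f).asFiber x)).hom.FormallySmooth := by
    intro q hq
    subst hq
    exact Iff.rfl
  exact key _ hψ2

/-- the smooth fibre locus as a fibrewise locus in the sense of `FibLocusCons`. -/
def smFibLocus : FibLocusCons.FibLocus.{u} where
  L f := smFib f
  bc f g f' g' hsq hf := by
    haveI := hf
    exact smFib_of_isPullback f g f' g' hsq
  oi j f hj hf := by
    haveI := hj
    haveI := hf
    exact smFib_comp_of_isOpenImmersion j f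
  fl f _ hfl hf := by
    haveI := hfl
    haveI := hf
    rw [smFib_eq_of_flat]
    exact f.smoothLocus.isOpen

/-- **EGA IV 9.9.4-type**: the set of points at which the fibre is smooth is locally
constructible. -/
theorem isLocallyConstructible_smFib {X S : Scheme.{u}} (f : X ⟶ S)
    [LocallyOfFinitePresentation f] : IsLocallyConstructible (smFib f) :=
  smFibLocus.isLocallyConstructible f

end Groth.Agent.Lib.Helper21.SmFibLocus
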