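import Mathlib
import Groth.Agent.Lib.Helper40.GrpdTrans

/-!
# The group scheme structure on a base change of the stabilizer (helper21)

For a groupoid scheme `(U, R, s, t, c, e, i)` over `S` with stabilizer `G ⟶ U` and a morphism
`a : K ⟶ U`, the base change `G_K = G ×_U K` carries the structure of a groupoid scheme on `K` with
source = target = the projection (that is, a group scheme over `K`).  `T`-points of `G_K` are pairs
`(r, κ)` with `s ∘ r = a ∘ κ = t ∘ r`.
-/

set_option autoImplicit false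
universe u
open CategoryTheory CategoryTheory.Limits AlgebraicGeometry

namespace Groth.Agent.Lib.Helper21.StabGrp

open Groth.Agent.Lib.Helper40.GrpdRank

variable {S : Scheme.{u}} (G : Grpd.GroupoidScheme S) {K : Scheme.{u}} (a : K ⟶ G.U)

/-- the projection of the stabilizer to `R`. -/
noncomputable def sR : G.stabilizer ⟶ G.R := pullback.fst G.j G.diag

/-- a `T`-point of the stabilizer. -/
noncomputable def sLift {T : Scheme.{u}} (r : T ⟶ G.R) (v : T ⟶ G.U) (h : r ≫ G.j = v ≫ G.diag) :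
    T ⟶ G.stabilizer := pullback.lift r v h

@[reassoc]
lemma sLift_sR {T : Scheme.{u}} (r : T ⟶ G.R) (v : T ⟶ G.U) (h : r ≫ G.j = v ≫ G.diag) :
    sLift G r v h ≫ sR G = r := pullback.lift_fst _ _ _

@[reassoc]
lemma sLift_toU {T : Scheme.{u}} (r : T ⟶ G.R) (v : T ⟶ G.U) (h : r ≫ G.j = v ≫ G.diag) :
    sLift G r v h ≫ G.stabilizerToU = v := pullback.lift_snd _ _ _

lemma s_hom_ext {T : Scheme.{u}} (f₁ f₂ : T ⟶ G.stabilizer) (h1 : f₁ ≫ sR G = f₂ ≫ sR G)
    (h2 : f₁ ≫ G.stabilizerToU = f₂ ≫ G.stabilizerToU) : f₁ = f₂ :=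
  pullback.hom_ext (f := G.j) (g := G.diag) h1 h2

@[reassoc]
lemma sR_s : sR G ≫ G.s = G.stabilizerToU := by
  have h := congrArg (fun φ => φ ≫ pullback.snd G.pU G.pU)
    (pullback.condition (f := G.j) (g := G.diag))
  simp only [Grpd.GroupoidScheme.j, Grpd.GroupoidScheme.diag, Category.assoc,
    pullback.lift_snd, Category.comp_id] at h
  exact h

@[reassoc]
lemma sR_t : sR G ≫ G.t = G.stabilizerToU := by
  have h := congrArg (fun φ => φ ≫ pullback.fst G.pU G.pU)
    (pullback.condition (f := G.j) (g := G.diag))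
  simp only [Grpd.GroupoidScheme.j, Grpd.GroupoidScheme.diag, Category.assoc,
    pullback.lift_fst, Category.comp_id] at h
  exact h

/-- the base change of the stabilizer. -/
noncomputable abbrev GK : Scheme.{u} := pullback G.stabilizerToU a

/-- the projection to `R`. -/
noncomputable def toR : GK G a ⟶ G.R :=
  pullback.fst G.stabilizerToU a ≫ sR G

/-- the projection to `K`. -/
noncomputable def toK : GK G a ⟶ K := pullback.snd G.stabilizerToU a

@[reassoc]
lemma toR_s : toR G a ≫ G.s = toK G a ≫ a := by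
  unfold toR toK
  rw [Category.assoc, sR_s, pullback.condition]

@[reassoc]
lemma toR_t : toR G a ≫ G.t = toK G a ≫ a := by
  unfold toR toK
  rw [Category.assoc, sR_t, pullback.condition]

lemma mk_cond {T : Scheme.{u}} (r : T ⟶ G.R) (κ : T ⟶ K) (hs : r ≫ G.s = κ ≫ a)
    (ht : r ≫ G.t = κ ≫ a) : r ≫ G.j = (κ ≫ a) ≫ G.diag := by
  apply pullback.hom_ext
  · simp only [Grpd.GroupoidScheme.j, Grpd.GroupoidScheme.diag, Category.assoc,
      pullback.lift_fst, Category.comp_id]
    exact ht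
  · simp only [Grpd.GroupoidScheme.j, Grpd.GroupoidScheme.diag, Category.assoc,
      pullback.lift_snd, Category.comp_id]
    exact hs

/-- a `T`-point of `G_K` from `(r, κ)`. -/
noncomputable def mk {T : Scheme.{u}} (r : T ⟶ G.R) (κ : T ⟶ K) (hs : r ≫ G.s = κ ≫ a)
    (ht : r ≫ G.t = κ ≫ a) : T ⟶ GK G a :=
  pullback.lift (sLift G r (κ ≫ a) (mk_cond G a r κ hs ht)) κ (sLift_toU G _ _ _)

@[reassoc (attr := simp)]
lemma mk_toR {T : Scheme.{u}} (r : T ⟶ G.R) (κ : T ⟶ K) (hs : r ≫ G.s = κ ≫ a)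
    (ht : r ≫ G.t = κ ≫ a) : mk G a r κ hs ht ≫ toR G a = r := by
  unfold mk toR
  rw [pullback.lift_fst_assoc, sLift_sR]

@[reassoc (attr := simp)]
lemma mk_toK {T : Scheme.{u}} (r : T ⟶ G.R) (κ : T ⟶ K) (hs : r ≫ G.s = κ ≫ a)
    (ht : r ≫ G.t = κ ≫ a) : mk G a r κ hs ht ≫ toK G a = κ := pullback.lift_snd _ _ _

lemma hom_ext' {T : Scheme.{u}} (f₁ f₂ : T ⟶ GK G a) (h1 : f₁ ≫ toR G a = f₂ ≫ toR G a)
    (h2 : f₁ ≫ toK G a = f₂ ≫ toK G a) : f₁ = f₂ := by
  apply pullback.hom_ext
  · apply s_hom_ext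
    · simp only [Category.assoc]
      exact h1
    · have e : ∀ f : T ⟶ GK G a, (f ≫ pullback.fst G.stabilizerToU a) ≫ G.stabilizerToU =
          (f ≫ toK G a) ≫ a := by
        intro f
        rw [Category.assoc, Category.assoc]
        congr 1
        exact pullback.condition
      rw [e, e, h2]
  · exact h2

lemma mk_congr {T : Scheme.{u}} {r r' : T ⟶ G.R} {κ κ' : T ⟶ K} (hr : r = r') (hκ : κ = κ')
    (hs : r ≫ G.s = κ ≫ a) (ht : r ≫ G.t = κ ≫ a) (hs' : r' ≫ G.s = κ' ≫ a)
    (ht' : r' ≫ G.t = κ' ≫ a) : mk G a r κ hs ht = mk G a r' κ' hs' ht' := by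
  subst hr hκ; rfl

/-! ### the structure maps -/

/-- identity. -/
noncomputable def eK : K ⟶ GK G a :=
  mk G a (a ≫ G.e) (𝟙 K) (by rw [Category.assoc, G.e_s, Category.comp_id, Category.id_comp])
    (by rw [Category.assoc, G.e_t, Category.comp_id, Category.id_comp])

/-- inverse. -/
noncomputable def iK : GK G a ⟶ GK G a :=
  mk G a (toR G a ≫ G.i) (toK G a) (by rw [Category.assoc, G.i_s, toR_t])
    (by rw [Category.assoc, G.i_t, toR_s])

lemma cK_cond : (pullback.fst (toK G a) (toK G a) ≫ toR G a) ≫ G.s =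
    (pullback.snd (toK G a) (toK G a) ≫ toR G a) ≫ G.t := by
  rw [Category.assoc, Category.assoc, toR_s, toR_t, ← Category.assoc, ← Category.assoc,
    pullback.condition]

/-- composition. -/
noncomputable def cK : pullback (toK G a) (toK G a) ⟶ GK G a :=
  mk G a (m G (pullback.fst (toK G a) (toK G a) ≫ toR G a)
      (pullback.snd (toK G a) (toK G a) ≫ toR G a) (cK_cond G a))
    (pullback.fst (toK G a) (toK G a) ≫ toK G a)
    (by rw [m_s, Category.assoc, Category.assoc, toR_s, ← Category.assoc, ← Category.assoc,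
      pullback.condition])
    (by rw [m_t, Category.assoc, Category.assoc, toR_t])

lemma lift_cond {T : Scheme.{u}} (α β : T ⟶ GK G a) (h : α ≫ toK G a = β ≫ toK G a) :
    (α ≫ toR G a) ≫ G.s = (β ≫ toR G a) ≫ G.t := by
  rw [Category.assoc, Category.assoc, toR_s, toR_t, ← Category.assoc, ← Category.assoc, h]

lemma lift_cK_toR {T : Scheme.{u}} (α β : T ⟶ GK G a) (h : α ≫ toK G a = β ≫ toK G a) :
    (pullback.lift α β h ≫ cK G a) ≫ toR G a =
      m G (α ≫ toR G a) (β ≫ toR G a) (lift_cond G a α β h) := by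
  unfold cK
  rw [Category.assoc, mk_toR]
  have h1 : pullback.lift α β h ≫ (pullback.fst (toK G a) (toK G a) ≫ toR G a) = α ≫ toR G a := by
    rw [pullback.lift_fst_assoc]
  have h2 : pullback.lift α β h ≫ (pullback.snd (toK G a) (toK G a) ≫ toR G a) = β ≫ toR G a := by
    rw [pullback.lift_snd_assoc]
  have h3 : (pullback.lift α β h ≫ (pullback.fst (toK G a) (toK G a) ≫ toR G a)) ≫ G.s =
      (pullback.lift α β h ≫ (pullback.snd (toK G a) (toK G a) ≫ toR G a)) ≫ G.t := by
    rw [h1, h2]; exact lift_cond G a α β h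
  rw [comp_m G _ _ _ (cK_cond G a) h3]
  exact m_congr G h1 h2 h3 _

lemma lift_cK_toK {T : Scheme.{u}} (α β : T ⟶ GK G a) (h : α ≫ toK G a = β ≫ toK G a) :
    (pullback.lift α β h ≫ cK G a) ≫ toK G a = α ≫ toK G a := by
  unfold cK
  rw [Category.assoc, mk_toK, pullback.lift_fst_assoc]

lemma eK_toR : eK G a ≫ toR G a = a ≫ G.e := mk_toR G a _ _ _ _

lemma eK_toK : eK G a ≫ toK G a = 𝟙 K := mk_toK G a _ _ _ _

lemma iK_toR : iK G a ≫ toR G a = toR G a ≫ G.i := mk_toR G a _ _ _ _

lemma iK_toK : iK G a ≫ toK G a = toK G a := mk_toK G a _ _ _ _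

/-- the group scheme `G_K` over `K`, as a groupoid scheme on `K`. -/
noncomputable def grp : Grpd.GroupoidScheme K where
  U := K
  R := GK G a
  pU := 𝟙 K
  pR := toK G a
  s := toK G a
  t := toK G a
  e := eK G a
  i := iK G a
  c := cK G a
  s_over := Category.comp_id _
  t_over := Category.comp_id _
  comp_s := by
    intro T α β h
    rw [lift_cK_toK, h]
  comp_t := by
    intro T α β h
    rw [lift_cK_toK]
  assoc := by
    intro T α β γ h₁ h₂
    apply hom_ext'
    · refine (lift_cK_toR G a _ γ _).trans ?_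
      refine Eq.trans ?_ (lift_cK_toR G a α _ _).symm
      have e1 := lift_cK_toR G a α β h₁
      have e2 := lift_cK_toR G a β γ h₂
      refine (m_congr G e1 rfl _ ?_).trans ((m_assoc G _ _ _ (lift_cond G a α β h₁)
        (lift_cond G a β γ h₂) ?_ ?_).trans (m_congr G rfl e2.symm ?_ _))
      · rw [m_s]; exact lift_cond G a β γ h₂
      · rw [m_s]; exact lift_cond G a β γ h₂
      · rw [m_t]; exact lift_cond G a α β h₁
      · rw [m_t]; exact lift_cond G a α β h₁
    · rw [lift_cK_toK, lift_cK_toK, lift_cK_toK]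
  e_s := eK_toK G a
  e_t := eK_toK G a
  comp_e := by
    intro T α
    apply hom_ext'
    · rw [lift_cK_toR]
      have e1 : (α ≫ toK G a ≫ eK G a) ≫ toR G a = (α ≫ toR G a) ≫ G.s ≫ G.e := by
        rw [Category.assoc, Category.assoc, eK_toR, Category.assoc, toR_s_assoc]
      exact (m_congr G rfl e1 _ (se_t G _)).trans (m_e G _ _)
    · rw [lift_cK_toK]
  e_comp := by
    intro T α
    apply hom_ext'
    · rw [lift_cK_toR]
      have e1 : (α ≫ toK G a ≫ eK G a) ≫ toR G a = (α ≫ toR G a) ≫ G.t ≫ G.e := by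
        rw [Category.assoc, Category.assoc, eK_toR, Category.assoc, toR_t_assoc]
      exact (m_congr G e1 rfl _ (te_s G _)).trans (e_m G _ _)
    · rw [lift_cK_toK, Category.assoc, Category.assoc, eK_toK, Category.comp_id]
  i_s := iK_toK G a
  i_t := iK_toK G a
  comp_i := by
    intro T α
    apply hom_ext'
    · rw [lift_cK_toR]
      have e1 : (α ≫ iK G a) ≫ toR G a = (α ≫ toR G a) ≫ G.i := by
        rw [Category.assoc, iK_toR, Category.assoc]
      have e2 : (α ≫ toK G a ≫ eK G a) ≫ toR G a = (α ≫ toR G a) ≫ G.t ≫ G.e := by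
        rw [Category.assoc, Category.assoc, eK_toR, Category.assoc, toR_t_assoc]
      rw [e2]
      exact (m_congr G rfl e1 _ (i_t' G _).symm).trans (m_i G _ _)
    · rw [lift_cK_toK, Category.assoc, Category.assoc, eK_toK, Category.comp_id]
  i_comp := by
    intro T α
    apply hom_ext'
    · rw [lift_cK_toR]
      have e1 : (α ≫ iK G a) ≫ toR G a = (α ≫ toR G a) ≫ G.i := by
        rw [Category.assoc, iK_toR, Category.assoc]
      have e2 : (α ≫ toK G a ≫ eK G a) ≫ toR G a = (α ≫ toR G a) ≫ G.s ≫ G.e := by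
        rw [Category.assoc, Category.assoc, eK_toR, Category.assoc, toR_s_assoc]
      rw [e2]
      exact (m_congr G e1 rfl _ (i_s' G _)).trans (i_m G _ _)
    · rw [lift_cK_toK, Category.assoc, iK_toK, Category.assoc, Category.assoc, eK_toK,
        Category.comp_id]

end Groth.Agent.Lib.Helper21.StabGrp
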