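import Mathlib
import Groth.Agent.Lib.Helper21.StabGrp
import Groth.Agent.Lib.Helper21.GrpdDim
import Groth.Agent.Lib.Helper21.GrpdDiagPt
import Groth.Agent.Lib.Helper21.GrpdAct

/-!
# The fibre of the stabilizer embeds into the fibre of `h` (helper21)

For a groupoid scheme with `s`, `t` locally of finite type, a point `u` of `U` and an immersion
`g : U'' ⟶ U`, let `p` be a point of `X = U'' ×_{g,U,t} R` with `pr₂ p = e(u)`.  Then
`dim G_u ≤ dim_p h⁻¹(h p)` for `h = s ∘ pr₂`: the group scheme `G_u` is equidimensional and embeds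
topologically into the fibre of `h` through `p`, the identity going to `p`.
-/

set_option linter.style.haveILetI false
set_option autoImplicit false
universe u
open CategoryTheory CategoryTheory.Limits AlgebraicGeometry TopologicalSpace Topology

namespace Groth.Agent.Lib.Helper21.StabDimLower

open Groth.Agent.Lib.Helper21.StabGrp Groth.Agent.Lib.Helper21.GrpdAct
  Groth.Agent.Lib.Helper21.GrpdDiagPt

theorem localDim_le_of_isInducing {Y X : Type*} [TopologicalSpace Y] [TopologicalSpace X]
    (ψ : Y → X) (hψ : IsInducing ψ) (y : Y) :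
    FlatMor.localDim Y y ≤ FlatMor.localDim X (ψ y) := by
  unfold FlatMor.localDim
  apply le_iInf
  rintro ⟨N, hN⟩
  let N' : Opens Y := ⟨ψ ⁻¹' N, N.isOpen.preimage hψ.continuous⟩
  have hyN' : y ∈ N' := hN
  refine (iInf_le _ (⟨N', hyN'⟩ : {U : Opens Y // y ∈ U})).trans ?_
  have hind : IsInducing (fun a : (N' : Set Y) => (⟨ψ a.1, a.2⟩ : (N : Set X))) := by
    have h1 : IsInducing (fun a : (N' : Set Y) => ψ a.1) := hψ.comp IsInducing.subtypeVal
    exact h1.codRestrict _
  exact hind.topologicalKrullDim_le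

variable {S : Scheme.{u}} (G : Grpd.GroupoidScheme S)

instance lft_j [LocallyOfFiniteType G.s] : LocallyOfFiniteType G.j := by
  have h : G.j ≫ pullback.snd G.pU G.pU = G.s := pullback.lift_snd _ _ _
  haveI : LocallyOfFiniteType (G.j ≫ pullback.snd G.pU G.pU) := by rw [h]; infer_instance
  exact locallyOfFiniteType_of_comp G.j (pullback.snd G.pU G.pU)

instance lft_stab [LocallyOfFiniteType G.s] : LocallyOfFiniteType G.stabilizerToU :=
  inferInstanceAs (LocallyOfFiniteType (pullback.snd G.j G.diag))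

/-- the fibres of the stabilizer are equidimensional. -/
theorem localDim_stab_fiber [LocallyOfFiniteType G.s] (u : G.U) (y : G.stabilizerToU.fiber u) :
    FlatMor.localDim (G.stabilizerToU.fiber u) y =
      topologicalKrullDim (G.stabilizerToU.fiber u) := by
  let a := G.U.fromSpecResidueField u
  let H := grp G a
  haveI : LocallyOfFiniteType H.s :=
    inferInstanceAs (LocallyOfFiniteType (pullback.snd G.stabilizerToU a))
  haveI : LocallyOfFiniteType H.t :=
    inferInstanceAs (LocallyOfFiniteType (pullback.snd G.stabilizerToU a))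
  let eU : H.U ≅ Spec (CommRingCat.of (G.U.residueField u)) := Iso.refl _
  exact (Groth.Agent.Lib.Helper21.FieldDim.grpd_equidim H eU).2 y

theorem toR_s_apply (u : G.U) (y : ↑(GK G (G.U.fromSpecResidueField u))) :
    G.s (toR G (G.U.fromSpecResidueField u) y) = u := by
  rw [← Scheme.Hom.comp_apply, toR_s, Scheme.Hom.comp_apply]
  exact Scheme.fromSpecResidueField_apply u _

theorem toR_t_apply (u : G.U) (y : ↑(GK G (G.U.fromSpecResidueField u))) :
    G.t (toR G (G.U.fromSpecResidueField u) y) = u := by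
  rw [← Scheme.Hom.comp_apply, toR_t, Scheme.Hom.comp_apply]
  exact Scheme.fromSpecResidueField_apply u _

theorem toR_eK_apply (u : G.U) (pt : ↑(Spec (G.U.residueField u))) :
    toR G (G.U.fromSpecResidueField u) (eK G (G.U.fromSpecResidueField u) pt) = G.e u := by
  rw [← Scheme.Hom.comp_apply, eK_toR, Scheme.Hom.comp_apply,
    Scheme.fromSpecResidueField_apply u pt]

set_option maxHeartbeats 800000 in
theorem stab_dim_le [LocallyOfFiniteType G.s] (u : G.U) {U'' : Scheme.{u}} (g : U'' ⟶ G.U)
    [IsImmersion g] (p : ↑(pullback g G.t)) (hp2 : pullback.snd g G.t p = G.e u) :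
    topologicalKrullDim (G.stabilizerToU.fiber u) ≤
      FlatMor.fibreDimAt (pullback.snd g G.t ≫ G.s) p := by
  let a := G.U.fromSpecResidueField u
  let h := pullback.snd g G.t ≫ G.s
  have hsx : G.s (G.e u) = u := s_e_apply G u
  have htx : G.t (G.e u) = u := t_e_apply G u
  have hhp : h p = u := by
    show (pullback.snd g G.t ≫ G.s) p = u
    rw [Scheme.Hom.comp_apply, hp2, hsx]
  -- the identity point
  obtain ⟨pt⟩ : Nonempty (Spec (G.U.residueField u)) := inferInstance
  have hapt : a pt = u := Scheme.fromSpecResidueField_apply u pt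
  let y₀ : G.stabilizerToU.fiber u := eK G a pt
  let E₁ : G.stabilizerToU.fiber u ⟶ G.R := rho G u
  have hE₁ : E₁ = toR G a := rfl
  have hE₁y₀ : E₁ y₀ = G.e u := toR_eK_apply G u pt
  let E₂ : h.fiber (h p) ⟶ G.R := h.fiberι (h p) ≫ pullback.snd g G.t
  haveI : IsPreimmersion E₂ := by
    show IsPreimmersion (h.fiberι (h p) ≫ pullback.snd g G.t)
    infer_instance
  have hE₂p : E₂ (h.asFiber p) = G.e u := by
    show (h.fiberι (h p) ≫ pullback.snd g G.t) (h.asFiber p) = G.e u
    rw [Scheme.Hom.comp_apply, h.fiberι_asFiber, hp2]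
  have hsub : ∀ y, E₁ y ∈ Set.range E₂ := by
    intro y
    have hsz : G.s (E₁ y) = u := toR_s_apply G u y
    have htz : G.t (E₁ y) = u := toR_t_apply G u y
    have hz : E₁ y ∈ Set.range (pullback.snd g G.t) := by
      rw [Scheme.Pullback.range_snd]
      refine ⟨pullback.fst g G.t p, ?_⟩
      rw [← Scheme.Hom.comp_apply, pullback.condition, Scheme.Hom.comp_apply, hp2, htx, htz]
    obtain ⟨x, hx⟩ := hz
    have hxh : h x = h p := by
      rw [hhp]
      show (pullback.snd g G.t ≫ G.s) x = u
      rw [Scheme.Hom.comp_apply, hx, hsz]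
    have hxr : x ∈ Set.range (h.fiberι (h p)) := by
      rw [h.range_fiberι]
      exact hxh
    obtain ⟨w, hw⟩ := hxr
    refine ⟨w, ?_⟩
    show (h.fiberι (h p) ≫ pullback.snd g G.t) w = E₁ y
    rw [Scheme.Hom.comp_apply, hw, hx]
  let e₂ := E₂.isEmbedding.toHomeomorph
  let ψ : G.stabilizerToU.fiber u → h.fiber (h p) := fun y => e₂.symm ⟨E₁ y, hsub y⟩
  have hψ : IsInducing ψ := by
    have h1 : IsInducing (fun y : G.stabilizerToU.fiber u =>
        (⟨E₁ y, hsub y⟩ : Set.range E₂)) :=
      (E₁.isEmbedding.isInducing).codRestrict hsub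
    exact e₂.symm.isInducing.comp h1
  have hψy₀ : ψ y₀ = h.asFiber p := by
    show e₂.symm ⟨E₁ y₀, hsub y₀⟩ = h.asFiber p
    rw [Homeomorph.symm_apply_eq]
    apply Subtype.ext
    show E₁ y₀ = E₂ (h.asFiber p)
    rw [hE₁y₀, hE₂p]
  have h1 := localDim_le_of_isInducing ψ hψ y₀
  rw [localDim_stab_fiber G u y₀, hψy₀] at h1
  exact h1

end Groth.Agent.Lib.Helper21.StabDimLower
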