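import Groth.Agent.Lib.Helper21.SubGrpd

/-!
# Morphisms of groupoid schemes into an induced sub-groupoid (helper21)
-/

set_option linter.style.haveILetI false
set_option autoImplicit false
universe u
open CategoryTheory CategoryTheory.Limits AlgebraicGeometry Grpd

namespace Groth.Agent.Lib.Helper21.SubGrpd

open Groth.Agent.Lib.Helper38.GrpdLib

variable {S : Scheme.{u}} (G : Grpd.GroupoidScheme S) {Z : Scheme.{u}} (ι : Z ⟶ G.R) [Mono ι]
  (e' : G.U ⟶ Z) (he : e' ≫ ι = G.e)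
  (i' : Z ⟶ Z) (hi : i' ≫ ι = ι ≫ G.i)
  (c' : pullback (ι ≫ G.s) (ι ≫ G.t) ⟶ Z)
  (hc : c' ≫ ι = pullback.map (ι ≫ G.s) (ι ≫ G.t) G.s G.t ι ι (𝟙 _)
    (by rw [Category.comp_id]) (by rw [Category.comp_id]) ≫ G.c)

/-- A morphism of groupoid schemes whose arrow component factors through `ι` lifts to the induced
groupoid. -/
noncomputable def liftHom {G₁ : Grpd.GroupoidScheme S} (f : Grpd.GroupoidScheme.Hom G₁ G)
    (a' : G₁.R ⟶ Z) (ha : a' ≫ ι = f.fR) :
    Grpd.GroupoidScheme.Hom G₁ (sub G ι e' he i' hi c' hc) where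
  fU := f.fU
  fR := a'
  fU_over := f.fU_over
  comm_s := by
    show a' ≫ (ι ≫ G.s) = G₁.s ≫ f.fU
    rw [← Category.assoc, ha, f.comm_s]
  comm_t := by
    show a' ≫ (ι ≫ G.t) = G₁.t ≫ f.fU
    rw [← Category.assoc, ha, f.comm_t]
  comm_c := fun α β h => by
    have hlift : (α ≫ a') ≫ (ι ≫ G.s) = (β ≫ a') ≫ (ι ≫ G.t) := by
      rw [Category.assoc, Category.assoc, ← Category.assoc a', ← Category.assoc a', ha, f.comm_s,
        f.comm_t, ← Category.assoc, ← Category.assoc, h]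
    show (pullback.lift α β h ≫ G₁.c) ≫ a' = pullback.lift (α ≫ a') (β ≫ a') hlift ≫ c'
    rw [← cancel_mono ι]
    refine Eq.trans ?_ (key G ι c' hc (α ≫ a') (β ≫ a') hlift).symm
    rw [Category.assoc, ha]
    refine (f.comm_c α β h).trans ?_
    unfold mul
    congr 1
    apply pullback.hom_ext
    · simp only [pullback.lift_fst, Category.assoc, ha]
    · simp only [pullback.lift_snd, Category.assoc, ha]

theorem liftHom_fU {G₁ : Grpd.GroupoidScheme S} (f : Grpd.GroupoidScheme.Hom G₁ G)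
    (a' : G₁.R ⟶ Z) (ha : a' ≫ ι = f.fR) :
    (liftHom G ι e' he i' hi c' hc f a' ha).fU = f.fU := rfl

end Groth.Agent.Lib.Helper21.SubGrpd
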