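import Mathlib

/-!
# Transcendence degree of residue fields of `L ⊗[k] K` at minimal primes (helper21)

For field extensions `L/k`, `K/k` and a minimal prime `𝔮` of `L ⊗[k] K`, the transcendence degree
over `K` of (any field generated by) `(L ⊗[k] K) ⧸ 𝔮` equals `trdeg k L`.
-/

set_option linter.style.haveILetI false
universe u

open TensorProduct

namespace Groth.Agent.Lib.Helper21.TensorTrdeg

section Flat

variable {k L K : Type u} [Field k] [Field L] [Field K] [Algebra k L] [Algebra k K]
variable {ι : Type u} (t : ι → L)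

/-- the base change `k[t] ⊗ K → L ⊗ K`. -/
noncomputable def Ψ : MvPolynomial ι k ⊗[k] K →ₐ[k] L ⊗[k] K :=
  Algebra.TensorProduct.map (MvPolynomial.aeval t) (AlgHom.id k K)

theorem flat_of_algebraicIndependent (ht : AlgebraicIndependent k t) :
    letI : Algebra (MvPolynomial ι k) L := (MvPolynomial.aeval t).toAlgebra
    Module.Flat (MvPolynomial ι k) L := by
  letI : Algebra (MvPolynomial ι k) L := (MvPolynomial.aeval t).toAlgebra
  have hinj : Function.Injective (algebraMap (MvPolynomial ι k) L) := ht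
  letI : Algebra (FractionRing (MvPolynomial ι k)) L := (IsFractionRing.lift hinj).toAlgebra
  haveI : IsScalarTower (MvPolynomial ι k) (FractionRing (MvPolynomial ι k)) L :=
    IsScalarTower.of_algebraMap_eq (fun x => (IsFractionRing.lift_algebraMap hinj x).symm)
  haveI : Module.Flat (MvPolynomial ι k) (FractionRing (MvPolynomial ι k)) :=
    IsLocalization.flat _ (nonZeroDivisors (MvPolynomial ι k))
  exact Module.Flat.trans (MvPolynomial ι k) (FractionRing (MvPolynomial ι k)) L

theorem isDomain_tensor : IsDomain (MvPolynomial ι k ⊗[k] K) :=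
  MulEquiv.isDomain (MvPolynomial ι K)
    (((Algebra.TensorProduct.comm k (MvPolynomial ι k) K).toRingEquiv.trans
      (MvPolynomial.algebraTensorAlgEquiv k K).toRingEquiv).toMulEquiv)

/-- nonzero elements of `k[t] ⊗ K` map to non-zero-divisors of `L ⊗ K`. -/
theorem Ψ_mem_nonZeroDivisors (ht : AlgebraicIndependent k t) (x : MvPolynomial ι k ⊗[k] K)
    (hx : x ≠ 0) : Ψ (k := k) (K := K) t x ∈ nonZeroDivisors (L ⊗[k] K) := by
  letI : Algebra (MvPolynomial ι k) L := (MvPolynomial.aeval t).toAlgebra
  haveI hflat : Module.Flat (MvPolynomial ι k) L := flat_of_algebraicIndependent t ht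
  haveI : IsScalarTower k (MvPolynomial ι k) L :=
    IsScalarTower.of_algebraMap_eq (fun x => by
      change algebraMap k L x = MvPolynomial.aeval t (algebraMap k (MvPolynomial ι k) x)
      rw [AlgHom.commutes])
  let Ψ' : MvPolynomial ι k ⊗[k] K →ₐ[MvPolynomial ι k] L ⊗[k] K :=
    Algebra.TensorProduct.map (Algebra.ofId (MvPolynomial ι k) L) (AlgHom.id k K)
  have hΨ : ∀ y, Ψ' y = Ψ (k := k) (K := K) t y := fun y => rfl
  letI : Algebra (MvPolynomial ι k ⊗[k] K) (L ⊗[k] K) := Ψ'.toRingHom.toAlgebra
  haveI : IsScalarTower (MvPolynomial ι k) (MvPolynomial ι k ⊗[k] K) (L ⊗[k] K) :=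
    IsScalarTower.of_algHom Ψ'
  have hpo : Algebra.IsPushout (MvPolynomial ι k) L (MvPolynomial ι k ⊗[k] K) (L ⊗[k] K) := by
    refine Algebra.IsPushout.tensorProduct_tensorProduct k K (MvPolynomial ι k) L ?_
    ext c
    change Ψ' (1 ⊗ₜ c) = 1 ⊗ₜ c
    simp [Ψ']
  haveI : Module.Flat (MvPolynomial ι k ⊗[k] K) (L ⊗[k] K) :=
    Module.Flat.isBaseChange (R := MvPolynomial ι k) (S := MvPolynomial ι k ⊗[k] K)
      (M := L) (L ⊗[k] K) hpo.symm.out
  haveI := isDomain_tensor (k := k) (K := K) (ι := ι)
  have hreg : IsSMulRegular (L ⊗[k] K) x :=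
    Module.Flat.isSMulRegular_of_nonZeroDivisors (mem_nonZeroDivisors_of_ne_zero hx)
  rw [mem_nonZeroDivisors_iff_right]
  intro y hy
  apply hreg
  change x • y = x • 0
  rw [smul_zero, Algebra.smul_def, mul_comm]
  rw [← hΨ] at hy
  exact hy

end Flat

section Main

variable {k L K E : Type u} [Field k] [Field L] [Field K] [Field E] [Algebra k L] [Algebra k K]

/-- the images of an algebraically independent family stay algebraically independent over `K`
modulo a minimal prime of `L ⊗[k] K`. -/
theorem algebraicIndependent_of_ker_mem_minimalPrimes (ρ : L ⊗[k] K →+* E)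
    (hmin : RingHom.ker ρ ∈ minimalPrimes (L ⊗[k] K)) {ι : Type u} (t : ι → L)
    (ht : AlgebraicIndependent k t) :
    letI : Algebra K E := (ρ.comp Algebra.TensorProduct.includeRight.toRingHom).toAlgebra
    AlgebraicIndependent K (fun i => ρ (t i ⊗ₜ[k] (1 : K))) := by
  letI : Algebra K E := (ρ.comp Algebra.TensorProduct.includeRight.toRingHom).toAlgebra
  have halgmap : ∀ c : K, algebraMap K E c = ρ ((1 : L) ⊗ₜ[k] c) := fun c => rfl
  let e : MvPolynomial ι k ⊗[k] K ≃+* MvPolynomial ι K :=
    (Algebra.TensorProduct.comm k (MvPolynomial ι k) K).toRingEquiv.trans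
      (MvPolynomial.algebraTensorAlgEquiv k K).toRingEquiv
  let θ : MvPolynomial ι K →+* E :=
    ρ.comp ((Ψ (k := k) (K := K) t).toRingHom.comp e.symm.toRingHom)
  have hθ : θ = (MvPolynomial.aeval (R := K) (fun i => ρ (t i ⊗ₜ[k] (1 : K)))).toRingHom := by
    apply MvPolynomial.ringHom_ext
    · intro c
      have h1 : e.symm (MvPolynomial.C c) = (1 : MvPolynomial ι k) ⊗ₜ[k] c := by
        rw [RingEquiv.symm_apply_eq]
        simp [e]
        rw [MvPolynomial.smul_eq_C_mul, mul_one]
      change ρ (Ψ (k := k) (K := K) t (e.symm (MvPolynomial.C c))) = _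
      rw [h1]
      simp [Ψ, halgmap]
    · intro i
      have h1 : e.symm (MvPolynomial.X i) = (MvPolynomial.X i : MvPolynomial ι k) ⊗ₜ[k] (1 : K) := by
        rw [RingEquiv.symm_apply_eq]
        simp [e]
      change ρ (Ψ (k := k) (K := K) t (e.symm (MvPolynomial.X i))) = _
      rw [h1]
      simp [Ψ]
  rw [algebraicIndependent_iff_injective_aeval]
  have : Function.Injective θ := by
    rw [injective_iff_map_eq_zero]
    intro q hq
    by_contra hne
    have hne' : e.symm q ≠ 0 := by
      intro h0
      apply hne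
      have := congrArg e h0
      simpa using this
    have h1 := Ψ_mem_nonZeroDivisors (K := K) t ht (e.symm q) hne'
    have h2 : Ψ (k := k) (K := K) t (e.symm q) ∈ RingHom.ker ρ := hq
    exact (Set.disjoint_left.mp
      (Ideal.disjoint_nonZeroDivisors_of_mem_minimalPrimes hmin)) h2 h1
  intro a b hab
  apply this
  rw [hθ]
  exact hab

/-- **Transcendence degree at a minimal prime of `L ⊗[k] K`.** -/
theorem trdeg_eq_of_ker_mem_minimalPrimes (ρ : L ⊗[k] K →+* E)
    (hmin : RingHom.ker ρ ∈ minimalPrimes (L ⊗[k] K))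
    (hgen : ∀ e : E, ∃ a b, ρ b ≠ 0 ∧ e * ρ b = ρ a) :
    @Algebra.trdeg K E _ _ (ρ.comp Algebra.TensorProduct.includeRight.toRingHom).toAlgebra =
      Algebra.trdeg k L := by
  letI : Algebra K E := (ρ.comp Algebra.TensorProduct.includeRight.toRingHom).toAlgebra
  have halgmap : ∀ c : K, algebraMap K E c = ρ ((1 : L) ⊗ₜ[k] c) := fun c => rfl
  obtain ⟨ι, t, ht⟩ := exists_isTranscendenceBasis' k L
  have hind := algebraicIndependent_of_ker_mem_minimalPrimes ρ hmin t ht.1
  have halg : Algebra.IsAlgebraic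
      (Algebra.adjoin K (Set.range (fun i => ρ (t i ⊗ₜ[k] (1 : K))))) E := by
    set B := Algebra.adjoin K (Set.range (fun i => ρ (t i ⊗ₜ[k] (1 : K)))) with hB
    let lam : L →+* E := ρ.comp (Algebra.TensorProduct.includeLeftRingHom)
    have hlam : ∀ l : L, lam l = ρ (l ⊗ₜ[k] (1 : K)) := fun l => rfl
    have hmem : ∀ x ∈ Algebra.adjoin k (Set.range t), lam x ∈ B := by
      intro x hx
      induction hx using Algebra.adjoin_induction with
      | mem x hx =>
        obtain ⟨i, rfl⟩ := hx
        exact Algebra.subset_adjoin ⟨i, rfl⟩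
      | algebraMap c =>
        have : lam (algebraMap k L c) = algebraMap K E (algebraMap k K c) := by
          rw [hlam, halgmap, Algebra.algebraMap_eq_smul_one, Algebra.algebraMap_eq_smul_one,
            TensorProduct.smul_tmul]
        rw [this]
        exact Subalgebra.algebraMap_mem B _
      | add x y _ _ hx hy => rw [map_add]; exact add_mem hx hy
      | mul x y _ _ hx hy => rw [map_mul]; exact mul_mem hx hy
    let f : Algebra.adjoin k (Set.range t) →+* B :=
      RingHom.restrict lam (Algebra.adjoin k (Set.range t)) B hmem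
    have hf : Function.Injective f := by
      intro x y hxy
      have : lam x = lam y := congrArg Subtype.val hxy
      exact Subtype.ext (lam.injective this)
    have h1 : ∀ l : L, IsAlgebraic B (lam l) := by
      intro l
      have hl : IsAlgebraic (Algebra.adjoin k (Set.range t)) l := ht.isAlgebraic.isAlgebraic l
      exact hl.ringHom_of_comp_eq f lam hf (by ext x; rfl)
    have h2 : ∀ x : L ⊗[k] K, IsAlgebraic B (ρ x) := by
      intro x
      induction x using TensorProduct.induction_on with
      | zero => rw [map_zero]; exact isAlgebraic_zero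
      | tmul l c =>
        have : ρ (l ⊗ₜ[k] c) = lam l * algebraMap B E (algebraMap K B c) := by
          rw [hlam, ← IsScalarTower.algebraMap_apply, halgmap, ← map_mul]
          simp
        rw [this]
        exact (h1 l).mul (isAlgebraic_algebraMap _)
      | add x y hx hy => rw [map_add]; exact hx.add hy
    refine ⟨fun e => ?_⟩
    obtain ⟨a, b, hb, hab⟩ := hgen e
    have : e = ρ a * (ρ b)⁻¹ := by
      field_simp
      exact hab
    rw [this]
    exact (h2 a).mul (IsAlgebraic.inv_iff.mpr (h2 b))
  have hbasis : IsTranscendenceBasis K (fun i => ρ (t i ⊗ₜ[k] (1 : K))) :=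
    hind.isTranscendenceBasis_iff_isAlgebraic.mpr halg
  rw [← hbasis.cardinalMk_eq_trdeg, ← ht.cardinalMk_eq_trdeg]

end Main

section Cat

open CategoryTheory CategoryTheory.Limits

/-- categorical form: for a pushout square of commutative rings whose three corners are fields. -/
theorem trdeg_eq_of_isPushout {kk LL KK R EE : Type u} [Field kk] [Field LL] [Field KK]
    [CommRing R] [Field EE] {a : kk →+* LL} {b : kk →+* KK} {inl : LL →+* R} {inr : KK →+* R}
    (sq : IsPushout (CommRingCat.ofHom a) (CommRingCat.ofHom b) (CommRingCat.ofHom inl)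
      (CommRingCat.ofHom inr)) (ρ : R →+* EE)
    (hmin : RingHom.ker ρ ∈ minimalPrimes R)
    (hgen : ∀ e : EE, ∃ x y : R, ρ y ≠ 0 ∧ e * ρ y = ρ x) :
    @Algebra.trdeg KK EE _ _ (ρ.comp inr).toAlgebra =
      @Algebra.trdeg kk LL _ _ a.toAlgebra := by
  letI : Algebra kk LL := a.toAlgebra
  letI : Algebra kk KK := b.toAlgebra
  have sq' := CommRingCat.isPushout_tensorProduct kk LL KK
  have sq'' : IsPushout (CommRingCat.ofHom a) (CommRingCat.ofHom b)
      (CommRingCat.ofHom (S := LL ⊗[kk] KK) <| Algebra.TensorProduct.includeLeftRingHom)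
      (CommRingCat.ofHom (S := LL ⊗[kk] KK) <| Algebra.TensorProduct.includeRight.toRingHom) := sq'
  let e := sq''.isoIsPushout _ _ sq
  have he1 : CommRingCat.ofHom (S := LL ⊗[kk] KK)
      (Algebra.TensorProduct.includeRight.toRingHom) ≫ e.hom = CommRingCat.ofHom inr :=
    sq''.inr_isoIsPushout_hom _ _ sq
  let ρ' : LL ⊗[kk] KK →+* EE := ρ.comp e.hom.hom
  have hρ' : ∀ x, ρ' x = ρ (e.hom.hom x) := fun x => rfl
  have hker : RingHom.ker ρ' = (RingHom.ker ρ).comap e.hom.hom := by
    ext x
    simp [RingHom.mem_ker, hρ']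
  have hsurj : Function.Surjective e.hom.hom :=
    (ConcreteCategory.bijective_of_isIso e.hom).2
  have hmin' : RingHom.ker ρ' ∈ minimalPrimes (LL ⊗[kk] KK) := by
    rw [hker]
    have h1 := Ideal.minimalPrimes_comap_of_surjective hsurj hmin
    have h2 : (⊥ : Ideal R).comap e.hom.hom = ⊥ := by
      rw [← RingHom.ker_eq_comap_bot]
      exact (RingHom.injective_iff_ker_eq_bot _).mp (ConcreteCategory.bijective_of_isIso e.hom).1
    rw [h2] at h1
    exact h1
  have hgen' : ∀ x : EE, ∃ u v, ρ' v ≠ 0 ∧ x * ρ' v = ρ' u := by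
    intro x
    obtain ⟨u, v, hv, huv⟩ := hgen x
    obtain ⟨u', rfl⟩ := hsurj u
    obtain ⟨v', rfl⟩ := hsurj v
    exact ⟨u', v', hv, huv⟩
  have key := trdeg_eq_of_ker_mem_minimalPrimes ρ' hmin' hgen'
  have halg : ρ'.comp Algebra.TensorProduct.includeRight.toRingHom = ρ.comp inr := by
    have := congrArg (fun φ => ρ.comp φ.hom) he1
    exact this
  rw [halg] at key
  exact key

end Cat

end Groth.Agent.Lib.Helper21.TensorTrdeg
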