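import Mathlib
import Groth.Agent.S4937
import Groth.Agent.Lib.Helper21.MaximalPoints
import Groth.Agent.Lib.Helper21.RedSubscheme
import Groth.Agent.Lib.Helper21.OpenGeneralizing
import Groth.Agent.Lib.Helper21.FieldDimBC

/-!
# Quasi-finite morphisms over unibranch bases are open (helper21)

Towards EGA IV 14.4.1 in the quasi-finite case.
-/

set_option linter.style.haveILetI false
universe u

open CategoryTheory CategoryTheory.Limits AlgebraicGeometry TopologicalSpace

namespace Groth.Agent.Lib.Helper21.UnibranchOpen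

/-- At a point whose local ring has an integral reduction there is only one maximal generization. -/
theorem eq_of_maximal_of_isDomain_red {Y : Scheme.{u}} (y : Y)
    (hy : IsDomain (CAlg2.red (Y.presheaf.stalk y))) {η₁ η₂ : Y}
    (h₁ : ∀ t, t ⤳ η₁ → η₁ ⤳ t) (h₂ : ∀ t, t ⤳ η₂ → η₂ ⤳ t) (hy₁ : η₁ ⤳ y) (hy₂ : η₂ ⤳ y) :
    η₁ = η₂ := by
  have hprime : (nilradical (Y.presheaf.stalk y)).IsPrime :=
    (Ideal.Quotient.isDomain_iff_prime _).mp hy
  let n : Spec (Y.presheaf.stalk y) := ⟨nilradical (Y.presheaf.stalk y), hprime⟩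
  have key : ∀ η : Y, (∀ t, t ⤳ η → η ⤳ t) → η ⤳ y → η = Y.fromSpecStalk y n := by
    intro η hη hηy
    obtain ⟨p, rfl⟩ : η ∈ Set.range (Y.fromSpecStalk y) := by
      rw [Scheme.range_fromSpecStalk]; exact hηy
    have h1 : n ⤳ p := (PrimeSpectrum.le_iff_specializes n p).mp (@nilradical_le_prime _ _ p.asIdeal p.isPrime)
    have h2 := h1.map (Y.fromSpecStalk y).continuous
    exact ((hη _ h2).antisymm h2).eq
  rw [key η₁ h₁ hy₁, key η₂ h₂ hy₂]

/-- Around a unibranch point of a locally Noetherian scheme there is an affine open all of whose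
points are specializations of the maximal generization. -/
theorem exists_affineOpen_forall_specializes {Y : Scheme.{u}} [IsLocallyNoetherian Y] (y : Y)
    (hy : IsDomain (CAlg2.red (Y.presheaf.stalk y))) {η : Y}
    (hη : ∀ t, t ⤳ η → η ⤳ t) (hηy : η ⤳ y) :
    ∃ V : Y.Opens, IsAffineOpen V ∧ y ∈ V ∧ ∀ y₂ ∈ V, η ⤳ y₂ := by
  classical
  obtain ⟨_, ⟨W, hW, rfl⟩, hyW, -⟩ :=
    Y.isBasis_affineOpens.exists_subset_of_mem_open (Set.mem_univ y) isOpen_univ
  have hW' : IsAffineOpen W := hW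
  have hNW : IsNoetherianRing Γ(Y, W) := IsLocallyNoetherian.component_noetherian ⟨W, hW⟩
  have hNS : TopologicalSpace.NoetherianSpace ↥(Spec Γ(Y, W)) := inferInstance
  have hNSW : TopologicalSpace.NoetherianSpace ↥W :=
    (TopologicalSpace.noetherianSpace_iff_of_homeomorph hW'.isoSpec.hom.homeomorph).2 hNS
  have hemb : Topology.IsOpenEmbedding (Subtype.val : ↥W → Y) := W.isOpen.isOpenEmbedding_subtypeVal
  haveI : QuasiSober ↥W := hemb.quasiSober
  let yW : ↥W := ⟨y, hyW⟩
  have hfin : (irreducibleComponents ↥W).Finite :=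
    TopologicalSpace.NoetherianSpace.finite_irreducibleComponents
  let B : Set ↥W := ⋃ T ∈ {T ∈ irreducibleComponents ↥W | yW ∉ T}, T
  have hBcl : IsClosed B := by
    apply Set.Finite.isClosed_biUnion (hfin.subset (fun T hT => hT.1))
    intro T hT
    exact isClosed_of_mem_irreducibleComponents T hT.1
  have hO : IsOpen ((Subtype.val : ↥W → Y) '' Bᶜ) := hemb.isOpenMap _ hBcl.isOpen_compl
  have hyO : y ∈ (Subtype.val : ↥W → Y) '' Bᶜ := by
    refine ⟨yW, ?_, rfl⟩
    intro hmem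
    simp only [B, Set.mem_iUnion] at hmem
    obtain ⟨T, hT, hyT⟩ := hmem
    exact hT.2 hyT
  have hall : ∀ z ∈ (Subtype.val : ↥W → Y) '' Bᶜ, η ⤳ z := by
    rintro _ ⟨w, hw, rfl⟩
    obtain ⟨T, hT, hwT⟩ := exists_mem_irreducibleComponents_subset_of_isIrreducible
      ({w} : Set ↥W) isIrreducible_singleton
    have hyT : yW ∈ T := by
      by_contra hnot
      apply hw
      simp only [B, Set.mem_iUnion]
      exact ⟨T, ⟨hT, hnot⟩, hwT rfl⟩
    have hTcl := isClosed_of_mem_irreducibleComponents T hT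
    have hg : IsGenericPoint hT.1.genericPoint T := hT.1.isGenericPoint_genericPoint hTcl
    set g : ↥W := hT.1.genericPoint with hgdef
    have hgmax : ∀ t : ↥W, t ⤳ g → g ⤳ t := by
      apply Groth.Agent.Lib.Helper21.maximal_of_closure_singleton_mem_irreducibleComponents
      rw [hg.def]; exact hT
    have hζmax : ∀ t : Y, t ⤳ (g : Y) → (g : Y) ⤳ t := by
      intro t ht
      have htW : t ∈ W := ht.mem_open W.isOpen g.2
      have h1 : (⟨t, htW⟩ : ↥W) ⤳ g := (subtype_specializes_iff _ _).mpr ht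
      exact (subtype_specializes_iff _ _).mp (hgmax _ h1)
    have hζy : (g : Y) ⤳ y := (subtype_specializes_iff g yW).mp (hg.specializes hyT)
    have hζw : (g : Y) ⤳ (w : Y) := (subtype_specializes_iff g w).mp (hg.specializes (hwT rfl))
    have heq : (g : Y) = η := eq_of_maximal_of_isDomain_red y hy hζmax hη hζy hηy
    rw [← heq]
    exact hζw
  obtain ⟨_, ⟨V, hV, rfl⟩, hyV, hVO⟩ :=
    Y.isBasis_affineOpens.exists_subset_of_mem_open hyO hO
  exact ⟨V, hV, hyV, fun y₂ hy₂ => hall y₂ (hVO hy₂)⟩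

/-- **Lifting of generizations at a unibranch point** for a quasi-finite morphism from an
irreducible scheme, given an affine neighbourhood `V` of the image all of whose points are
specializations of the image of the generic point.
(The argument is the one of helper61's `S4937`, with the global irreducibility of the target
replaced by the local hypothesis on `V`.) -/
theorem exists_generization_lift {X Y : Scheme.{u}} [IrreducibleSpace X] (f : X ⟶ Y)
    [LocallyOfFiniteType f] [LocallyQuasiFinite f] (x : X)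
    (hy : CAlg2.IsUnibranch (Y.presheaf.stalk (f.base x)))
    (V : Y.Opens) (hV : IsAffineOpen V) (hfxV : f x ∈ V)
    (hVgen : ∀ y₂ ∈ V, f (genericPoint X) ⤳ y₂) {y₁ : Y} (hy₁ : y₁ ⤳ f x) :
    ∃ x₁ : X, x₁ ⤳ x ∧ f x₁ = y₁ := by
  classical
  obtain ⟨_, ⟨U, hU, rfl⟩, hxU, hUV⟩ := X.isBasis_affineOpens.exists_subset_of_mem_open
    (show x ∈ ((f ⁻¹ᵁ V : X.Opens) : Set X) from hfxV) (f ⁻¹ᵁ V).isOpen
  replace hUV : U ≤ f ⁻¹ᵁ V := hUV
  replace hU : IsAffineOpen U := hU
  have hy₁V : y₁ ∈ V := hy₁.mem_open V.isOpen hfxV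
  have hξU : genericPoint X ∈ U :=
    ((genericPoint_spec X).mem_open_set_iff U.isOpen).mpr ⟨x, Set.mem_univ x, hxU⟩
  letI alg : Algebra Γ(Y, V) Γ(X, U) := (f.appLE V U hUV).hom.toAlgebra
  have hft : (f.appLE V U hUV).hom.FiniteType := f.finiteType_appLE hV hU hUV
  haveI : Algebra.FiniteType Γ(Y, V) Γ(X, U) := hft
  have hqf := (f.quasiFiniteAt x).quasiFiniteAt hU hV hUV hxU
  haveI : Algebra.QuasiFiniteAt Γ(Y, V) (hU.primeIdealOf ⟨x, hxU⟩).asIdeal := hqf
  have hZMP : Algebra.ZariskisMainProperty Γ(Y, V) (hU.primeIdealOf ⟨x, hxU⟩).asIdeal :=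
    Algebra.ZariskisMainProperty.of_finiteType _
  have hcomap : ∀ (z : X) (hz : z ∈ U), (hU.primeIdealOf ⟨z, hz⟩).asIdeal.comap
      (algebraMap Γ(Y, V) Γ(X, U)) = (hV.primeIdealOf ⟨f z, hUV hz⟩).asIdeal := fun z hz =>
    congrArg PrimeSpectrum.asIdeal (IsAffineOpen.comap_primeIdealOf_appLE V hV U hU hUV hz)
  have hq₀ := Groth.Agent.S4937.primeIdealOf_le_nilradical hU (genericPoint X) hξU
    (fun x₁ _ => genericPoint_specializes x₁)
  have hdom : (hU.primeIdealOf ⟨genericPoint X, hξU⟩).asIdeal.comap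
      (algebraMap Γ(Y, V) Γ(X, U)) ≤ nilradical Γ(Y, V) := by
    rw [hcomap]
    apply Groth.Agent.S4937.primeIdealOf_le_nilradical hV
    intro y₂ hy₂
    exact hVgen y₂ hy₂
  letI := Y.presheaf.algebra_section_stalk ⟨f x, hfxV⟩
  haveI := hV.isLocalization_stalk ⟨f x, hfxV⟩
  have hp₁ : (hV.primeIdealOf ⟨y₁, hy₁V⟩).asIdeal ≤ (hV.primeIdealOf ⟨f x, hfxV⟩).asIdeal := by
    apply (PrimeSpectrum.le_iff_specializes _ _).mpr
    apply (hV.fromSpec.isOpenEmbedding.isInducing.specializes_iff).mp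
    rw [hV.fromSpec_primeIdealOf, hV.fromSpec_primeIdealOf]
    exact hy₁
  obtain ⟨q₁, hq₁, hq₁le, hq₁comap⟩ :=
    Groth.Agent.Lib.Helper61.UnibranchGoingDown.exists_le_prime_of_isUnibranch'
      (hU.primeIdealOf ⟨x, hxU⟩).asIdeal hZMP (hU.primeIdealOf ⟨genericPoint X, hξU⟩).asIdeal hq₀ hdom
      (hV.primeIdealOf ⟨f x, hfxV⟩).asIdeal (hcomap x hxU) (Y.presheaf.stalk (f x)) hy
      (hV.primeIdealOf ⟨y₁, hy₁V⟩).asIdeal hp₁
  let b : PrimeSpectrum Γ(X, U) := ⟨q₁, hq₁⟩
  have hbU : hU.fromSpec b ∈ U := by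
    have : hU.fromSpec b ∈ Set.range hU.fromSpec := ⟨b, rfl⟩
    rwa [hU.range_fromSpec] at this
  refine ⟨hU.fromSpec b, ?_, ?_⟩
  · have h1 : b ⤳ hU.primeIdealOf ⟨x, hxU⟩ :=
      (PrimeSpectrum.le_iff_specializes _ _).mp hq₁le
    have h2 := h1.map hU.fromSpec.continuous
    rwa [hU.fromSpec_primeIdealOf] at h2
  · have hb' : hU.primeIdealOf ⟨hU.fromSpec b, hbU⟩ = b := by
      apply hU.fromSpec.isOpenEmbedding.injective
      rw [hU.fromSpec_primeIdealOf]
    have h3 := hcomap (hU.fromSpec b) hbU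
    rw [hb'] at h3
    have h4 : hV.primeIdealOf ⟨f (hU.fromSpec b), hUV hbU⟩ = hV.primeIdealOf ⟨y₁, hy₁V⟩ :=
      PrimeSpectrum.ext (h3.symm.trans hq₁comap)
    have h5 := congrArg hV.fromSpec h4
    rwa [hV.fromSpec_primeIdealOf, hV.fromSpec_primeIdealOf] at h5

/-- A locally quasi-finite morphism to a locally Noetherian scheme with unibranch local rings
which maps maximal points to maximal points is an open map. -/
theorem isOpenMap_of_locallyQuasiFinite_of_isUnibranch {X Y : Scheme.{u}} (f : X ⟶ Y)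
    [LocallyQuasiFinite f] [LocallyOfFiniteType f] [IsLocallyNoetherian Y]
    (hY : ∀ y : Y, CAlg2.IsUnibranch (Y.presheaf.stalk y))
    (hmax : ∀ ξ : X, (∀ t, t ⤳ ξ → ξ ⤳ t) → ∀ t, t ⤳ f ξ → f ξ ⤳ t) :
    IsOpenMap f := by
  haveI : LocallyOfFinitePresentation f :=
    (LocallyOfFinitePresentation.iff_locallyOfFiniteType).mpr inferInstance
  apply isOpenMap_of_generalizingMap
  intro x y₁ hy₁
  obtain ⟨ξ, hξ, hξx⟩ := Groth.Agent.Lib.Helper21.exists_maximal_specializes x
  let W : Closeds X := ⟨closure {ξ}, isClosed_closure⟩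
  have hWirr : IsIrreducible (W : Set X) := isIrreducible_singleton.closure
  let I := Scheme.IdealSheafData.vanishingIdeal W
  let X₀ : Scheme.{u} := I.subscheme
  let ι₀ : X₀ ⟶ X := I.subschemeι
  haveI : IsIntegral X₀ := RedSubscheme.isIntegral_vanishingIdeal_subscheme W hWirr
  have hr : Set.range ι₀ = closure {ξ} := RedSubscheme.range_subschemeι_vanishingIdeal W
  obtain ⟨x₀, rfl⟩ : x ∈ Set.range ι₀ := by rw [hr]; exact hξx.mem_closure
  have hγ : ι₀ (genericPoint X₀) = ξ := by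
    have h1 : closure {ι₀ (genericPoint X₀)} = closure {ξ} := by
      have := ι₀.isClosedEmbedding.closure_image_eq {genericPoint X₀}
      rw [Set.image_singleton] at this
      rw [this, (genericPoint_spec X₀).def, Set.image_univ, hr]
    exact (inseparable_iff_closure_eq.mpr h1).eq
  let g : X₀ ⟶ Y := ι₀ ≫ f
  have hgγ : g (genericPoint X₀) = f ξ := by
    show f (ι₀ (genericPoint X₀)) = f ξ
    rw [hγ]
  have hηmax := hmax ξ hξ
  have hηy : f ξ ⤳ f (ι₀ x₀) := hξx.map f.continuous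
  obtain ⟨V, hV, hyV, hVall⟩ :=
    exists_affineOpen_forall_specializes (f (ι₀ x₀)) (hY _).1 hηmax hηy
  obtain ⟨x₁, hx₁, hfx₁⟩ := exists_generization_lift g x₀ (hY _) V hV hyV
    (by rw [hgγ]; exact hVall) hy₁
  exact ⟨ι₀ x₁, hx₁.map ι₀.continuous, hfx₁⟩

/-- Maximal points of `X ×_Y T` map to maximal points of `T` when `T ⟶ Y` is flat and `f` maps
maximal points to maximal points. -/
theorem maximal_snd_of_flat {X Y T : Scheme.{u}} (f : X ⟶ Y) (π : T ⟶ Y) [Flat π]
    (hmax : ∀ ξ : X, (∀ t, t ⤳ ξ → ξ ⤳ t) → ∀ t, t ⤳ f ξ → f ξ ⤳ t)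
    {ζ : ↑(pullback f π)} (hζ : ∀ t, t ⤳ ζ → ζ ⤳ t) :
    ∀ t, t ⤳ pullback.snd f π ζ → pullback.snd f π ζ ⤳ t := by
  intro t ht
  have hfst : GeneralizingMap (pullback.fst f π) := Flat.generalizingMap _
  set ξ : X := pullback.fst f π ζ with hξdef
  have hξ : ∀ w, w ⤳ ξ → ξ ⤳ w :=
    Groth.Agent.Lib.Helper21.FieldDim.maximal_map_of_generalizingMap hfst
      (pullback.fst f π).continuous hζ
  have hη := hmax ξ hξ
  set η : Y := f ξ with hηdef
  set q := pullback.snd f π with hq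
  have hcond : π (q ζ) = η :=
    (congrArg (fun k : pullback f π ⟶ Y => k ζ) (pullback.condition (f := f) (g := π))).symm
  have hπt : π t = η := by
    have h1 : π t ⤳ η := hcond ▸ ht.map π.continuous
    exact ((hη _ h1).antisymm h1).eq.symm
  -- the fibre of `π` over `η`
  let b := Y.fromSpecResidueField η
  let ι := π.fiberι η
  let c := π.fiberToSpecResidueField η
  let φ := f.fiberToSpecResidueField η
  obtain ⟨a, ha⟩ : q ζ ∈ Set.range ι := by rw [Scheme.Hom.range_fiberι]; exact hcond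
  obtain ⟨a', ha'⟩ : t ∈ Set.range ι := by rw [Scheme.Hom.range_fiberι]; exact hπt
  have haa : a' ⤳ a := by
    apply (ι.isEmbedding.toIsInducing.specializes_iff).mp
    rw [ha, ha']; exact ht
  -- the base change of `q` along `ι` is a base change of `φ`
  have sq1 : IsPullback (pullback.fst f π) q f π := IsPullback.of_hasPullback f π
  have sq2 : IsPullback (pullback.fst q ι) (pullback.snd q ι) q ι := IsPullback.of_hasPullback q ι
  have big := sq2.paste_horiz sq1
  have hιπ : ι ≫ π = c ≫ b := pullback.condition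
  rw [hιπ] at big
  let h₁₁ : pullback q ι ⟶ f.fiber η :=
    pullback.lift (pullback.fst q ι ≫ pullback.fst f π) (pullback.snd q ι ≫ c)
      (by
        have := big.w
        simp only [Category.assoc] at this ⊢
        exact this)
  have sq3 : IsPullback (pullback.fst f b) φ f b := IsPullback.of_hasPullback f b
  have big' : IsPullback (h₁₁ ≫ pullback.fst f b) (pullback.snd q ι) f (c ≫ b) := by
    have : h₁₁ ≫ pullback.fst f b = pullback.fst q ι ≫ pullback.fst f π := pullback.lift_fst _ _ _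
    rw [this]; exact big
  have sqL : IsPullback h₁₁ (pullback.snd q ι) φ c :=
    IsPullback.of_right big' (pullback.lift_snd _ _ _) sq3
  haveI : UniversallyOpen φ := inferInstance
  haveI : UniversallyOpen (pullback.snd q ι) :=
    MorphismProperty.of_isPullback (P := @UniversallyOpen) sqL inferInstance
  have hgen : GeneralizingMap (pullback.snd q ι) :=
    Groth.Agent.Lib.Helper21.OpenGeneralizing.generalizingMap_of_isOpenMap _
      (pullback.snd q ι).isOpenMap
  obtain ⟨ζ₁, hζ₁a, hζ₁b⟩ := Scheme.Pullback.exists_preimage_pullback (f := q) (g := ι) ζ a ha.symm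
  obtain ⟨ζ₂, hζ₂, hζ₂a⟩ := hgen (hζ₁b ▸ haa)
  have h3 : pullback.fst q ι ζ₂ ⤳ ζ := hζ₁a ▸ hζ₂.map (pullback.fst q ι).continuous
  have h4 : ζ ⤳ pullback.fst q ι ζ₂ := hζ _ h3
  have h5 : q (pullback.fst q ι ζ₂) = t := by
    have := congrArg (fun k : pullback q ι ⟶ T => k ζ₂) (pullback.condition (f := q) (g := ι))
    show (pullback.fst q ι ≫ q) ζ₂ = t
    rw [show (pullback.fst q ι ≫ q) ζ₂ = (pullback.snd q ι ≫ ι) ζ₂ from this]
    show ι (pullback.snd q ι ζ₂) = t
    rw [hζ₂a, ha']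
  rw [← h5]
  exact h4.map q.continuous

end Groth.Agent.Lib.Helper21.UnibranchOpen
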