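import Mathlib
import Groth.Agent.S0402
import Groth.Agent.Lib.Helper73.Equidim2
import Groth.Agent.Lib.Helper21.FibreClosureDim
import Groth.Agent.Lib.Helper21.FibreTd
import Groth.Agent.Lib.Helper21.MaximalPoints
import Groth.Agent.Lib.Helper21.ValTrdegSch
import Groth.Agent.Lib.Helper21.OpenGeneralizing
import Groth.Agent.Lib.Helper21.FlatFibreDim

/-!
# Dimension consequences of universal openness at a point (helper21)

EGA IV 14.3.? / 14.4.1: `a) ⇒ b')` and `b') ⇒ b)`.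
-/

set_option linter.style.haveILetI false
set_option autoImplicit false
universe u

open CategoryTheory CategoryTheory.Limits AlgebraicGeometry TopologicalSpace

namespace Groth.Agent.Lib.Helper21.UnivOpenAtDim

open Groth.Agent.Lib.Helper21 Groth.Agent.Lib.Helper21.FieldDim
  Groth.Agent.Lib.Helper21.FibreClosureDim

section Dim

variable {X Y : Scheme.{u}} (f : X ⟶ Y) [LocallyOfFiniteType f]

theorem dim_fibre_inter_le_iff' (y : Y) (C : Set X) (hC : IsLocallyClosed C) (d : WithBot ℕ∞) :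
    topologicalKrullDim ↥(C ∩ f ⁻¹' {y}) ≤ d ↔
      ∀ x ∈ C, f x = y → ((tdR f x : ℕ) : WithBot ℕ∞) ≤ d := by
  have hsub : C ∩ f ⁻¹' {y} ⊆ Set.range (f.fiberι y) := by
    rw [Scheme.Hom.range_fiberι]; exact Set.inter_subset_right
  have e := (f.fiberι y).isEmbedding.homeomorphOfSubsetRange hsub
  rw [← e.isHomeomorph.topologicalKrullDim_eq]
  have hmem : ∀ z : f.fiber y, f (f.fiberι y z) = y := by
    intro z
    have : f.fiberι y z ∈ Set.range (f.fiberι y) := ⟨z, rfl⟩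
    rw [Scheme.Hom.range_fiberι] at this
    exact this
  have hT : IsLocallyClosed ((f.fiberι y) ⁻¹' (C ∩ f ⁻¹' {y})) := by
    have : (f.fiberι y) ⁻¹' (C ∩ f ⁻¹' {y}) = (f.fiberι y) ⁻¹' C := by
      ext z
      constructor
      · intro hz; exact hz.1
      · intro hz; exact ⟨hz, hmem z⟩
    rw [this]
    exact hC.preimage (f.fiberι y).continuous
  rw [dim_le_iff_of_isLocallyClosed (fibStr f y) _ hT]
  constructor
  · intro h x hxC hx
    obtain ⟨z, rfl⟩ : x ∈ Set.range (f.fiberι y) := by rw [Scheme.Hom.range_fiberι]; exact hx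
    rw [← td_fibStr]
    exact h z ⟨hxC, hx⟩
  · intro h z hz
    rw [td_fibStr]
    exact h _ hz.1 hz.2

end Dim

section Noeth

variable {P T : Scheme.{u}} (h : P ⟶ T) [LocallyOfFiniteType h] [QuasiCompact h]

/-- a point in the closure of a subset `G` of the fibre over `η` is a specialization of a point `ζ`
of the fibre which also specializes to a point of `G`. -/
theorem exists_specializes_of_mem_closure_of_fibre' (η : T) (G : Set P) (hG : G ⊆ h ⁻¹' {η})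
    (w : P) (hw : w ∈ closure G) : ∃ g ∈ G, ∃ ζ : P, ζ ⤳ w ∧ ζ ⤳ g ∧ h ζ = η := by
  haveI := noetherianSpace_fiber h η
  set j := h.fiberι η with hj
  have hfin : (irreducibleComponents ↥(h.fiber η)).Finite :=
    NoetherianSpace.finite_irreducibleComponents
  have hgp : ∀ k ∈ irreducibleComponents ↥(h.fiber η), ∃ z : h.fiber η, IsGenericPoint z k :=
    fun k hk => QuasiSober.sober hk.1 (isClosed_of_mem_irreducibleComponents k hk)
  haveI hne : Nonempty (h.fiber η) := by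
    have hGne : G.Nonempty := by
      by_contra hcon
      rw [Set.not_nonempty_iff_eq_empty] at hcon
      rw [hcon, closure_empty] at hw
      exact hw
    obtain ⟨g, hg⟩ := hGne
    obtain ⟨g', -⟩ : g ∈ Set.range j := by rw [hj, Scheme.Hom.range_fiberι]; exact hG hg
    exact ⟨g'⟩
  choose! gp hgp' using hgp
  let 𝒞 : Set (Set ↥(h.fiber η)) := {k ∈ irreducibleComponents ↥(h.fiber η) | (k ∩ j ⁻¹' G).Nonempty}
  have h𝒞fin : 𝒞.Finite := hfin.subset (fun k hk => hk.1)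
  have hGsub' : G ⊆ ⋃ k ∈ 𝒞, closure {j (gp k)} := by
    intro g hg
    obtain ⟨g', rfl⟩ : g ∈ Set.range j := by rw [hj, Scheme.Hom.range_fiberι]; exact hG hg
    obtain ⟨k, hk, hgk⟩ := exists_mem_irreducibleComponents_subset_of_isIrreducible
      ({g'} : Set ↥(h.fiber η)) isIrreducible_singleton
    have hg'k : g' ∈ k := hgk rfl
    refine Set.mem_iUnion₂.mpr ⟨k, ⟨hk, ⟨g', hg'k, hg⟩⟩, ?_⟩
    have hsp : gp k ⤳ g' := (hgp' k hk).specializes hg'k
    exact (hsp.map j.continuous).mem_closure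
  have hclosed : IsClosed (⋃ k ∈ 𝒞, closure {j (gp k)}) :=
    h𝒞fin.isClosed_biUnion fun k _ => isClosed_closure
  have hw' : w ∈ ⋃ k ∈ 𝒞, closure {j (gp k)} := closure_minimal hGsub' hclosed hw
  obtain ⟨k, ⟨hk, ⟨g', hg'k, hg'G⟩⟩, hwk⟩ := Set.mem_iUnion₂.mp hw'
  refine ⟨j g', hg'G, j (gp k), specializes_iff_mem_closure.mpr hwk, ?_, ?_⟩
  · exact ((hgp' k hk).specializes hg'k).map j.continuous
  · have : j (gp k) ∈ Set.range j := ⟨_, rfl⟩
    rw [hj, Scheme.Hom.range_fiberι] at this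
    exact this

end Noeth

open Groth.Agent.Lib.Helper21.ValTrdeg Groth.Agent.Lib.Helper21.OpenGeneralizing
  Groth.Agent.Lib.Helper21.Chevalley Groth.Agent.Lib.Helper21.FlatFibreDim

/-- **EGA IV 14.4.1, a) ⇒ b')**: if `f` is universally open at a maximal point `x` of its fibre then
the fibres over the generizations of `f x` have dimension at least `dim_x X_{f x}` near `x`. -/
theorem dim_le_of_isUnivOpenAt {X Y : Scheme.{u}} (f : X ⟶ Y) [LocallyOfFiniteType f] (x : X)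
    (hmax : ∀ x' : X, f x' = f x → x' ⤳ x → x' = x)
    (ha : EGA43.IsUnivOpenAt f x) (U : X.Opens) (hxU : x ∈ U) (y' : Y) (hy' : y' ⤳ f x) :
    FlatMor.fibreDimAt f x ≤ topologicalKrullDim ↥((U : Set X) ∩ f ⁻¹' {y'}) := by
  have hfd : FlatMor.fibreDimAt f x ≤ ((tdR f x : ℕ) : WithBot ℕ∞) := by
    rw [fibreDimAt_le_iff]
    intro ξ hξ hfξ
    rw [hmax ξ hfξ hξ]
  refine hfd.trans ?_
  obtain ⟨A, _, _, _, φ, hφm, hφη⟩ := exists_valuationRing_of_specializes hy'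
  set m : Spec (CommRingCat.of A) := IsLocalRing.closedPoint A with hm
  set η : Spec (CommRingCat.of A) := (⟨⊥, Ideal.isPrime_bot⟩ : PrimeSpectrum A) with hη
  have hφη' : φ η = y' := hφη η rfl
  have hηm : η ⤳ m := (PrimeSpectrum.le_iff_specializes _ _).mp bot_le
  have hcond : ∀ z : ↑(pullback f φ), f (pullback.fst f φ z) = φ (pullback.snd f φ z) := by
    intro z
    exact congrArg (fun k : pullback f φ ⟶ Y => k z) (pullback.condition (f := f) (g := φ))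
  obtain ⟨w', hw'1, hw'2, hw'td⟩ := exists_tdR_snd_eq f φ x m hφm.symm
  have hop := ha _ φ w' hw'1
  -- an affine neighbourhood of `w'`
  obtain ⟨_, ⟨(N₀ : (pullback f φ).Opens), hN₀, rfl⟩, hw'N₀, -⟩ :=
    (pullback f φ).isBasis_affineOpens.exists_subset_of_mem_open (Set.mem_univ w') isOpen_univ
  haveI : IsAffine ↑N₀ := hN₀
  let h₀ : (N₀ : Scheme) ⟶ Spec (CommRingCat.of A) := N₀.ι ≫ pullback.snd f φ
  haveI : CompactSpace ↥(N₀ : Scheme) := inferInstance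
  haveI : QuasiSeparatedSpace ↥(Spec (CommRingCat.of A)) := inferInstance
  haveI : QuasiCompact h₀ := quasiCompact_of_compactSpace h₀
  let w₀ : ↥(N₀ : Scheme) := ⟨w', hw'N₀⟩
  have hw₀cl : w₀ ∈ closure (h₀ ⁻¹' {η}) := by
    rw [mem_closure_iff_nhds]
    intro O hO
    have h1 : N₀.ι '' O ∈ nhds w' := (N₀.ι.isOpenEmbedding.image_mem_nhds (x := w₀)).mpr hO
    have h2 := hop _ h1
    rw [hw'2] at h2
    have h3 : η ∈ (pullback.snd f φ) '' (N₀.ι '' O) := mem_of_mem_nhds (hηm h2)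
    obtain ⟨_, ⟨o, ho, rfl⟩, hoη⟩ := h3
    exact ⟨o, ho, hoη⟩
  obtain ⟨_, -, ζ₀, hζ₀sp, -, hζ₀η⟩ :=
    exists_specializes_of_mem_closure_of_fibre' h₀ η (h₀ ⁻¹' {η}) subset_rfl w₀ hw₀cl
  set ζ := N₀.ι ζ₀ with hζ
  have hζsp : ζ ⤳ w' := hζ₀sp.map N₀.ι.continuous
  have hζη : pullback.snd f φ ζ = η := hζ₀η
  have h3 : tdR (pullback.snd f φ) w' ≤ tdR (pullback.snd f φ) ζ :=
    tdR_le_of_valuation' (R := CommRingCat.of A) (pullback.snd f φ) hζsp
  have h4 := tdR_snd_le f φ ζ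
  have h5 : f (pullback.fst f φ ζ) = y' := by rw [hcond, hζη, hφη']
  have h6 : pullback.fst f φ ζ ∈ U := by
    have := hζsp.map (pullback.fst f φ).continuous
    rw [hw'1] at this
    exact this.mem_open U.isOpen hxU
  have h7 := (dim_fibre_inter_le_iff' f y' (U : Set X) U.isOpen.isLocallyClosed _).mp le_rfl
    (pullback.fst f φ ζ) h6 h5
  refine le_trans ?_ h7
  have : tdR f x ≤ tdR f (pullback.fst f φ ζ) := by rw [← hw'td]; exact h3.trans h4
  exact_mod_cast this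

/-- **EGA IV 14.4.1, b') ⇒ b)** (point form). -/
theorem exists_maximal_of_dim_le {X Y : Scheme.{u}} (f : X ⟶ Y) [LocallyOfFiniteType f] (x : X)
    (hmax : ∀ x' : X, f x' = f x → x' ⤳ x → x' = x)
    (hb : ∀ U : X.Opens, x ∈ U → ∀ y' : Y, y' ⤳ f x →
      FlatMor.fibreDimAt f x ≤ topologicalKrullDim ↥((U : Set X) ∩ f ⁻¹' {y'}))
    (η₀ : Y) (hη₀max : ∀ t : Y, t ⤳ η₀ → t = η₀) (hη₀ : η₀ ⤳ f x) :
    ∃ τ : X, τ ⤳ x ∧ f τ = η₀ ∧ (∀ t : X, t ⤳ τ → t = τ) ∧ tdR f τ = tdR f x := by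
  set d := tdR f x with hd
  have hfd : FlatMor.fibreDimAt f x = ((d : ℕ) : WithBot ℕ∞) := by
    apply le_antisymm
    · rw [fibreDimAt_le_iff]
      intro ξ hξ hfξ
      rw [hmax ξ hfξ hξ]
    · exact tdR_le_fibreDimAt f x
  obtain ⟨_, ⟨(V : Y.Opens), hV, rfl⟩, hfxV, -⟩ :=
    Y.isBasis_affineOpens.exists_subset_of_mem_open (Set.mem_univ (f x)) isOpen_univ
  obtain ⟨_, ⟨(U₀ : X.Opens), hU₀, rfl⟩, hxU₀, hU₀le⟩ :=
    X.isBasis_affineOpens.exists_subset_of_mem_open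
      (show x ∈ ((f ⁻¹ᵁ V : X.Opens) : Set X) from hfxV) (f ⁻¹ᵁ V).isOpen
  have hle : U₀ ≤ f ⁻¹ᵁ V := hU₀le
  haveI : IsAffine ↑U₀ := hU₀
  haveI : IsAffine ↑V := hV
  let f₀ : (U₀ : Scheme) ⟶ V := f.resLE V U₀ hle
  have hf₀ : f₀ ≫ V.ι = U₀.ι ≫ f := Scheme.Hom.resLE_comp_ι f hle
  haveI : CompactSpace ↥(U₀ : Scheme) := inferInstance
  haveI : QuasiSeparatedSpace ↥(V : Scheme) := inferInstance
  haveI : QuasiCompact f₀ := quasiCompact_of_compactSpace f₀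
  let x₀ : ↥(U₀ : Scheme) := ⟨x, hxU₀⟩
  have hpt : ∀ z : ↥(U₀ : Scheme), V.ι (f₀ z) = f (U₀.ι z) := fun z =>
    congrArg (fun k : (U₀ : Scheme) ⟶ Y => k z) hf₀
  have htr : ∀ z : ↥(U₀ : Scheme), tdR f₀ z = tdR f (U₀.ι z) := by
    intro z
    apply tdR_eq_of_trdegAt_eq
    rw [← trdegAt_of_isOpenImmersion_right f₀ V.ι z, trdegAt_congr hf₀,
      trdegAt_of_isOpenImmersion_left, trdegAt_eq_tdR]
  have hη₀V : η₀ ∈ V := hη₀.mem_open V.isOpen hfxV
  let η₀' : ↥(V : Scheme) := ⟨η₀, hη₀V⟩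
  let G : Set ↥(U₀ : Scheme) := {p | f₀ p = η₀' ∧ d ≤ tdR f₀ p}
  have hx₀cl : x₀ ∈ closure G := by
    rw [mem_closure_iff]
    intro O hO hx₀O
    let O' : X.Opens := U₀.ι ''ᵁ ⟨O, hO⟩
    have hxO' : x ∈ O' := ⟨x₀, hx₀O, rfl⟩
    have h1 := hb O' hxO' η₀ hη₀
    rw [hfd] at h1
    by_contra hcon
    have hall : ∀ p ∈ (O' : Set X), f p = η₀ → tdR f p < d := by
      rintro _ ⟨p₀, hp₀, rfl⟩ hfp
      by_contra hge
      rw [not_lt] at hge
      apply hcon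
      refine ⟨p₀, hp₀, ?_, ?_⟩
      · apply V.ι.isOpenEmbedding.injective
        rw [hpt]
        exact hfp
      · rw [htr]; exact hge
    rcases Nat.eq_zero_or_pos d with hd0 | hdpos
    · have h2 : topologicalKrullDim ↥((O' : Set X) ∩ f ⁻¹' {η₀}) ≤ ⊥ := by
        rw [dim_fibre_inter_le_iff' f η₀ _ O'.isOpen.isLocallyClosed]
        intro p hp hfp
        have := hall p hp hfp
        omega
      have h3 := h1.trans h2
      rw [hd0] at h3
      simp at h3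
    · have h2 : topologicalKrullDim ↥((O' : Set X) ∩ f ⁻¹' {η₀}) ≤ ((d - 1 : ℕ) : WithBot ℕ∞) := by
        rw [dim_fibre_inter_le_iff' f η₀ _ O'.isOpen.isLocallyClosed]
        intro p hp hfp
        have := hall p hp hfp
        have : tdR f p ≤ d - 1 := by omega
        exact_mod_cast this
      have h3 := h1.trans h2
      have h4 : d ≤ d - 1 := by exact_mod_cast h3
      omega
  obtain ⟨g, hgG, ζ₀, hζ₀sp, hζ₀g, hζ₀η⟩ :=
    exists_specializes_of_mem_closure_of_fibre' f₀ η₀' G (fun p hp => hp.1) x₀ hx₀cl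
  obtain ⟨τ₀, hτ₀sp, hτ₀f, hτ₀max⟩ := exists_maximal_in_fibre f₀ ζ₀
  have hτ₀η : f₀ τ₀ = η₀' := hτ₀f.trans hζ₀η
  have h1 : tdR f₀ g ≤ tdR f₀ ζ₀ := tdR_le_of_specializes f₀ hζ₀g (hζ₀η.trans hgG.1.symm)
  have h2 : tdR f₀ ζ₀ ≤ tdR f₀ τ₀ := tdR_le_of_specializes f₀ hτ₀sp hτ₀f
  have hτd : d ≤ tdR f (U₀.ι τ₀) := by
    rw [← htr]; exact hgG.2.trans (h1.trans h2)
  have hfτ : f (U₀.ι τ₀) = η₀ := by
    rw [← hpt, hτ₀η]; rfl
  have hτx : U₀.ι τ₀ ⤳ x := (hτ₀sp.trans hζ₀sp).map U₀.ι.continuous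
  refine ⟨U₀.ι τ₀, hτx, hfτ, ?_, ?_⟩
  · intro t ht
    have htU₀ : t ∈ U₀ := ht.mem_open U₀.isOpen τ₀.2
    let t₀ : ↥(U₀ : Scheme) := ⟨t, htU₀⟩
    have ht₀ : t₀ ⤳ τ₀ := U₀.ι.isOpenEmbedding.isInducing.specializes_iff.mp ht
    have hft : f t = η₀ := by
      apply hη₀max
      rw [← hfτ]
      exact ht.map f.continuous
    have hft₀ : f₀ t₀ = f₀ τ₀ := by
      apply V.ι.isOpenEmbedding.injective
      rw [hpt, hpt]
      exact hft.trans hfτ.symm
    exact congrArg Subtype.val (hτ₀max t₀ ht₀ hft₀)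
  · apply le_antisymm _ hτd
    have hO := Groth.Agent.S0402.result f d
    have hτmem : FlatMor.fibreDimAt f (U₀.ι τ₀) ≤ d := hτx.mem_open hO hfd.le
    have := (tdR_le_fibreDimAt f (U₀.ι τ₀)).trans hτmem
    exact_mod_cast this

end Groth.Agent.Lib.Helper21.UnivOpenAtDim
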