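import Mathlib

/-!
# Residue transcendence degree does not go up along a valuation ring (helper21)

Abstract form: `V` a valuation ring with fraction field `K'`, `B` a `V`-algebra with ring maps
`τ : B → L` (surjective) and `σ : B → L'` to fields, `ker σ ⊆ ker τ`, `L` an extension of a field `k`
receiving `V`, `L'` an extension of `K'`.  Then `trdeg_k L ≤ trdeg_{K'} L'`.
-/

set_option linter.style.haveILetI false
universe u

namespace Groth.Agent.Lib.Helper21.ValTrdeg

open MvPolynomial

section Normalise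

variable {V : Type*} [CommRing V] [IsDomain V] [ValuationRing V]

theorem exists_dvd_all {α : Type*} (S : Finset α) (hS : S.Nonempty) (g : α → V) :
    ∃ m0 ∈ S, ∀ m ∈ S, g m0 ∣ g m := by
  induction hS using Finset.Nonempty.cons_induction with
  | singleton a => exact ⟨a, Finset.mem_singleton_self a, fun m hm => by
      rw [Finset.mem_singleton.mp hm]⟩
  | cons a s ha hs ih =>
    obtain ⟨m0, hm0, h⟩ := ih
    rcases ValuationRing.dvd_total (g a) (g m0) with h1 | h1
    · refine ⟨a, Finset.mem_cons_self a s, fun m hm => ?_⟩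
      rcases Finset.mem_cons.mp hm with rfl | hm
      · exact dvd_rfl
      · exact h1.trans (h m hm)
    · refine ⟨m0, Finset.mem_cons.mpr (Or.inr hm0), fun m hm => ?_⟩
      rcases Finset.mem_cons.mp hm with rfl | hm
      · exact h1
      · exact h m hm

/-- a nonzero polynomial over a valuation ring is a nonzero constant times a polynomial with a
coefficient equal to `1`. -/
theorem exists_normalise {s : Type*} (Q0 : MvPolynomial s V) (hQ0 : Q0 ≠ 0) :
    ∃ (a : V) (Q : MvPolynomial s V), a ≠ 0 ∧ Q0 = C a * Q ∧ ∃ m, coeff m Q = 1 := by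
  classical
  have hS : Q0.support.Nonempty := by
    rw [Finset.nonempty_iff_ne_empty, Ne, MvPolynomial.support_eq_empty]
    exact hQ0
  obtain ⟨m0, hm0, hdiv⟩ := exists_dvd_all Q0.support hS (fun m => coeff m Q0)
  have ha : coeff m0 Q0 ≠ 0 := MvPolynomial.mem_support_iff.mp hm0
  have hq : ∀ m : s →₀ ℕ, ∃ q : V, m ∈ Q0.support → coeff m Q0 = coeff m0 Q0 * q := by
    intro m
    by_cases hm : m ∈ Q0.support
    · obtain ⟨q, hq⟩ := hdiv m hm
      exact ⟨q, fun _ => hq⟩
    · exact ⟨0, fun h => absurd h hm⟩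
  choose q hq using hq
  refine ⟨coeff m0 Q0, ∑ m ∈ Q0.support, monomial m (q m), ha, ?_, m0, ?_⟩
  · rw [Finset.mul_sum]
    conv_lhs => rw [← MvPolynomial.support_sum_monomial_coeff Q0]
    refine Finset.sum_congr rfl fun m hm => ?_
    rw [C_mul_monomial, hq m hm]
  · rw [MvPolynomial.coeff_sum]
    simp only [coeff_monomial]
    rw [Finset.sum_ite_eq' Q0.support m0]
    simp only [hm0, if_true]
    have := hq m0 hm0
    have h2 : coeff m0 Q0 * 1 = coeff m0 Q0 * q m0 := by rw [mul_one]; exact this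
    exact (mul_left_cancel₀ ha h2).symm

end Normalise

section Main

variable {V K' k B L L' : Type u} [CommRing V] [IsDomain V] [ValuationRing V] [Field K'] [Field k]
  [CommRing B] [Field L] [Field L']

omit [ValuationRing V] [IsDomain V] in
/-- clearing denominators. -/
theorem exists_clear {s : Type*} (ι : V →+* K')
    (hfrac : ∀ c : K', ∃ a b : V, ι b ≠ 0 ∧ ι b * c = ι a) (P : MvPolynomial s K') :
    ∃ (d : V) (Q0 : MvPolynomial s V), ι d ≠ 0 ∧ MvPolynomial.map ι Q0 = C (ι d) * P := by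
  induction P using MvPolynomial.induction_on' with
  | monomial m c =>
    obtain ⟨a, b, hb, hab⟩ := hfrac c
    refine ⟨b, monomial m a, hb, ?_⟩
    rw [map_monomial, C_mul_monomial, hab]
  | add p q hp hq =>
    obtain ⟨d1, Q1, hd1, h1⟩ := hp
    obtain ⟨d2, Q2, hd2, h2⟩ := hq
    refine ⟨d1 * d2, C d2 * Q1 + C d1 * Q2, by rw [map_mul]; exact mul_ne_zero hd1 hd2, ?_⟩
    rw [map_add, map_mul, map_mul, h1, h2, map_C, map_C, map_mul, C_mul]
    ring

theorem algebraicIndependent_of_valuation {s : Type*}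
    (ι : V →+* K') (π : V →+* k) (φ : V →+* B) (τ : B →+* L) (σ : B →+* L')
    (fkL : k →+* L) (ρ : K' →+* L')
    (h1 : τ.comp φ = fkL.comp π) (h2 : σ.comp φ = ρ.comp ι)
    (hfrac : ∀ c : K', ∃ a b : V, ι b ≠ 0 ∧ ι b * c = ι a)
    (hloc : ∀ b, σ b = 0 → τ b = 0) (b : s → B)
    (hb : @AlgebraicIndependent s k L (fun i => τ (b i)) _ _ fkL.toAlgebra) :
    @AlgebraicIndependent s K' L' (fun i => σ (b i)) _ _ ρ.toAlgebra := by
  letI : Algebra k L := fkL.toAlgebra
  letI : Algebra K' L' := ρ.toAlgebra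
  rw [algebraicIndependent_iff]
  intro P hP
  by_contra hP0
  obtain ⟨d, Q0, hιd, hQ0⟩ := exists_clear ι hfrac P
  have hmapne : MvPolynomial.map ι Q0 ≠ 0 := by
    intro h
    rw [h] at hQ0
    have := mul_eq_zero.mp hQ0.symm
    rcases this with h3 | h3
    · exact hιd (C_injective s K' (h3.trans (C_0).symm))
    · exact hP0 h3
  have hQ0ne : Q0 ≠ 0 := by
    intro h
    rw [h, map_zero] at hmapne
    exact hmapne rfl
  obtain ⟨a, Q, -, hQ, m0, hm0⟩ := exists_normalise Q0 hQ0ne
  have ha : ι a ≠ 0 := by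
    intro h
    apply hmapne
    rw [hQ, map_mul, map_C, h, C_0, zero_mul]
  -- evaluate
  have hP' : eval₂ ρ (fun i => σ (b i)) P = 0 := by
    rw [aeval_def] at hP
    exact hP
  have e1 : eval₂ (ρ.comp ι) (fun i => σ (b i)) Q0 = 0 := by
    rw [← MvPolynomial.eval₂_map, hQ0, eval₂_mul, eval₂_C, hP', mul_zero]
  have e2 : σ (eval₂ φ b Q0) = 0 := by
    rw [MvPolynomial.hom_eval₂, h2]
    exact e1
  have e3 : σ (eval₂ φ b Q) = 0 := by
    rw [hQ, eval₂_mul, eval₂_C, map_mul] at e2
    have hσa : σ (φ a) ≠ 0 := by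
      have : σ (φ a) = ρ (ι a) := by
        have := congrArg (fun g => g a) h2
        exact this
      rw [this]
      intro h
      exact ha (ρ.injective (h.trans (map_zero ρ).symm))
    exact (mul_eq_zero.mp e2).resolve_left hσa
  have e4 : τ (eval₂ φ b Q) = 0 := hloc _ e3
  have e5 : eval₂ fkL (fun i => τ (b i)) (MvPolynomial.map π Q) = 0 := by
    rw [MvPolynomial.eval₂_map, ← h1, ← MvPolynomial.hom_eval₂]
    exact e4
  have e6 : MvPolynomial.map π Q = 0 := by
    rw [algebraicIndependent_iff] at hb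
    apply hb
    rw [aeval_def]
    exact e5
  have := congrArg (coeff m0) e6
  rw [coeff_map, hm0, map_one, coeff_zero] at this
  exact one_ne_zero this

theorem trdeg_le_of_valuation
    (ι : V →+* K') (π : V →+* k) (φ : V →+* B) (τ : B →+* L) (σ : B →+* L')
    (fkL : k →+* L) (ρ : K' →+* L')
    (h1 : τ.comp φ = fkL.comp π) (h2 : σ.comp φ = ρ.comp ι)
    (hfrac : ∀ c : K', ∃ a b : V, ι b ≠ 0 ∧ ι b * c = ι a)
    (hτ : Function.Surjective τ) (hloc : ∀ b, σ b = 0 → τ b = 0) :
    @Algebra.trdeg k L _ _ fkL.toAlgebra ≤ @Algebra.trdeg K' L' _ _ ρ.toAlgebra := by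
  letI : Algebra k L := fkL.toAlgebra
  letI : Algebra K' L' := ρ.toAlgebra
  unfold Algebra.trdeg
  refine ciSup_le' fun i => ?_
  obtain ⟨s, hs⟩ := i
  choose lift hlift using hτ
  have hb : AlgebraicIndependent k (fun i : s => τ (lift (i : L))) := by
    have : (fun i : s => τ (lift (i : L))) = fun i : s => (i : L) := by
      funext i; exact hlift _
    rw [this]
    exact hs
  have := algebraicIndependent_of_valuation ι π φ τ σ fkL ρ h1 h2 hfrac hloc
    (fun i : s => lift (i : L)) hb
  exact this.cardinalMk_le_trdeg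

end Main

end Groth.Agent.Lib.Helper21.ValTrdeg
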